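import Groth.Agent.SiteCohomology.ModulesGrothendieck
import Mathlib.AlgebraicGeometry.Modules.Sheaf

universe u

open CategoryTheory

namespace Groth.SiteCohomology

open AlgebraicGeometry in
instance grothendieckAbelian_schemeModules (X : Scheme.{u}) :
    IsGrothendieckAbelian.{u} X.Modules :=
  inferInstanceAs (IsGrothendieckAbelian.{u} (SheafOfModules.{u} X.ringCatSheaf))

open AlgebraicGeometry in
instance enoughInjectives_schemeModules (X : Scheme.{u}) : EnoughInjectives X.Modules :=
  inferInstanceAs (EnoughInjectives (SheafOfModules.{u} X.ringCatSheaf))

open AlgebraicGeometry in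
instance hasInjectiveResolutions_schemeModules (X : Scheme.{u}) :
    HasInjectiveResolutions X.Modules :=
  inferInstanceAs (HasInjectiveResolutions (SheafOfModules.{u} X.ringCatSheaf))

end Groth.SiteCohomology
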