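import Mathlib.Algebra.Homology.DerivedCategory.Ext.ExactSequences
import Mathlib.Algebra.Homology.DerivedCategory.Ext.EnoughInjectives
import Mathlib.CategoryTheory.Abelian.Injective.Ext
import Mathlib.CategoryTheory.Abelian.Injective.Resolution
import Mathlib.Algebra.Homology.ShortComplex.ShortExact

/-!
# General lemmas on `Ext`

Dimension shifting, `Ext` out of coproducts, `Ext^1` into products, comparison of `Ext` groups
through injective resolutions.
-/

universe w w' v v' u u' t

open CategoryTheory Limits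

set_option linter.unusedSectionVars false

namespace Groth.SiteCohomology

open Abelian

variable {C : Type u} [Category.{v} C] [Abelian C]

/-- A short exact sequence `0 → F → I → Q → 0` with `I` injective. -/
noncomputable abbrev injSES [EnoughInjectives C] (F : C) : ShortComplex C :=
  ShortComplex.mk (Injective.ι F) (cokernel.π (Injective.ι F)) (cokernel.condition _)

lemma injSES_shortExact [EnoughInjectives C] (F : C) : (injSES F).ShortExact :=
  ShortComplex.ShortExact.mk'
    (ShortComplex.exact_of_g_is_cokernel _ (cokernelIsCokernel _))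
    (inferInstanceAs (Mono (Injective.ι F))) (inferInstanceAs (Epi (cokernel.π (Injective.ι F))))

variable [HasExt.{w} C]

lemma ext_surjective_precomp_extClass {S : ShortComplex C} (hS : S.ShortExact) (Y : C) (n : ℕ)
    [Subsingleton (Ext S.X₂ Y (n + 1))] (e : Ext S.X₃ Y (n + 1)) :
    ∃ x : Ext S.X₁ Y n, hS.extClass.comp x (Nat.add_comm 1 n) = e :=
  Ext.contravariant_sequence_exact₃ hS Y e (Subsingleton.elim _ _) _

lemma ext_surjective_postcomp_extClass {S : ShortComplex C} (hS : S.ShortExact) (X : C) (n : ℕ)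
    [Subsingleton (Ext X S.X₂ (n + 1))] (e : Ext X S.X₁ (n + 1)) :
    ∃ x : Ext X S.X₃ n, x.comp hS.extClass rfl = e :=
  Ext.covariant_sequence_exact₁ X hS e (Subsingleton.elim _ _) _

/-- Middle term of a short exact sequence, second variable. -/
lemma subsingleton_ext_middle {S : ShortComplex C} (hS : S.ShortExact) (X : C) (n : ℕ)
    [Subsingleton (Ext X S.X₁ n)] [Subsingleton (Ext X S.X₃ n)] :
    Subsingleton (Ext X S.X₂ n) := by
  refine subsingleton_of_forall_eq 0 fun e => ?_
  obtain ⟨x, rfl⟩ := Ext.covariant_sequence_exact₂ X hS e (Subsingleton.elim _ _)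
  rw [Subsingleton.elim x 0, Ext.zero_comp]

/-- Right term of a short exact sequence, second variable. -/
lemma subsingleton_ext_right {S : ShortComplex C} (hS : S.ShortExact) (X : C) (n : ℕ)
    [Subsingleton (Ext X S.X₂ n)] [Subsingleton (Ext X S.X₁ (n + 1))] :
    Subsingleton (Ext X S.X₃ n) := by
  refine subsingleton_of_forall_eq 0 fun e => ?_
  obtain ⟨x, rfl⟩ := Ext.covariant_sequence_exact₃ X hS e rfl (Subsingleton.elim _ _)
  rw [Subsingleton.elim x 0, Ext.zero_comp]

/-- Left term of a short exact sequence, second variable, degree `≥ 2`. -/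
lemma subsingleton_ext_left {S : ShortComplex C} (hS : S.ShortExact) (X : C) (n : ℕ)
    [Subsingleton (Ext X S.X₂ (n + 1))] [Subsingleton (Ext X S.X₃ n)] :
    Subsingleton (Ext X S.X₁ (n + 1)) := by
  refine subsingleton_of_forall_eq 0 fun e => ?_
  obtain ⟨x, rfl⟩ := ext_surjective_postcomp_extClass hS X n e
  rw [Subsingleton.elim x 0, Ext.zero_comp]

/-- `Ext^1` vanishes on the left term if sections lift. -/
lemma subsingleton_ext_one_left {S : ShortComplex C} (hS : S.ShortExact) (X : C)
    [Subsingleton (Ext X S.X₂ 1)]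
    (hsurj : ∀ f : X ⟶ S.X₃, ∃ g : X ⟶ S.X₂, g ≫ S.g = f) :
    Subsingleton (Ext X S.X₁ 1) := by
  refine subsingleton_of_forall_eq 0 fun e => ?_
  obtain ⟨x, rfl⟩ := ext_surjective_postcomp_extClass hS X 0 e
  obtain ⟨f, rfl⟩ := (Ext.mk₀_bijective _ _).2 x
  obtain ⟨g, rfl⟩ := hsurj f
  rw [← Ext.mk₀_comp_mk₀, Ext.comp_assoc_of_second_deg_zero, hS.comp_extClass, Ext.comp_zero]

/-- Sections lift if `Ext^1` of the left term vanishes. -/
lemma exists_lift_of_subsingleton_ext_one {S : ShortComplex C} (hS : S.ShortExact) (X : C)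
    [Subsingleton (Ext X S.X₁ 1)] (f : X ⟶ S.X₃) : ∃ g : X ⟶ S.X₂, g ≫ S.g = f := by
  obtain ⟨x, hx⟩ := Ext.covariant_sequence_exact₃ X hS (Ext.mk₀ f) (zero_add 1)
    (Subsingleton.elim _ _)
  obtain ⟨g, rfl⟩ := (Ext.mk₀_bijective _ _).2 x
  rw [Ext.mk₀_comp_mk₀] at hx
  exact ⟨g, (Ext.mk₀_bijective _ _).1 hx⟩

/-- Acyclicity of a class closed under cokernels into injectives. -/
theorem subsingleton_ext_succ_of_class [EnoughInjectives C] (X : C) (P : C → Prop)
    (hlift : ∀ (F : C) (S : ShortComplex C), S.ShortExact → P F → S.X₁ = F → Injective S.X₂ →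
      ∀ f : X ⟶ S.X₃, ∃ g : X ⟶ S.X₂, g ≫ S.g = f)
    (hclosed : ∀ (F : C) (S : ShortComplex C), S.ShortExact → P F → S.X₁ = F → Injective S.X₂ →
      P S.X₃) :
    ∀ (n : ℕ) (F : C), P F → Subsingleton (Ext X F (n + 1))
  | 0, F, hF =>
    haveI : Injective (injSES F).X₂ := inferInstanceAs (Injective (Injective.under F))
    haveI := Ext.subsingleton_of_injective X (injSES F).X₂ 0
    subsingleton_ext_one_left (injSES_shortExact F) X (hlift F _ (injSES_shortExact F) hF rfl ‹_›)
  | n + 1, F, hF =>
    haveI : Injective (injSES F).X₂ := inferInstanceAs (Injective (Injective.under F))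
    haveI := Ext.subsingleton_of_injective X (injSES F).X₂ (n + 1)
    haveI := subsingleton_ext_succ_of_class X P hlift hclosed n _
      (hclosed F _ (injSES_shortExact F) hF rfl ‹_›)
    subsingleton_ext_left (injSES_shortExact F) X (n + 1)

section Coproduct

variable [EnoughInjectives C] {α : Type t} {X : α → C}

/-- `Ext` out of a coproduct is the product of the `Ext` groups. -/
theorem bijective_ext_coproduct {c : Cofan X} (hc : IsColimit c) (Y : C) (n : ℕ) :
    Function.Bijective (fun (e : Ext c.pt Y n) (i : α) =>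
      (Ext.mk₀ (c.inj i)).comp e (zero_add n)) := by
  cases n with
  | zero =>
    constructor
    · intro a b hab
      obtain ⟨f, rfl⟩ := (Ext.mk₀_bijective _ _).2 a
      obtain ⟨g, rfl⟩ := (Ext.mk₀_bijective _ _).2 b
      refine congrArg Ext.mk₀ (Cofan.IsColimit.hom_ext hc _ _ fun i => ?_)
      have h := congr_fun hab i
      simp only [Ext.mk₀_comp_mk₀] at h
      exact (Ext.mk₀_bijective _ _).1 h
    · intro a
      choose f hf using fun i => (Ext.mk₀_bijective _ _).2 (a i)
      refine ⟨Ext.mk₀ (Cofan.IsColimit.desc hc f), funext fun i => ?_⟩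
      simp [← hf i]
  | succ m =>
    let R : InjectiveResolution Y := injectiveResolution Y
    let φ : Ext c.pt Y (m + 1) →+ ∀ i, Ext (X i) Y (m + 1) :=
      AddMonoidHom.mk' (fun e i => (Ext.mk₀ (c.inj i)).comp e (zero_add _))
        (fun a b => funext fun i => by simp)
    change Function.Bijective φ
    constructor
    · rw [injective_iff_map_eq_zero]
      intro a ha
      obtain ⟨f, hf, rfl⟩ := R.extMk_surjective a (m + 2) rfl
      have h0 : ∀ i, ∃ g, g ≫ R.cocomplex.d m (m + 1) = c.inj i ≫ f := fun i => by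
        refine (R.extMk_eq_zero_iff (c.inj i ≫ f) (m + 2) rfl (by simp [hf]) m rfl).1 ?_
        rw [← R.mk₀_comp_extMk f (m + 2) rfl hf (c.inj i)]
        exact congr_fun ha i
      choose g hg using h0
      exact (R.extMk_eq_zero_iff _ _ _ _ m rfl).2 ⟨Cofan.IsColimit.desc hc g,
        Cofan.IsColimit.hom_ext hc _ _ fun i => by simp [hg]⟩
    · intro a
      choose f hf hfa using fun i => R.extMk_surjective (a i) (m + 2) rfl
      refine ⟨R.extMk (Cofan.IsColimit.desc hc f) (m + 2) rfl
        (Cofan.IsColimit.hom_ext hc _ _ fun i => by simp [hf]), funext fun i => ?_⟩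
      rw [← hfa i]
      refine (R.mk₀_comp_extMk _ _ _ _ _).trans ?_
      simp

lemma subsingleton_ext_coproduct {c : Cofan X} (hc : IsColimit c) (Y : C) (n : ℕ)
    (h : ∀ i, Subsingleton (Ext (X i) Y n)) : Subsingleton (Ext c.pt Y n) :=
  (bijective_ext_coproduct hc Y n).1.subsingleton

end Coproduct

end Groth.SiteCohomology
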