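import Groth.Prelude.Def_FreeSh
import Groth.Agent.SiteCohomology.ExtBasic
import Mathlib.CategoryTheory.Sites.EpiMono
import Mathlib.CategoryTheory.Sites.LocallyBijective

/-!
# Free abelian sheaves and `H^n(U, F)` on a small site
-/

universe u

open CategoryTheory Limits Opposite

set_option linter.unusedSectionVars false

namespace Groth.SiteCohomology

open Abelian

variable {C : Type u} [SmallCategory C] (J : GrothendieckTopology C)

/-- The free abelian sheaf functor on presheaves of sets. -/
noncomputable abbrev freeSh : (Cᵒᵖ ⥤ Type u) ⥤ Sheaf J AddCommGrpCat.{u} :=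
  (Functor.whiskeringRight _ _ _).obj AddCommGrpCat.free.{u} ⋙ presheafToSheaf J AddCommGrpCat.{u}

lemma mono_whiskerRight_free {P Q : Cᵒᵖ ⥤ Type u} (f : P ⟶ Q) [Mono f] :
    Mono (Functor.whiskerRight f AddCommGrpCat.free.{u}) :=
  have : ∀ c, Mono ((Functor.whiskerRight f AddCommGrpCat.free.{u}).app c) := fun c =>
    inferInstanceAs (Mono (AddCommGrpCat.free.{u}.map (f.app c)))
  NatTrans.mono_of_mono_app _

lemma mono_freeSh_map {P Q : Cᵒᵖ ⥤ Type u} (f : P ⟶ Q) [Mono f] :
    Mono ((freeSh J).map f) :=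
  have := mono_whiskerRight_free f
  inferInstanceAs (Mono ((presheafToSheaf J AddCommGrpCat.{u}).map
    (Functor.whiskerRight f AddCommGrpCat.free.{u})))

instance mono_freeSheafMap {U V : C} (f : V ⟶ U) [Mono f] : Mono (CohCx.freeSheafMap J f) :=
  mono_freeSh_map J (yoneda.map f)

variable {J}

lemma evalGen_comp {U : C} {F G : Sheaf J AddCommGrpCat.{u}}
    (φ : CohCx.freeSheaf J U ⟶ F) (ψ : F ⟶ G) :
    CohFree.evalGen J U G (φ ≫ ψ) = ψ.hom.app (op U) (CohFree.evalGen J U F φ) := rfl

lemma ofSect_comp {U : C} {F G : Sheaf J AddCommGrpCat.{u}} (s : F.obj.obj (op U)) (ψ : F ⟶ G) :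
    CohFree.ofSect J U F s ≫ ψ = CohFree.ofSect J U G (ψ.hom.app (op U) s) := by
  apply (CohFree.homEquivSect J U G).injective
  rw [CohFree.homEquivSect_apply, CohFree.homEquivSect_apply, evalGen_comp, CohFree.evalGen_ofSect,
    CohFree.evalGen_ofSect]

lemma freeSheafMap_comp_ofSect {U V : C} (f : V ⟶ U) {F : Sheaf J AddCommGrpCat.{u}}
    (s : F.obj.obj (op U)) :
    CohCx.freeSheafMap J f ≫ CohFree.ofSect J U F s = CohFree.ofSect J V F (F.obj.map f.op s) := by
  apply (CohFree.homEquivSect J V F).injective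
  rw [CohFree.homEquivSect_apply, CohFree.homEquivSect_apply, CohFree.evalGen_freeSheafMap_comp,
    CohFree.evalGen_ofSect, CohFree.evalGen_ofSect]

/-- Sections over `U` are surjective iff morphisms out of the free sheaf on `U` lift. -/
lemma surjective_sections_iff_lift {U : C} {F G : Sheaf J AddCommGrpCat.{u}} (ψ : F ⟶ G) :
    Function.Surjective (ψ.hom.app (op U)) ↔
      ∀ f : CohCx.freeSheaf J U ⟶ G, ∃ g : CohCx.freeSheaf J U ⟶ F, g ≫ ψ = f := by
  constructor
  · intro h f
    obtain ⟨s, hs⟩ := h (CohFree.evalGen J U G f)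
    exact ⟨CohFree.ofSect J U F s, by rw [ofSect_comp, hs, CohFree.ofSect_evalGen]⟩
  · intro h s
    obtain ⟨g, hg⟩ := h (CohFree.ofSect J U G s)
    exact ⟨CohFree.evalGen J U F g, by rw [← evalGen_comp, hg, CohFree.evalGen_ofSect]⟩

/-- Sections over `U` lift along the quotient map when `H^1(U, kernel) = 0`. -/
lemma surjective_sections_of_subsingleton_HU {S : ShortComplex (Sheaf J AddCommGrpCat.{u})}
    (hS : S.ShortExact) (U : C) [h : Subsingleton (CohSite.HU S.X₁ 1 U)] :
    Function.Surjective (S.g.hom.app (op U)) :=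
  (surjective_sections_iff_lift S.g).2 fun f =>
    have : Subsingleton (Ext (CohCx.freeSheaf J U) S.X₁ 1) := h
    exists_lift_of_subsingleton_ext_one hS _ f

lemma res_apply (F : Sheaf J AddCommGrpCat.{u}) (n : ℕ) {U V : C} (f : V ⟶ U)
    (x : CohSite.HU F n U) :
    CohSite.res F n f x = (Ext.mk₀ (CohCx.freeSheafMap J f)).comp x (zero_add n) := rfl

instance subsingleton_HU_succ_of_injective (F : Sheaf J AddCommGrpCat.{u}) [Injective F]
    (U : C) (n : ℕ) : Subsingleton (CohSite.HU F (n + 1) U) :=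
  Ext.subsingleton_of_injective _ _ n

/-- Restriction maps of injective abelian sheaves along monomorphisms are surjective. -/
lemma surjective_map_of_injective (I : Sheaf J AddCommGrpCat.{u}) [Injective I] {U V : C}
    (f : V ⟶ U) [Mono f] : Function.Surjective (I.obj.map f.op) := fun s => by
  refine ⟨CohFree.evalGen J U I
    (Injective.factorThru (CohFree.ofSect J V I s) (CohCx.freeSheafMap J f)), ?_⟩
  refine (CohFree.evalGen_freeSheafMap_comp J f I _).symm.trans ?_
  rw [Injective.comp_factorThru, CohFree.evalGen_ofSect]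

/-- A cohomology class of positive degree vanishes on a covering sieve. -/
theorem exists_cover_res_eq_zero : ∀ (n : ℕ) (F : Sheaf J AddCommGrpCat.{u}) (U : C)
    (ξ : CohSite.HU F (n + 1) U),
    ∃ S ∈ J U, ∀ ⦃V : C⦄ (g : V ⟶ U), S g → CohSite.res F (n + 1) g ξ = 0
  | 0, F, U, ξ => by
    let hS := injSES_shortExact F
    have : Injective (injSES F).X₂ := inferInstanceAs (Injective (Injective.under F))
    have := Ext.subsingleton_of_injective (CohCx.freeSheaf J U) (injSES F).X₂ 0
    obtain ⟨x, hx⟩ := ext_surjective_postcomp_extClass hS (CohCx.freeSheaf J U) 0 ξ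
    obtain ⟨f, rfl⟩ := (Ext.mk₀_bijective _ _).2 x
    subst hx
    have : Epi (injSES F).g := hS.epi_g
    have : Sheaf.IsLocallySurjective (injSES F).g :=
      (Sheaf.isLocallySurjective_iff_epi' AddCommGrpCat.{u} (injSES F).g).2 inferInstance
    refine ⟨_, Presheaf.imageSieve_mem J (injSES F).g.hom (U := op U)
      (CohFree.evalGen J U _ f), fun V g ⟨t, ht⟩ => ?_⟩
    have e : CohCx.freeSheafMap J g ≫ f = CohFree.ofSect J V _ t ≫ (injSES F).g := by
      rw [← CohFree.ofSect_evalGen J U _ f, freeSheafMap_comp_ofSect, ofSect_comp]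
      exact congrArg _ ht.symm
    change (Ext.mk₀ (CohCx.freeSheafMap J g)).comp ((Ext.mk₀ f).comp hS.extClass (zero_add 1)) (zero_add 1) = 0
    rw [Ext.mk₀_comp_mk₀_assoc, e, ← Ext.mk₀_comp_mk₀, Ext.comp_assoc_of_second_deg_zero,
      hS.comp_extClass, Ext.comp_zero]
  | n + 1, F, U, ξ => by
    let hS := injSES_shortExact F
    have : Injective (injSES F).X₂ := inferInstanceAs (Injective (Injective.under F))
    have := Ext.subsingleton_of_injective (CohCx.freeSheaf J U) (injSES F).X₂ (n + 1)
    obtain ⟨x, hx⟩ := ext_surjective_postcomp_extClass hS (CohCx.freeSheaf J U) (n + 1) ξ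
    subst hx
    obtain ⟨S, hSJ, hx⟩ := exists_cover_res_eq_zero n _ U x
    refine ⟨S, hSJ, fun V g hg => ?_⟩
    change (Ext.mk₀ (CohCx.freeSheafMap J g)).comp (x.comp hS.extClass rfl) (zero_add (n + 2)) = 0
    rw [← Ext.comp_assoc _ _ _ (zero_add (n + 1)) rfl (by omega)]
    have h0 := hx g hg
    exact (congrArg (fun z => Ext.comp z hS.extClass rfl) h0).trans (Ext.zero_comp _ _ _ _ _)

section Terminal

variable {T : C} (hT : IsTerminal T)

variable (J) in
/-- The canonical map from the constant sheaf `ℤ` to the free sheaf on the terminal object. -/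
noncomputable def constToFree :
    (constantSheaf J AddCommGrpCat.{u}).obj (AddCommGrpCat.of (ULift.{u} ℤ)) ⟶
      CohCx.freeSheaf J T :=
  ((constantSheafAdj J AddCommGrpCat.{u} hT).homEquiv _ _).symm
    ((AddCommGrpCat.uliftZMultiplesAddEquiv _).symm (CohFree.gen J T))

lemma isIso_constToFree : IsIso (constToFree J hT) := by
  rw [isIso_iff_coyoneda_map_bijective]
  intro G
  have : (fun x : CohCx.freeSheaf J T ⟶ G => constToFree J hT ≫ x) =
      ((constantSheafAdj J AddCommGrpCat.{u} hT).homEquiv _ _).symm ∘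
        (AddCommGrpCat.uliftZMultiplesAddEquiv _).symm ∘ (CohFree.homEquivSect J T G) := by
    funext x
    change constToFree J hT ≫ x = _
    rw [constToFree, ← Adjunction.homEquiv_naturality_right_symm]
    dsimp only [Function.comp]
    congr 1
    apply (AddCommGrpCat.uliftZMultiplesAddEquiv _).injective
    rw [AddEquiv.apply_symm_apply]
    have key : ∀ (M : AddCommGrpCat.{u}) (φ : AddCommGrpCat.of (ULift.{u} ℤ) ⟶ M),
        AddCommGrpCat.uliftZMultiplesAddEquiv M φ = φ ⟨1⟩ := fun _ _ => rfl
    rw [key, CohFree.homEquivSect_apply]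
    exact congrArg (x.hom.app (op T)) ((key _ _).symm.trans (AddEquiv.apply_symm_apply _ _))
  rw [this]
  exact (Equiv.bijective _).comp ((AddEquiv.bijective _).comp (AddEquiv.bijective _))

end Terminal

/-- An isomorphism induces an equivalence on `Ext` in the first variable. -/
noncomputable def extIsoLeft {A : Type*} [Category A] [Abelian A] [HasExt A] {X X' : A} (e : X ≅ X')
    (Y : A) (n : ℕ) : Ext X' Y n ≃+ Ext X Y n :=
  AddEquiv.mk' ⟨fun x => (Ext.mk₀ e.hom).comp x (zero_add n),
    fun x => (Ext.mk₀ e.inv).comp x (zero_add n), fun x => by simp, fun x => by simp⟩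
    fun a b => by simp

/-- An isomorphism induces an equivalence on `Ext` in the second variable. -/
noncomputable def extIsoRight {A : Type*} [Category A] [Abelian A] [HasExt A] {Y Y' : A} (e : Y ≅ Y')
    (X : A) (n : ℕ) : Ext X Y n ≃+ Ext X Y' n :=
  AddEquiv.mk' ⟨fun x => x.comp (Ext.mk₀ e.hom) (add_zero n),
    fun x => x.comp (Ext.mk₀ e.inv) (add_zero n), fun x => by simp, fun x => by simp⟩
    fun a b => by simp

/-- `H^n(T, F) = H^n(F)` for a terminal object `T`. -/
noncomputable def HUEquivHOfIsTerminal {T : C} (hT : IsTerminal T)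
    (F : Sheaf J AddCommGrpCat.{u}) (n : ℕ) : CohSite.HU F n T ≃+ Sheaf.H.{u} F n :=
  haveI := isIso_constToFree (J := J) hT
  extIsoLeft (asIso (constToFree J hT)) F n

end Groth.SiteCohomology
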