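import Groth.Prelude.Def_CohTop
import Groth.Agent.SiteCohomology.Free
import Mathlib.Topology.Sheaves.Abelian

/-!
# Flasque abelian sheaves on a topological space are acyclic
-/

universe u

open CategoryTheory Limits Opposite TopologicalSpace

namespace Groth.SiteCohomology

variable {X : TopCat.{u}}

lemma mono_opens_hom {U V : Opens X} (f : V ⟶ U) : Mono f :=
  ⟨fun _ _ _ => Subsingleton.elim _ _⟩

lemma isFlasque_iff_surjective (F : CohTop.Ab X) :
    TopCat.Sheaf.IsFlasque F ↔
      ∀ ⦃U V : Opens X⦄ (f : V ⟶ U), Function.Surjective (F.obj.map f.op) := by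
  constructor
  · intro h U V f
    exact (AddCommGrpCat.epi_iff_surjective _).1 (TopCat.Presheaf.IsFlasque.epi (F := F.obj) f.op)
  · intro h
    exact ⟨fun {U V} i => (AddCommGrpCat.epi_iff_surjective _).2 (h i.unop)⟩

lemma isFlasque_of_injective (F : CohTop.Ab X) [Injective F] : TopCat.Sheaf.IsFlasque F :=
  (isFlasque_iff_surjective F).2 fun U V f =>
    haveI := mono_opens_hom f
    surjective_map_of_injective F f

lemma surjective_sections_of_flasque {S : ShortComplex (CohTop.Ab X)} (hS : S.ShortExact)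
    [TopCat.Sheaf.IsFlasque S.X₁] (U : Opens X) : Function.Surjective (S.g.hom.app (op U)) :=
  (AddCommGrpCat.epi_iff_surjective _).1
    (TopCat.Sheaf.IsFlasque.epi_of_shortExact (X := X) (S := S) hS)

lemma isFlasque_quotient {S : ShortComplex (CohTop.Ab X)} (hS : S.ShortExact)
    [TopCat.Sheaf.IsFlasque S.X₁] [TopCat.Sheaf.IsFlasque S.X₂] : TopCat.Sheaf.IsFlasque S.X₃ :=
  TopCat.Sheaf.IsFlasque.of_shortExact_of_isFlasque₁₂ (X := X) (S := S) hS

/-- Flasque abelian sheaves have no higher cohomology on any open. -/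
theorem subsingleton_HU_succ_of_flasque (F : CohTop.Ab X) [TopCat.Sheaf.IsFlasque F]
    (U : Opens X) (n : ℕ) : Subsingleton (CohTop.HU F (n + 1) U) :=
  subsingleton_ext_succ_of_class _ (fun F : CohTop.Ab X => TopCat.Sheaf.IsFlasque F)
    (fun _ S hS hF h _ => by
      subst h
      haveI := hF
      exact (surjective_sections_iff_lift S.g).1 (surjective_sections_of_flasque hS U))
    (fun _ S hS hF h hI => by
      subst h
      haveI := hF
      haveI := hI
      haveI := isFlasque_of_injective S.X₂
      exact isFlasque_quotient hS) n F ‹_›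

/-- `H^n(⊤, F) = H^n(X, F)`. -/
noncomputable def HUTopEquiv (F : CohTop.Ab X) (n : ℕ) :
    CohTop.HU F n ⊤ ≃+ CohTop.H F n :=
  HUEquivHOfIsTerminal (Preorder.isTerminalTop (Opens X)) F n

/-- Flasque abelian sheaves have no higher cohomology. -/
theorem subsingleton_H_succ_of_flasque (F : CohTop.Ab X) [TopCat.Sheaf.IsFlasque F] (n : ℕ) :
    Subsingleton (CohTop.H F (n + 1)) :=
  haveI := subsingleton_HU_succ_of_flasque F ⊤ n
  (HUTopEquiv F (n + 1)).symm.subsingleton

/-- Inverse image of abelian sheaves is left exact. -/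
instance preservesFiniteLimits_pull {Y : TopCat.{u}} (f : X ⟶ Y) :
    PreservesFiniteLimits (CohTop.pull f) :=
  haveI : PreservesFiniteLimits ((Opens.map f).op.lan :
      ((Opens Y)ᵒᵖ ⥤ AddCommGrpCat.{u}) ⥤ _) :=
    lan_preservesFiniteLimits_of_flat AddCommGrpCat.{u} (Opens.map f)
  Functor.sheafPullbackConstruction.preservesFiniteLimits (Opens.map f) AddCommGrpCat.{u}
    (Opens.grothendieckTopology Y) (Opens.grothendieckTopology X)

/-- The adjunction `pull f ⊣ push f`, retyped. -/
noncomputable abbrev pullPushAdj {Y : TopCat.{u}} (f : X ⟶ Y) : CohTop.pull f ⊣ CohTop.push f :=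
  TopCat.Sheaf.pullbackPushforwardAdjunction AddCommGrpCat.{u} f

lemma injective_push (I : CohTop.Ab X) [hI : Injective I] {Y : TopCat.{u}} (f : X ⟶ Y) :
    Injective ((CohTop.push f).obj I) :=
  haveI := preservesFiniteLimits_pull f
  haveI : (CohTop.pull f).PreservesMonomorphisms := inferInstance
  @Injective.injective_of_adjoint _ _ _ _ _ _ _ (pullPushAdj f) I hI

end Groth.SiteCohomology
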