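import Mathlib.Algebra.Category.ModuleCat.Presheaf.Generator
import Mathlib.Algebra.Category.ModuleCat.Sheaf.Abelian
import Mathlib.Algebra.Category.ModuleCat.Sheaf.Colimits
import Mathlib.Algebra.Category.ModuleCat.Sheaf.Limits
import Mathlib.CategoryTheory.Abelian.GrothendieckAxioms.FunctorCategory
import Mathlib.CategoryTheory.Abelian.GrothendieckCategory.EnoughInjectives
import Mathlib.CategoryTheory.Abelian.Injective.Resolution
import Mathlib.Algebra.Category.Grp.AB
import Mathlib.Algebra.Category.Grp.FilteredColimits
import Mathlib.CategoryTheory.Abelian.GrothendieckCategory.HasExt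

universe u

open CategoryTheory Limits

namespace Groth.SiteCohomology

variable {C : Type u} [SmallCategory C]

instance ab5_presheafOfModules (R : Cᵒᵖ ⥤ RingCat.{u}) :
    AB5OfSize.{u, u} (PresheafOfModules.{u} R) where
  ofShape K _ _ := HasExactColimitsOfShape.domain_of_functor K (PresheafOfModules.toPresheaf R)

instance hasSeparator_presheafOfModules (R : Cᵒᵖ ⥤ RingCat.{u}) :
    HasSeparator (PresheafOfModules.{u} R) :=
  ⟨⟨_, ObjectProperty.IsSeparating.isSeparator_coproduct
    (f := (yoneda ⋙ PresheafOfModules.free R).obj) (PresheafOfModules.freeYoneda.isSeparating R)⟩⟩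

instance grothendieckAbelian_presheafOfModules (R : Cᵒᵖ ⥤ RingCat.{u}) :
    IsGrothendieckAbelian.{u} (PresheafOfModules.{u} R) where

variable {J : GrothendieckTopology C} (R : Sheaf J RingCat.{u})

/-- The sheafification adjunction for modules over a sheaf of rings. -/
noncomputable abbrev modShAdj :=
  PresheafOfModules.sheafificationAdjunction.{u} (𝟙 R.obj)

instance ab5_sheafOfModules : AB5OfSize.{u, u} (SheafOfModules.{u} R) where
  ofShape K _ _ := (modShAdj R).hasExactColimitsOfShape K

instance hasSeparator_sheafOfModules : HasSeparator (SheafOfModules.{u} R) := by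
  obtain ⟨G, hG⟩ := (inferInstance : HasSeparator (PresheafOfModules.{u} R.obj))
  refine ⟨⟨(PresheafOfModules.sheafification (𝟙 R.obj)).obj G,
    (isSeparator_def _).2 fun X Y f g h => ?_⟩⟩
  apply (SheafOfModules.forget.{u} R ⋙ PresheafOfModules.restrictScalars (𝟙 R.obj)).map_injective
  refine hG.def _ _ fun k => ?_
  apply ((modShAdj R).homEquiv G Y).symm.injective
  rw [Adjunction.homEquiv_naturality_right_symm, Adjunction.homEquiv_naturality_right_symm]
  exact h _

instance grothendieckAbelian_sheafOfModules :
    IsGrothendieckAbelian.{u} (SheafOfModules.{u} R) where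

instance enoughInjectives_sheafOfModules : EnoughInjectives (SheafOfModules.{u} R) := inferInstance

instance hasInjectiveResolutions_sheafOfModules :
    HasInjectiveResolutions (SheafOfModules.{u} R) := inferInstance

end Groth.SiteCohomology
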