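import Groth.Agent.SiteCohomology.Free
import Mathlib.CategoryTheory.Abelian.FunctorCategory
import Mathlib.Algebra.Homology.ShortComplex.Ab
import Mathlib.CategoryTheory.Abelian.RightDerived

/-!
# The cohomology presheaf as right derived functor of the inclusion into presheaves
-/

universe w v u

open CategoryTheory Limits Opposite

set_option synthInstance.maxHeartbeats 400000
set_option maxHeartbeats 4000000
set_option linter.unusedSectionVars false

namespace Groth.SiteCohomology

open Abelian

lemma extMk_zero_eq_zero_iff {A : Type u} [Category.{v} A] [Abelian A] [HasExt.{w} A] {X Y : A}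
    (R : InjectiveResolution Y) (f : X ⟶ R.cocomplex.X 0) (hf : f ≫ R.cocomplex.d 0 1 = 0) :
    R.extMk f 1 rfl hf = 0 ↔ f = 0 := by
  refine ⟨fun h => ?_, fun h => by subst h; exact R.extMk_zero 1 rfl⟩
  rw [← R.extEquivCohomologyClass.apply_eq_iff_eq, R.extEquivCohomologyClass_extMk,
    R.extEquivCohomologyClass_zero, CochainComplex.HomComplex.CohomologyClass.mk_eq_zero_iff,
    CochainComplex.HomComplex.Cocycle.fromSingleMk_mem_coboundaries_iff _ _ _ _ _ (-1) (by lia)] at h
  obtain ⟨g, hg⟩ := h
  have hg0 : g = 0 := (CochainComplex.isZero_of_isStrictlyGE R.cochainComplex 0 (-1)).eq_of_tgt _ _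
  rw [hg0, zero_comp] at hg
  rw [← cancel_mono (R.cochainComplexXIso 0 0 rfl).inv, zero_comp]
  exact hg.symm

/-- Exactness of short complexes of presheaves is objectwise. -/
lemma exact_of_evaluation {D : Type u} [SmallCategory D] (S : ShortComplex (D ⥤ AddCommGrpCat.{u}))
    (h : ∀ U, (S.map ((evaluation D AddCommGrpCat.{u}).obj U)).Exact) : S.Exact := by
  rw [S.exact_iff_isZero_homology]
  exact Functor.isZero _ fun U =>
    ((ShortComplex.exact_iff_isZero_homology _).1 (h U)).of_iso
      (S.mapHomologyIso ((evaluation _ _).obj U)).symm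

/-- Homology of a complex of presheaves of abelian groups computed from a map on cycles. -/
theorem nonempty_homology_iso_of_cycles {D : Type u} [SmallCategory D]
    (K : CochainComplex (D ⥤ AddCommGrpCat.{u}) ℕ) (n : ℕ) {H : D ⥤ AddCommGrpCat.{u}}
    (φ : K.cycles n ⟶ H) (hs : ∀ U, Function.Surjective (φ.app U))
    (hk : ∀ U (z : (K.cycles n).obj U), φ.app U z = 0 ↔
      ∃ x, (K.toCycles ((ComplexShape.up ℕ).prev n) n).app U x = z) :
    Nonempty (K.homology n ≅ H) := by
  have w : K.toCycles ((ComplexShape.up ℕ).prev n) n ≫ φ = 0 := by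
    ext U x
    exact (hk U _).2 ⟨x, rfl⟩
  have hepi : Epi φ :=
    have : ∀ U, Epi (φ.app U) := fun U => (AddCommGrpCat.epi_iff_surjective _).2 (hs U)
    NatTrans.epi_of_epi_app _
  have hex : (ShortComplex.mk _ φ w).Exact := exact_of_evaluation _ fun U =>
    (ShortComplex.ab_exact_iff _).2 fun z hz => (hk U z).1 hz
  exact ⟨IsColimit.coconePointUniqueUpToIso (K.homologyIsCokernel _ n rfl)
    (@ShortComplex.Exact.gIsCokernel _ _ _ (ShortComplex.mk _ φ w) _ hex hepi)⟩

variable {C : Type u} [SmallCategory C] {J : GrothendieckTopology C}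
  {F : Sheaf J AddCommGrpCat.{u}} (R : InjectiveResolution F)

/-- The complex of presheaves underlying an injective resolution. -/
noncomputable abbrev preCx : CochainComplex (Cᵒᵖ ⥤ AddCommGrpCat.{u}) ℕ :=
  ((sheafToPresheaf J AddCommGrpCat.{u}).mapHomologicalComplex (ComplexShape.up ℕ)).obj R.cocomplex

lemma ofSect_add {U : C} {G : Sheaf J AddCommGrpCat.{u}} (s t : G.obj.obj (op U)) :
    CohFree.ofSect J U G (s + t) = CohFree.ofSect J U G s + CohFree.ofSect J U G t :=
  map_add (CohFree.homEquivSect J U G).symm s t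

lemma ofSect_zero {U : C} {G : Sheaf J AddCommGrpCat.{u}} :
    CohFree.ofSect J U G 0 = 0 := map_zero (CohFree.homEquivSect J U G).symm

lemma ofSect_injective {U : C} {G : Sheaf J AddCommGrpCat.{u}} :
    Function.Injective (CohFree.ofSect J U G) := (CohFree.homEquivSect J U G).symm.injective

lemma ofSect_surjective {U : C} {G : Sheaf J AddCommGrpCat.{u}} :
    Function.Surjective (CohFree.ofSect J U G) := (CohFree.homEquivSect J U G).symm.surjective

/-- The section underlying a cycle. -/
noncomputable def secOf (n : ℕ) (U : C) :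
    ((preCx R).cycles n).obj (op U) →+ (R.cocomplex.X n).obj.obj (op U) :=
  (((preCx R).iCycles n).app (op U)).hom

lemma secOf_injective (n : ℕ) (U : C) : Function.Injective (secOf R n U) :=
  (AddCommGrpCat.mono_iff_injective (((preCx R).iCycles n).app (op U))).1 inferInstance

lemma secOf_map (n : ℕ) {U V : C} (f : V ⟶ U) (z : ((preCx R).cycles n).obj (op U)) :
    secOf R n V (((preCx R).cycles n).map f.op z) =
      (R.cocomplex.X n).obj.map f.op (secOf R n U z) :=
  ConcreteCategory.congr_hom (((preCx R).iCycles n).naturality f.op) z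

lemma secOf_toCycles (i n : ℕ) (U : C) (x : (R.cocomplex.X i).obj.obj (op U)) :
    secOf R n U (((preCx R).toCycles i n).app (op U) x) =
      (R.cocomplex.d i n).hom.app (op U) x :=
  ConcreteCategory.congr_hom (NatTrans.congr_app ((preCx R).toCycles_i i n) (op U)) x

lemma secOf_d (n : ℕ) (U : C) (z : ((preCx R).cycles n).obj (op U)) :
    CohFree.ofSect J U (R.cocomplex.X n) (secOf R n U z) ≫ R.cocomplex.d n (n + 1) = 0 :=
  (ofSect_comp _ _).trans ((congrArg _ (ConcreteCategory.congr_hom
    (NatTrans.congr_app ((preCx R).iCycles_d n (n + 1)) (op U)) z)).trans ofSect_zero)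

lemma exists_secOf (n : ℕ) (U : C) (s : (R.cocomplex.X n).obj.obj (op U))
    (hs : (R.cocomplex.d n (n + 1)).hom.app (op U) s = 0) :
    ∃ z, secOf R n U z = s := by
  have hex : (ShortComplex.mk ((preCx R).iCycles n) ((preCx R).d n (n + 1))
      ((preCx R).iCycles_d n (n + 1))).Exact :=
    ShortComplex.exact_of_f_is_kernel _
      ((preCx R).cyclesIsKernel n (n + 1) (CochainComplex.next ℕ n))
  exact (ShortComplex.ab_exact_iff _).1
    (hex.map ((evaluation Cᵒᵖ AddCommGrpCat.{u}).obj (op U))) s hs

lemma extMk_congr {X : Sheaf J AddCommGrpCat.{u}} {n : ℕ} (m : ℕ) (hm : n + 1 = m)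
    {a b : X ⟶ R.cocomplex.X n} (h : a = b) (ha : a ≫ R.cocomplex.d n m = 0)
    (hb : b ≫ R.cocomplex.d n m = 0) : R.extMk a m hm ha = R.extMk b m hm hb := by subst h; rfl

/-- The class of a cycle. -/
noncomputable def cycleClass (n : ℕ) (U : C) :
    ((preCx R).cycles n).obj (op U) →+ CohSite.HU F n U :=
  AddMonoidHom.mk' (fun z => R.extMk (CohFree.ofSect J U _ (secOf R n U z))
    (n + 1) rfl (secOf_d R n U z)) (fun a b => by
    refine Eq.trans ?_ (R.add_extMk _ _ (n + 1) rfl (secOf_d R n U a) (secOf_d R n U b)).symm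
    congr 1
    rw [map_add, ofSect_add])

lemma cycleClass_map (n : ℕ) {U V : C} (f : V ⟶ U) (z : ((preCx R).cycles n).obj (op U)) :
    cycleClass R n V (((preCx R).cycles n).map f.op z) =
      CohSite.res F n f (cycleClass R n U z) := by
  refine Eq.trans ?_ (R.mk₀_comp_extMk _ (n + 1) rfl (secOf_d R n U z)
    (CohCx.freeSheafMap J f)).symm
  have e : CohFree.ofSect J V (R.cocomplex.X n) (secOf R n V (((preCx R).cycles n).map f.op z)) =
      CohCx.freeSheafMap J f ≫ CohFree.ofSect J U (R.cocomplex.X n) (secOf R n U z) :=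
    (congrArg _ (secOf_map R n f z)).trans (freeSheafMap_comp_ofSect f _).symm
  exact extMk_congr R (n + 1) rfl e (secOf_d R n V _) _

lemma exists_cycle_class (n : ℕ) (U : C) (x : CohSite.HU F n U) :
    ∃ z, cycleClass R n U z = x := by
  obtain ⟨f, hf, rfl⟩ := R.extMk_surjective x (n + 1) rfl
  obtain ⟨s, rfl⟩ := ofSect_surjective f
  obtain ⟨z, rfl⟩ := exists_secOf R n U s
    (ofSect_injective ((ofSect_comp _ _).symm.trans (hf.trans ofSect_zero.symm)))
  exact ⟨z, rfl⟩

lemma cycleClass_eq_zero_iff (n : ℕ) (U : C) (z : ((preCx R).cycles n).obj (op U)) :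
    cycleClass R n U z = 0 ↔
      ∃ x : (R.cocomplex.X ((ComplexShape.up ℕ).prev n)).obj.obj (op U),
        ((preCx R).toCycles _ n).app (op U) x = z := by
  have key : ∀ (x : (R.cocomplex.X ((ComplexShape.up ℕ).prev n)).obj.obj (op U)),
      ((preCx R).toCycles _ n).app (op U) x = z ↔
        (R.cocomplex.d _ n).hom.app (op U) x = secOf R n U z := fun x => by
    rw [← secOf_toCycles]
    exact (secOf_injective R n U).eq_iff.symm
  simp only [key]
  cases n with
  | zero =>
    refine (extMk_zero_eq_zero_iff R (CohFree.ofSect J U _ (secOf R 0 U z)) (secOf_d R 0 U z)).trans ?_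
    constructor
    · intro h
      refine ⟨0, (map_zero _).trans ?_⟩
      exact ofSect_injective (ofSect_zero.trans h.symm)
    · rintro ⟨x, hx⟩
      rw [← hx, R.cocomplex.shape _ _ (by simp)]
      exact ofSect_zero
  | succ m =>
    refine (R.extMk_eq_zero_iff (CohFree.ofSect J U _ (secOf R (m + 1) U z)) (m + 2) rfl
      (secOf_d R (m + 1) U z) m rfl).trans ?_
    rw [CochainComplex.prev_nat_succ]
    constructor
    · rintro ⟨g, hg⟩
      obtain ⟨x, rfl⟩ := ofSect_surjective g
      exact ⟨x, ofSect_injective ((ofSect_comp _ _).symm.trans hg)⟩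
    · rintro ⟨x, hx⟩
      exact ⟨CohFree.ofSect J U _ x, (ofSect_comp _ _).trans (congrArg _ hx)⟩

/-- The map from cycles to the cohomology presheaf. -/
noncomputable def cyclesToCohomology (n : ℕ) :
    (preCx R).cycles n ⟶ Sheaf.cohomologyPresheaf.{u} F n where
  app U := AddCommGrpCat.ofHom (cycleClass R n U.unop)
  naturality U V f := by
    ext z
    exact cycleClass_map R n f.unop z

/-- `R^n` of the inclusion into presheaves is the cohomology presheaf. -/
theorem nonempty_rightDerivedSheafToPresheaf_iso (F : Sheaf J AddCommGrpCat.{u}) (n : ℕ) :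
    Nonempty (((sheafToPresheaf J AddCommGrpCat.{u}).rightDerived n).obj F ≅
      Sheaf.cohomologyPresheaf.{u} F n) := by
  let R : InjectiveResolution F := injectiveResolution F
  obtain ⟨e⟩ := nonempty_homology_iso_of_cycles (preCx R) n (cyclesToCohomology R n)
    (fun U => exists_cycle_class R n U.unop) (fun U z => cycleClass_eq_zero_iff R n U.unop z)
  exact ⟨R.isoRightDerivedObj _ n ≪≫ e⟩

end Groth.SiteCohomology
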