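import Groth.Prelude.Def_CohSite
import Groth.Prelude.Def_CohTop
import Groth.Agent.SiteCohomology.CohomologyPresheaf
import Mathlib.Algebra.Homology.ShortComplex.PreservesHomology

/-!
# Higher direct images are sheafifications of cohomology presheaves
-/

universe v v' v'' u u' u''

open CategoryTheory Limits Opposite

set_option synthInstance.maxHeartbeats 400000
set_option maxHeartbeats 4000000

namespace Groth.SiteCohomology

section General

variable {A : Type u} [Category.{v} A] [Abelian A] [HasInjectiveResolutions A]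
  {B : Type u'} [Category.{v'} B] [Abelian B] {B' : Type u''} [Category.{v''} B'] [Abelian B']

/-- Post-composition by an exact functor commutes with right derivation. -/
theorem nonempty_rightDerived_comp_exact (F : A ⥤ B) [F.Additive] (W : B ⥤ B') [W.Additive]
    [PreservesFiniteLimits W] [PreservesFiniteColimits W] (G : A ⥤ B') [G.Additive]
    (e : G ≅ F ⋙ W) (X : A) (n : ℕ) :
    Nonempty ((G.rightDerived n).obj X ≅ W.obj ((F.rightDerived n).obj X)) := by
  let R : InjectiveResolution X := injectiveResolution X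
  haveI : (F ⋙ W).Additive := inferInstance
  refine ⟨R.isoRightDerivedObj G n ≪≫ HomologicalComplex.homologyMapIso
    ((NatIso.mapHomologicalComplex e (ComplexShape.up ℕ)).app R.cocomplex) n ≪≫
    (((F.mapHomologicalComplex _).obj R.cocomplex).sc n).mapHomologyIso W ≪≫
    W.mapIso (R.isoRightDerivedObj F n).symm⟩

end General

variable {C D : Type u} [SmallCategory C] [SmallCategory D]
  (J : GrothendieckTopology C) (K : GrothendieckTopology D) (u : D ⥤ C) [u.IsContinuous K J]

/-- `u_*` is the sheafification of the restriction of the underlying presheaf. -/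
noncomputable def pushIso : CohSite.push J K u ≅
    sheafToPresheaf J AddCommGrpCat.{u} ⋙
      ((Functor.whiskeringLeft _ _ _).obj u.op ⋙ presheafToSheaf K AddCommGrpCat.{u}) :=
  (Functor.rightUnitor _).symm ≪≫
    Functor.isoWhiskerLeft (CohSite.push J K u)
      (asIso (sheafificationAdjunction K AddCommGrpCat.{u}).counit).symm

/-- `R^i u_* F` is the sheaf associated to `V ↦ H^i(u V, F)`. -/
theorem nonempty_Rpush_iso (F : Sheaf J AddCommGrpCat.{u}) (i : ℕ) :
    Nonempty ((CohSite.Rpush J K u i).obj F ≅
      (presheafToSheaf K AddCommGrpCat.{u}).obj (u.op ⋙ F.cohomologyPresheaf i)) := by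
  obtain ⟨e⟩ := nonempty_rightDerivedSheafToPresheaf_iso F i
  obtain ⟨f⟩ := nonempty_rightDerived_comp_exact (sheafToPresheaf J AddCommGrpCat.{u})
    ((Functor.whiskeringLeft _ _ _).obj u.op ⋙ presheafToSheaf K AddCommGrpCat.{u})
    (CohSite.push J K u) (pushIso J K u) F i
  exact ⟨f ≪≫ Functor.mapIso _ e⟩

/-- Vanishing of `R^i u_* F` from vanishing of cohomology. -/
theorem isZero_Rpush_of_subsingleton (F : Sheaf J AddCommGrpCat.{u}) (i : ℕ)
    (h : ∀ V : D, Subsingleton (CohSite.HU F i (u.obj V))) :
    IsZero ((CohSite.Rpush J K u i).obj F) := by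
  obtain ⟨e⟩ := nonempty_Rpush_iso J K u F i
  refine IsZero.of_iso (Functor.map_isZero _ (Functor.isZero _ fun V => ?_)) e
  haveI : Subsingleton ((u.op ⋙ F.cohomologyPresheaf i).obj V : AddCommGrpCat.{u}) := h V.unop
  exact AddCommGrpCat.isZero_of_subsingleton _

theorem nonempty_Rpush_top_iso {X Y : TopCat.{u}} (f : X ⟶ Y) (F : CohTop.Ab X) (i : ℕ) :
    Nonempty ((CohTop.Rpush f i).obj F ≅
      (presheafToSheaf (Opens.grothendieckTopology Y) AddCommGrpCat.{u}).obj
        ((TopologicalSpace.Opens.map f).op ⋙ Sheaf.cohomologyPresheaf.{u} F i)) :=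
  nonempty_Rpush_iso _ _ (TopologicalSpace.Opens.map f) F i

theorem isZero_Rpush_top_of_subsingleton {X Y : TopCat.{u}} (f : X ⟶ Y) (F : CohTop.Ab X) (i : ℕ)
    (h : ∀ V, Subsingleton (CohTop.HU F i ((TopologicalSpace.Opens.map f).obj V))) :
    IsZero ((CohTop.Rpush f i).obj F) :=
  isZero_Rpush_of_subsingleton _ _ (TopologicalSpace.Opens.map f) F i h

end Groth.SiteCohomology
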