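import Groth.Prelude.Def_CohCx
import Groth.Agent.SiteCohomology.Free
import Groth.Agent.SiteCohomology.HigherDirectImage

/-!
# `H^n(K, F)` for representable `K`
-/

universe u

open CategoryTheory Limits Opposite

set_option synthInstance.maxHeartbeats 400000
set_option maxHeartbeats 4000000

namespace Groth.SiteCohomology

variable {C : Type u} [SmallCategory C] (J : GrothendieckTopology C)

/-- The free/forget adjunction on presheaves of sets and abelian sheaves. -/
noncomputable def freeShAdj : freeSh J ⊣ (sheafToPresheaf J AddCommGrpCat.{u} ⋙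
    (Functor.whiskeringRight Cᵒᵖ _ _).obj (forget AddCommGrpCat.{u})) :=
  (AddCommGrpCat.adj.whiskerRight Cᵒᵖ).comp (sheafificationAdjunction J AddCommGrpCat.{u})

/-- The free sheaf on the associated sheaf of a presheaf of sets is the free sheaf on it. -/
lemma isIso_freeSh_map_toSheafify (P : Cᵒᵖ ⥤ Type u) :
    IsIso ((freeSh J).map (toSheafify J P)) := by
  rw [isIso_iff_coyoneda_map_bijective]
  intro G
  have hG : Presheaf.IsSheaf J (G.obj ⋙ forget AddCommGrpCat.{u}) :=
    GrothendieckTopology.HasSheafCompose.isSheaf G.obj G.2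
  have key : (fun x => (freeSh J).map (toSheafify J P) ≫ x) =
      ((freeShAdj J).homEquiv P G).symm ∘ (fun y => toSheafify J P ≫ y) ∘
        ((freeShAdj J).homEquiv (sheafify J P) G) := by
    funext x
    simp only [Function.comp_apply, Adjunction.homEquiv_naturality_left_symm,
      Equiv.symm_apply_apply]
  rw [key]
  refine (Equiv.bijective _).comp (Function.Bijective.comp ?_ (Equiv.bijective _))
  refine ⟨fun a b h => ?_, fun b => ⟨sheafifyLift J b hG, toSheafify_sheafifyLift _ _ _⟩⟩
  exact sheafify_hom_ext J a b hG h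

/-- `H^n(h_U^#, F) = H^n(U, F)`. -/
noncomputable def HKYonedaEquiv (U : C) (F : Sheaf J AddCommGrpCat.{u}) (n : ℕ) :
    CohCx.HK ((presheafToSheaf J (Type u)).obj (yoneda.obj U)) F n ≃+ CohSite.HU F n U :=
  haveI := isIso_freeSh_map_toSheafify J (yoneda.obj U)
  extIsoLeft (asIso ((freeSh J).map (toSheafify J (yoneda.obj U)))) F n

lemma subsingleton_HU_of_totallyAcyclic (F : Sheaf J AddCommGrpCat.{u})
    (hF : CohCx.IsTotallyAcyclic F) (U : C) (p : ℕ) :
    Subsingleton (CohSite.HU F (p + 1) U) :=
  haveI := hF ((presheafToSheaf J (Type u)).obj (yoneda.obj U)) p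
  (HKYonedaEquiv J U F (p + 1)).symm.subsingleton

end Groth.SiteCohomology
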