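import Groth.Prelude.Def_CohTop
import Groth.Agent.SiteCohomology.HigherDirectImage
import Mathlib.Topology.Sheaves.Points
import Mathlib.Topology.Sheaves.LocallySurjective
import Mathlib.CategoryTheory.Sites.Point.Comap
import Mathlib.CategoryTheory.Sites.EpiMono
import Mathlib.Algebra.Homology.ShortComplex.ExactFunctor

/-!
# Direct image along a closed embedding: exactness, full faithfulness, essential image
-/

universe w v v' u u'

open CategoryTheory Limits Opposite TopologicalSpace

set_option maxHeartbeats 1000000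
set_option synthInstance.maxHeartbeats 400000

namespace Groth.SiteCohomology

section General

variable {A : Type u} [Category.{v} A] [Abelian A] {B : Type u'} [Category.{v'} B] [Abelian B]

theorem preservesFiniteColimits_of_preservesEpi (F : A ⥤ B) [F.Additive]
    [PreservesFiniteLimits F] [F.PreservesEpimorphisms] : PreservesFiniteColimits F := by
  rw [F.preservesFiniteColimits_iff_forall_exact_map_and_epi]
  intro S hS
  haveI := hS.epi_g
  exact ⟨(F.preservesFiniteLimits_iff_forall_exact_map_and_mono.1 inferInstance S hS).1,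
    inferInstance⟩

theorem isZero_rightDerived_succ_of_exact [HasInjectiveResolutions A] (F : A ⥤ B) [F.Additive]
    [PreservesFiniteLimits F] [PreservesFiniteColimits F] (X : A) (n : ℕ) :
    IsZero ((F.rightDerived (n + 1)).obj X) := by
  let R : InjectiveResolution X := injectiveResolution X
  refine IsZero.of_iso ?_ (R.isoRightDerivedObj F (n + 1))
  exact IsZero.of_iso (Functor.map_isZero F
    ((R.cocomplex.exactAt_iff_isZero_homology (n + 1)).1 (R.cocomplex_exactAt_succ n)))
    ((R.cocomplex.sc (n + 1)).mapHomologyIso F)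

end General

variable {X Z : TopCat.{u}}

/-- The fibre functor of abelian sheaves at a point, via points of the site. -/
noncomputable abbrev sfib (x : X) : CohTop.Ab X ⥤ AddCommGrpCat.{u} :=
  (Opens.pointGrothendieckTopology x).sheafFiber

theorem isZero_sfib_iff (F : CohTop.Ab X) (x : X) :
    IsZero ((sfib x).obj F) ↔
      ∀ (U : Opens X), x ∈ U → ∀ (s : F.obj.obj (op U)),
        ∃ (V : Opens X) (h : V ≤ U), x ∈ V ∧ F.obj.map (homOfLE h).op s = 0 := by
  let P := Opens.pointGrothendieckTopology x
  change IsZero (P.presheafFiber.obj F.obj) ↔ _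
  constructor
  · intro h U hx s
    haveI := AddCommGrpCat.subsingleton_of_isZero h
    have e : P.toPresheafFiber U ⟨⟨hx⟩⟩ F.obj s = P.toPresheafFiber U ⟨⟨hx⟩⟩ F.obj 0 :=
      Subsingleton.elim _ _
    obtain ⟨V, f, y, -, e'⟩ := (P.toPresheafFiber_eq_iff' U _ _ _).1 e
    exact ⟨V, f.le, y.down.down, e'.trans (map_zero _)⟩
  · intro h
    have : ∀ p : ToType ((P.presheafFiber (A := AddCommGrpCat.{u})).obj F.obj), p = 0 := by
      intro p
      obtain ⟨U, hx, s, rfl⟩ := P.toPresheafFiber_jointly_surjective p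
      obtain ⟨V, hVU, hxV, e⟩ := h U hx.down.down s
      refine Eq.trans ?_ (map_zero (P.toPresheafFiber U hx F.obj).hom)
      exact (P.toPresheafFiber_eq_iff' U hx s 0).2
        ⟨V, homOfLE hVU, ⟨⟨hxV⟩⟩, Subsingleton.elim _ _, e.trans (map_zero _).symm⟩
    haveI : Subsingleton (ToType ((P.presheafFiber (A := AddCommGrpCat.{u})).obj F.obj)) := ⟨fun a b => (this a).trans (this b).symm⟩
    exact AddCommGrpCat.isZero_of_subsingleton _

theorem isZero_stalk_iff (F : CohTop.Ab X) (x : X) :
    IsZero (CohTop.stalk F x) ↔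
      ∀ (U : Opens X), x ∈ U → ∀ (s : F.obj.obj (op U)),
        ∃ (V : Opens X) (h : V ≤ U), x ∈ V ∧ F.obj.map (homOfLE h).op s = 0 := by
  constructor
  · intro h U hx s
    haveI := AddCommGrpCat.subsingleton_of_isZero h
    obtain ⟨W, hW, iU, iV, e⟩ := TopCat.Presheaf.germ_eq (F := F.obj) x hx hx s 0
      (Subsingleton.elim _ _)
    exact ⟨W, iU.le, hW, e.trans (map_zero _)⟩
  · intro h
    have : ∀ p : CohTop.stalk F x, p = 0 := by
      intro p
      obtain ⟨U, hx, s, rfl⟩ := TopCat.Presheaf.exists_germ_eq F.obj p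
      obtain ⟨V, hVU, hxV, e⟩ := h U hx s
      refine Eq.trans ?_ (map_zero (TopCat.Presheaf.germ F.obj V x hxV).hom)
      rw [← e]
      exact (TopCat.Presheaf.germ_res_apply F.obj (homOfLE hVU) x hxV s).symm
    haveI : Subsingleton (CohTop.stalk F x) := ⟨fun a b => (this a).trans (this b).symm⟩
    exact AddCommGrpCat.isZero_of_subsingleton _

theorem subsingleton_sections_of_le_bot (F : CohTop.Ab X) (U : Opens X) (h : U ≤ ⊥) :
    Subsingleton (F.obj.obj (op U)) := by
  obtain rfl := le_bot_iff.1 h
  exact AddCommGrpCat.subsingleton_of_isZero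
    (TopCat.Sheaf.isTerminalOfEmpty (C := AddCommGrpCat.{u}) F).isZero

theorem isIso_of_sfib {F G : CohTop.Ab X} (φ : F ⟶ G) (h : ∀ x, IsIso ((sfib x).map φ)) :
    IsIso φ := by
  have hP := (Opens.isConservativeFamilyOfPoints_pointsGrothendieckTopology
    (X : Type u)).jointlyReflectIsomorphisms AddCommGrpCat.{u}
  refine @JointlyReflectIsomorphisms.isIso _ _ _ _ _ _ hP _ _ φ ?_
  rintro ⟨_, ⟨x⟩⟩
  exact h x

variable (i : Z ⟶ X)

instance (z : Z) :
    InitiallySmall.{u} (Opens.map i ⋙ (Opens.pointGrothendieckTopology z).fiber).Elements :=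
  initiallySmall_of_essentiallySmall _

/-- The fibre of an inverse image is the fibre at the image point. -/
noncomputable def sfibPullIso (z : Z) : sfib (i.hom z) ≅ CohTop.pull i ⋙ sfib z :=
  eqToIso (show sfib (i.hom z) = ((Opens.pointGrothendieckTopology z).comap (Opens.map i)
      (coverPreserving_opens_map i)).sheafFiber from rfl) ≪≫
    GrothendieckTopology.Point.sheafFiberComapIso _ _ _ _

section Inducing

variable (hi : Topology.IsInducing i.hom)

/-- The largest open with the given preimage. -/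
def maxExt (V : Opens Z) : Opens X := sSup {U | (Opens.map i).obj U ≤ V}

theorem maxExt_mono {V V' : Opens Z} (h : V ≤ V') : maxExt i V ≤ maxExt i V' :=
  sSup_le_sSup fun _ hU => le_trans hU h

theorem le_maxExt (U : Opens X) : U ≤ maxExt i ((Opens.map i).obj U) :=
  le_sSup (le_refl ((Opens.map i).obj U) :)

include hi in
theorem map_maxExt (V : Opens Z) : (Opens.map i).obj (maxExt i V) = V := by
  refine le_antisymm ?_ ?_
  · intro z hz
    obtain ⟨U, hU, hzU⟩ := Opens.mem_sSup.1 hz
    exact hU hzU
  · obtain ⟨U, hU, e⟩ := hi.isOpen_iff.1 V.2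
    intro z hz
    have h : (⟨U, hU⟩ : Opens X) ≤ maxExt i V := le_sSup (fun y hy => e.subset hy)
    exact h (e.symm.subset hz : z ∈ i.hom ⁻¹' U)

include hi in
theorem full_push : (CohTop.push i).Full := by
  refine ⟨fun {F G} ψ => ?_⟩
  let P : Opens Z → Opens X := maxExt i
  let e : ∀ V, (Opens.map i).obj (P V) = V := map_maxExt i hi
  let ψ' : ∀ U : Opens X,
      F.obj.obj (op ((Opens.map i).obj U)) ⟶ G.obj.obj (op ((Opens.map i).obj U)) :=
    fun U => ψ.hom.app (op U)
  have hψ : ∀ {U U' : Opens X} (k : U ⟶ U'),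
      F.obj.map ((Opens.map i).map k).op ≫ ψ' U =
        ψ' U' ≫ G.obj.map ((Opens.map i).map k).op := fun k => ψ.hom.naturality k.op
  let φ : F.obj ⟶ G.obj :=
    { app := fun V => F.obj.map (eqToHom (e V.unop)).op ≫ ψ' (P V.unop) ≫
        G.obj.map (eqToHom (e V.unop).symm).op
      naturality := fun V W f => by
        have hf : P W.unop ≤ P V.unop := maxExt_mono i f.unop.le
        have hn := hψ (homOfLE hf)
        simp only [Category.assoc, ← G.obj.map_comp]
        rw [← F.obj.map_comp_assoc]
        rw [show f ≫ (eqToHom (e W.unop)).op =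
          (eqToHom (e V.unop)).op ≫ ((Opens.map i).map (homOfLE hf)).op from
            Quiver.Hom.unop_inj (Subsingleton.elim _ _)]
        rw [F.obj.map_comp, Category.assoc, reassoc_of% hn, ← G.obj.map_comp]
        congr 3 }
  refine ⟨⟨φ⟩, Sheaf.hom_ext ?_⟩
  ext1
  funext U
  let U' : Opens X := P ((Opens.map i).obj U.unop)
  let k : U.unop ⟶ U' := homOfLE (le_maxExt i U.unop)
  change F.obj.map _ ≫ ψ' U' ≫ G.obj.map _ = ψ' U.unop
  rw [show (eqToHom (e ((Opens.map i).obj U.unop)).symm).op = ((Opens.map i).map k).op from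
    Quiver.Hom.unop_inj (Subsingleton.elim _ _), ← hψ k, ← F.obj.map_comp_assoc]
  rw [show (eqToHom (e ((Opens.map i).obj U.unop))).op ≫ ((Opens.map i).map k).op = 𝟙 _ from
    Quiver.Hom.unop_inj (Subsingleton.elim _ _)]
  exact (congrArg (· ≫ ψ' U.unop) (F.obj.map_id _)).trans (Category.id_comp _)

include hi in
theorem faithful_push : (CohTop.push i).Faithful := by
  refine ⟨fun {F G} f g h => Sheaf.hom_ext ?_⟩
  ext1
  funext V
  obtain ⟨W, hW⟩ : ∃ W, (Opens.map i).obj W = V.unop := ⟨_, map_maxExt i hi V.unop⟩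
  obtain ⟨V⟩ := V
  change _ = V at hW
  subst hW
  exact congrArg (fun k => k.hom.app (op W)) h

end Inducing

section Closed

variable (hi : Topology.IsClosedEmbedding i.hom)

include hi in
theorem preservesEpimorphisms_push : (CohTop.push i).PreservesEpimorphisms := by
  refine ⟨fun {F G} φ hφ => ?_⟩
  have hloc : Sheaf.IsLocallySurjective φ := (Sheaf.isLocallySurjective_iff_epi' _ φ).2 hφ
  refine (Sheaf.isLocallySurjective_iff_epi' _ _).1 ⟨fun {U} s y hy => ?_⟩
  by_cases hr : y ∈ Set.range i.hom
  · obtain ⟨z, rfl⟩ := hr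
    obtain ⟨W, k, ⟨t, ht⟩, hzW⟩ := Presheaf.imageSieve_mem (Opens.grothendieckTopology Z) φ.hom
      (U := op ((Opens.map i).obj U)) s z hy
    let V : Opens X := maxExt i W ⊓ U
    have hVW : (Opens.map i).obj V ≤ W := fun a ha =>
      (map_maxExt i hi.isInducing W).le ha.1
    refine ⟨V, homOfLE inf_le_right, ⟨F.obj.map (homOfLE hVW).op t, ?_⟩,
      ⟨(map_maxExt i hi.isInducing W).ge hzW, hy⟩⟩
    refine (congrArg (fun k => k t) (φ.hom.naturality (homOfLE hVW).op)).trans ?_
    refine (congrArg (G.obj.map (homOfLE hVW).op) ht).trans ?_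
    refine (congrArg (fun m => m s) (G.obj.map_comp k.op (homOfLE hVW).op)).symm.trans ?_
    exact congrArg (fun m => G.obj.map m s) (Quiver.Hom.unop_inj (Subsingleton.elim _ _))
  · let V : Opens X := ⟨(Set.range i.hom)ᶜ, hi.isClosed_range.isOpen_compl⟩ ⊓ U
    haveI := subsingleton_sections_of_le_bot G ((Opens.map i).obj V) fun a ha => ha.1 ⟨a, rfl⟩
    exact ⟨V, homOfLE inf_le_right,
      ⟨0, @Subsingleton.elim (G.obj.obj (op ((Opens.map i).obj V))) this _ _⟩, hr, hy⟩

include hi in
theorem preservesFiniteColimits_push : PreservesFiniteColimits (CohTop.push i) := by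
  haveI := preservesEpimorphisms_push i hi
  haveI : (CohTop.push i).IsRightAdjoint :=
    (TopCat.Sheaf.pullbackPushforwardAdjunction AddCommGrpCat.{u} i).isRightAdjoint
  haveI : PreservesFiniteLimits (CohTop.push i) :=
    (TopCat.Sheaf.pullbackPushforwardAdjunction AddCommGrpCat.{u} i).rightAdjoint_preservesLimits.{0, 0}.preservesFiniteLimits
  exact preservesFiniteColimits_of_preservesEpi _

include hi in
theorem isZero_push_outside (F : CohTop.Ab Z) (x : X) (hx : x ∉ Set.range i.hom) :
    ∀ (U : Opens X), x ∈ U → ∀ (s : ((CohTop.push i).obj F).obj.obj (op U)),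
      ∃ (V : Opens X) (h : V ≤ U), x ∈ V ∧
        ((CohTop.push i).obj F).obj.map (homOfLE h).op s = 0 := by
  intro U hxU s
  let V : Opens X := ⟨(Set.range i.hom)ᶜ, hi.isClosed_range.isOpen_compl⟩ ⊓ U
  haveI := subsingleton_sections_of_le_bot F ((Opens.map i).obj V) fun a ha => ha.1 ⟨a, rfl⟩
  exact ⟨V, inf_le_right, ⟨hx, hxU⟩,
    @Subsingleton.elim (((CohTop.push i).obj F).obj.obj (op V)) this _ _⟩

include hi in
theorem isIso_counit_push :
    IsIso (TopCat.Sheaf.pullbackPushforwardAdjunction AddCommGrpCat.{u} i).counit := by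
  haveI := full_push i hi.isInducing
  haveI := faithful_push i hi.isInducing
  haveI : (TopCat.Sheaf.pushforward AddCommGrpCat.{u} i).Full := full_push i hi.isInducing
  haveI : (TopCat.Sheaf.pushforward AddCommGrpCat.{u} i).Faithful := faithful_push i hi.isInducing
  exact Adjunction.counit_isIso_of_R_fully_faithful _

include hi in
theorem push_essImage_iff (F : CohTop.Ab X) :
    (CohTop.push i).essImage F ↔ ∀ x : X, x ∉ Set.range i.hom → IsZero (CohTop.stalk F x) := by
  let adj := TopCat.Sheaf.pullbackPushforwardAdjunction AddCommGrpCat.{u} i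
  constructor
  · rintro ⟨G, ⟨e⟩⟩ x hx
    exact IsZero.of_iso ((isZero_stalk_iff _ x).2 (isZero_push_outside i hi G x hx))
      ((TopCat.Presheaf.stalkFunctor AddCommGrpCat.{u} x).mapIso ((sheafToPresheaf _ _).mapIso e.symm))
  · intro h
    haveI := isIso_counit_push i hi
    haveI : IsIso (adj.unit.app F) := by
      refine isIso_of_sfib _ fun x => ?_
      by_cases hx : x ∈ Set.range i.hom
      · obtain ⟨z, rfl⟩ := hx
        haveI : IsIso ((CohTop.pull i).map (adj.unit.app F)) := by
          have ht : (CohTop.pull i).map (adj.unit.app F) ≫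
            adj.counit.app ((CohTop.pull i).obj F) = 𝟙 _ := adj.left_triangle_components F
          have hc : IsIso (adj.counit.app ((CohTop.pull i).obj F)) :=
            @NatIso.isIso_app_of_isIso _ _ _ _ _ _ adj.counit (isIso_counit_push i hi) _
          have h2 : IsIso ((CohTop.pull i).map (adj.unit.app F) ≫
              adj.counit.app ((CohTop.pull i).obj F)) := by rw [ht]; exact IsIso.id _
          exact @IsIso.of_isIso_comp_right _ _ _ _ _ _ _ hc h2
        rw [NatIso.isIso_map_iff (sfibPullIso i z) (adj.unit.app F)]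
        exact Functor.map_isIso (sfib z) ((CohTop.pull i).map (adj.unit.app F))
      · have h₁ : IsZero ((sfib x).obj F) :=
          (isZero_sfib_iff F x).2 ((isZero_stalk_iff F x).1 (h x hx))
        exact isIso_of_source_target_iso_zero _ h₁.isoZero
          ((isZero_sfib_iff _ x).2 (isZero_push_outside i hi _ x hx)).isoZero
    exact ⟨_, ⟨(asIso (adj.unit.app F)).symm⟩⟩

include hi in
theorem nonempty_push_pull_iso : Nonempty (CohTop.push i ⋙ CohTop.pull i ≅ 𝟭 (CohTop.Ab Z)) := by
  exact ⟨@asIso _ _ _ _ (TopCat.Sheaf.pullbackPushforwardAdjunction AddCommGrpCat.{u} i).counit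
    (isIso_counit_push i hi)⟩

include hi in
theorem isZero_Rpush_closed (F : CohTop.Ab Z) (q : ℕ) :
    IsZero ((CohTop.Rpush i (q + 1)).obj F) := by
  haveI := preservesFiniteColimits_push i hi
  haveI : PreservesFiniteLimits (CohTop.push i) :=
    (TopCat.Sheaf.pullbackPushforwardAdjunction AddCommGrpCat.{u} i).rightAdjoint_preservesLimits.{0, 0}.preservesFiniteLimits
  exact isZero_rightDerived_succ_of_exact _ F q

end Closed

end Groth.SiteCohomology
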