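import Groth.Agent.SiteCohomology.HigherDirectImage
import Groth.Agent.SiteCohomology.CohomologyPresheaf
import Groth.Agent.SiteCohomology.ClosedPush
import Mathlib.CategoryTheory.Abelian.Injective.Resolution
import Mathlib.CategoryTheory.Abelian.RightDerived

/-!
# Cohomology of an acyclic image

If `G` is left exact, preserves injectives and `R^{>0} G (X) = 0`, then the derived functors of
`G ⋙ H` at `X` are those of `H` at `G X`; applied to direct images of abelian sheaves.
-/

universe w v v' v'' u u' u''

open CategoryTheory Limits Opposite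

set_option maxHeartbeats 1000000
set_option synthInstance.maxHeartbeats 400000

namespace Groth.SiteCohomology

section General

variable {A : Type u} [Category.{v} A] [Abelian A] {B : Type u'} [Category.{v'} B] [Abelian B]
  (G : A ⥤ B) [G.Additive]

/-- The image of an injective resolution of a `G`-acyclic object. -/
noncomputable def mapInjectiveResolution [PreservesFiniteLimits G] {X : A}
    (R : InjectiveResolution X) (hinj : ∀ I : A, Injective I → Injective (G.obj I))
    (hex : ∀ k : ℕ, ((G.mapHomologicalComplex (ComplexShape.up ℕ)).obj R.cocomplex).ExactAt (k + 1)) :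
    InjectiveResolution (G.obj X) where
  cocomplex := (G.mapHomologicalComplex (ComplexShape.up ℕ)).obj R.cocomplex
  injective n := hinj _ (R.injective n)
  ι := (CochainComplex.fromSingle₀Equiv _ _).symm ⟨G.map (R.ι.f 0), by
    change G.map (R.ι.f 0) ≫ G.map (R.cocomplex.d 0 1) = 0
    rw [← G.map_comp, R.ι_f_zero_comp_complex_d]
    exact G.map_zero _ _⟩
  quasiIso := by
    rw [quasiIso_iff]
    intro i
    cases i with
    | zero =>
      rw [CochainComplex.quasiIsoAt₀_iff]
      refine (ShortComplex.quasiIso_iff_of_zeros _ (by simp; rfl) (by simp; rfl) (by simp; rfl)).2 ?_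
      let S : ShortComplex A := ShortComplex.mk _ _ R.ι_f_zero_comp_complex_d
      have hpl : PreservesFiniteLimits G := inferInstance
      have h' : ∀ S : ShortComplex A, S.Exact ∧ Mono S.f → (S.map G).Exact ∧ Mono (G.map S.f) :=
        ((G.preservesFiniteLimits_tfae).out 3 1).1 hpl
      have h := h' S ⟨R.exact₀, inferInstanceAs (Mono (R.ι.f 0))⟩
      haveI := h.2
      refine ⟨ShortComplex.exact_of_iso ?_ h.1, ?_⟩
      · exact ShortComplex.isoMk (Iso.refl _) (Iso.refl _) (Iso.refl _)
          (by simp [S]; exact (Category.id_comp _).trans (Category.comp_id _).symm)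
          (by simp [S]; exact (Category.id_comp _).trans (Category.comp_id _).symm)
      · simp
        exact h.2
    | succ k =>
      rw [quasiIsoAt_iff_exactAt _ (k + 1) (HomologicalComplex.exactAt_single_obj _ _ _ _ (by simp))]
      exact hex k

variable {D : Type u''} [Category.{v''} D] [Abelian D] (H : B ⥤ D) [H.Additive]

/-- Derived functors of a composite at a `G`-acyclic object. -/
theorem nonempty_rightDerived_comp_of_acyclic [HasInjectiveResolutions A] [HasInjectiveResolutions B]
    [PreservesFiniteLimits G] (hinj : ∀ I : A, Injective I → Injective (G.obj I)) (X : A)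
    (hacyc : ∀ k : ℕ, IsZero ((G.rightDerived (k + 1)).obj X)) (n : ℕ) :
    Nonempty ((H.rightDerived n).obj (G.obj X) ≅ ((G ⋙ H).rightDerived n).obj X) := by
  let R : InjectiveResolution X := injectiveResolution X
  have hex : ∀ k : ℕ,
      ((G.mapHomologicalComplex (ComplexShape.up ℕ)).obj R.cocomplex).ExactAt (k + 1) := fun k =>
    (HomologicalComplex.exactAt_iff_isZero_homology _ _).2
      (IsZero.of_iso (hacyc k) (R.isoRightDerivedObj G (k + 1)).symm)
  exact ⟨(mapInjectiveResolution G R hinj hex).isoRightDerivedObj H n ≪≫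
    (R.isoRightDerivedObj (G ⋙ H) n).symm⟩

end General

section Site

variable {C D : Type u} [SmallCategory C] [SmallCategory D]
  (J : GrothendieckTopology C) (K : GrothendieckTopology D) (u : D ⥤ C) [u.IsContinuous K J]

/-- If `u_*` preserves injectives and `R^{>0} u_* F = 0`, then `H^n(V, u_* F) = H^n(u V, F)`. -/
theorem nonempty_cohomologyPresheaf_push_iso
    (hinj : ∀ I : Sheaf J AddCommGrpCat.{u}, Injective I → Injective ((CohSite.push J K u).obj I))
    (F : Sheaf J AddCommGrpCat.{u})
    (hacyc : ∀ k : ℕ, IsZero ((CohSite.Rpush J K u (k + 1)).obj F)) (n : ℕ) :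
    Nonempty (Sheaf.cohomologyPresheaf.{u} ((CohSite.push J K u).obj F) n ≅
      u.op ⋙ Sheaf.cohomologyPresheaf.{u} F n) := by
  haveI : PreservesFiniteLimits (CohSite.push J K u) :=
    (u.sheafAdjunctionContinuous AddCommGrpCat.{u} K J).rightAdjoint_preservesLimits.{0, 0}.preservesFiniteLimits
  obtain ⟨a⟩ := nonempty_rightDerivedSheafToPresheaf_iso ((CohSite.push J K u).obj F) n
  obtain ⟨b⟩ := nonempty_rightDerivedSheafToPresheaf_iso F n
  obtain ⟨c⟩ := nonempty_rightDerived_comp_of_acyclic (CohSite.push J K u)
    (sheafToPresheaf K AddCommGrpCat.{u}) hinj F hacyc n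
  obtain ⟨d⟩ := nonempty_rightDerived_comp_exact (sheafToPresheaf J AddCommGrpCat.{u})
    ((Functor.whiskeringLeft _ _ _).obj u.op) (CohSite.push J K u ⋙ sheafToPresheaf K AddCommGrpCat.{u})
    (Iso.refl _) F n
  exact ⟨a.symm ≪≫ c ≪≫ d ≪≫ ((Functor.whiskeringLeft _ _ _).obj u.op).mapIso b⟩

/-- Same on sections. -/
theorem nonempty_HU_push_equiv
    (hinj : ∀ I : Sheaf J AddCommGrpCat.{u}, Injective I → Injective ((CohSite.push J K u).obj I))
    (F : Sheaf J AddCommGrpCat.{u})
    (hacyc : ∀ k : ℕ, IsZero ((CohSite.Rpush J K u (k + 1)).obj F)) (n : ℕ) (V : D) :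
    Nonempty (CohSite.HU ((CohSite.push J K u).obj F) n V ≃+ CohSite.HU F n (u.obj V)) := by
  obtain ⟨e⟩ := nonempty_cohomologyPresheaf_push_iso J K u hinj F hacyc n
  exact ⟨(e.app (op V)).addCommGroupIsoToAddEquiv⟩

end Site

end Groth.SiteCohomology
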