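import Groth.Agent.SiteCohomology.CohomologyPresheafNat
import Groth.Prelude.Def_CohTop
import Mathlib.CategoryTheory.Sites.LocallyBijective
import Mathlib.Algebra.Category.Grp.Colimits
import Mathlib.Topology.Sheaves.Sheafify

/-!
# Higher direct images and colimits
-/

universe u w

open CategoryTheory Limits Opposite

set_option synthInstance.maxHeartbeats 400000
set_option maxHeartbeats 1000000

namespace Groth.SiteCohomology

variable {C : Type u} [SmallCategory C] {D : Type u} [SmallCategory D]
  {E : Type w} [Category.{u} E] (K : GrothendieckTopology D)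

/-- A functor to presheaves commuting with a colimit locally commutes with it after sheafification. -/
theorem preservesColimit_comp_presheafToSheaf {ι : Type u} [SmallCategory ι] (F : ι ⥤ E)
    [HasColimit F] (L : E ⥤ Dᵒᵖ ⥤ AddCommGrpCat.{u})
    (h : ∀ V : D, ∃ (κ : Type u) (Y : κ → D) (g : ∀ k, Y k ⟶ V), Sieve.ofArrows Y g ∈ K V ∧
      ∀ k, PreservesColimit F (L ⋙ (evaluation _ _).obj (op (Y k)))) :
    PreservesColimit F (L ⋙ presheafToSheaf K AddCommGrpCat.{u}) := by
  let c := colimit.cocone F
  let d := colimit.cocone (F ⋙ L)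
  let δ : d.pt ⟶ L.obj c.pt := colimit.desc (F ⋙ L) (L.mapCocone c)
  have hbij : ∀ (Y : D), PreservesColimit F (L ⋙ (evaluation _ _).obj (op Y)) →
      Function.Bijective (δ.app (op Y)) := by
    intro Y hY
    have hc : IsColimit ((L ⋙ (evaluation _ _).obj (op Y)).mapCocone c) :=
      isColimitOfPreserves _ (colimit.isColimit F)
    have hd : IsColimit (((evaluation Dᵒᵖ AddCommGrpCat.{u}).obj (op Y)).mapCocone d) :=
      isColimitOfPreserves _ (colimit.isColimit (F ⋙ L))
    have e : δ.app (op Y) = (IsColimit.coconePointUniqueUpToIso hd hc).hom := by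
      refine hd.hom_ext fun j => ?_
      rw [IsColimit.comp_coconePointUniqueUpToIso_hom]
      exact congrArg (fun t => t.app (op Y)) (colimit.ι_desc (L.mapCocone c) j)
    rw [e]
    exact ConcreteCategory.bijective_of_isIso _
  have : Presheaf.IsLocallyInjective K δ := ⟨fun {V} x y hxy => by
    obtain ⟨κ, Y, g, hg, hY⟩ := h V.unop
    refine K.superset_covering ?_ hg
    rw [Sieve.generate_le_iff]
    rintro _ _ ⟨k⟩
    refine (hbij _ (hY k)).1 ?_
    exact ((NatTrans.naturality_apply δ (g k).op x).trans (congrArg _ hxy)).trans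
      (NatTrans.naturality_apply δ (g k).op y).symm⟩
  have : Presheaf.IsLocallySurjective K δ := ⟨fun {V} s => by
    obtain ⟨κ, Y, g, hg, hY⟩ := h V
    refine K.superset_covering ?_ hg
    rw [Sieve.generate_le_iff]
    rintro _ _ ⟨k⟩
    exact (hbij _ (hY k)).2 _⟩
  have hiso : IsIso ((presheafToSheaf K AddCommGrpCat.{u}).map δ) :=
    (GrothendieckTopology.W_iff _ _).1 (GrothendieckTopology.W_of_isLocallyBijective (J := K) δ)
  have hd' : IsColimit ((presheafToSheaf K AddCommGrpCat.{u}).mapCocone d) :=
    isColimitOfPreserves _ (colimit.isColimit (F ⋙ L))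
  refine preservesColimit_of_preserves_colimit_cocone (colimit.isColimit F)
    (hd'.ofIsoColimit (Cocone.ext (@asIso _ _ _ _ _ hiso) fun j => ?_))
  exact ((presheafToSheaf K AddCommGrpCat.{u}).map_comp _ _).symm.trans
    (congrArg _ (colimit.ι_desc (L.mapCocone c) j))

variable (J : GrothendieckTopology C) (v : D ⥤ C) [v.IsContinuous K J]

/-- `colim R^p v_* F_i = R^p v_* colim F_i` if it holds locally for cohomology groups. -/
theorem preservesColimit_Rpush {ι : Type u} [SmallCategory ι] (F : ι ⥤ Sheaf J AddCommGrpCat.{u})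
    (p : ℕ)
    (h : ∀ V : D, ∃ (κ : Type u) (Y : κ → D) (g : ∀ k, Y k ⟶ V), Sieve.ofArrows Y g ∈ K V ∧
      ∀ k, PreservesColimit F ((Sheaf.cohomologyPresheafFunctor J p).flip.obj (op (v.obj (Y k))))) :
    PreservesColimit F (CohSite.Rpush J K v p) := by
  have := preservesColimit_comp_presheafToSheaf K F
    (Sheaf.cohomologyPresheafFunctor J p ⋙ (Functor.whiskeringLeft _ _ _).obj v.op) (fun V => by
      obtain ⟨κ, Y, g, hg, hY⟩ := h V
      refine ⟨κ, Y, g, hg, fun k => ?_⟩
      have := hY k
      exact preservesColimit_of_natIso F (F := (Sheaf.cohomologyPresheafFunctor J p).flip.obj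
        (op (v.obj (Y k)))) (NatIso.ofComponents (fun _ => Iso.refl _)))
  exact preservesColimit_of_natIso F ((Functor.associator _ _ _) ≪≫ (rpushNatIso K v p).symm)

end Groth.SiteCohomology
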