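import Mathlib.Algebra.Homology.DerivedCategory.Ext.ExactSequences
import Mathlib.Algebra.Homology.ShortComplex.Ab
import Mathlib.Algebra.Homology.ShortComplex.Exact
import Mathlib.Algebra.Homology.ShortComplex.ShortExact
import Mathlib.Algebra.Homology.ShortComplex.HomologicalComplex
import Mathlib.Algebra.Homology.HomologicalComplex
import Mathlib.CategoryTheory.Preadditive.Yoneda.Basic

/-!
# Computing `Ext` with acyclic resolutions

* `AcyclicRes.exists_cocyclesToExt`: covariant version (resolution of the second argument by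
  objects acyclic for `Ext X -`).
* `AcyclicRes.exists_cocyclesToExt'`: contravariant version (resolution of the first argument by
  objects acyclic for `Ext - Y`).
* `AcyclicRes.homologyEquiv`: computing homology of a complex of abelian groups from a map on
  cocycles.
-/

universe w w' v u

set_option linter.unusedSectionVars false

open CategoryTheory Limits

namespace Groth.SiteCohomology.AcyclicRes

open Abelian

section Homology

variable (K : CochainComplex AddCommGrpCat.{v} ℕ)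

/-- `AddSubgroup` of coboundaries in degree `n`. -/
def coboundaries : ∀ n : ℕ, AddSubgroup (K.X n)
  | 0 => ⊥
  | n + 1 => AddMonoidHom.range (K.d n (n + 1)).hom

/-- The homology of a short complex of abelian groups from a surjection on cocycles. -/
noncomputable def shortComplexHomologyEquiv (S : ShortComplex AddCommGrpCat.{v}) {A : Type w}
    [AddCommGroup A] (ψ : AddMonoidHom.ker S.g.hom →+ A) (hs : Function.Surjective ψ)
    (hk : ∀ z, ψ z = 0 ↔ z.1 ∈ AddMonoidHom.range S.f.hom) : S.homology ≃+ A :=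
  S.abHomologyIso.addCommGroupIsoToAddEquiv.trans
    ((QuotientAddGroup.quotientAddEquivOfEq (by
      ext z
      rw [AddMonoidHom.mem_ker, hk]
      exact ⟨fun ⟨x, hx⟩ => ⟨x, congrArg Subtype.val hx⟩, fun ⟨x, hx⟩ => ⟨x, Subtype.ext hx⟩⟩ :
        AddMonoidHom.range S.abToCycles = AddMonoidHom.ker ψ)).trans
      (QuotientAddGroup.quotientKerEquivOfSurjective ψ hs))

lemma mem_range_d_prev_iff (n : ℕ) (x : K.X n) :
    x ∈ AddMonoidHom.range (K.d ((ComplexShape.up ℕ).prev n) n).hom ↔ x ∈ coboundaries K n := by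
  cases n with
  | zero =>
    rw [coboundaries, AddSubgroup.mem_bot]
    constructor
    · rintro ⟨y, rfl⟩
      rw [K.shape _ _ (by simp)]
      rfl
    · intro hz
      exact ⟨0, by rw [map_zero, hz]⟩
  | succ m => rw [CochainComplex.prev_nat_succ]; rfl

/-- The homology of a complex of abelian groups from a surjection on cocycles. -/
noncomputable def homologyEquiv (n : ℕ) {A : Type w} [AddCommGroup A]
    (ψ : AddMonoidHom.ker (K.d n (n + 1)).hom →+ A) (hs : Function.Surjective ψ)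
    (hk : ∀ z, ψ z = 0 ↔ z.1 ∈ coboundaries K n) : K.homology n ≃+ A :=
  (K.homologyIsoSc' _ n (n + 1) rfl (CochainComplex.next ℕ n)).addCommGroupIsoToAddEquiv.trans
    (shortComplexHomologyEquiv (K.sc' ((ComplexShape.up ℕ).prev n) n (n + 1)) ψ hs
      fun z => (hk z).trans (mem_range_d_prev_iff K n z.1).symm)

end Homology

variable {C : Type u} [Category.{v} C] [Abelian C] [HasExt.{w} C]

section Covariant

variable (X : C) (A : ℕ → C) (d : ∀ n, A n ⟶ A (n + 1))

/-- Cocycles of `Hom(X, A)`. -/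
def cocyc (p : ℕ) : AddSubgroup (X ⟶ A p) :=
  AddMonoidHom.ker (Preadditive.rightComp X (d p))

/-- Coboundaries of `Hom(X, A)`. -/
def cobound : ∀ p : ℕ, AddSubgroup (X ⟶ A p)
  | 0 => ⊥
  | p + 1 => AddMonoidHom.range (Preadditive.rightComp X (d p))

lemma mem_cocyc {p : ℕ} {f : X ⟶ A p} : f ∈ cocyc X A d p ↔ f ≫ d p = 0 := Iff.rfl

lemma mem_cobound_succ {p : ℕ} {f : X ⟶ A (p + 1)} :
    f ∈ cobound X A d (p + 1) ↔ ∃ g, g ≫ d p = f := Iff.rfl

variable {Y : C} (ι : Y ⟶ A 0)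

/-- `Y → A 0 → A 1 → ...` is exact, with `Y → A 0` mono. -/
structure IsResolution : Prop where
  mono : Mono ι
  zero₀ : ι ≫ d 0 = 0
  exact₀ : (ShortComplex.mk ι (d 0) zero₀).Exact
  zero : ∀ n, d n ≫ d (n + 1) = 0
  exact : ∀ n, (ShortComplex.mk (d n) (d (n + 1)) (zero n)).Exact

/-- The short exact sequence `0 → Y → A 0 → Q → 0`. -/
lemma shortExact_cokernel [Mono ι] :
    (ShortComplex.mk ι (cokernel.π ι) (cokernel.condition ι)).ShortExact :=
  ShortComplex.ShortExact.mk'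
    (ShortComplex.exact_of_g_is_cokernel _ (cokernelIsCokernel ι)) inferInstance inferInstance

lemma IsResolution.desc_spec (h : IsResolution A d ι) :
    Mono (cokernel.desc ι (d 0) h.zero₀) :=
  (ShortComplex.mk ι (d 0) h.zero₀).exact_iff_mono_cokernel_desc.1 h.exact₀

lemma IsResolution.tail (h : IsResolution A d ι) :
    IsResolution (fun n => A (n + 1)) (fun n => d (n + 1))
      (cokernel.desc ι (d 0) h.zero₀) where
  mono := h.desc_spec
  zero₀ := by rw [← cancel_epi (cokernel.π ι), cokernel.π_desc_assoc, h.zero, comp_zero]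
  exact₀ := by
    let φ : ShortComplex.mk (d 0) (d 1) (h.zero 0) ⟶
        ShortComplex.mk (cokernel.desc ι (d 0) h.zero₀) (d 1)
          (by rw [← cancel_epi (cokernel.π ι), cokernel.π_desc_assoc, h.zero, comp_zero]) :=
      { τ₁ := cokernel.π ι, τ₂ := 𝟙 _, τ₃ := 𝟙 _ }
    have : Epi φ.τ₁ := inferInstanceAs (Epi (cokernel.π ι))
    exact (ShortComplex.exact_iff_of_epi_of_isIso_of_mono φ).1 (h.exact 0)
  zero n := h.zero (n + 1)
  exact n := h.exact (n + 1)

lemma exists_cocyclesToExt_zero (h : IsResolution A d ι) :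
    ∃ ψ : cocyc X A d 0 →+ Ext X Y 0,
      Function.Surjective ψ ∧ (∀ z, ψ z = 0 ↔ z.1 = 0) ∧
        ∀ z, (ψ z).comp (Ext.mk₀ ι) (add_zero 0) = Ext.mk₀ z.1 := by
  have := h.mono
  have := h.exact₀.mono_g
  let S := ShortComplex.mk ι (d 0) h.zero₀
  have : Mono S.f := inferInstanceAs (Mono ι)
  have hl : ∀ z : cocyc X A d 0, h.exact₀.lift z.1 z.2 ≫ ι = z.1 :=
    fun z => h.exact₀.lift_f _ _
  let l : cocyc X A d 0 →+ (X ⟶ Y) := AddMonoidHom.mk' (fun z => h.exact₀.lift z.1 z.2) (by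
    intro a b
    refine (cancel_mono ι).1 ((hl (a + b)).trans ?_)
    exact ((Preadditive.add_comp _ _ _ _ _ _).trans (congrArg₂ (· + ·) (hl a) (hl b))).symm)
  refine ⟨(Ext.addEquiv₀.symm.toAddMonoidHom).comp l, ?_, ?_, ?_⟩
  · intro e
    obtain ⟨f, rfl⟩ := (Ext.mk₀_bijective X Y).2 e
    refine ⟨⟨f ≫ ι, by rw [mem_cocyc, Category.assoc, h.zero₀, comp_zero]⟩, ?_⟩
    exact congrArg Ext.mk₀ ((cancel_mono ι).1 (hl _))
  · intro z
    refine Iff.trans (Ext.mk₀_eq_zero_iff _) ?_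
    constructor
    · intro hz
      exact (hl z).symm.trans ((congrArg (· ≫ ι) hz).trans zero_comp)
    · intro hz
      exact (cancel_mono ι).1 ((hl z).trans (hz.trans zero_comp.symm))
  · intro z
    exact (Ext.mk₀_comp_mk₀ _ _).trans (congrArg Ext.mk₀ (hl z))

/-- Degree one, with no acyclicity assumption: cocycles modulo coboundaries is the kernel of
`Ext X Y 1 → Ext X (A 0) 1`. -/
lemma exists_cocyclesToExt_one (h : IsResolution A d ι) :
    ∃ ψ : cocyc X A d 1 →+ Ext X Y 1,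
      (∀ e : Ext X Y 1, e.comp (Ext.mk₀ ι) (add_zero 1) = 0 → ∃ z, ψ z = e) ∧
      (∀ z, ψ z = 0 ↔ z.1 ∈ cobound X A d 1) := by
  have := h.mono
  obtain ⟨l, hls, hl0, hlι⟩ := exists_cocyclesToExt_zero X _ _ _ h.tail
  let hS := shortExact_cokernel A ι
  refine ⟨(hS.extClass.postcomp X (zero_add 1)).comp l, ?_, ?_⟩
  · intro e he
    obtain ⟨x, rfl⟩ := Ext.covariant_sequence_exact₁ X hS e he (zero_add 1)
    obtain ⟨z, rfl⟩ := hls x
    exact ⟨z, rfl⟩
  · intro z
    rw [mem_cobound_succ]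
    change (l z).comp hS.extClass (zero_add 1) = 0 ↔ _
    constructor
    · intro hz
      obtain ⟨x, hx⟩ := Ext.covariant_sequence_exact₃ X hS (l z) (zero_add 1) hz
      obtain ⟨g, rfl⟩ := (Ext.mk₀_bijective _ _).2 x
      refine ⟨g, (Ext.mk₀_bijective _ _).1 ?_⟩
      rw [← hlι z, ← hx, Ext.mk₀_comp_mk₀, Ext.mk₀_comp_mk₀, Category.assoc, cokernel.π_desc]
    · rintro ⟨g, hg⟩
      have e : l z = Ext.mk₀ (g ≫ cokernel.π ι) := by
        obtain ⟨k, hk⟩ := (Ext.mk₀_bijective _ _).2 (l z)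
        have := h.tail.mono
        rw [← hk]
        congr 1
        rw [← cancel_mono (cokernel.desc ι (d 0) h.zero₀), Category.assoc, cokernel.π_desc, hg]
        apply (Ext.mk₀_bijective _ _).1
        rw [← hlι z, ← hk, Ext.mk₀_comp_mk₀]
      rw [e, ← Ext.mk₀_comp_mk₀, Ext.comp_assoc_of_second_deg_zero, hS.comp_extClass,
        Ext.comp_zero]

/-- Cocycles of `Hom(X, A)` modulo coboundaries compute `Ext X Y p` when the `A n` are acyclic. -/
theorem exists_cocyclesToExt : ∀ (p : ℕ) {Y : C} (A : ℕ → C) (d : ∀ n, A n ⟶ A (n + 1))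
    (ι : Y ⟶ A 0), IsResolution A d ι →
    (∀ n q : ℕ, n + q + 1 ≤ p → Subsingleton (Ext X (A n) (q + 1))) →
    ∃ ψ : cocyc X A d p →+ Ext X Y p,
      Function.Surjective ψ ∧ ∀ z, ψ z = 0 ↔ z.1 ∈ cobound X A d p
  | 0, _, A, d, ι, h, _ => by
      obtain ⟨ψ, h1, h2, -⟩ := exists_cocyclesToExt_zero X A d ι h
      exact ⟨ψ, h1, fun z => (h2 z).trans AddSubgroup.mem_bot.symm⟩
  | 1, _, A, d, ι, h, hA => by
      have := hA 0 0 (by omega)
      obtain ⟨ψ, h1, h2⟩ := exists_cocyclesToExt_one X A d ι h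
      exact ⟨ψ, fun e => h1 e (Subsingleton.elim (α := Ext X (A 0) 1) _ _), h2⟩
  | p + 2, _, A, d, ι, h, hA => by
      have := h.mono
      obtain ⟨ψ, h1, h2⟩ := exists_cocyclesToExt (p + 1) _ _ _ h.tail
        (fun n q hnq => hA (n + 1) q (by omega))
      let hS := shortExact_cokernel A ι
      refine ⟨(hS.extClass.postcomp X rfl).comp ψ, ?_, ?_⟩
      · intro e
        have := hA 0 (p + 1) (by omega)
        obtain ⟨x, rfl⟩ := Ext.covariant_sequence_exact₁ X hS e
          (Subsingleton.elim (α := Ext X (A 0) (p + 2)) _ _) (n₀ := p + 1) rfl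
        obtain ⟨z, rfl⟩ := h1 x
        exact ⟨z, rfl⟩
      · intro z
        refine Iff.trans ?_ (h2 z)
        change (ψ z).comp hS.extClass (rfl : p + 1 + 1 = p + 2) = 0 ↔ _
        constructor
        · intro hz
          obtain ⟨x, hx⟩ := Ext.covariant_sequence_exact₃ X hS (ψ z) rfl hz
          have := hA 0 p (by omega)
          rw [← hx, Subsingleton.elim (α := Ext X (A 0) (p + 1)) x 0, Ext.zero_comp]
        · intro hz
          rw [hz, Ext.zero_comp]

/-- A complex resolving `Y` by objects acyclic for `Ext X -` computes `Ext X Y p`. -/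
theorem nonempty_homology_equiv_ext (K : CochainComplex C ℕ) {Y : C} (ι : Y ⟶ K.X 0)
    (h : IsResolution K.X (fun n => K.d n (n + 1)) ι) (p : ℕ)
    (hA : ∀ n q : ℕ, n + q + 1 ≤ p → Subsingleton (Ext X (K.X n) (q + 1))) :
    Nonempty ((((preadditiveCoyoneda.obj (Opposite.op X)).mapHomologicalComplex
      (ComplexShape.up ℕ)).obj K).homology p ≃+ Ext X Y p) := by
  obtain ⟨ψ, h1, h2⟩ := exists_cocyclesToExt X p _ _ ι h hA
  refine ⟨homologyEquiv _ p ψ h1 fun z => (h2 z).trans ?_⟩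
  cases p <;> rfl

end Covariant

section Contravariant

variable (Y : C) (A : ℕ → C) (d : ∀ n, A (n + 1) ⟶ A n)

/-- Cocycles of `Hom(A, Y)`. -/
def cocyc' (p : ℕ) : AddSubgroup (A p ⟶ Y) :=
  AddMonoidHom.ker (Preadditive.leftComp Y (d p))

/-- Coboundaries of `Hom(A, Y)`. -/
def cobound' : ∀ p : ℕ, AddSubgroup (A p ⟶ Y)
  | 0 => ⊥
  | p + 1 => AddMonoidHom.range (Preadditive.leftComp Y (d p))

lemma mem_cocyc' {p : ℕ} {f : A p ⟶ Y} : f ∈ cocyc' Y A d p ↔ d p ≫ f = 0 := Iff.rfl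

lemma mem_cobound'_succ {p : ℕ} {f : A (p + 1) ⟶ Y} :
    f ∈ cobound' Y A d (p + 1) ↔ ∃ g, d p ≫ g = f := Iff.rfl

variable {X : C} (ε : A 0 ⟶ X)

/-- `... → A 1 → A 0 → X` is exact, with `A 0 → X` epi. -/
structure IsResolution' : Prop where
  epi : Epi ε
  zero₀ : d 0 ≫ ε = 0
  exact₀ : (ShortComplex.mk (d 0) ε zero₀).Exact
  zero : ∀ n, d (n + 1) ≫ d n = 0
  exact : ∀ n, (ShortComplex.mk (d (n + 1)) (d n) (zero n)).Exact

/-- The short exact sequence `0 → K → A 0 → X → 0`. -/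
lemma shortExact_kernel [Epi ε] :
    (ShortComplex.mk (kernel.ι ε) ε (kernel.condition ε)).ShortExact :=
  ShortComplex.ShortExact.mk'
    (ShortComplex.exact_of_f_is_kernel _ (kernelIsKernel ε)) inferInstance inferInstance

lemma IsResolution'.lift_spec (h : IsResolution' A d ε) :
    Epi (kernel.lift ε (d 0) h.zero₀) :=
  (ShortComplex.mk (d 0) ε h.zero₀).exact_iff_epi_kernel_lift.1 h.exact₀

lemma IsResolution'.tail (h : IsResolution' A d ε) :
    IsResolution' (fun n => A (n + 1)) (fun n => d (n + 1))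
      (kernel.lift ε (d 0) h.zero₀) where
  epi := h.lift_spec
  zero₀ := by rw [← cancel_mono (kernel.ι ε), Category.assoc, kernel.lift_ι, h.zero, zero_comp]
  exact₀ := by
    let φ : ShortComplex.mk (d 1) (kernel.lift ε (d 0) h.zero₀)
          (by rw [← cancel_mono (kernel.ι ε), Category.assoc, kernel.lift_ι, h.zero, zero_comp]) ⟶
        ShortComplex.mk (d 1) (d 0) (h.zero 0) :=
      { τ₁ := 𝟙 _, τ₂ := 𝟙 _, τ₃ := kernel.ι ε }
    have : Mono φ.τ₃ := inferInstanceAs (Mono (kernel.ι ε))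
    exact (ShortComplex.exact_iff_of_epi_of_isIso_of_mono φ).2 (h.exact 0)
  zero n := h.zero (n + 1)
  exact n := h.exact (n + 1)

lemma exists_cocyclesToExt'_zero (h : IsResolution' A d ε) :
    ∃ ψ : cocyc' Y A d 0 →+ Ext X Y 0,
      Function.Surjective ψ ∧ (∀ z, ψ z = 0 ↔ z.1 = 0) ∧
        ∀ z, (Ext.mk₀ ε).comp (ψ z) (zero_add 0) = Ext.mk₀ z.1 := by
  have := h.epi
  let S := ShortComplex.mk (d 0) ε h.zero₀
  have : Epi S.g := inferInstanceAs (Epi ε)
  have hl : ∀ z : cocyc' Y A d 0, ε ≫ h.exact₀.desc z.1 z.2 = z.1 :=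
    fun z => h.exact₀.g_desc _ _
  let l : cocyc' Y A d 0 →+ (X ⟶ Y) := AddMonoidHom.mk' (fun z => h.exact₀.desc z.1 z.2) (by
    intro a b
    refine (cancel_epi ε).1 ((hl (a + b)).trans ?_)
    exact ((Preadditive.comp_add _ _ _ _ _ _).trans (congrArg₂ (· + ·) (hl a) (hl b))).symm)
  refine ⟨(Ext.addEquiv₀.symm.toAddMonoidHom).comp l, ?_, ?_, ?_⟩
  · intro e
    obtain ⟨f, rfl⟩ := (Ext.mk₀_bijective X Y).2 e
    refine ⟨⟨ε ≫ f, by rw [mem_cocyc', ← Category.assoc, h.zero₀, zero_comp]⟩, ?_⟩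
    exact congrArg Ext.mk₀ ((cancel_epi ε).1 (hl _))
  · intro z
    refine Iff.trans (Ext.mk₀_eq_zero_iff _) ?_
    constructor
    · intro hz
      exact (hl z).symm.trans ((congrArg (ε ≫ ·) hz).trans comp_zero)
    · intro hz
      exact (cancel_epi ε).1 ((hl z).trans (hz.trans comp_zero.symm))
  · intro z
    exact (Ext.mk₀_comp_mk₀ _ _).trans (congrArg Ext.mk₀ (hl z))

/-- Degree one, with no acyclicity assumption: cocycles modulo coboundaries is the kernel of
`Ext X Y 1 → Ext (A 0) Y 1`. -/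
lemma exists_cocyclesToExt'_one (h : IsResolution' A d ε) :
    ∃ ψ : cocyc' Y A d 1 →+ Ext X Y 1,
      (∀ e : Ext X Y 1, (Ext.mk₀ ε).comp e (zero_add 1) = 0 → ∃ z, ψ z = e) ∧
      (∀ z, ψ z = 0 ↔ z.1 ∈ cobound' Y A d 1) := by
  have := h.epi
  obtain ⟨l, hls, hl0, hlι⟩ := exists_cocyclesToExt'_zero Y _ _ _ h.tail
  let hS := shortExact_kernel A ε
  refine ⟨(hS.extClass.precomp Y (add_zero 1)).comp l, ?_, ?_⟩
  · intro e he
    obtain ⟨x, rfl⟩ := Ext.contravariant_sequence_exact₃ hS Y e he (add_zero 1)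
    obtain ⟨z, rfl⟩ := hls x
    exact ⟨z, rfl⟩
  · intro z
    rw [mem_cobound'_succ]
    change hS.extClass.comp (l z) (add_zero 1) = 0 ↔ _
    constructor
    · intro hz
      obtain ⟨x, hx⟩ := Ext.contravariant_sequence_exact₁ hS Y (l z) (add_zero 1) hz
      obtain ⟨g, rfl⟩ := (Ext.mk₀_bijective _ _).2 x
      refine ⟨g, (Ext.mk₀_bijective _ _).1 ?_⟩
      rw [← hlι z, ← hx, Ext.mk₀_comp_mk₀, Ext.mk₀_comp_mk₀, kernel.lift_ι_assoc]
    · rintro ⟨g, hg⟩
      have e : l z = Ext.mk₀ (kernel.ι ε ≫ g) := by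
        obtain ⟨k, hk⟩ := (Ext.mk₀_bijective _ _).2 (l z)
        have := h.tail.epi
        rw [← hk]
        congr 1
        rw [← cancel_epi (kernel.lift ε (d 0) h.zero₀), kernel.lift_ι_assoc, hg]
        apply (Ext.mk₀_bijective _ _).1
        rw [← hlι z, ← hk, Ext.mk₀_comp_mk₀]
      rw [e, ← Ext.mk₀_comp_mk₀]
      exact hS.extClass_comp_assoc _ (h := add_zero 1)

/-- Cocycles of `Hom(A, Y)` modulo coboundaries compute `Ext X Y p` when the `A n` are acyclic. -/
theorem exists_cocyclesToExt' : ∀ (p : ℕ) {X : C} (A : ℕ → C) (d : ∀ n, A (n + 1) ⟶ A n)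
    (ε : A 0 ⟶ X), IsResolution' A d ε →
    (∀ n q : ℕ, n + q + 1 ≤ p → Subsingleton (Ext (A n) Y (q + 1))) →
    ∃ ψ : cocyc' Y A d p →+ Ext X Y p,
      Function.Surjective ψ ∧ ∀ z, ψ z = 0 ↔ z.1 ∈ cobound' Y A d p
  | 0, _, A, d, ε, h, _ => by
      obtain ⟨ψ, h1, h2, -⟩ := exists_cocyclesToExt'_zero Y A d ε h
      exact ⟨ψ, h1, fun z => (h2 z).trans AddSubgroup.mem_bot.symm⟩
  | 1, _, A, d, ε, h, hA => by
      have := hA 0 0 (by omega)
      obtain ⟨ψ, h1, h2⟩ := exists_cocyclesToExt'_one Y A d ε h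
      exact ⟨ψ, fun e => h1 e (Subsingleton.elim (α := Ext (A 0) Y 1) _ _), h2⟩
  | p + 2, _, A, d, ε, h, hA => by
      have := h.epi
      obtain ⟨ψ, h1, h2⟩ := exists_cocyclesToExt' (p + 1) _ _ _ h.tail
        (fun n q hnq => hA (n + 1) q (by omega))
      let hS := shortExact_kernel A ε
      refine ⟨(hS.extClass.precomp Y (by omega)).comp ψ, ?_, ?_⟩
      · intro e
        have := hA 0 (p + 1) (by omega)
        obtain ⟨x, rfl⟩ := Ext.contravariant_sequence_exact₃ hS Y e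
          (Subsingleton.elim (α := Ext (A 0) Y (p + 2)) _ _) (n₀ := p + 1) (by omega)
        obtain ⟨z, rfl⟩ := h1 x
        exact ⟨z, rfl⟩
      · intro z
        refine Iff.trans ?_ (h2 z)
        change hS.extClass.comp (ψ z) (show 1 + (p + 1) = p + 2 by omega) = 0 ↔ _
        constructor
        · intro hz
          obtain ⟨x, hx⟩ := Ext.contravariant_sequence_exact₁ hS Y (ψ z) (by omega) hz
          have := hA 0 p (by omega)
          rw [← hx, Subsingleton.elim (α := Ext (A 0) Y (p + 1)) x 0, Ext.comp_zero]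
        · intro hz
          rw [hz, Ext.comp_zero]

/-- A chain complex resolving `X` by objects acyclic for `Ext - Y` computes `Ext X Y p`. -/
theorem nonempty_homology_equiv_ext' (K : ChainComplex C ℕ) {X : C} (ε : K.X 0 ⟶ X)
    (h : IsResolution' K.X (fun n => K.d (n + 1) n) ε)
    (L : CochainComplex AddCommGrpCat.{v} ℕ) (e : ∀ n, L.X n ≃+ (K.X n ⟶ Y))
    (he : ∀ n (x : L.X n), e (n + 1) (L.d n (n + 1) x) = K.d (n + 1) n ≫ e n x) (p : ℕ)
    (hA : ∀ n q : ℕ, n + q + 1 ≤ p → Subsingleton (Ext (K.X n) Y (q + 1))) :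
    Nonempty (L.homology p ≃+ Ext X Y p) := by
  obtain ⟨ψ, h1, h2⟩ := exists_cocyclesToExt' Y p _ _ ε h hA
  let φ : AddMonoidHom.ker (L.d p (p + 1)).hom →+ cocyc' Y K.X (fun n => K.d (n + 1) n) p :=
    AddMonoidHom.mk' (fun z => ⟨e p z.1, by
      rw [mem_cocyc', ← he, show (L.d p (p + 1)) z.1 = 0 from z.2, map_zero]⟩)
      (fun a b => Subtype.ext (map_add _ _ _))
  refine ⟨homologyEquiv L p (ψ.comp φ) (h1.comp ?_) fun z => (h2 _).trans ?_⟩
  · rintro ⟨f, hf⟩
    refine ⟨⟨(e p).symm f, ?_⟩, Subtype.ext ((e p).apply_symm_apply f)⟩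
    apply (e (p + 1)).injective
    rw [map_zero]
    refine (he p _).trans ?_
    rw [AddEquiv.apply_symm_apply]
    exact hf
  · cases p with
    | zero =>
      simp only [coboundaries, cobound', AddSubgroup.mem_bot]
      exact (e 0).map_eq_zero_iff
    | succ m =>
      constructor
      · rintro ⟨g, hg⟩
        refine ⟨(e m).symm g, (e (m + 1)).injective ?_⟩
        refine (he m _).trans ?_
        rw [AddEquiv.apply_symm_apply]
        exact hg
      · rintro ⟨x, hx⟩
        exact ⟨e m x, (he m x).symm.trans (congrArg (e (m + 1)) hx)⟩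

end Contravariant

end Groth.SiteCohomology.AcyclicRes
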