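import Groth.Agent.SiteCohomology.ModulesGrothendieck
import Mathlib.Algebra.Category.ModuleCat.Presheaf.Free
import Mathlib.Algebra.Category.ModuleCat.Presheaf.EpiMono
import Mathlib.Algebra.Category.ModuleCat.Presheaf.Sheafification
import Mathlib.CategoryTheory.Preadditive.Injective.Basic

universe u

open CategoryTheory Limits Opposite

set_option synthInstance.maxHeartbeats 400000
set_option maxHeartbeats 400000

namespace Groth.SiteCohomology

variable {C : Type u} [SmallCategory C]

lemma mono_free_map (R : Cᵒᵖ ⥤ RingCat.{u}) {P Q : Cᵒᵖ ⥤ Type u} (f : P ⟶ Q) [Mono f] :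
    Mono ((PresheafOfModules.free R).map f) :=
  PresheafOfModules.mono_of_injective fun {X} =>
    Finsupp.mapDomain_injective ((mono_iff_injective (f.app X)).1 inferInstance)

variable {J : GrothendieckTopology C}

/-- The forgetful functor to presheaves of modules preserves injectives. -/
lemma injective_forget_modules (R : Sheaf J RingCat.{u}) (I : SheafOfModules.{u} R) [Injective I] :
    Injective ((SheafOfModules.forget R ⋙ PresheafOfModules.restrictScalars (𝟙 R.obj)).obj I) :=
  Injective.injective_of_adjoint (PresheafOfModules.sheafificationAdjunction.{u} (𝟙 R.obj)) I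

/-- Restriction maps of an injective presheaf of modules along monomorphisms are surjective. -/
theorem surjective_map_of_injective_presheafOfModules {R : Cᵒᵖ ⥤ RingCat.{u}}
    (P : PresheafOfModules.{u} R) [Injective P] {U V : C} (a : V ⟶ U) [Mono a] :
    Function.Surjective (P.map a.op) := by
  intro s'
  let s : P.obj (op V) := s'
  haveI := mono_free_map R (yoneda.map a)
  let φ : (PresheafOfModules.free R).obj (yoneda.obj V) ⟶ P :=
    PresheafOfModules.freeYonedaEquiv.symm s
  let ψ := Injective.factorThru φ ((PresheafOfModules.free R).map (yoneda.map a))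
  have h : (PresheafOfModules.free R).map (yoneda.map a) ≫ ψ = φ := Injective.comp_factorThru _ _
  have h1 : ∀ (W : C) (z : (PresheafOfModules.free R).obj (yoneda.obj W) ⟶ P),
      PresheafOfModules.freeYonedaEquiv z =
        yonedaEquiv ((PresheafOfModules.freeAdjunction R).homEquiv _ P z) := fun W z => by
    rw [PresheafOfModules.freeAdjunction_homEquiv]; rfl
  have hPmap : ∀ x, (P.presheaf.map a.op) x = P.map a.op x := fun x => rfl
  refine ⟨PresheafOfModules.freeYonedaEquiv ψ, ?_⟩
  have h3 := yonedaEquiv_naturality ((PresheafOfModules.freeAdjunction R).homEquiv _ P ψ) a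
  rw [← Adjunction.homEquiv_naturality_left, h, ← h1, ← h1] at h3
  refine (hPmap _).symm.trans ?_
  refine Eq.trans ?_ (PresheafOfModules.freeYonedaEquiv.apply_symm_apply s)
  refine Eq.trans ?_ h3
  rfl

/-- Restriction of sections of an injective sheaf of modules along a monomorphism is surjective. -/
theorem surjective_map_of_injective_module (R : Sheaf J RingCat.{u}) (I : SheafOfModules.{u} R)
    [Injective I] {U V : C} (a : V ⟶ U) [Mono a] : Function.Surjective (I.val.map a.op) :=
  haveI := injective_forget_modules R I
  surjective_map_of_injective_presheafOfModules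
    ((SheafOfModules.forget R ⋙ PresheafOfModules.restrictScalars (𝟙 R.obj)).obj I) a

end Groth.SiteCohomology
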