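import Groth.Agent.CohTopBC.Germs
import Groth.Agent.SiteCohomology.Free
import Mathlib.Topology.Sheaves.SheafOfFunctions

/-!
# Subsheaves cut out by subgroups of the stalks

`subSh G A` is the subsheaf of sections whose germs lie in the subgroups `A x`. Also: the stalks of
the free abelian sheaf on an open.
-/

set_option autoImplicit false
universe u

open CategoryTheory CategoryTheory.Limits Opposite TopologicalSpace
open Groth.Agent.CohDescent (gm gm_res gm_eq gm_map gm_surjective sect_ext exists_glue_germs)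

set_option synthInstance.maxHeartbeats 400000
set_option maxHeartbeats 1000000

noncomputable section

namespace Groth.SiteCohomology.SubSheafGerms

variable {X : TopCat.{u}}

theorem mono_of_injective {F G : CohTop.Ab X} (φ : F ⟶ G) (h : ∀ x, Function.Injective ((sfib x).map φ)) :
    Mono φ := by
  haveI : ∀ U, Mono (φ.hom.app U) := fun U =>
    (AddCommGrpCat.mono_iff_injective _).2 fun s t e => sect_ext s t fun y hy => h y (by
      rw [gm_map, gm_map]
      exact congrArg _ e)
  haveI : Mono ((sheafToPresheaf _ _).map φ) := NatTrans.mono_of_mono_app φ.hom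
  exact (sheafToPresheaf _ _).mono_of_mono_map ‹_›

theorem injective_of_mono {F G : CohTop.Ab X} (φ : F ⟶ G) [Mono φ] (x : X) :
    Function.Injective ((sfib x).map φ) :=
  (AddCommGrpCat.mono_iff_injective ((sfib x).map φ)).1 inferInstance

theorem epi_of_surjective {F G : CohTop.Ab X} (φ : F ⟶ G) (h : ∀ x, Function.Surjective ((sfib x).map φ)) :
    Epi φ := by
  rw [← Sheaf.isLocallySurjective_iff_epi' AddCommGrpCat.{u}]
  constructor
  intro U t
  rw [Opens.mem_grothendieckTopology]
  intro x hx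
  obtain ⟨a, ha⟩ := h x (gm G x U hx t)
  obtain ⟨V, hxV, s, rfl⟩ := gm_surjective F x a
  rw [gm_map, ← gm_res G x (inf_le_left : V ⊓ U ≤ V) ⟨hxV, hx⟩,
    ← gm_res G x (inf_le_right : V ⊓ U ≤ U) ⟨hxV, hx⟩ t] at ha
  obtain ⟨N, hN, hxN, e⟩ := gm_eq G x _ _ _ ha
  refine ⟨N, homOfLE (hN.trans inf_le_right), ⟨F.obj.map (homOfLE (hN.trans inf_le_left)).op s, ?_⟩, hxN⟩
  refine sect_ext _ _ fun z hz => ?_
  have e' := congrArg (gm G z N hz) e
  rw [gm_res, gm_res, gm_res, gm_res] at e'
  rw [← gm_map, gm_res, gm_map, gm_res]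
  exact e'

theorem isZero_of_stalks {F : CohTop.Ab X} (h : ∀ (x : X) (a : (sfib x).obj F), a = 0) : IsZero F := by
  rw [IsZero.iff_id_eq_zero]
  refine Sheaf.hom_ext (NatTrans.ext (funext fun U => ConcreteCategory.hom_ext _ _ fun s => ?_))
  exact sect_ext _ _ fun z hz => (h z _).trans (h z _).symm

variable (G : CohTop.Ab X) (A : ∀ x : X, AddSubgroup ((sfib x).obj G))

/-- Sections with germs in the subgroups. -/
def secs (U : Opens X) : AddSubgroup (G.obj.obj (op U)) where
  carrier := {s | ∀ z (hz : z ∈ U), gm G z U hz s ∈ A z}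
  zero_mem' z hz := by rw [map_zero]; exact zero_mem _
  add_mem' ha hb z hz := by rw [map_add]; exact add_mem (ha z hz) (hb z hz)
  neg_mem' ha z hz := by rw [map_neg]; exact neg_mem (ha z hz)

/-- The presheaf of sections with germs in the subgroups. -/
def pre : TopCat.Presheaf AddCommGrpCat.{u} X where
  obj U := AddCommGrpCat.of (secs G A U.unop)
  map {U V} i := AddCommGrpCat.ofHom (AddMonoidHom.mk'
    (fun s => ⟨G.obj.map i s.1, fun z hz => by
      have h : gm G z V.unop hz (G.obj.map i s.1) = gm G z U.unop (i.unop.le hz) s.1 :=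
        gm_res G z i.unop.le hz s.1
      exact h ▸ s.2 z (i.unop.le hz)⟩)
    fun a b => Subtype.ext (map_add (G.obj.map i).hom a.1 b.1))
  map_id U := by
    refine ConcreteCategory.hom_ext _ _ fun s => Subtype.ext ?_
    exact ConcreteCategory.congr_hom (G.obj.map_id U) s.1
  map_comp i j := by
    refine ConcreteCategory.hom_ext _ _ fun s => Subtype.ext ?_
    exact ConcreteCategory.congr_hom (G.obj.map_comp i j) s.1

lemma pre_isSheaf : TopCat.Presheaf.IsSheaf (pre G A) := by
  rw [TopCat.Presheaf.isSheaf_iff_isSheafUniqueGluing]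
  intro ι U sf hsf
  obtain ⟨s, hs, huniq⟩ := TopCat.Sheaf.existsUnique_gluing (F := (G : TopCat.Sheaf AddCommGrpCat X)) U
    (fun i => (sf i).1) fun i j => congrArg Subtype.val (hsf i j)
  refine ⟨⟨s, fun z hz => ?_⟩, fun i => Subtype.ext (hs i), fun t ht => Subtype.ext
    (huniq t.1 fun i => congrArg Subtype.val (ht i))⟩
  obtain ⟨i, hi⟩ := Opens.mem_iSup.1 hz
  have h : gm G z (U i) hi (sf i).1 = gm G z (iSup U) hz s :=
    (congrArg (gm G z (U i) hi) (hs i)).symm.trans (gm_res G z (le_iSup U i) hi s)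
  exact h ▸ (sf i).2 z hi

/-- The subsheaf of sections with germs in the subgroups. -/
def subSh : CohTop.Ab X := ⟨pre G A, pre_isSheaf G A⟩

/-- The inclusion. -/
def incl : subSh G A ⟶ G := ⟨{
  app U := AddCommGrpCat.ofHom (secs G A U.unop).subtype
  naturality _ _ _ := rfl }⟩

instance mono_incl : Mono (incl G A) := by
  haveI : ∀ U, Mono ((incl G A).hom.app U) := fun U =>
    (AddCommGrpCat.mono_iff_injective _).2 Subtype.val_injective
  haveI : Mono ((sheafToPresheaf _ _).map (incl G A)) := NatTrans.mono_of_mono_app (incl G A).hom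
  exact (sheafToPresheaf _ _).mono_of_mono_map ‹_›

lemma incl_mem (x : X) (a : (sfib x).obj (subSh G A)) : (sfib x).map (incl G A) a ∈ A x := by
  obtain ⟨U, hx, s, rfl⟩ := gm_surjective _ x a
  rw [gm_map]
  exact s.2 x hx

lemma exists_incl {U : Opens X} (s : G.obj.obj (op U)) (hs : ∀ z (hz : z ∈ U), gm G z U hz s ∈ A z) (x : X)
    (hx : x ∈ U) : ∃ a, (sfib x).map (incl G A) a = gm G x U hx s :=
  ⟨gm (subSh G A) x U hx ⟨s, hs⟩, gm_map _ _ _ _ _⟩

variable {G A}

/-- Lifting a morphism whose germs lie in the subgroups. -/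
def lift {Z : CohTop.Ab X} (φ : Z ⟶ G) (h : ∀ x a, (sfib x).map φ a ∈ A x) : Z ⟶ subSh G A := ⟨{
  app U := AddCommGrpCat.ofHom (AddMonoidHom.mk'
    (fun s => ⟨φ.hom.app U s, fun z hz => by
      have := h z (gm Z z U.unop hz s)
      rwa [gm_map] at this⟩)
    fun a b => Subtype.ext (map_add (φ.hom.app U).hom a b))
  naturality _ _ i := ConcreteCategory.hom_ext _ _ fun s => Subtype.ext (NatTrans.naturality_apply φ.hom i s) }⟩

lemma lift_incl {Z : CohTop.Ab X} (φ : Z ⟶ G) (h : ∀ x a, (sfib x).map φ a ∈ A x) : lift φ h ≫ incl G A = φ :=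
  Sheaf.hom_ext (NatTrans.ext (funext fun _ => ConcreteCategory.hom_ext _ _ fun _ => rfl))

instance mono_lift {Z : CohTop.Ab X} (φ : Z ⟶ G) [Mono φ] (h : ∀ x a, (sfib x).map φ a ∈ A x) :
    Mono (lift φ h) :=
  mono_of_mono_fac (lift_incl φ h)

/-- A lift hitting all the subgroups is an epimorphism. -/
lemma epi_lift {Z : CohTop.Ab X} (φ : Z ⟶ G) (h : ∀ x a, (sfib x).map φ a ∈ A x)
    (hs : ∀ x, ∀ b ∈ A x, ∃ a, (sfib x).map φ a = b) : Epi (lift φ h) :=
  epi_of_surjective _ fun x b => by
    obtain ⟨a, ha⟩ := hs x _ (incl_mem G A x b)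
    refine ⟨a, injective_of_mono (incl G A) x ?_⟩
    rw [← ConcreteCategory.comp_apply, ← Functor.map_comp, lift_incl, ha]

/-- The map between subsheaves of an inequality. -/
def subMap {B : ∀ x : X, AddSubgroup ((sfib x).obj G)} (hAB : ∀ x, A x ≤ B x) : subSh G A ⟶ subSh G B :=
  lift (incl G A) fun x a => hAB x (incl_mem G A x a)

lemma subMap_incl {B : ∀ x : X, AddSubgroup ((sfib x).obj G)} (hAB : ∀ x, A x ≤ B x) :
    subMap hAB ≫ incl G B = incl G A :=
  lift_incl _ _

section Free

variable (U : Opens X)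

/-- The canonical germ of the free sheaf. -/
abbrev freeGerm (x : X) (hx : x ∈ U) : (sfib x).obj (CohCx.freeSheaf (Opens.grothendieckTopology X) U) :=
  gm _ x U hx (CohFree.gen (Opens.grothendieckTopology X) U)

lemma toSheafify_of (V : Opens X) (f : V ⟶ U) :
    (toSheafify (Opens.grothendieckTopology X) (yoneda.obj U ⋙ AddCommGrpCat.free.{u})).app (op V)
        (FreeAbelianGroup.of f) =
      (CohCx.freeSheaf (Opens.grothendieckTopology X) U).obj.map f.op
        (CohFree.gen (Opens.grothendieckTopology X) U) := by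
  refine Eq.trans ?_ (NatTrans.naturality_apply
    (toSheafify (Opens.grothendieckTopology X) (yoneda.obj U ⋙ AddCommGrpCat.free.{u})) f.op
    (FreeAbelianGroup.of (𝟙 U)))
  refine congrArg _ ?_
  refine Eq.trans ?_ (FreeAbelianGroup.map_of_apply (f := fun g => f ≫ g) (𝟙 U)).symm
  rw [Category.comp_id]

/-- Germs of the free sheaf on an open are multiples of the canonical one. -/
theorem exists_zsmul_freeGerm (x : X) (a : (sfib x).obj (CohCx.freeSheaf (Opens.grothendieckTopology X) U)) :
    (∀ hx : x ∈ U, ∃ n : ℤ, n • freeGerm U x hx = a) ∧ (x ∉ U → a = 0) := by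
  let J := Opens.grothendieckTopology X
  let P := yoneda.obj U ⋙ AddCommGrpCat.free.{u}
  obtain ⟨V, hxV, s, rfl⟩ := gm_surjective _ x a
  have hs := Presheaf.imageSieve_mem J (toSheafify J P) (U := op V) s
  rw [Opens.mem_grothendieckTopology] at hs
  obtain ⟨W, i, ⟨e, he⟩, hxW⟩ := hs x hxV
  have hg : gm _ x W hxW ((toSheafify J P).app (op W) e) = gm (CohCx.freeSheaf J U) x V hxV s := by
    refine Eq.trans ?_ (gm_res (CohCx.freeSheaf J U) x i.le hxW s)
    exact congrArg _ he
  rw [← hg]
  clear hg he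
  constructor
  · intro hx
    induction e using FreeAbelianGroup.induction_on with
    | zero => exact ⟨0, by rw [zero_zsmul]; exact ((map_zero _).symm.trans (congrArg _ (map_zero _).symm))⟩
    | of f =>
      refine ⟨1, (one_zsmul _).trans ?_⟩
      refine Eq.trans ?_ (congrArg _ (toSheafify_of U W f)).symm
      exact (gm_res (CohCx.freeSheaf J U) x f.le hxW _).symm
    | neg f hf =>
      obtain ⟨n, hn⟩ := hf
      exact ⟨-n, by rw [neg_zsmul, hn]; exact ((congrArg _ (map_neg _ _)).trans (map_neg _ _)).symm⟩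
    | add a b ha hb =>
      obtain ⟨n, hn⟩ := ha
      obtain ⟨m, hm⟩ := hb
      exact ⟨n + m, by rw [add_zsmul, hn, hm]; exact ((congrArg _ (map_add _ _ _)).trans (map_add _ _ _)).symm⟩
  · intro hx
    haveI : IsEmpty (W ⟶ U) := ⟨fun f => hx (f.le hxW)⟩
    haveI : Subsingleton (FreeAbelianGroup (W ⟶ U)) := Unique.instSubsingleton
    rw [show e = 0 from @Subsingleton.elim (FreeAbelianGroup (W ⟶ U)) _ e 0]
    exact (congrArg _ (map_zero _)).trans (map_zero _)

/-- The canonical germ has infinite order. -/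
theorem zsmul_freeGerm_eq_zero (x : X) (hx : x ∈ U) {n : ℤ} (h : n • freeGerm U x hx = 0) : n = 0 := by
  let T : X → Type u := fun _ => ULift.{u} ℤ
  let P : TopCat.Presheaf AddCommGrpCat.{u} X :=
    { obj := fun V => AddCommGrpCat.of (∀ z : V.unop, T z)
      map := fun i => AddCommGrpCat.ofHom (AddMonoidHom.mk' (fun g z => g (i.unop z)) fun _ _ => rfl) }
  have hP : TopCat.Presheaf.IsSheaf P :=
    (TopCat.Presheaf.isSheaf_iff_isSheaf_comp' (forget AddCommGrpCat.{u}) P).2
      (TopCat.Presheaf.toTypes_isSheaf X T)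
  let G : CohTop.Ab X := ⟨P, hP⟩
  let one : G.obj.obj (op U) := fun _ => ULift.up 1
  let φ := CohFree.ofSect (Opens.grothendieckTopology X) U G one
  have h1 : (sfib x).map φ (freeGerm U x hx) = gm G x U hx one := by
    rw [gm_map]
    exact congrArg _ (CohFree.evalGen_ofSect (Opens.grothendieckTopology X) U G one)
  have h2 : gm G x U hx (n • one) = gm G x U hx 0 := by
    rw [map_zsmul, ← h1, ← map_zsmul, h, map_zero, map_zero]
  obtain ⟨V, hV, hxV, e⟩ := gm_eq G x hx _ _ h2
  let ev : G.obj.obj (op U) →+ ULift.{u} ℤ := AddMonoidHom.mk' (fun g => g ⟨x, hx⟩) fun _ _ => rfl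
  have e2 : ev (n • one) = ev 0 := congr_fun e (⟨x, hxV⟩ : V)
  rw [map_zsmul, map_zero] at e2
  have e3 : (n • ULift.up.{u} (1 : ℤ)).down = 0 := congrArg ULift.down e2
  simpa using e3

end Free

end Groth.SiteCohomology.SubSheafGerms
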