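import Groth.Agent.CohTopBC.Fibre
import Groth.Agent.SiteCohomology.SubSheafGerms
import Mathlib.CategoryTheory.Sites.DenseSubsite.SheafEquiv
import Mathlib.Topology.Sheaves.Functors
import Mathlib.Topology.Sheaves.SheafCondition.UniqueGluing

/-!
# Inverse image is an equivalence iff the preimage map on opens is bijective
-/

set_option autoImplicit false
universe u v

open CategoryTheory CategoryTheory.Limits Opposite TopologicalSpace
open Groth.Agent.CohDescent (gm gm_res gm_map gm_surjective tau bijective_tau pushGerm)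
open Groth.SiteCohomology.SubSheafGerms

set_option synthInstance.maxHeartbeats 400000
set_option maxHeartbeats 1000000

noncomputable section

namespace Groth.SiteCohomology.OpensEquiv

variable {X₀ X : TopCat.{u}} (f : X₀ ⟶ X)

lemma le_of_map_le (hb : Function.Injective fun U : Opens X => (Opens.map f).obj U) {U V : Opens X}
    (h : (Opens.map f).obj U ≤ (Opens.map f).obj V) : U ≤ V := by
  have e : (Opens.map f).obj (U ⊓ V) = (Opens.map f).obj U :=
    Opens.ext (Set.inter_eq_left.2 h)
  exact inf_eq_left.1 (hb e)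

lemma isDenseSubsite (hb : Function.Bijective fun U : Opens X => (Opens.map f).obj U) :
    (Opens.map f).IsDenseSubsite (Opens.grothendieckTopology X) (Opens.grothendieckTopology X₀) := by
  haveI : (Opens.map f).Full := ⟨fun {U V} h => ⟨homOfLE (le_of_map_le f hb.1 h.le), Subsingleton.elim _ _⟩⟩
  haveI : (Opens.map f).Faithful := ⟨fun _ => Subsingleton.elim _ _⟩
  haveI : (Opens.map f).EssSurj := ⟨fun W => by
    obtain ⟨U, rfl⟩ := hb.2 W
    exact ⟨U, ⟨Iso.refl _⟩⟩⟩
  haveI : (Opens.map f).IsCoverDense (Opens.grothendieckTopology X₀) := ⟨fun W => by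
    obtain ⟨U, rfl⟩ := hb.2 W
    exact fun x hx => ⟨(Opens.map f).obj U, 𝟙 _, ⟨⟨U, 𝟙 _, 𝟙 _, Category.id_comp _⟩⟩, hx⟩⟩
  refine { functorPushforward_mem_iff := fun {U S} => ?_ }
  rw [Opens.mem_grothendieckTopology, Opens.mem_grothendieckTopology]
  constructor
  · intro h
    let U' : Opens X := ⟨⋃ (V : Opens X) (_ : ∃ g : V ⟶ U, S g), (V : Set X),
      isOpen_iUnion fun V => isOpen_iUnion fun _ => V.2⟩
    have hle : (Opens.map f).obj U ≤ (Opens.map f).obj U' := fun p hp => by
      obtain ⟨W, i, ⟨V, g, k, hg, -⟩, hpW⟩ := h p hp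
      exact Set.mem_iUnion₂.2 ⟨V, ⟨g, hg⟩, k.le hpW⟩
    intro x hx
    obtain ⟨V, ⟨g, hg⟩, hxV⟩ := Set.mem_iUnion₂.1 (le_of_map_le f hb.1 hle hx)
    exact ⟨V, g, hg, hxV⟩
  · intro h p hp
    obtain ⟨V, g, hg, hpV⟩ := h (f p) hp
    exact ⟨(Opens.map f).obj V, (Opens.map f).map g, ⟨V, g, 𝟙 _, hg, (Category.id_comp _).symm⟩, hpV⟩

theorem isEquivalence_of_bijective_type (hb : Function.Bijective fun U : Opens X => (Opens.map f).obj U) :
    (TopCat.Sheaf.pullback (Type u) f).IsEquivalence := by
  haveI := isDenseSubsite f hb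
  haveI : (TopCat.Sheaf.pushforward (Type u) f).IsEquivalence :=
    inferInstanceAs ((Opens.map f).sheafPushforwardContinuous (Type u) (Opens.grothendieckTopology X)
      (Opens.grothendieckTopology X₀)).IsEquivalence
  exact (TopCat.Sheaf.pullbackPushforwardAdjunction (Type u) f).isEquivalence_left_of_isEquivalence_right

theorem isEquivalence_of_bijective_ab (hb : Function.Bijective fun U : Opens X => (Opens.map f).obj U) :
    (TopCat.Sheaf.pullback AddCommGrpCat.{u} f).IsEquivalence := by
  haveI := isDenseSubsite f hb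
  haveI : (TopCat.Sheaf.pushforward AddCommGrpCat.{u} f).IsEquivalence :=
    inferInstanceAs ((Opens.map f).sheafPushforwardContinuous AddCommGrpCat.{u} (Opens.grothendieckTopology X)
      (Opens.grothendieckTopology X₀)).IsEquivalence
  exact (TopCat.Sheaf.pullbackPushforwardAdjunction AddCommGrpCat.{u} f).isEquivalence_left_of_isEquivalence_right

section Injective

variable {A : Type (u + 1)} [Category.{u} A] {FA : A → A → Type*} {CA : A → Type u} [∀ X Y, FunLike (FA X Y) (CA X) (CA Y)]
  [ConcreteCategory.{u} A FA]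

/-- If every sheaf is a direct image, sections of all sheaves only depend on the preimage. -/
lemma injective_restrict (hs : (TopCat.Sheaf.pushforward A f).EssSurj) (G : TopCat.Sheaf A X) {U V : Opens X}
    (hVU : V ≤ U) (h : (Opens.map f).obj U = (Opens.map f).obj V) :
    Function.Injective (G.obj.map (homOfLE hVU).op) := by
  obtain ⟨H, ⟨e⟩⟩ := hs.mem_essImage G
  haveI : IsIso ((Opens.map f).map (homOfLE hVU)) := ⟨homOfLE h.le, Subsingleton.elim _ _, Subsingleton.elim _ _⟩
  let e' := (TopCat.Sheaf.forget A X).mapIso e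
  haveI : IsIso (G.obj.map (homOfLE hVU).op) := by
    haveI : IsIso (((TopCat.Sheaf.pushforward A f).obj H).obj.map (homOfLE hVU).op) :=
      inferInstanceAs (IsIso (H.obj.map ((Opens.map f).map (homOfLE hVU)).op))
    exact (NatIso.isIso_map_iff e' (homOfLE hVU).op).1 ‹_›
  exact (ConcreteCategory.bijective_of_isIso (G.obj.map (homOfLE hVU).op)).1

end Injective

theorem injective_of_essSurj_type (hs : (TopCat.Sheaf.pushforward (Type u) f).EssSurj) :
    Function.Injective fun U : Opens X => (Opens.map f).obj U := by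
  classical
  suffices key : ∀ U V : Opens X, (Opens.map f).obj U = (Opens.map f).obj V → U ≤ V from
    fun U V h => le_antisymm (key U V h) (key V U h.symm)
  intro U V h x hx
  by_contra hxV
  let T : X → Type u := fun _ => ULift.{u} Bool
  let G : TopCat.Sheaf (Type u) X :=
    ⟨TopCat.presheafToTypes X T, TopCat.Presheaf.toTypes_isSheaf X T⟩
  have h' : (Opens.map f).obj U = (Opens.map f).obj (U ⊓ V) :=
    Opens.ext (Set.inter_eq_left.2 (h.le : (Opens.map f).obj U ≤ (Opens.map f).obj V)).symm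
  let s₁ : ∀ z : U, T z := fun z => ULift.up (decide (z.1 = x))
  let s₂ : ∀ z : U, T z := fun _ => ULift.up false
  have e : (G.obj.map (homOfLE (inf_le_left : U ⊓ V ≤ U)).op) s₁ =
      (G.obj.map (homOfLE (inf_le_left : U ⊓ V ≤ U)).op) s₂ := funext fun z => by
    have hz : z.1 ≠ x := fun e => hxV (e ▸ z.2.2)
    change ULift.up (decide (z.1 = x)) = ULift.up false
    simp [hz]
  have := congrArg ULift.down (congr_fun (injective_restrict f hs G inf_le_left h' e) ⟨x, hx⟩)
  simp [s₁, s₂] at this

theorem injective_of_essSurj_ab (hs : (TopCat.Sheaf.pushforward AddCommGrpCat.{u} f).EssSurj) :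
    Function.Injective fun U : Opens X => (Opens.map f).obj U := by
  classical
  suffices key : ∀ U V : Opens X, (Opens.map f).obj U = (Opens.map f).obj V → U ≤ V from
    fun U V h => le_antisymm (key U V h) (key V U h.symm)
  intro U V h x hx
  by_contra hxV
  let T : X → Type u := fun _ => ULift.{u} ℤ
  let P : TopCat.Presheaf AddCommGrpCat.{u} X :=
    { obj := fun V => AddCommGrpCat.of (∀ z : V.unop, T z)
      map := fun i => AddCommGrpCat.ofHom (AddMonoidHom.mk' (fun g z => g (i.unop z)) fun _ _ => rfl) }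
  have hP : TopCat.Presheaf.IsSheaf P :=
    (TopCat.Presheaf.isSheaf_iff_isSheaf_comp' (forget AddCommGrpCat.{u}) P).2
      (TopCat.Presheaf.toTypes_isSheaf X T)
  have h' : (Opens.map f).obj U = (Opens.map f).obj (U ⊓ V) :=
    Opens.ext (Set.inter_eq_left.2 (h.le : (Opens.map f).obj U ≤ (Opens.map f).obj V)).symm
  let s₁ : P.obj (op U) := fun z => if z.1 = x then ULift.up 1 else 0
  have e : (P.map (homOfLE (inf_le_left : U ⊓ V ≤ U)).op) s₁ =
      (P.map (homOfLE (inf_le_left : U ⊓ V ≤ U)).op) 0 := funext fun z => if_neg (fun he : z.1 = x => hxV (he ▸ z.2.2))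
  have := congrArg ULift.down (congr_fun (injective_restrict f hs ⟨P, hP⟩ inf_le_left h' e) ⟨x, hx⟩)
  simp [s₁] at this
  exact one_ne_zero this

/-- The subterminal sheaf of an open. -/
def subTerminal {Y : TopCat.{u}} (W : Opens Y) : TopCat.Sheaf (Type u) Y :=
  ⟨{ obj := fun V => ULift.{u} (PLift (V.unop ≤ W))
     map := fun i => ↾fun a => ⟨⟨i.unop.le.trans a.down.down⟩⟩ }, by
    refine (TopCat.Presheaf.isSheaf_iff_isSheafUniqueGluing_types _).2 ?_
    intro ι U sf _
    exact ⟨⟨⟨iSup_le fun i => (sf i).down.down⟩⟩, fun i => Subsingleton.elim _ _, fun _ _ => Subsingleton.elim _ _⟩⟩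

theorem surjective_of_isEquivalence_type (h : (TopCat.Sheaf.pullback (Type u) f).IsEquivalence) :
    Function.Surjective fun U : Opens X => (Opens.map f).obj U := by
  intro W
  haveI := (TopCat.Sheaf.pullbackPushforwardAdjunction (Type u) f).isEquivalence_right_of_isEquivalence_left
  let U : Opens X := ⟨⋃ (V : Opens X) (_ : (Opens.map f).obj V ≤ W), (V : Set X),
    isOpen_iUnion fun V => isOpen_iUnion fun _ => V.2⟩
  have hU : (Opens.map f).obj U ≤ W := fun p hp => by
    obtain ⟨V, hV, hpV⟩ := Set.mem_iUnion₂.1 hp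
    exact hV hpV
  refine ⟨U, le_antisymm hU ?_⟩
  let i : subTerminal ((Opens.map f).obj U) ⟶ subTerminal W :=
    ⟨{ app := fun V => ↾fun a => ⟨⟨a.down.down.trans hU⟩⟩ }⟩
  haveI : IsIso ((TopCat.Sheaf.pushforward (Type u) f).map i) := by
    haveI : ∀ V, IsIso (((TopCat.Sheaf.pushforward (Type u) f).map i).hom.app V) := fun V =>
      ⟨↾fun a => ⟨⟨(Opens.map f).map (homOfLE fun x hx => Set.mem_iUnion₂.2 ⟨V.unop, a.down.down, hx⟩) |>.le⟩⟩,
        ConcreteCategory.hom_ext _ _ fun _ => @Subsingleton.elim (ULift (PLift _)) _ _ _,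
        ConcreteCategory.hom_ext _ _ fun _ => @Subsingleton.elim (ULift (PLift _)) _ _ _⟩
    haveI : IsIso ((TopCat.Sheaf.forget (Type u) X).map ((TopCat.Sheaf.pushforward (Type u) f).map i)) :=
      @NatIso.isIso_of_isIso_app _ _ _ _ _ _ ((TopCat.Sheaf.forget (Type u) X).map ((TopCat.Sheaf.pushforward (Type u) f).map i)) (fun V => this V)
    exact isIso_of_reflects_iso _ (TopCat.Sheaf.forget (Type u) X)
  haveI : IsIso i := isIso_of_reflects_iso i (TopCat.Sheaf.pushforward (Type u) f)
  exact ((inv i).hom.app (op W) ⟨⟨le_rfl⟩⟩).down.down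

lemma tau_natural {F F' : CohTop.Ab X} (φ : F ⟶ F') {x : X} {y : X₀} (h : f y = x) (a : (sfib x).obj F) :
    tau f h F' ((sfib x).map φ a) = (sfib y).map ((CohTop.pull f).map φ) (tau f h F a) := by
  change pushGerm f h _ ((sfib x).map ((pullPushAdj f).unit.app F') ((sfib x).map φ a)) =
    (sfib y).map ((CohTop.pull f).map φ) (pushGerm f h _ ((sfib x).map ((pullPushAdj f).unit.app F) a))
  rw [← Groth.Agent.CohTopBC.pushGerm_natural]
  have hn := congrArg (fun t => pushGerm f h _ ((sfib x).map t a)) ((pullPushAdj f).unit.naturality φ)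
  simp only [Functor.id_map, Functor.comp_map, Functor.map_comp, ConcreteCategory.comp_apply] at hn
  exact hn

open Classical in
theorem surjective_of_isEquivalence_ab (h : (CohTop.pull f).IsEquivalence) :
    Function.Surjective fun U : Opens X => (Opens.map f).obj U := by
  intro W
  let J := Opens.grothendieckTopology X
  let G : CohTop.Ab X := CohCx.freeSheaf J (⊤ : Opens X)
  let A : ∀ p : X₀, AddSubgroup ((sfib p).obj ((CohTop.pull f).obj G)) := fun p => if p ∈ W then ⊤ else ⊥
  let L := subSh ((CohTop.pull f).obj G) A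
  let F := (CohTop.pull f).objPreimage L
  let e : (CohTop.pull f).obj F ≅ L := (CohTop.pull f).objObjPreimageIso L
  let ι : F ⟶ G := (CohTop.pull f).preimage (e.hom ≫ incl _ A)
  have hι : (CohTop.pull f).map ι = e.hom ≫ incl _ A := (CohTop.pull f).map_preimage _
  let g : G.obj.obj (op ⊤) := CohFree.gen J ⊤
  let U : Opens X := ⟨{x | ∃ a, (sfib x).map ι a = gm G x ⊤ trivial g}, isOpen_iff_forall_mem_open.2 fun x hx => by
    obtain ⟨a, ha⟩ := hx
    obtain ⟨V, hxV, s, rfl⟩ := gm_surjective F x a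
    rw [gm_map, ← gm_res G x (le_top : V ≤ ⊤) hxV g] at ha
    obtain ⟨N, hN, hxN, e'⟩ := Groth.Agent.CohDescent.gm_eq G x _ _ _ ha
    refine ⟨N, fun z hz => ⟨gm F z V (hN hz) s, ?_⟩, N.2, hxN⟩
    have e'' := congrArg (gm G z N hz) e'
    rw [gm_res, gm_res, gm_res] at e''
    rw [gm_map]
    exact e''⟩
  refine ⟨U, Opens.ext (Set.ext fun p => ?_)⟩
  let x := f p
  let γ := tau f (rfl : f p = x) G (gm G x ⊤ trivial g)
  change x ∈ U ↔ p ∈ W
  constructor
  · rintro ⟨a, ha⟩
    by_contra hp
    have h1 : γ = (sfib p).map (incl _ A) ((sfib p).map e.hom (tau f rfl F a)) := by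
      refine (congrArg (tau f rfl G) ha).symm.trans ?_
      rw [tau_natural, hι, Functor.map_comp]
      rfl
    have h2 := incl_mem _ A p ((sfib p).map e.hom (tau f rfl F a))
    rw [← h1] at h2
    simp only [A, if_neg hp, AddSubgroup.mem_bot] at h2
    have h3 : gm G x ⊤ trivial g = 0 := (bijective_tau f G rfl).1 (h2.trans (map_zero _).symm)
    exact one_ne_zero (zsmul_freeGerm_eq_zero (⊤ : Opens X) x trivial (n := 1) (by rw [one_zsmul]; exact h3))
  · intro hp
    obtain ⟨V, hpV, t, ht⟩ := gm_surjective ((CohTop.pull f).obj G) p γ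
    obtain ⟨b, hb⟩ := exists_incl ((CohTop.pull f).obj G) A
      (((CohTop.pull f).obj G).obj.map (homOfLE (inf_le_left : V ⊓ W ≤ V)).op t)
      (fun z hz => by rw [show A z = ⊤ from if_pos hz.2]; exact AddSubgroup.mem_top _) p ⟨hpV, hp⟩
    rw [gm_res, ht] at hb
    obtain ⟨a, ha⟩ := (bijective_tau f F (rfl : f p = x)).2 ((sfib p).map e.inv b)
    refine ⟨a, (bijective_tau f G rfl).1 ?_⟩
    rw [tau_natural, hι, ha, Functor.map_comp, ConcreteCategory.comp_apply,
      ← ConcreteCategory.comp_apply ((sfib p).map e.inv), ← Functor.map_comp, e.inv_hom_id, CategoryTheory.Functor.map_id]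
    exact hb

end Groth.SiteCohomology.OpensEquiv
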