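import Groth.Agent.SiteCohomology.LanExact
import Mathlib.CategoryTheory.Sites.Pullback
import Mathlib.CategoryTheory.Sites.LeftExact
import Mathlib.CategoryTheory.Sites.CoverLifting
import Mathlib.CategoryTheory.Sites.Over
import Mathlib.CategoryTheory.Sites.Abelian
import Mathlib.Algebra.Homology.ShortComplex.ExactFunctor
import Mathlib.Algebra.Homology.HomotopyCategory.KInjective
import Mathlib.CategoryTheory.Abelian.GrothendieckCategory.EnoughInjectives
import Mathlib.CategoryTheory.Preadditive.Injective.Basic

/-!
# Exactness of extension by zero `u_!` and consequences for restriction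

For `u : C ⥤ D` continuous with locally filtered categories `d ↘ u` (for instance `u` preserves
pullbacks and equalizers, or `u` is `Over.forget`), `u_!` on abelian sheaves is exact, so restriction
along `u` preserves injective and K-injective objects; if `u` is also cocontinuous, it is exact.
-/

universe w v v' u u'

open CategoryTheory Limits Opposite

set_option maxHeartbeats 1000000
set_option synthInstance.maxHeartbeats 400000

namespace Groth.SiteCohomology

section Abelian

variable {A : Type u} [Category.{v} A] [Abelian A] {B : Type u'} [Category.{v'} B] [Abelian B]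
  {L : A ⥤ B} {R : B ⥤ A}

/-- A left adjoint preserving monomorphisms is exact. -/
theorem preservesFiniteLimits_of_adjunction_of_mono (adj : L ⊣ R)
    (hmono : ∀ {X Y : A} (f : X ⟶ Y), Mono f → Mono (L.map f)) : PreservesFiniteLimits L := by
  haveI : PreservesFiniteColimits L :=
    adj.leftAdjoint_preservesColimits.{0, 0}.preservesFiniteColimits
  haveI : PreservesBinaryBiproducts L := preservesBinaryBiproducts_of_preservesBinaryCoproducts L
  haveI : L.Additive := L.additive_of_preservesBinaryBiproducts
  rw [L.preservesFiniteLimits_iff_forall_exact_map_and_mono]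
  intro S hS
  exact ⟨(L.preservesFiniteColimits_iff_forall_exact_map_and_epi.1 inferInstance S hS).1,
    hmono S.f hS.mono_f⟩

/-- A right adjoint of an exact functor preserves injective objects. -/
theorem injective_map_of_adjunction (adj : L ⊣ R) [PreservesFiniteLimits L] (I : B)
    [hI : Injective I] : Injective (R.obj I) :=
  haveI : L.PreservesMonomorphisms := inferInstance
  @Injective.injective_of_adjoint _ _ _ _ _ _ _ adj I hI

/-- A right adjoint of an exact functor preserves K-injective complexes. -/
theorem isKInjective_map_of_adjunction (adj : L ⊣ R) [PreservesFiniteLimits L] [R.Additive]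
    (I : CochainComplex B ℤ) (hI : I.IsKInjective) :
    CochainComplex.IsKInjective ((R.mapHomologicalComplex (ComplexShape.up ℤ)).obj I) := by
  haveI : PreservesFiniteColimits L :=
    adj.leftAdjoint_preservesColimits.{0, 0}.preservesFiniteColimits
  haveI : PreservesBinaryBiproducts L := preservesBinaryBiproducts_of_preservesBinaryCoproducts L
  haveI : L.Additive := L.additive_of_preservesBinaryBiproducts
  refine ⟨fun {K} f hK => ?_⟩
  let K' := (L.mapHomologicalComplex (ComplexShape.up ℤ)).obj K
  let g : K' ⟶ I :=
    { f := fun n => (adj.homEquiv _ _).symm (f.f n)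
      comm' := fun i j _ => by
        change (adj.homEquiv _ _).symm (f.f i) ≫ I.d i j =
          L.map (K.d i j) ≫ (adj.homEquiv _ _).symm (f.f j)
        rw [← adj.homEquiv_naturality_right_symm, ← adj.homEquiv_naturality_left_symm]
        exact congrArg (adj.homEquiv _ _).symm (f.comm i j) }
  let η : K ⟶ (R.mapHomologicalComplex (ComplexShape.up ℤ)).obj K' :=
    { f := fun n => adj.unit.app (K.X n)
      comm' := fun i j _ => (adj.unit.naturality (K.d i j)).symm }
  have hK' : K'.Acyclic := fun n => (hK n).map L
  obtain ⟨h⟩ := hI.nonempty_homotopy_zero g hK'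
  have e : η ≫ (R.mapHomologicalComplex (ComplexShape.up ℤ)).map g = f := by
    ext n
    exact ((adj.homEquiv_unit _ _ _).symm).trans ((adj.homEquiv _ _).apply_symm_apply _)
  exact ⟨(Homotopy.ofEq e.symm).trans (((R.mapHomotopy h).compLeft η).trans
    (Homotopy.ofEq (by simp)))⟩

end Abelian

section Sheaf

variable {C : Type u} [Category.{v} C] {D : Type u'} [Category.{v'} D]
  (J : GrothendieckTopology C) (K : GrothendieckTopology D) (F : C ⥤ D) [F.IsContinuous J K]
  (A : Type*) [Category.{w} A] [Abelian A]

/-- `F_!` on sheaves preserves monomorphisms when `F.op.lan` does. -/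
theorem preservesFiniteLimits_sheafPullback_of_lan_mono [HasSheafify J A] [HasSheafify K A]
    [∀ P : Cᵒᵖ ⥤ A, F.op.HasLeftKanExtension P]
    (hlan : ∀ {P Q : Cᵒᵖ ⥤ A} (φ : P ⟶ Q), Mono φ → Mono (F.op.lan.map φ)) :
    PreservesFiniteLimits (F.sheafPullback A J K) := by
  refine preservesFiniteLimits_of_adjunction_of_mono (F.sheafAdjunctionContinuous A J K)
    fun {X Y} f hf => ?_
  have h1 : Mono ((sheafToPresheaf J A).map f) := inferInstance
  haveI := hlan _ h1
  haveI : Mono ((Functor.sheafPullbackConstruction.sheafPullback F A J K).map f) :=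
    inferInstanceAs (Mono ((presheafToSheaf K A).map (F.op.lan.map ((sheafToPresheaf J A).map f))))
  let e := Functor.sheafPullbackConstruction.sheafPullbackIso F A J K
  rw [← NatIso.naturality_2 e f]
  infer_instance

/-- Criterion for the categories `(F.op ↘ d)` to have filtered components. -/
theorem locallyFiltered_costructuredArrow_op
    (hspan : ∀ {d : D} {a b c : C} (x : d ⟶ F.obj a) (y : d ⟶ F.obj b) (p : a ⟶ c) (q : b ⟶ c),
      x ≫ F.map p = y ≫ F.map q → ∃ (e : C) (z : d ⟶ F.obj e) (r : e ⟶ a) (s : e ⟶ b),
        z ≫ F.map r = x ∧ z ≫ F.map s = y)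
    (hcoeq : ∀ {d : D} {a b : C} (y : d ⟶ F.obj b) (p q : b ⟶ a),
      y ≫ F.map p = y ≫ F.map q → ∃ (e : C) (z : d ⟶ F.obj e) (r : e ⟶ b),
        z ≫ F.map r = y ∧ r ≫ p = r ≫ q)
    (d : Dᵒᵖ) : LocallyFiltered (CostructuredArrow F.op d) := by
  refine { span := fun {a b c} f g => ?_, coeq := fun {a b} f g => ?_ }
  · have hf := congrArg Quiver.Hom.unop (CostructuredArrow.w f)
    have hg := congrArg Quiver.Hom.unop (CostructuredArrow.w g)
    obtain ⟨e, z, r, s, hr, hs⟩ :=
      hspan a.hom.unop b.hom.unop f.left.unop g.left.unop (hf.trans hg.symm)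
    refine ⟨CostructuredArrow.mk (Y := op e) z.op, ⟨CostructuredArrow.homMk r.op ?_⟩,
      ⟨CostructuredArrow.homMk s.op ?_⟩⟩
    · exact Quiver.Hom.unop_inj hr
    · exact Quiver.Hom.unop_inj hs
  · have hf := congrArg Quiver.Hom.unop (CostructuredArrow.w f)
    have hg := congrArg Quiver.Hom.unop (CostructuredArrow.w g)
    obtain ⟨e, z, r, hr, he⟩ := hcoeq b.hom.unop f.left.unop g.left.unop (hf.trans hg.symm)
    refine ⟨CostructuredArrow.mk (Y := op e) z.op,
      CostructuredArrow.homMk r.op (Quiver.Hom.unop_inj hr), ?_⟩
    exact CostructuredArrow.hom_ext _ _ (Quiver.Hom.unop_inj he)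

omit [F.IsContinuous J K] in
/-- The criterion holds for functors preserving pullbacks and equalizers. -/
theorem locallyFiltered_of_preserves [HasPullbacks C] [HasEqualizers C]
    [PreservesLimitsOfShape WalkingCospan F] [PreservesLimitsOfShape WalkingParallelPair F]
    (d : Dᵒᵖ) : LocallyFiltered (CostructuredArrow F.op d) := by
  refine locallyFiltered_costructuredArrow_op F (fun {d a b c} x y p q h => ?_)
    (fun {d a b} y p q h => ?_) d
  · have hP := (IsPullback.of_hasPullback p q).map F
    exact ⟨pullback p q, hP.lift x y h, pullback.fst p q, pullback.snd p q,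
      hP.lift_fst _ _ _, hP.lift_snd _ _ _⟩
  · let hl := isLimitForkMapOfIsLimit F (equalizer.condition p q) (equalizerIsEqualizer p q)
    exact ⟨equalizer p q, Fork.IsLimit.lift hl y h, equalizer.ι p q,
      Fork.IsLimit.lift_ι hl, equalizer.condition p q⟩

omit [F.IsContinuous J K] in
/-- The criterion holds for `Over.forget`. -/
theorem locallyFiltered_overForget (U : C) (d : Cᵒᵖ) :
    LocallyFiltered (CostructuredArrow (Over.forget U).op d) := by
  refine locallyFiltered_costructuredArrow_op (Over.forget U) (fun {d a b c} x y p q h => ?_)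
    (fun {d a b} y p q h => ?_) d
  · refine ⟨Over.mk (x ≫ a.hom), 𝟙 d, Over.homMk x rfl, Over.homMk y ?_,
      Category.id_comp _, Category.id_comp _⟩
    have h' : (show d ⟶ a.left from x) ≫ p.left = (show d ⟶ b.left from y) ≫ q.left := h
    change (show d ⟶ b.left from y) ≫ b.hom = (show d ⟶ a.left from x) ≫ a.hom
    rw [← Over.w q, ← Over.w p]
    exact ((Category.assoc _ _ _).symm.trans ((congrArg (· ≫ c.hom) h'.symm).trans
      (Category.assoc _ _ _)))
  · exact ⟨Over.mk (y ≫ b.hom), 𝟙 d, Over.homMk y rfl, Category.id_comp _,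
      Over.OverMorphism.ext h⟩

/-- Restriction along a continuous cocontinuous functor preserves finite colimits. -/
theorem preservesFiniteColimits_sheafPushforward [F.IsCocontinuous J K]
    [∀ P : Cᵒᵖ ⥤ A, F.op.HasPointwiseRightKanExtension P] :
    PreservesFiniteColimits (F.sheafPushforwardContinuous A J K) :=
  (F.sheafAdjunctionCocontinuous A J K).leftAdjoint_preservesColimits.{0, 0}.preservesFiniteColimits

end Sheaf

end Groth.SiteCohomology
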