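import Groth.Agent.SiteCohomology.Free
import Mathlib.CategoryTheory.Abelian.GrothendieckCategory.Subobject
import Mathlib.CategoryTheory.Abelian.GrothendieckCategory.EnoughInjectives
import Mathlib.CategoryTheory.Limits.Shapes.Pullback.Mono

/-!
# Baer's criterion for a separating family in a Grothendieck abelian category
-/

universe w v u t

open CategoryTheory Limits Opposite

set_option synthInstance.maxHeartbeats 400000
set_option maxHeartbeats 1000000

namespace Groth.SiteCohomology

section Abstract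

variable {C : Type u} [Category.{v} C] [Abelian C] [IsGrothendieckAbelian.{v} C]
  {α : Type t} (G : α → C) (hG : ∀ {X Y : C} (f g : X ⟶ Y), (∀ (a : α) (h : G a ⟶ X), h ≫ f = h ≫ g) → f = g)
  (I : C)

include hG in
/-- An object receiving extensions from all subobjects of a separating family is injective. -/
theorem injective_of_separating_family
    (h : ∀ (a : α) (S : C) (i : S ⟶ G a) [Mono i] (φ : S ⟶ I), ∃ ψ : G a ⟶ I, i ≫ ψ = φ) :
    Injective I := by
  refine ⟨fun {A B} φ₀ i _ => ?_⟩
  let T := Σ' S : Subobject B, ((S : C) ⟶ I)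
  let r : T → T → Prop := fun p q => ∃ hle : p.1 ≤ q.1, Subobject.ofLE p.1 q.1 hle ≫ q.2 = p.2
  have htrans : ∀ {p q s : T}, r p q → r q s → r p s := by
    rintro p q s ⟨h₁, e₁⟩ ⟨h₂, e₂⟩
    refine ⟨h₁.trans h₂, ?_⟩
    rw [← Subobject.ofLE_comp_ofLE _ _ _ h₁ h₂, Category.assoc, e₂, e₁]
  let p₀ : T := ⟨Subobject.mk i, (Subobject.underlyingIso i).hom ≫ φ₀⟩
  let T' := {p : T // r p₀ p}
  have hchain : ∀ c : Set T', IsChain (fun p q => r p.1 q.1) c →
      ∃ ub : T', ∀ a ∈ c, r a.1 ub.1 := by
    intro c hc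
    by_cases hne : c.Nonempty
    swap
    · exact ⟨⟨p₀, le_refl _, by simp⟩, fun a ha => absurd ⟨a, ha⟩ hne⟩
    have hrefl : ∀ p : T, r p p := fun p => ⟨le_refl _, by simp⟩
    have htot : ∀ a b : c, r a.1.1 b.1.1 ∨ r b.1.1 a.1.1 := fun a b => by
      by_cases e : a.1 = b.1
      · exact Or.inl (e ▸ hrefl _)
      · exact hc a.2 b.2 e
    have hinj : Function.Injective (fun a : c => a.1.1.1) := by
      intro a b hab
      obtain ⟨⟨⟨S, f⟩, ha'⟩, hac⟩ := a
      obtain ⟨⟨⟨S', g⟩, hb'⟩, hbc⟩ := b
      change S = S' at hab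
      subst hab
      have : f = g := by
        rcases htot ⟨⟨⟨S, f⟩, ha'⟩, hac⟩ ⟨⟨⟨S, g⟩, hb'⟩, hbc⟩ with ⟨_, e⟩ | ⟨_, e⟩ <;>
          simpa [eq_comm] using e
      subst this
      rfl
    haveI : Small.{v} (Subobject B) := inferInstance
    haveI : Small.{v} c := small_of_injective hinj
    let J := Shrink.{v} c
    letI : Preorder J := Preorder.lift fun j => ((equivShrink c).symm j).1.1.1
    haveI : Nonempty J := ⟨equivShrink c ⟨_, hne.some_mem⟩⟩
    haveI : IsDirectedOrder J := ⟨fun a b => by
      rcases htot ((equivShrink c).symm a) ((equivShrink c).symm b) with ⟨hab, _⟩ | ⟨hab, _⟩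
      · exact ⟨b, hab, le_refl _⟩
      · exact ⟨a, le_refl _, hab⟩⟩
    let S : J → T := fun j => ((equivShrink c).symm j).1.1
    have hcompat : ∀ (a b : J) (hab : a ≤ b), Subobject.ofLE _ _ hab ≫ (S b).2 = (S a).2 := by
      intro a b hab
      rcases htot ((equivShrink c).symm a) ((equivShrink c).symm b) with ⟨_, e⟩ | ⟨hba, e⟩
      · exact e
      · refine (congrArg (Subobject.ofLE _ _ hab ≫ ·) e.symm).trans ?_
        exact (Category.assoc _ _ _).symm.trans ((congrArg (· ≫ (S a).2)
          ((Subobject.ofLE_comp_ofLE _ _ _ hab hba).trans (Subobject.ofLE_refl _))).trans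
            (Category.id_comp _))
    let F : J ⥤ MonoOver B :=
      { obj := fun j => Subobject.representative.obj (S j).1
        map := fun {a b} f => Subobject.representative.map
          (homOfLE (f.down.down : (S a).1 ≤ (S b).1))
        map_id := fun a => by rw [← Subobject.representative.map_id]; rfl
        map_comp := fun f g => by rw [← Subobject.representative.map_comp]; rfl }
    let K := F ⋙ MonoOver.forget _ ⋙ Over.forget _
    let κB : Cocone K := Cocone.mk B
      { app := fun j => (S j).1.arrow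
        naturality := fun a b f => (Subobject.ofLE_arrow (f.down.down : (S a).1 ≤ (S b).1)).trans (Category.comp_id _).symm }
    let κI : Cocone K := Cocone.mk I
      { app := fun j => (S j).2
        naturality := fun a b f => (hcompat a b f.down.down).trans (Category.comp_id _).symm }
    let f : colimit K ⟶ B := colimit.desc K κB
    haveI : Mono f := IsGrothendieckAbelian.mono_of_isColimit_monoOver F (colimit.isColimit _) f
      fun j => colimit.ι_desc κB j
    let ub : T := ⟨Subobject.mk f, (Subobject.underlyingIso f).hom ≫ colimit.desc K κI⟩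
    have hub : ∀ j, r (S j) ub := fun j => by
      have hle : (S j).1 ≤ Subobject.mk f :=
        Subobject.le_mk_of_comm (colimit.ι K j) (colimit.ι_desc κB j)
      refine ⟨hle, ?_⟩
      have e : Subobject.ofLE _ _ hle ≫ (Subobject.underlyingIso f).hom = colimit.ι K j := by
        rw [← cancel_mono f, Category.assoc, Subobject.underlyingIso_hom_comp_eq_mk,
          Subobject.ofLE_arrow]
        exact (colimit.ι_desc κB j).symm
      exact (Category.assoc _ _ _).symm.trans ((congrArg (· ≫ colimit.desc K κI) e).trans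
        (colimit.ι_desc κI j))
    have hS : ∀ a, ∀ ha : a ∈ c, S (equivShrink c ⟨a, ha⟩) = a.1 := fun a ha =>
      congrArg (fun z : c => z.1.1) ((equivShrink c).symm_apply_apply _)
    obtain ⟨a₀, ha₀⟩ := hne
    refine ⟨⟨ub, htrans a₀.2 (hS a₀ ha₀ ▸ hub _)⟩, fun a ha => hS a ha ▸ hub _⟩
  obtain ⟨⟨⟨M, μ⟩, hM⟩, hmax⟩ := exists_maximal_of_chains_bounded hchain
    (fun h₁ h₂ => htrans h₁ h₂)
  have hfac : ∀ (a : α) (x : G a ⟶ B), ∃ y, y ≫ M.arrow = x := by
    intro a x
    obtain ⟨ψ, hψ⟩ := h a (pullback M.arrow x) (pullback.snd M.arrow x)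
      (pullback.fst M.arrow x ≫ μ)
    let p := pullback.fst M.arrow x
    let q := pullback.snd M.arrow x
    let d : pushout p q ⟶ B := pushout.desc M.arrow x pullback.condition
    haveI : Mono d := (IsPushout.of_hasPushout p q).mono_of_isPullback_of_mono
      (IsPullback.of_hasPullback M.arrow x) d (pushout.inl_desc _ _ _) (pushout.inr_desc _ _ _)
    let μ' : pushout p q ⟶ I := pushout.desc μ ψ hψ.symm
    have hle : M ≤ Subobject.mk d := Subobject.le_mk_of_comm (pushout.inl p q) (pushout.inl_desc _ _ _)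
    have e : Subobject.ofLE _ _ hle ≫ (Subobject.underlyingIso d).hom = pushout.inl p q := by
      rw [← cancel_mono d, Category.assoc, Subobject.underlyingIso_hom_comp_eq_mk,
        Subobject.ofLE_arrow]
      exact (pushout.inl_desc _ _ _).symm
    have hr : r ⟨M, μ⟩ ⟨Subobject.mk d, (Subobject.underlyingIso d).hom ≫ μ'⟩ :=
      ⟨hle, (Category.assoc _ _ _).symm.trans ((congrArg (· ≫ μ') e).trans (pushout.inl_desc _ _ _))⟩
    obtain ⟨hle', -⟩ := hmax ⟨_, htrans hM hr⟩ hr
    refine ⟨pushout.inr p q ≫ (Subobject.underlyingIso d).inv ≫ Subobject.ofLE _ _ hle', ?_⟩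
    rw [Category.assoc, Category.assoc, Subobject.ofLE_arrow, Subobject.underlyingIso_arrow]
    exact pushout.inr_desc _ _ _
  have : Epi M.arrow := by
    refine Preadditive.epi_of_cancel_zero _ fun {Z} g hg => hG _ _ fun a x => ?_
    obtain ⟨y, rfl⟩ := hfac a x
    rw [Category.assoc, hg, comp_zero, comp_zero]
  haveI : IsIso M.arrow := isIso_of_mono_of_epi _
  refine ⟨inv M.arrow ≫ μ, ?_⟩
  obtain ⟨hle, e⟩ := hM
  have hi : i ≫ inv M.arrow = (Subobject.underlyingIso i).inv ≫ Subobject.ofLE _ _ hle := by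
    rw [IsIso.comp_inv_eq, Category.assoc, Subobject.ofLE_arrow, Subobject.underlyingIso_arrow]
  rw [← Category.assoc, hi, Category.assoc]
  exact (congrArg ((Subobject.underlyingIso i).inv ≫ ·) e).trans (Iso.inv_hom_id_assoc _ _)

end Abstract

/-- Baer's criterion for abelian sheaves: extension from subsheaves of the free sheaves `ℤ_X`. -/
theorem injective_of_extends {D : Type t} [SmallCategory D] (J : GrothendieckTopology D)
    (I : Sheaf J AddCommGrpCat.{t})
    (h : ∀ (X : D) (S : Sheaf J AddCommGrpCat.{t}) (i : S ⟶ CohCx.freeSheaf J X) [Mono i]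
      (φ : S ⟶ I), ∃ ψ : CohCx.freeSheaf J X ⟶ I, i ≫ ψ = φ) : Injective I := by
  refine injective_of_separating_family (fun X => CohCx.freeSheaf J X) (fun {A B} f g hfg => ?_) I h
  ext c s
  have := congrArg (CohFree.evalGen J c.unop B) (hfg c.unop (CohFree.ofSect J c.unop A s))
  rw [evalGen_comp, evalGen_comp, CohFree.evalGen_ofSect] at this
  exact this

end Groth.SiteCohomology
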