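import Mathlib.CategoryTheory.Abelian.Injective.Ext
import Mathlib.CategoryTheory.Abelian.Injective.Resolution
import Mathlib.CategoryTheory.Adjunction.Basic
import Mathlib.Algebra.Homology.ShortComplex.ExactFunctor
import Mathlib.GroupTheory.QuotientGroup.Basic
import Groth.Agent.SiteCohomology.AcyclicImage

/-!
# `Ext` and adjunctions

If `L ⊣ R` with `R` exact preserving injectives, then `Ext(A, R F) ≅ Ext(L A, F)`.
-/

universe w w' v v' u u'

open CategoryTheory Limits

set_option maxHeartbeats 1000000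
set_option synthInstance.maxHeartbeats 400000

namespace Groth.SiteCohomology

open Abelian

variable {C : Type u} [Category.{v} C] [Abelian C] [EnoughInjectives C] [HasExt.{w} C]
  {D : Type u'} [Category.{v'} D] [Abelian D] [HasExt.{w'} D]
  {L : D ⥤ C} {R : C ⥤ D}

/-- `Ext(A, R F) ≅ Ext(L A, F)` for `R` exact preserving injectives. -/
theorem nonempty_ext_adjunction_equiv (adj : L ⊣ R) [R.Additive] [PreservesFiniteLimits R]
    [PreservesFiniteColimits R] (hinj : ∀ I : C, Injective I → Injective (R.obj I))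
    (A : D) (F : C) (n : ℕ) :
    Nonempty (Ext A (R.obj F) n ≃+ Ext (L.obj A) F n) := by
  let h : ∀ (X : C), (L.obj A ⟶ X) →+ (A ⟶ R.obj X) := fun X =>
    AddMonoidHom.mk' (adj.homEquiv A X) fun a b => by
      simp only [Adjunction.homEquiv_unit, Functor.map_add, Preadditive.comp_add]
  cases n with
  | zero =>
    exact ⟨(Ext.addEquiv₀.trans (AddEquiv.ofBijective (h F)
      (adj.homEquiv A F).bijective).symm).trans Ext.addEquiv₀.symm⟩
  | succ m =>
    let P : InjectiveResolution F := injectiveResolution F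
    let Q : InjectiveResolution (R.obj F) := mapInjectiveResolution R P hinj fun k =>
      (P.cocomplex_exactAt_succ k).map R
    let Z : AddSubgroup (L.obj A ⟶ P.cocomplex.X (m + 1)) :=
      AddMonoidHom.ker (AddMonoidHom.mk' (fun f => f ≫ P.cocomplex.d (m + 1) (m + 2))
        fun a b => Preadditive.add_comp ..)
    have hZ : ∀ f : Z, h _ f.1 ≫ Q.cocomplex.d (m + 1) (m + 2) = 0 := fun f => by
      change adj.homEquiv _ _ f.1 ≫ R.map (P.cocomplex.d (m + 1) (m + 2)) = 0
      rw [← adj.homEquiv_naturality_right, show f.1 ≫ _ = 0 from f.2]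
      exact (h _).map_zero
    let ψ₁ : Z →+ Ext (L.obj A) F (m + 1) :=
      AddMonoidHom.mk' (fun f => P.extMk f.1 (m + 2) rfl f.2) fun a b =>
        (P.add_extMk _ _ _ _ a.2 b.2).symm
    let ψ₂ : Z →+ Ext A (R.obj F) (m + 1) :=
      AddMonoidHom.mk' (fun f => Q.extMk (h _ f.1) (m + 2) rfl (hZ f)) fun a b => by
        rw [Q.add_extMk]
        simp only [AddSubgroup.coe_add, map_add]
        rfl
    have hs₁ : Function.Surjective ψ₁ := fun e => by
      obtain ⟨f, hf, e'⟩ := P.extMk_surjective e (m + 2) rfl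
      exact ⟨⟨f, hf⟩, e'⟩
    have hs₂ : Function.Surjective ψ₂ := fun e => by
      obtain ⟨f, hf, e'⟩ := Q.extMk_surjective e (m + 2) rfl
      obtain ⟨f', rfl⟩ := (adj.homEquiv A _).surjective f
      refine ⟨⟨f', ?_⟩, e'⟩
      refine (adj.homEquiv A _).injective ?_
      exact (adj.homEquiv_naturality_right f' _).trans (hf.trans (h _).map_zero.symm)
    have hker : ψ₁.ker = ψ₂.ker := by
      ext f
      change P.extMk f.1 (m + 2) rfl f.2 = 0 ↔ Q.extMk (h _ f.1) (m + 2) rfl (hZ f) = 0
      rw [P.extMk_eq_zero_iff _ _ _ _ m rfl, Q.extMk_eq_zero_iff _ _ _ _ m rfl]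
      constructor
      · rintro ⟨g, hg⟩
        refine ⟨h _ g, ?_⟩
        rw [← hg]
        exact (adj.homEquiv_naturality_right g _).symm
      · rintro ⟨g, hg⟩
        obtain ⟨g', rfl⟩ := (adj.homEquiv A _).surjective g
        exact ⟨g', (adj.homEquiv A _).injective ((adj.homEquiv_naturality_right g' _).trans hg)⟩
    exact ⟨((QuotientAddGroup.quotientKerEquivOfSurjective ψ₂ hs₂).symm.trans
      (QuotientAddGroup.quotientAddEquivOfEq hker.symm)).trans
      (QuotientAddGroup.quotientKerEquivOfSurjective ψ₁ hs₁)⟩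

end Groth.SiteCohomology
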