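import Mathlib.AlgebraicTopology.ExtraDegeneracy
import Mathlib.AlgebraicTopology.CechNerve
import Mathlib.CategoryTheory.Limits.Types.Pullbacks

/-!
# Simplicial sets of Čech type

An augmented simplicial set is of Čech type if its `n`-simplices are the `(n+1)`-tuples of
vertices with the same image under the augmentation.
-/

universe u

open CategoryTheory Opposite Simplicial

namespace Groth.SiteCohomology

/-- The `i`-th vertex of an `n`-simplex. -/
def vert {D : Type*} [Category D] (X : SimplicialObject D) {n : ℕ} (i : Fin (n + 1)) :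
    X _⦋n⦌ ⟶ X _⦋0⦌ :=
  X.map (SimplexCategory.const ⦋0⦌ ⦋n⦌ i).op

/-- An augmented simplicial set of Čech type. -/
structure IsCechType (X : SimplicialObject.Augmented (Type u)) : Prop where
  ext : ∀ (n : ℕ) (x y : X.left _⦋n⦌), (∀ i, vert X.left i x = vert X.left i y) → x = y
  lift : ∀ (n : ℕ) (t : Fin (n + 1) → X.left _⦋0⦌),
    (∀ i j, X.hom.app (op ⦋0⦌) (t i) = X.hom.app (op ⦋0⦌) (t j)) →
      ∃ x, ∀ i, vert X.left i x = t i

lemma hom_vert (X : SimplicialObject.Augmented (Type u)) {n : ℕ} (i : Fin (n + 1))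
    (x : X.left _⦋n⦌) : X.hom.app (op ⦋0⦌) (vert X.left i x) = X.hom.app (op ⦋n⦌) x :=
  congrArg (fun z => z x) (X.hom.naturality (SimplexCategory.const ⦋0⦌ ⦋n⦌ i).op)

lemma vert_map (X : SimplicialObject (Type u)) {m n : ℕ} (α : ⦋m⦌ ⟶ ⦋n⦌) (i : Fin (m + 1))
    (x : X _⦋n⦌) : vert X i (X.map α.op x) = vert X (α.toOrderHom i) x := by
  change (X.map α.op ≫ X.map (SimplexCategory.const ⦋0⦌ ⦋m⦌ i).op) x = _
  rw [← X.map_comp, ← op_comp, SimplexCategory.const_comp]
  rfl

lemma vert_δ (X : SimplicialObject (Type u)) {n : ℕ} (k : Fin (n + 2)) (i : Fin (n + 1))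
    (x : X _⦋n + 1⦌) : vert X i (X.δ k x) = vert X (k.succAbove i) x :=
  vert_map X _ i x

lemma vert_σ (X : SimplicialObject (Type u)) {n : ℕ} (k : Fin (n + 1)) (i : Fin (n + 2))
    (x : X _⦋n⦌) : vert X i (X.σ k x) = vert X (k.predAbove i) x :=
  vert_map X _ i x

lemma vert_zero (X : SimplicialObject (Type u)) (i : Fin 1) (x : X _⦋0⦌) : vert X i x = x := by
  fin_cases i
  change X.map (SimplexCategory.const ⦋0⦌ ⦋0⦌ 0).op x = x
  rw [SimplexCategory.hom_zero_zero (SimplexCategory.const ⦋0⦌ ⦋0⦌ 0), op_id, X.map_id]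
  rfl

variable {X : SimplicialObject.Augmented (Type u)}

/-- An augmented simplicial set of Čech type with surjective augmentation has an extra
degeneracy. -/
theorem IsCechType.nonempty_extraDegeneracy (h : IsCechType X)
    (hs : Function.Surjective (X.hom.app (op ⦋0⦌))) :
    Nonempty (SimplicialObject.Augmented.ExtraDegeneracy X) := by
  have hσ : ∀ b : X.right, X.hom.app (op ⦋0⦌) (Function.surjInv hs b) = b :=
    Function.surjInv_eq hs
  have hex : ∀ (n : ℕ) (x : X.left _⦋n⦌), ∃ y : X.left _⦋n + 1⦌, ∀ i,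
      vert X.left i y = Fin.cases (motive := fun _ => X.left _⦋0⦌)
        (Function.surjInv hs (X.hom.app (op ⦋n⦌) x)) (fun j => vert X.left j x) i := by
    intro n x
    refine h.lift _ _ fun i j => ?_
    have key : ∀ k, X.hom.app (op ⦋0⦌) (Fin.cases (motive := fun _ => X.left _⦋0⦌)
        (Function.surjInv hs (X.hom.app (op ⦋n⦌) x)) (fun j => vert X.left j x) k) =
          X.hom.app (op ⦋n⦌) x := by
      intro k
      cases k using Fin.cases with
      | zero => exact hσ _
      | succ k => exact hom_vert X k x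
    rw [key, key]
  choose s hs' using hex
  have hs0 : ∀ n x, vert X.left 0 (s n x) = Function.surjInv hs (X.hom.app (op ⦋n⦌) x) :=
    fun n x => (hs' n x 0).trans rfl
  have hsucc : ∀ n x j, vert X.left j.succ (s n x) = vert X.left j x :=
    fun n x j => (hs' n x j.succ).trans rfl
  have hhom : ∀ n x, X.hom.app (op ⦋n + 1⦌) (s n x) = X.hom.app (op ⦋n⦌) x := fun n x => by
    rw [← hom_vert X 0, hs0, hσ]
  have hδ : ∀ n (k : Fin (n + 2)) (x : X.left _⦋n + 1⦌),
      X.hom.app (op ⦋n⦌) (X.left.δ k x) = X.hom.app (op ⦋n + 1⦌) x := fun n k x =>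
    congrArg (fun z => z x) (X.hom.naturality (SimplexCategory.δ k).op)
  have hσ' : ∀ n (k : Fin (n + 1)) (x : X.left _⦋n⦌),
      X.hom.app (op ⦋n + 1⦌) (X.left.σ k x) = X.hom.app (op ⦋n⦌) x := fun n k x =>
    congrArg (fun z => z x) (X.hom.naturality (SimplexCategory.σ k).op)
  refine ⟨{ s' := TypeCat.ofHom fun b => Function.surjInv hs b
            s := fun n => TypeCat.ofHom (s n)
            s'_comp_ε := by ext b; exact hσ b
            s₀_comp_δ₁ := ?_
            s_comp_δ₀ := ?_
            s_comp_δ := ?_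
            s_comp_σ := ?_ }⟩
  · ext x
    refine h.ext _ _ _ fun i => ?_
    change vert X.left i (X.left.δ 1 (s 0 x)) =
      vert X.left i (Function.surjInv hs (X.hom.app (op ⦋0⦌) x))
    rw [vert_δ, vert_zero]
    fin_cases i
    exact hs0 0 x
  · intro n
    ext x
    refine h.ext _ _ _ fun i => ?_
    change vert X.left i (X.left.δ 0 (s n x)) = vert X.left i x
    rw [vert_δ, Fin.succAbove_zero, hsucc]
  · intro n k
    ext x
    refine h.ext _ _ _ fun i => ?_
    change vert X.left i (X.left.δ k.succ (s (n + 1) x)) = vert X.left i (s n (X.left.δ k x))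
    rw [vert_δ]
    cases i using Fin.cases with
    | zero => rw [Fin.succ_succAbove_zero, hs0, hs0, hδ]
    | succ i => rw [Fin.succ_succAbove_succ, hsucc, hsucc, vert_δ]
  · intro n k
    ext x
    refine h.ext _ _ _ fun i => ?_
    change vert X.left i (X.left.σ k.succ (s n x)) = vert X.left i (s (n + 1) (X.left.σ k x))
    rw [vert_σ]
    cases i using Fin.cases with
    | zero => rw [Fin.predAbove_right_zero, hs0, hs0, hσ']
    | succ i => rw [Fin.succ_predAbove_succ, hsucc, hsucc, vert_σ]

end Groth.SiteCohomology
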