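import Groth.Agent.SiteCohomology.AcyclicResolution
import Groth.Agent.SiteCohomology.CechType
import Groth.Agent.SiteCohomology.HK
import Mathlib.AlgebraicTopology.ExtraDegeneracy
import Mathlib.CategoryTheory.Sites.LocallyBijective
import Mathlib.CategoryTheory.Subfunctor.Image
import Mathlib.Algebra.Homology.QuasiIso

/-!
# Čech resolutions

An augmented simplicial object in an abelian category is an augmented resolution when its
alternating face map complex resolves the point.
-/

universe u

open CategoryTheory Limits Opposite Simplicial AlgebraicTopology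

set_option synthInstance.maxHeartbeats 400000
set_option maxHeartbeats 1000000

namespace Groth.SiteCohomology

section General

variable {A : Type*} [Category A] [Abelian A]

/-- The alternating face map complex resolves the point of the augmentation. -/
def IsAugResolution (X : SimplicialObject.Augmented A) : Prop :=
  AcyclicRes.IsResolution' (fun n => X.left _⦋n⦌) (AlternatingFaceMapComplex.objD X.left)
    (X.hom.app (op ⦋0⦌))

lemma exact_mk_of_eq {a b c : A} {f f' : a ⟶ b} {g g' : b ⟶ c} (hf : f' = f) (hg : g' = g)
    {w : f ≫ g = 0} (w' : f' ≫ g' = 0) (h : (ShortComplex.mk f g w).Exact) :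
    (ShortComplex.mk f' g' w').Exact := by
  subst hf hg
  exact h

lemma objD_comp_ε (X : SimplicialObject.Augmented A) :
    AlternatingFaceMapComplex.objD X.left 0 ≫ X.hom.app (op ⦋0⦌) = 0 := by
  have h : ∀ i, X.left.δ i ≫ X.hom.app (op ⦋0⦌) = X.hom.app (op ⦋1⦌) := fun i =>
    (X.hom.naturality (SimplexCategory.δ i).op).trans (Category.comp_id _)
  simp [AlternatingFaceMapComplex.objD, Fin.sum_univ_two, Preadditive.add_comp,
    Preadditive.neg_comp, h]

lemma isAugResolution_iff_quasiIso (X : SimplicialObject.Augmented A) :
    IsAugResolution X ↔ QuasiIso (AlternatingFaceMapComplex.ε.app X) := by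
  let K := AlternatingFaceMapComplex.obj X.left
  have hd : ∀ n, K.d (n + 1) n = AlternatingFaceMapComplex.objD X.left n :=
    fun n => AlternatingFaceMapComplex.obj_d_eq _ _
  have h0 : QuasiIsoAt (AlternatingFaceMapComplex.ε.app X) 0 ↔
      (ShortComplex.mk (AlternatingFaceMapComplex.objD X.left 0) (X.hom.app (op ⦋0⦌))
        (objD_comp_ε X)).Exact ∧ Epi (X.hom.app (op ⦋0⦌)) := by
    rw [ChainComplex.quasiIsoAt₀_iff, ShortComplex.quasiIso_iff_of_zeros']
    rotate_left
    · exact K.shape 0 0 (by simp)
    · exact HomologicalComplex.single_obj_d (c := ComplexShape.down ℕ) ..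
    · exact HomologicalComplex.single_obj_d (c := ComplexShape.down ℕ) ..
    refine and_congr (ShortComplex.exact_iff_of_iso (ShortComplex.isoMk (Iso.refl _) (Iso.refl _)
      (Iso.refl _) ?_ ?_)) ?_
    · exact (Category.id_comp _).trans ((hd 0).symm.trans (Category.comp_id _).symm)
    · exact (Category.id_comp _).trans
        ((AlternatingFaceMapComplex.ε_app_f_zero X).symm.trans (Category.comp_id _).symm)
    · exact iff_of_eq (congrArg Epi (AlternatingFaceMapComplex.ε_app_f_zero X))
  have hn : ∀ n, QuasiIsoAt (AlternatingFaceMapComplex.ε.app X) (n + 1) ↔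
      (ShortComplex.mk (AlternatingFaceMapComplex.objD X.left (n + 1))
        (AlternatingFaceMapComplex.objD X.left n) (AlternatingFaceMapComplex.d_squared _ n)).Exact :=
    fun n => by
      rw [quasiIsoAt_iff_exactAt' _ _ (ChainComplex.exactAt_succ_single_obj _ _),
        HomologicalComplex.exactAt_iff' _ (n + 2) (n + 1) n (by simp) (by simp)]
      refine ShortComplex.exact_iff_of_iso (ShortComplex.isoMk (Iso.refl _) (Iso.refl _)
        (Iso.refl _) ?_ ?_)
      · exact (Category.id_comp _).trans ((hd (n + 1)).symm.trans (Category.comp_id _).symm)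
      · exact (Category.id_comp _).trans ((hd n).symm.trans (Category.comp_id _).symm)
  rw [quasiIso_iff]
  constructor
  · intro h
    rintro (_ | n)
    · exact h0.2 ⟨h.exact₀, h.epi⟩
    · exact (hn n).2 (h.exact n)
  · intro h
    exact { epi := (h0.1 (h 0)).2
            zero₀ := objD_comp_ε X
            exact₀ := (h0.1 (h 0)).1
            zero := fun n => AlternatingFaceMapComplex.d_squared _ n
            exact := fun n => (hn n).1 (h (n + 1)) }

/-- An extra degeneracy gives an augmented resolution. -/
lemma isAugResolution_of_extraDegeneracy {X : SimplicialObject.Augmented A}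
    (ed : SimplicialObject.Augmented.ExtraDegeneracy X) : IsAugResolution X :=
  (isAugResolution_iff_quasiIso X).2
    (inferInstanceAs (QuasiIso ed.homotopyEquiv.hom))

/-- Augmented resolutions are unchanged under an isomorphism of the point. -/
lemma IsAugResolution.congr_point {X X' : SimplicialObject.Augmented A} (h : IsAugResolution X)
    (eX : X ⟶ X') [IsIso eX.left] [IsIso eX.right] : IsAugResolution X' := by
  have : IsIso eX := by
    refine ⟨⟨⟨inv eX.left, inv eX.right, ?_⟩, ?_, ?_⟩⟩
    · have w := eX.w
      dsimp at w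
      simp [w]
    · ext <;> simp
    · ext <;> simp
  rw [isAugResolution_iff_quasiIso] at h ⊢
  exact (quasiIso_iff_of_arrow_mk_iso _ _
    (Arrow.isoMk ((SimplicialObject.Augmented.drop ⋙ alternatingFaceMapComplex A).mapIso (asIso eX))
      ((SimplicialObject.Augmented.point ⋙ ChainComplex.single₀ A).mapIso (asIso eX))
      (AlternatingFaceMapComplex.ε.naturality eX))).1 h

variable {B : Type*} [Category B] [Abelian B]

lemma map_objD (G : A ⥤ B) [G.Additive] (X : SimplicialObject A) (n : ℕ) :
    G.map (AlternatingFaceMapComplex.objD X n) =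
      AlternatingFaceMapComplex.objD (((SimplicialObject.whiskering A B).obj G).obj X) n := by
  simp only [AlternatingFaceMapComplex.objD, Functor.map_sum, Functor.map_zsmul]
  rfl

/-- An exact functor preserves augmented resolutions. -/
lemma IsAugResolution.map {X : SimplicialObject.Augmented A} (h : IsAugResolution X) (G : A ⥤ B)
    [G.Additive] [PreservesFiniteLimits G] [PreservesFiniteColimits G] :
    IsAugResolution (((SimplicialObject.Augmented.whiskering A B).obj G).obj X) := by
  have hhom : ((((SimplicialObject.Augmented.whiskering A B).obj G).obj X).hom.app (op ⦋0⦌)) =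
      G.map (X.hom.app (op ⦋0⦌)) := Category.comp_id _
  have hd := fun n => map_objD G X.left n
  refine { epi := ?_, zero₀ := objD_comp_ε _, exact₀ := ?_,
           zero := fun n => AlternatingFaceMapComplex.d_squared _ n, exact := fun n => ?_ }
  · have := h.epi
    rw [hhom]
    exact G.map_epi _
  · exact exact_mk_of_eq (hd 0).symm hhom _ (h.exact₀.map G)
  · exact exact_mk_of_eq (hd (n + 1)).symm (hd n).symm _ ((h.exact n).map G)

end General

section Presheaf

variable {C : Type u} [SmallCategory C]

/-- The evaluation at `c` of an augmented simplicial object in presheaves. -/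
abbrev evalAug {A : Type*} [Category A] (c : Cᵒᵖ) :
    SimplicialObject.Augmented (Cᵒᵖ ⥤ A) ⥤ SimplicialObject.Augmented A :=
  (SimplicialObject.Augmented.whiskering _ _).obj ((evaluation Cᵒᵖ A).obj c)

/-- Being an augmented resolution of presheaves of abelian groups is checked objectwise. -/
lemma isAugResolution_of_evaluation (X : SimplicialObject.Augmented (Cᵒᵖ ⥤ AddCommGrpCat.{u}))
    (h : ∀ c, IsAugResolution ((evalAug c).obj X)) : IsAugResolution X := by
  have hhom : ∀ c, ((evalAug c).obj X).hom.app (op ⦋0⦌) = (X.hom.app (op ⦋0⦌)).app c :=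
    fun c => Category.comp_id _
  have hd := fun c n => map_objD ((evaluation Cᵒᵖ AddCommGrpCat.{u}).obj c) X.left n
  refine { epi := ?_, zero₀ := objD_comp_ε _, exact₀ := ?_,
           zero := fun n => AlternatingFaceMapComplex.d_squared _ n, exact := fun n => ?_ }
  · have : ∀ c, Epi ((X.hom.app (op ⦋0⦌)).app c) := fun c => hhom c ▸ (h c).epi
    exact NatTrans.epi_of_epi_app _
  · exact exact_of_evaluation _ fun c =>
      exact_mk_of_eq (hd c 0) (hhom c).symm _ (h c).exact₀
  · exact exact_of_evaluation _ fun c =>
      exact_mk_of_eq (hd c (n + 1)) (hd c n) _ ((h c).exact n)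

/-- An augmented simplicial presheaf of sets is of Čech type objectwise. -/
def IsCechTypePresheaf (X : SimplicialObject.Augmented (Cᵒᵖ ⥤ Type u)) : Prop :=
  ∀ c, IsCechType ((evalAug c).obj X)

variable (J : GrothendieckTopology C)

/-- The free abelian sheaf functor inverts local isomorphisms. -/
lemma isIso_freeSh_map_of_W {P Q : Cᵒᵖ ⥤ Type u} (f : P ⟶ Q) (hf : J.W f) :
    IsIso ((freeSh J).map f) := by
  rw [isIso_iff_coyoneda_map_bijective]
  intro G
  have hG : Presheaf.IsSheaf J (G.obj ⋙ forget AddCommGrpCat.{u}) :=
    GrothendieckTopology.HasSheafCompose.isSheaf G.obj G.2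
  have key : (fun x => (freeSh J).map f ≫ x) =
      ((freeShAdj J).homEquiv P G).symm ∘ (fun y => f ≫ y) ∘ ((freeShAdj J).homEquiv Q G) := by
    funext x
    simp only [Function.comp_apply, Adjunction.homEquiv_naturality_left_symm,
      Equiv.symm_apply_apply]
  rw [key]
  exact (Equiv.bijective _).comp ((hf _ hG).comp (Equiv.bijective _))

/-- The same augmented simplicial presheaf with point replaced by the image of the augmentation. -/
noncomputable def imageAug (X : SimplicialObject.Augmented (Cᵒᵖ ⥤ Type u)) :
    SimplicialObject.Augmented (Cᵒᵖ ⥤ Type u) :=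
  X.left.augment (Subfunctor.range (X.hom.app (op ⦋0⦌))).toFunctor
    (Subfunctor.toRange (X.hom.app (op ⦋0⦌))) fun i g₁ g₂ => by
      rw [← cancel_mono (Subfunctor.range (X.hom.app (op ⦋0⦌))).ι, Category.assoc, Category.assoc,
        Subfunctor.toRange_ι]
      exact (X.hom.naturality g₁.op).trans (X.hom.naturality g₂.op).symm

lemma imageAug_hom_zero (X : SimplicialObject.Augmented (Cᵒᵖ ⥤ Type u)) :
    (imageAug X).hom.app (op ⦋0⦌) = Subfunctor.toRange (X.hom.app (op ⦋0⦌)) := by
  change X.left.map (SimplexCategory.const ⦋0⦌ ⦋0⦌ 0).op ≫ _ = _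
  rw [SimplexCategory.hom_zero_zero (SimplexCategory.const ⦋0⦌ ⦋0⦌ 0), op_id, X.left.map_id]
  exact Category.id_comp _

lemma imageAug_hom_ι (X : SimplicialObject.Augmented (Cᵒᵖ ⥤ Type u)) (n : SimplexCategoryᵒᵖ) :
    (imageAug X).hom.app n ≫ (Subfunctor.range (X.hom.app (op ⦋0⦌))).ι = X.hom.app n := by
  change (X.left.map (SimplexCategory.const ⦋0⦌ n.unop 0).op ≫ _) ≫ _ = _
  refine (Category.assoc _ _ _).trans ((congrArg (_ ≫ ·) (Subfunctor.toRange_ι _)).trans ?_)
  exact (X.hom.naturality (SimplexCategory.const ⦋0⦌ n.unop 0).op).trans (Category.comp_id _)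

/-- The comparison map from the image augmentation. -/
noncomputable def imageAugHom (X : SimplicialObject.Augmented (Cᵒᵖ ⥤ Type u)) :
    imageAug X ⟶ X where
  left := 𝟙 X.left
  right := (Subfunctor.range (X.hom.app (op ⦋0⦌))).ι
  w := by
    apply NatTrans.ext
    funext n
    exact (Category.id_comp _).trans (imageAug_hom_ι X n).symm

/-- The free abelian presheaves on a simplicial presheaf of Čech type with locally surjective
augmentation sheafify to a resolution of the free abelian sheaf on the point. -/
theorem isAugResolution_freeSh (X : SimplicialObject.Augmented (Cᵒᵖ ⥤ Type u))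
    (hX : IsCechTypePresheaf X) [Presheaf.IsLocallySurjective J (X.hom.app (op ⦋0⦌))] :
    IsAugResolution (((SimplicialObject.Augmented.whiskering _ _).obj (freeSh J)).obj X) := by
  let Y := imageAug X
  let free := (Functor.whiskeringRight Cᵒᵖ _ _).obj AddCommGrpCat.free.{u}
  have hY : IsAugResolution (((SimplicialObject.Augmented.whiskering _ _).obj free).obj Y) := by
    refine isAugResolution_of_evaluation _ fun c => ?_
    have hY0 : ((evalAug c).obj Y).hom.app (op ⦋0⦌) =
        (Subfunctor.toRange (X.hom.app (op ⦋0⦌))).app c := by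
      rw [← imageAug_hom_zero]
      exact Category.comp_id _
    have hX0 : ((evalAug c).obj X).hom.app (op ⦋0⦌) = (X.hom.app (op ⦋0⦌)).app c :=
      Category.comp_id _
    have hsur : Function.Surjective (((evalAug c).obj Y).hom.app (op ⦋0⦌)) := by
      rw [hY0]
      rintro ⟨b, a, ha⟩
      exact ⟨a, Subtype.ext ha⟩
    have hT : IsCechType ((evalAug c).obj Y) :=
      { ext := (hX c).ext
        lift := fun n t ht => (hX c).lift n t fun i j => by
          have h := ht i j
          rw [hY0] at h
          rw [hX0]
          exact congrArg Subtype.val h }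
    obtain ⟨ed⟩ := hT.nonempty_extraDegeneracy hsur
    exact isAugResolution_of_extraDegeneracy (ed.map AddCommGrpCat.free.{u})
  have h2 := hY.map (presheafToSheaf J AddCommGrpCat.{u})
  have hι : IsIso ((freeSh J).map (Subfunctor.range (X.hom.app (op ⦋0⦌))).ι) := by
    refine isIso_freeSh_map_of_W J _ ?_
    have := Presheaf.isLocallySurjective_of_isLocallySurjective_fac J
      (Subfunctor.toRange_ι (X.hom.app (op ⦋0⦌)))
    have : Presheaf.IsLocallyInjective J (Subfunctor.range (X.hom.app (op ⦋0⦌))).ι :=
      Presheaf.isLocallyInjective_of_injective J _ fun _ => Subtype.val_injective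
    exact J.W_of_isLocallyBijective _
  let e := ((SimplicialObject.Augmented.whiskering _ _).obj (freeSh J)).map (imageAugHom X)
  have : IsIso e.left := inferInstanceAs (IsIso
    (((SimplicialObject.whiskering _ _).obj (freeSh J)).map (𝟙 X.left)))
  have : IsIso e.right := hι
  exact @IsAugResolution.congr_point _ _ _ _ _ h2 e (by assumption) (by assumption)

end Presheaf

end Groth.SiteCohomology
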