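import Mathlib.Topology.Separation.Basic

/-!
# Separation of compact subsets with pointwise separation
-/

universe u

open Set Topology

namespace Groth.SiteCohomology

lemma separatedNhds_of_compact {X : Type u} [TopologicalSpace X] {A B : Set X} (hA : IsCompact A)
    (hB : IsCompact B) (h : ∀ a ∈ A, ∀ b ∈ B, SeparatedNhds {a} {b}) : SeparatedNhds A B := by
  have h1 : ∀ a ∈ A, SeparatedNhds {a} B := fun a ha => by
    refine hB.induction_on (p := fun s => SeparatedNhds {a} s) (SeparatedNhds.empty_right _)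
      (fun s t hst ht => ht.mono Subset.rfl hst) (fun s t hs ht => hs.union_right ht) fun b hb => ?_
    obtain ⟨U, V, hU, hV, haU, hbV, hd⟩ := h a ha b hb
    exact ⟨V, mem_nhdsWithin_of_mem_nhds (hV.mem_nhds (hbV rfl)),
      ⟨U, V, hU, hV, haU, Subset.rfl, hd⟩⟩
  refine hA.induction_on (p := fun s => SeparatedNhds s B) (SeparatedNhds.empty_left _)
    (fun s t hst ht => ht.mono hst Subset.rfl) (fun s t hs ht => hs.union_left ht) fun a ha => ?_
  obtain ⟨U, V, hU, hV, haU, hbV, hd⟩ := h1 a ha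
  exact ⟨U, mem_nhdsWithin_of_mem_nhds (hU.mem_nhds (haU rfl)),
    ⟨U, V, hU, hV, Subset.rfl, hbV, hd⟩⟩

theorem exists_open_inter_subset {X : Type u} [TopologicalSpace X] {K : Set X} (hK : IsCompact K)
    (hsep : ∀ x ∈ K, ∀ y ∈ K, x ≠ y →
      ∃ U V : Set X, IsOpen U ∧ IsOpen V ∧ x ∈ U ∧ y ∈ V ∧ Disjoint U V)
    {A B W : Set X} (hA : A ⊆ K) (hB : B ⊆ K) (hAc : IsClosed (Subtype.val ⁻¹' A : Set K))
    (hBc : IsClosed (Subtype.val ⁻¹' B : Set K)) (hW : IsOpen W) (hABW : A ∩ B ⊆ W) :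
    ∃ U V : Set X, IsOpen U ∧ IsOpen V ∧ A ⊆ U ∧ B ⊆ V ∧ U ∩ V ⊆ W := by
  haveI := isCompact_iff_compactSpace.1 hK
  have hc : ∀ S : Set X, S ⊆ K → IsClosed (Subtype.val ⁻¹' S : Set K) → IsCompact (S \ W) := by
    intro S hS hSc
    have := (hSc.isCompact.image continuous_subtype_val).diff hW
    rwa [Subtype.image_preimage_coe, inter_eq_self_of_subset_right hS] at this
  obtain ⟨U, V, hU, hV, hAU, hBV, hd⟩ :=
    separatedNhds_of_compact (hc A hA hAc) (hc B hB hBc) (fun a ha b hb => by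
      have hne : a ≠ b := fun e => ha.2 (hABW ⟨ha.1, e ▸ hb.1⟩)
      obtain ⟨U, V, hU, hV, haU, hbV, hd⟩ := hsep a (hA ha.1) b (hB hb.1) hne
      exact ⟨U, V, hU, hV, singleton_subset_iff.2 haU, singleton_subset_iff.2 hbV, hd⟩)
  refine ⟨U ∪ W, V ∪ W, hU.union hW, hV.union hW, fun x hx => ?_, fun x hx => ?_, ?_⟩
  · by_cases hxW : x ∈ W
    · exact Or.inr hxW
    · exact Or.inl (hAU ⟨hx, hxW⟩)
  · by_cases hxW : x ∈ W
    · exact Or.inr hxW
    · exact Or.inl (hBV ⟨hx, hxW⟩)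
  · rintro x ⟨hxU | hxU, hxV | hxV⟩
    · exact absurd hxV (Set.disjoint_left.1 hd hxU)
    all_goals assumption

end Groth.SiteCohomology
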