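import Groth.Agent.SiteCohomology.Flasque
import Groth.Agent.SiteCohomology.ExtBasic
import Mathlib.Algebra.Homology.ShortComplex.HomologicalComplex
import Mathlib.Algebra.Homology.HomologicalComplex

/-!
# Dimension shifting along finite exact sequences
-/

universe w v u

open CategoryTheory Limits Opposite TopologicalSpace Abelian

namespace Groth.SiteCohomology

section General

variable {C : Type u} [Category.{v} C] [Abelian C] [HasExt.{w} C] (F : ChainComplex C ℕ)

/-- `0 → Z_{j+1} → F_{j+1} → Z_j → 0`. -/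
noncomputable abbrev cyclesSES (j : ℕ) : ShortComplex C :=
  ShortComplex.mk (F.iCycles (j + 1)) (F.toCycles (j + 1) j)
    (by rw [← cancel_mono (F.iCycles j), Category.assoc, F.toCycles_i, F.iCycles_d, zero_comp])

lemma cyclesSES_shortExact (j : ℕ) (h : Epi (F.toCycles (j + 1) j)) :
    (cyclesSES F j).ShortExact := by
  let T : ShortComplex C := ShortComplex.mk (F.iCycles (j + 1)) (F.d (j + 1) j) (F.iCycles_d _ _)
  let φ : cyclesSES F j ⟶ T :=
    { τ₁ := 𝟙 _
      τ₂ := 𝟙 _
      τ₃ := F.iCycles j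
      comm₁₂ := (Category.id_comp _).trans (Category.comp_id _).symm
      comm₂₃ := (Category.id_comp _).trans (F.toCycles_i _ _).symm }
  have hT : T.Exact := T.exact_of_f_is_kernel (F.cyclesIsKernel (j + 1) j (by simp))
  haveI : Mono φ.τ₃ := inferInstanceAs (Mono (F.iCycles j))
  haveI : Epi φ.τ₁ := inferInstanceAs (Epi (𝟙 _))
  haveI : IsIso φ.τ₂ := inferInstanceAs (IsIso (𝟙 _))
  exact ShortComplex.ShortExact.mk' ((ShortComplex.exact_iff_of_epi_of_isIso_of_mono φ).2 hT)
    inferInstance h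

lemma epi_toCycles_of_exactAt (j : ℕ) (h : F.ExactAt j) : Epi (F.toCycles (j + 1) j) := by
  have hp : (ComplexShape.down ℕ).prev j = j + 1 := ChainComplex.prev ℕ j
  obtain ⟨k, hk⟩ : ∃ k, (ComplexShape.down ℕ).next j = k := ⟨_, rfl⟩
  have h' : Epi (F.sc' (j + 1) j k).toCycles :=
    (F.sc' (j + 1) j k).exact_iff_epi_toCycles.1 ((F.exactAt_iff' _ _ _ hp hk).1 h)
  haveI : Epi (F.toCycles (j + 1) j ≫ (F.cyclesIsoSc' (j + 1) j k hp hk).hom) := by
    rw [F.toCycles_cyclesIsoSc'_hom]
    exact h'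
  exact (epi_comp_iff_of_isIso _ (F.cyclesIsoSc' (j + 1) j k hp hk).hom).1 this

/-- Vanishing of `Ext^j` on the cycles of a finite exact sequence, by descending induction. -/
theorem subsingleton_ext_cycles (X : C) (r : ℕ) (hr : 1 ≤ r) (hmono : Mono (F.d r (r - 1)))
    (hex : ∀ j : ℕ, 1 ≤ j → j < r → F.ExactAt j)
    (hvan : ∀ j : ℕ, 2 ≤ j → j ≤ r → Subsingleton (Ext X (F.X j) (j - 1))) :
    ∀ j, 1 ≤ j → j ≤ r → Subsingleton (Ext X (F.cycles j) j) := by
  intro j hj hjr
  induction hn : r - j generalizing j with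
  | zero =>
    obtain rfl : j = r := by omega
    have hz : IsZero (F.cycles j) := by
      rw [IsZero.iff_id_eq_zero, ← cancel_mono (F.iCycles j), Category.id_comp, zero_comp,
        ← cancel_mono (F.d j (j - 1)), F.iCycles_d, zero_comp]
    exact ⟨fun a b => by
      rw [← Ext.comp_mk₀_id a, ← Ext.comp_mk₀_id b, hz.eq_of_src (𝟙 _) 0, Ext.mk₀_zero,
        Ext.comp_zero, Ext.comp_zero]⟩
  | succ n ih =>
    haveI := ih (j + 1) (by omega) (by omega) (by omega)
    haveI : Subsingleton (Ext X (cyclesSES F j).X₁ (j + 1)) := this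
    haveI : Subsingleton (Ext X (cyclesSES F j).X₂ j) := hvan (j + 1) (by omega) (by omega)
    exact subsingleton_ext_right (cyclesSES_shortExact F j
      (epi_toCycles_of_exactAt F j (hex j hj (by omega)))) X j

end General

/-- Sections of the last map of a finite exact sequence are surjective. -/
theorem surjective_sections_of_exact_sequence (X : TopCat.{u}) (r : ℕ) (hr : 1 ≤ r)
    (F : ChainComplex (CohTop.Ab X) ℕ) (hmono : Mono (F.d r (r - 1))) (hepi : Epi (F.d 1 0))
    (hex : ∀ j : ℕ, 1 ≤ j → j < r → F.ExactAt j)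
    (hvan : ∀ j : ℕ, 2 ≤ j → j ≤ r → Subsingleton (CohTop.H (F.X j) (j - 1))) :
    Function.Surjective ((F.d 1 0).hom.app (op ⊤)) := by
  have hv : ∀ j, 1 ≤ j → j ≤ r → Subsingleton (CohTop.HU (F.cycles j) j ⊤) :=
    subsingleton_ext_cycles F (CohCx.freeSheaf (Opens.grothendieckTopology X) (⊤ : Opens X)) r hr
      hmono hex fun j h₁ h₂ =>
        haveI := hvan j h₁ h₂
        (HUTopEquiv (F.X j) (j - 1)).subsingleton
  let S : ShortComplex (CohTop.Ab X) := ShortComplex.mk (F.iCycles 1) (F.d 1 0) (F.iCycles_d _ _)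
  have hS : S.ShortExact := ShortComplex.ShortExact.mk'
    (S.exact_of_f_is_kernel (F.cyclesIsKernel 1 0 (by simp))) inferInstance hepi
  haveI : Subsingleton (CohSite.HU S.X₁ 1 (⊤ : Opens X)) := hv 1 le_rfl hr
  exact surjective_sections_of_subsingleton_HU hS ⊤

end Groth.SiteCohomology
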