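import Groth.Agent.SiteCohomology.HigherDirectImage

/-!
# Naturality of the comparison with the cohomology presheaf; higher direct images as a functor
-/

universe u

open CategoryTheory Limits Opposite

set_option synthInstance.maxHeartbeats 400000
set_option maxHeartbeats 4000000

namespace Groth.SiteCohomology

open Abelian

variable {C : Type u} [SmallCategory C] {J : GrothendieckTopology C}

section Res

variable {F : Sheaf J AddCommGrpCat.{u}} (R : InjectiveResolution F) (n : ℕ)

lemma cyclesToCohomology_w :
    (preCx R).toCycles ((ComplexShape.up ℕ).prev n) n ≫ cyclesToCohomology R n = 0 := by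
  ext U x
  exact (cycleClass_eq_zero_iff R n U.unop _).2 ⟨x, rfl⟩

/-- The comparison from the homology presheaf. -/
noncomputable def homologyToCohomology :
    (preCx R).homology n ⟶ Sheaf.cohomologyPresheaf.{u} F n :=
  ((preCx R).homologyIsCokernel _ n rfl).desc (CokernelCofork.ofπ _ (cyclesToCohomology_w R n))

lemma homologyπ_homologyToCohomology :
    (preCx R).homologyπ n ≫ homologyToCohomology R n = cyclesToCohomology R n :=
  Cofork.IsColimit.π_desc ((preCx R).homologyIsCokernel _ n rfl)

lemma isIso_homologyToCohomology : IsIso (homologyToCohomology R n) := by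
  have hepi : Epi (cyclesToCohomology R n) :=
    have : ∀ U, Epi ((cyclesToCohomology R n).app U) := fun U =>
      (AddCommGrpCat.epi_iff_surjective _).2 (exists_cycle_class R n U.unop)
    NatTrans.epi_of_epi_app _
  have hex : (ShortComplex.mk _ _ (cyclesToCohomology_w R n)).Exact := exact_of_evaluation _
    fun U => (ShortComplex.ab_exact_iff _).2 fun z hz =>
      (cycleClass_eq_zero_iff R n U.unop z).1 hz
  exact (IsColimit.coconePointUniqueUpToIso ((preCx R).homologyIsCokernel _ n rfl)
    (@ShortComplex.Exact.gIsCokernel _ _ _ (ShortComplex.mk _ _ (cyclesToCohomology_w R n)) _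
      hex hepi)).isIso_hom

lemma cycleClass_natural {G : Sheaf J AddCommGrpCat.{u}} {R' : InjectiveResolution G} {g : F ⟶ G}
    (φ : InjectiveResolution.Hom R R' g) (U : C) (z : ((preCx R).cycles n).obj (op U)) :
    cycleClass R' n U ((HomologicalComplex.cyclesMap
        (((sheafToPresheaf J AddCommGrpCat.{u}).mapHomologicalComplex _).map φ.hom) n).app (op U) z) =
      ((Sheaf.cohomologyPresheafFunctor J n).map g).app (op U) (cycleClass R n U z) := by
  refine Eq.trans ?_ (InjectiveResolution.extMk_comp_mk₀ _ (n + 1) rfl (secOf_d R n U z) φ).symm
  refine extMk_congr R' (n + 1) rfl ?_ (secOf_d R' n U _) _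
  exact (congrArg (CohFree.ofSect J U _) (ConcreteCategory.congr_hom
      (NatTrans.congr_app (HomologicalComplex.cyclesMap_i
        (((sheafToPresheaf J AddCommGrpCat.{u}).mapHomologicalComplex _).map φ.hom) n) (op U)) z)).trans
    (ofSect_comp _ _).symm

lemma homologyToCohomology_natural {G : Sheaf J AddCommGrpCat.{u}} {R' : InjectiveResolution G}
    {g : F ⟶ G} (φ : InjectiveResolution.Hom R R' g) :
    HomologicalComplex.homologyMap
        (((sheafToPresheaf J AddCommGrpCat.{u}).mapHomologicalComplex _).map φ.hom) n ≫
      homologyToCohomology R' n =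
    homologyToCohomology R n ≫ (Sheaf.cohomologyPresheafFunctor J n).map g := by
  rw [← cancel_epi ((preCx R).homologyπ n), HomologicalComplex.homologyπ_naturality_assoc,
    ← Category.assoc ((preCx R).homologyπ n), homologyπ_homologyToCohomology R n]
  refine (congrArg (_ ≫ ·) (homologyπ_homologyToCohomology R' n)).trans ?_
  ext U z
  exact cycleClass_natural R n φ U.unop z

end Res

/-- `R^n` of the inclusion into presheaves is the cohomology presheaf functor. -/
noncomputable def rightDerivedSheafToPresheafIso (n : ℕ) :
    (sheafToPresheaf J AddCommGrpCat.{u}).rightDerived n ≅ Sheaf.cohomologyPresheafFunctor J n :=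
  NatIso.ofComponents
    (fun F => (injectiveResolution F).isoRightDerivedObj _ n ≪≫
      @asIso _ _ _ _ (homologyToCohomology (injectiveResolution F) n) (isIso_homologyToCohomology _ n))
    (fun {F G} g => by
      let φ : InjectiveResolution.Hom (injectiveResolution F) (injectiveResolution G) g :=
        { hom := InjectiveResolution.desc g (injectiveResolution G) (injectiveResolution F)
          ι_f_zero_comp_hom_f_zero := by
            rw [CochainComplex.single₀_map_f_zero]
            exact InjectiveResolution.desc_commutes_zero g _ _ }
      have h := InjectiveResolution.isoRightDerivedObj_hom_naturality g (injectiveResolution F)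
        (injectiveResolution G) φ.hom (InjectiveResolution.desc_commutes_zero g _ _) (sheafToPresheaf J AddCommGrpCat.{u}) n
      simp only [Iso.trans_hom, asIso_hom]
      rw [← Category.assoc, h, Category.assoc, Category.assoc]
      exact congrArg (_ ≫ ·) (homologyToCohomology_natural _ n φ))

section General

universe v v' v'' u' u'' w

variable {A : Type w} [Category.{v} A] [Abelian A] [HasInjectiveResolutions A]
  {B : Type u'} [Category.{v'} B] [Abelian B] {B' : Type u''} [Category.{v''} B'] [Abelian B']

/-- Post-composition with an exact functor commutes with right derivation, naturally. -/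
noncomputable def rightDerivedCompExactIso (F : A ⥤ B) [F.Additive] (W : B ⥤ B') [W.Additive]
    [PreservesFiniteLimits W] [PreservesFiniteColimits W] (n : ℕ) :
    (F ⋙ W).rightDerived n ≅ F.rightDerived n ⋙ W :=
  NatIso.ofComponents
    (fun X => (injectiveResolution X).isoRightDerivedObj (F ⋙ W) n ≪≫
      (((F.mapHomologicalComplex _).obj (injectiveResolution X).cocomplex).sc n).mapHomologyIso W ≪≫
      W.mapIso ((injectiveResolution X).isoRightDerivedObj F n).symm)
    (fun {X Y} g => by
      let φ := InjectiveResolution.desc g (injectiveResolution Y) (injectiveResolution X)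
      have hφ : (injectiveResolution X).ι.f 0 ≫ φ.f 0 = g ≫ (injectiveResolution Y).ι.f 0 := InjectiveResolution.desc_commutes_zero g _ _
      have h1 := InjectiveResolution.isoRightDerivedObj_hom_naturality g (injectiveResolution X)
        (injectiveResolution Y) φ hφ (F ⋙ W) n
      have h2 := InjectiveResolution.isoRightDerivedObj_inv_naturality g (injectiveResolution X)
        (injectiveResolution Y) φ hφ F n
      have h3 := ShortComplex.mapHomologyIso_hom_naturality
        ((HomologicalComplex.shortComplexFunctor B (ComplexShape.up ℕ) n).map
          ((F.mapHomologicalComplex _).map φ)) W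
      simp only [Iso.trans_hom, Functor.mapIso_hom, Iso.symm_hom, Category.assoc]
      rw [reassoc_of% h1]
      refine congrArg (_ ≫ ·) ?_
      refine (reassoc_of% h3) _ |>.trans ?_
      exact congrArg (_ ≫ ·) ((W.map_comp _ _).symm.trans
        ((congrArg W.map h2.symm).trans (W.map_comp _ _))))

end General

variable {D : Type u} [SmallCategory D] (K : GrothendieckTopology D) (v : D ⥤ C) [v.IsContinuous K J]

/-- `R^i u_*` is the sheafification of the restricted cohomology presheaf functor. -/
noncomputable def rpushNatIso (i : ℕ) : CohSite.Rpush J K v i ≅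
    Sheaf.cohomologyPresheafFunctor J i ⋙
      ((Functor.whiskeringLeft _ _ _).obj v.op ⋙ presheafToSheaf K AddCommGrpCat.{u}) :=
  { hom := NatTrans.rightDerived (pushIso J K v).hom i
    inv := NatTrans.rightDerived (pushIso J K v).inv i
    hom_inv_id := by rw [← NatTrans.rightDerived_comp, Iso.hom_inv_id, NatTrans.rightDerived_id]
    inv_hom_id := by rw [← NatTrans.rightDerived_comp, Iso.inv_hom_id, NatTrans.rightDerived_id] } ≪≫
    rightDerivedCompExactIso (sheafToPresheaf J AddCommGrpCat.{u})
      ((Functor.whiskeringLeft _ _ _).obj v.op ⋙ presheafToSheaf K AddCommGrpCat.{u}) i ≪≫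
    Functor.isoWhiskerRight (rightDerivedSheafToPresheafIso i) _

end Groth.SiteCohomology
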