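import Groth.Agent.SiteCohomology.CechNerveResolution

/-!
# Čech complexes of augmented resolutions and `Ext`
-/

universe w v u v' u'

open CategoryTheory Limits Opposite Simplicial AlgebraicTopology

set_option synthInstance.maxHeartbeats 400000
set_option maxHeartbeats 1000000

namespace Groth.SiteCohomology

open Abelian

namespace AcyclicRes

variable {C : Type u} [Category.{v} C] [Abelian C] [HasExt.{w} C] (Y : C)

/-- In degree `p + 1`, if the terms are acyclic below degree `p + 1`, cocycles modulo coboundaries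
compute the kernel of `Ext X Y (p + 1) → Ext (A 0) Y (p + 1)`. -/
theorem exists_cocyclesToExt'_kernel : ∀ (p : ℕ) {X : C} (A : ℕ → C) (d : ∀ n, A (n + 1) ⟶ A n)
    (ε : A 0 ⟶ X), IsResolution' A d ε →
    (∀ n q : ℕ, q < p → Subsingleton (Ext (A n) Y (q + 1))) →
    (∀ n q : ℕ, n + q + 1 ≤ p + 1 → 0 < n → Subsingleton (Ext (A n) Y (q + 1))) →
    ∃ ψ : cocyc' Y A d (p + 1) →+ Ext X Y (p + 1),
      (∀ e : Ext X Y (p + 1), (Ext.mk₀ ε).comp e (zero_add _) = 0 → ∃ z, ψ z = e) ∧
      ∀ z, ψ z = 0 ↔ z.1 ∈ cobound' Y A d (p + 1)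
  | 0, _, A, d, ε, h, _, _ => exists_cocyclesToExt'_one Y A d ε h
  | p + 1, _, A, d, ε, h, hA, hA' => by
      have := h.epi
      obtain ⟨ψ, h1, h2⟩ := exists_cocyclesToExt' Y (p + 1) _ _ _ h.tail
        (fun n q hnq => hA' (n + 1) q (by omega) (by omega))
      let hS := shortExact_kernel A ε
      refine ⟨(hS.extClass.precomp Y (by omega)).comp ψ, ?_, ?_⟩
      · intro e he
        obtain ⟨x, rfl⟩ := Ext.contravariant_sequence_exact₃ hS Y e he (n₀ := p + 1) (by omega)
        obtain ⟨z, rfl⟩ := h1 x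
        exact ⟨z, rfl⟩
      · intro z
        refine Iff.trans ?_ (h2 z)
        change hS.extClass.comp (ψ z) (show 1 + (p + 1) = p + 1 + 1 by omega) = 0 ↔ _
        constructor
        · intro hz
          obtain ⟨x, hx⟩ := Ext.contravariant_sequence_exact₁ hS Y (ψ z) (by omega) hz
          have := hA 0 p (by omega)
          rw [← hx, Subsingleton.elim (α := Ext (A 0) Y (p + 1)) x 0, Ext.comp_zero]
        · intro hz
          rw [hz, Ext.comp_zero]

end AcyclicRes

section Coface

variable {D : Type u'} [Category.{v'} D] {A : Type u} [Category.{v} A] [Abelian A]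
  (T : D ⥤ A) (X : SimplicialObject.Augmented D) (Y : A)

/-- The cochain complex `n ↦ Hom(T(X_n), Y)`. -/
noncomputable abbrev yonedaCofaceCx : CochainComplex AddCommGrpCat.{v} ℕ :=
  (alternatingCofaceMapComplex AddCommGrpCat.{v}).obj
    (X.left.rightOp ⋙ T.op ⋙ preadditiveYoneda.obj Y)

lemma yonedaCofaceCx_d (n : ℕ) (x : T.obj (X.left _⦋n⦌) ⟶ Y) :
    ((yonedaCofaceCx T X Y).d n (n + 1) x : T.obj (X.left _⦋n + 1⦌) ⟶ Y) =
      AlternatingFaceMapComplex.objD (((SimplicialObject.whiskering _ _).obj T).obj X.left) n ≫ x :=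
    by
  have hd : (yonedaCofaceCx T X Y).d n (n + 1) =
      AlternatingCofaceMapComplex.objD (X.left.rightOp ⋙ T.op ⋙ preadditiveYoneda.obj Y) n := by
    exact CochainComplex.of_d
      (fun n => (X.left.rightOp ⋙ T.op ⋙ preadditiveYoneda.obj Y).obj ⦋n⦌)
      (AlternatingCofaceMapComplex.objD _) n
  rw [hd]
  simp only [AlternatingCofaceMapComplex.objD, AlternatingFaceMapComplex.objD]
  have hsum : ∀ {P Q : AddCommGrpCat.{v}} (g : Fin (n + 2) → (P ⟶ Q)) (y : P),
      (∑ i : Fin (n + 2), (-1 : ℤ) ^ (i : ℕ) • g i) y =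
        ∑ i : Fin (n + 2), (-1 : ℤ) ^ (i : ℕ) • g i y := fun {P Q} g y => by
    let ev : (P ⟶ Q) →+ Q := AddMonoidHom.mk' (fun f => f y) fun _ _ => rfl
    change ev _ = ∑ i : Fin (n + 2), (-1 : ℤ) ^ (i : ℕ) • ev (g i)
    rw [map_sum]
    simp only [map_zsmul]
  refine (hsum (P := (preadditiveYoneda.obj Y).obj (op (T.obj (X.left _⦋n⦌))))
    (Q := (preadditiveYoneda.obj Y).obj (op (T.obj (X.left _⦋n + 1⦌)))) _ x).trans ?_
  refine Eq.trans ?_ (Preadditive.sum_comp _ _ _).symm
  exact Finset.sum_congr rfl fun i _ => (Preadditive.zsmul_comp _ _ _).symm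

variable [HasExt.{w} A]

variable {T X} in
/-- The Čech complex of an augmented resolution by acyclic objects computes `Ext`. -/
theorem nonempty_yonedaCofaceCx_homology_equiv
    (h : IsAugResolution (((SimplicialObject.Augmented.whiskering _ _).obj T).obj X)) (p : ℕ)
    (hA : ∀ n q : ℕ, n + q + 1 ≤ p → Subsingleton (Ext (T.obj (X.left _⦋n⦌)) Y (q + 1))) :
    Nonempty ((yonedaCofaceCx T X Y).homology p ≃+ Ext (T.obj X.right) Y p) :=
  AcyclicRes.nonempty_homology_equiv_ext' Y
    (AlternatingFaceMapComplex.obj (((SimplicialObject.whiskering _ _).obj T).obj X.left)) _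
    (by
      have e : (fun n => (AlternatingFaceMapComplex.obj
          (((SimplicialObject.whiskering _ _).obj T).obj X.left)).d (n + 1) n) =
          AlternatingFaceMapComplex.objD (((SimplicialObject.whiskering _ _).obj T).obj X.left) :=
        funext fun n => AlternatingFaceMapComplex.obj_d_eq _ _
      rw [e]
      exact h)
    _ (fun _ => AddEquiv.refl _)
    (fun n x => (yonedaCofaceCx_d T X Y n x).trans
      (congrArg (fun g : T.obj (X.left _⦋n + 1⦌) ⟶ T.obj (X.left _⦋n⦌) => g ≫ x)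
        (AlternatingFaceMapComplex.obj_d_eq
          (((SimplicialObject.whiskering _ _).obj T).obj X.left) n).symm)) p hA

variable {T X} in
/-- If the Čech cohomology in degree `p + 1` vanishes and the terms are acyclic below degree
`p + 1`, a class vanishing on the first term vanishes. -/
theorem eq_zero_of_isZero_homology
    (h : IsAugResolution (((SimplicialObject.Augmented.whiskering _ _).obj T).obj X)) (p : ℕ)
    (hA : ∀ n q : ℕ, q < p → Subsingleton (Ext (T.obj (X.left _⦋n⦌)) Y (q + 1)))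
    (hA' : ∀ n q : ℕ, n + q + 1 ≤ p + 1 → 0 < n →
      Subsingleton (Ext (T.obj (X.left _⦋n⦌)) Y (q + 1)))
    (hL : IsZero ((yonedaCofaceCx T X Y).homology (p + 1)))
    (e : Ext (T.obj X.right) Y (p + 1))
    (he : (Ext.mk₀ (T.map (X.hom.app (op ⦋0⦌)))).comp e (zero_add _) = 0) : e = 0 := by
  obtain ⟨ψ, h1, h2⟩ := AcyclicRes.exists_cocyclesToExt'_kernel Y p _ _ _ h hA hA'
  have hε : (((SimplicialObject.Augmented.whiskering _ _).obj T).obj X).hom.app (op ⦋0⦌) =
      T.map (X.hom.app (op ⦋0⦌)) := Category.comp_id _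
  obtain ⟨z, rfl⟩ := h1 e (by rw [hε]; exact he)
  refine (h2 z).2 ((AcyclicRes.mem_cobound'_succ ..).2 ?_)
  have hex := ((yonedaCofaceCx T X Y).exactAt_iff' p (p + 1) (p + 2) (by simp) (by simp)).1
    ((HomologicalComplex.exactAt_iff_isZero_homology _ _).2 hL)
  obtain ⟨x, hx⟩ := (ShortComplex.ab_exact_iff _).1 hex z.1
    ((yonedaCofaceCx_d T X Y (p + 1) z.1).trans z.2)
  exact ⟨x, (yonedaCofaceCx_d T X Y p x).symm.trans hx⟩

end Coface

end Groth.SiteCohomology
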