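import Groth.Agent.SiteCohomology.CoprodPresheaf
import Groth.Agent.SiteCohomology.CechExt
import Mathlib.CategoryTheory.Sites.SheafCohomology.Cech

/-!
# The Čech nerve of a family of objects
-/

universe u v' u'

open CategoryTheory Limits Opposite Simplicial AlgebraicTopology

set_option synthInstance.maxHeartbeats 400000
set_option maxHeartbeats 1000000

namespace Groth.SiteCohomology

variable {C : Type u} [SmallCategory C] {D : Type u'} [Category.{v'} D] [HasFiniteProducts D]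

/-- A family of objects of `D` lying over `U`, whose products in `D` are fibre products over `U`. -/
structure CechData (Φ : D ⥤ C) {ι : Type u} (Y : ι → D) (U : C) where
  /-- The structure maps. -/
  p : ∀ i, Φ.obj (Y i) ⟶ U
  hp : ∀ (n : ℕ) (a : Fin (n + 1) → ι) (k l : Fin (n + 1)),
    Φ.map (Pi.π (Y ∘ a) k) ≫ p (a k) = Φ.map (Pi.π (Y ∘ a) l) ≫ p (a l)
  hlift : ∀ (n : ℕ) (a : Fin (n + 1) → ι) (c : C) (h : ∀ k, c ⟶ Φ.obj (Y (a k))),
    (∀ k l, h k ≫ p (a k) = h l ≫ p (a l)) →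
      ∃! g : c ⟶ Φ.obj (∏ᶜ (Y ∘ a)), ∀ k, g ≫ Φ.map (Pi.π (Y ∘ a) k) = h k

namespace CechData

variable {Φ : D ⥤ C} {ι : Type u} {Y : ι → D} {U : C} (d : CechData Φ Y U)

lemma map_lift_π_comp_p {m n : ℕ} (a : Fin (m + 1) → ι) (φ : Fin (n + 1) → Fin (m + 1))
    (k : Fin (n + 1)) :
    Φ.map (Pi.lift fun j => Pi.π (Y ∘ a) (φ j)) ≫ Φ.map (Pi.π (Y ∘ a ∘ φ) k) ≫ d.p (a (φ k)) =
      Φ.map (Pi.π (Y ∘ a) (0 : Fin (m + 1))) ≫ d.p (a 0) := by
  rw [d.hp m a 0 (φ k), ← Category.assoc, ← Φ.map_comp]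
  congr 2
  exact Pi.lift_π (fun j => Pi.π (Y ∘ a) (φ j)) k

lemma comp_hp {n : ℕ} {c : C} (a : Fin (n + 1) → ι) (h : c ⟶ Φ.obj (∏ᶜ (Y ∘ a)))
    (k l : Fin (n + 1)) :
    (h ≫ Φ.map (Pi.π (Y ∘ a) k)) ≫ d.p (a k) = (h ≫ Φ.map (Pi.π (Y ∘ a) l)) ≫ d.p (a l) :=
  (Category.assoc _ _ _).trans ((congrArg (h ≫ ·) (d.hp n a k l)).trans (Category.assoc _ _ _).symm)

/-- The augmented simplicial presheaf of sets of a family. -/
noncomputable def aug : SimplicialObject.Augmented (Cᵒᵖ ⥤ Type u) where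
  left := (FormalCoproduct.mk _ Y).cech ⋙ coprodPresheaf Φ
  right := yoneda.obj U
  hom :=
    { app := fun n =>
        { app := fun c => TypeCat.ofHom fun x =>
            x.2 ≫ Φ.map (Pi.π (Y ∘ x.1) (0 : Fin (n.unop.len + 1))) ≫ d.p (x.1 (0 : Fin (n.unop.len + 1)))
          naturality := fun c c' g => by
            ext x
            exact Category.assoc _ _ _ }
      naturality := fun m n f => by
        refine NatTrans.ext (funext fun c => ConcreteCategory.hom_ext _ _ fun x => ?_)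
        obtain ⟨a, h⟩ := x
        exact (Category.assoc _ _ _).trans
          (congrArg (h ≫ ·) (d.map_lift_π_comp_p (n := n.unop.len) a f.unop.toOrderHom 0)) }

/-- The structure map on a simplex via any coordinate. -/
lemma aug_hom_apply {n : ℕ} (c : Cᵒᵖ) (a : Fin (n + 1) → ι) (h : unop c ⟶ Φ.obj (∏ᶜ (Y ∘ a)))
    (k : Fin (n + 1)) :
    (d.aug.hom.app (op ⦋n⦌)).app c ⟨a, h⟩ = h ≫ Φ.map (Pi.π (Y ∘ a) k) ≫ d.p (a k) := by
  change h ≫ Φ.map (Pi.π (Y ∘ a) (0 : Fin (n + 1))) ≫ d.p (a 0) = _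
  rw [d.hp n a 0 k]

/-- The coordinate of a vertex. -/
noncomputable def vertexCoord (c : Cᵒᵖ) : (d.aug.left _⦋0⦌).obj c → Σ i : ι, unop c ⟶ Φ.obj (Y i) :=
  fun x => ⟨x.1 (0 : Fin 1), x.2 ≫ Φ.map (Pi.π (Y ∘ x.1) (0 : Fin 1))⟩

lemma injective_vertexCoord (c : Cᵒᵖ) : Function.Injective (d.vertexCoord c) := by
  rintro ⟨a, h⟩ ⟨b, g⟩ e
  have hab : a = b := funext fun k => by
    rw [show k = (0 : Fin 1) from Subsingleton.elim (α := Fin 1) _ _]
    exact congrArg Sigma.fst e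
  subst hab
  have e2 := eq_of_heq (Sigma.mk.inj_iff.1 e).2
  refine congrArg (Sigma.mk a) ?_
  obtain ⟨w, -, hu⟩ := d.hlift 0 a (unop c) (fun k => h ≫ Φ.map (Pi.π (Y ∘ a) k))
    (fun k l => d.comp_hp (n := 0) a h k l)
  refine (hu h fun k => rfl).trans (hu g fun k => ?_).symm
  obtain rfl : k = 0 := Subsingleton.elim (α := Fin 1) _ _
  exact e2.symm

lemma vertexCoord_vert {n : ℕ} (c : Cᵒᵖ) (a : Fin (n + 1) → ι)
    (h : unop c ⟶ Φ.obj (∏ᶜ (Y ∘ a))) (k : Fin (n + 1)) :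
    d.vertexCoord c (vert ((evalAug c).obj d.aug).left k ⟨a, h⟩) =
      ⟨a k, h ≫ Φ.map (Pi.π (Y ∘ a) k)⟩ := by
  refine congrArg (Sigma.mk (β := fun i => unop c ⟶ Φ.obj (Y i)) (a k)) ?_
  change (h ≫ Φ.map (Pi.lift fun j : Fin 1 => Pi.π (Y ∘ a) k)) ≫
    Φ.map (Pi.π (Y ∘ fun _ : Fin 1 => a k) 0) = _
  rw [Category.assoc, ← Φ.map_comp]
  congr 2
  exact Pi.lift_π (fun _ : Fin 1 => Pi.π (Y ∘ a) k) 0

lemma isCechTypePresheaf_aug : IsCechTypePresheaf d.aug := by
  intro c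
  refine { ext := fun n x y e => ?_, lift := fun n t ht => ?_ }
  · obtain ⟨a, h⟩ := x
    obtain ⟨b, g⟩ := y
    have e' : ∀ k, (⟨a k, h ≫ Φ.map (Pi.π (Y ∘ a) k)⟩ : Σ i : ι, unop c ⟶ Φ.obj (Y i)) =
        ⟨b k, g ≫ Φ.map (Pi.π (Y ∘ b) k)⟩ := fun k =>
      ((d.vertexCoord_vert c a h k).symm.trans (congrArg (d.vertexCoord c) (e k))).trans
        (d.vertexCoord_vert c b g k)
    have hab : a = b := funext fun k => congrArg Sigma.fst (e' k)
    subst hab
    refine congrArg (Sigma.mk a) ?_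
    obtain ⟨w, -, hu⟩ := d.hlift n a (unop c) (fun k => h ≫ Φ.map (Pi.π (Y ∘ a) k))
      (fun k l => d.comp_hp (n := n) a h k l)
    exact (hu h fun k => rfl).trans
      (hu g fun k => (eq_of_heq (Sigma.mk.inj_iff.1 (e' k)).2).symm).symm
  · let a : Fin (n + 1) → ι := fun k => (d.vertexCoord c (t k)).1
    let h : ∀ k, unop c ⟶ Φ.obj (Y (a k)) := fun k => (d.vertexCoord c (t k)).2
    have hh : ∀ k, h k ≫ d.p (a k) = ((evalAug c).obj d.aug).hom.app (op ⦋0⦌) (t k) := fun k => by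
      refine (Category.assoc _ _ _).trans ?_
      exact ((d.aug_hom_apply c (t k).1 (t k).2 0).symm)
    obtain ⟨g, hg, -⟩ := d.hlift n a (unop c) h (fun k l =>
      (hh k).trans ((ht k l).trans (hh l).symm))
    refine ⟨⟨a, g⟩, fun k => d.injective_vertexCoord c ?_⟩
    exact (d.vertexCoord_vert c a g k).trans (congrArg (Sigma.mk (a k)) (hg k))

variable (J : GrothendieckTopology C)

lemma isLocallySurjective_aug
    (hY : Sieve.ofArrows (fun i => Φ.obj (Y i)) d.p ∈ J U) :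
    Presheaf.IsLocallySurjective J (d.aug.hom.app (op ⦋0⦌)) where
  imageSieve_mem {c} s := by
    refine J.superset_covering ?_ (J.pullback_stable s hY)
    intro V g hg
    obtain ⟨i, q, hq⟩ := (Sieve.mem_ofArrows_iff _ _ _).1 hg
    obtain ⟨w, hw, -⟩ := d.hlift 0 (fun _ => i) V (fun _ => q) (fun _ _ => rfl)
    refine ⟨⟨fun _ => i, w⟩, ?_⟩
    refine (d.aug_hom_apply (op V) _ w 0).trans ?_
    rw [← Category.assoc, hw]
    exact hq.symm

/-- The free sheaves on the Čech nerve of a covering family resolve the free sheaf on the base. -/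
theorem isAugResolution (hY : Sieve.ofArrows (fun i => Φ.obj (Y i)) d.p ∈ J U) :
    IsAugResolution (((SimplicialObject.Augmented.whiskering _ _).obj (freeSh J)).obj d.aug) :=
  have := d.isLocallySurjective_aug J hY
  isAugResolution_freeSh J d.aug d.isCechTypePresheaf_aug

/-- The Čech complex as morphisms out of the free sheaves on the nerve. -/
noncomputable def cxIso (F : Sheaf J AddCommGrpCat.{u}) :
    yonedaCofaceCx (freeSh J) d.aug F ≅ (cechComplexFunctor Y).obj (Φ.op ⋙ F.obj) :=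
  (alternatingCofaceMapComplex AddCommGrpCat.{u}).mapIso
    (Functor.isoWhiskerLeft (FormalCoproduct.mk _ Y).cech.rightOp (asIso (homCoprodToEval Φ J F)))

/-- The Čech complex of an acyclic covering family computes cohomology. -/
theorem nonempty_cechH_equiv (hY : Sieve.ofArrows (fun i => Φ.obj (Y i)) d.p ∈ J U)
    (F : Sheaf J AddCommGrpCat.{u}) (p : ℕ)
    (hA : ∀ (n : ℕ) (a : Fin (n + 1) → ι) (q : ℕ), n + q + 1 ≤ p →
      Subsingleton (CohSite.HU F (q + 1) (Φ.obj (∏ᶜ (Y ∘ a))))) :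
    Nonempty (((cechComplexFunctor Y).obj (Φ.op ⋙ F.obj)).homology p ≃+
      CohSite.HU F p U) := by
  obtain ⟨e⟩ := nonempty_yonedaCofaceCx_homology_equiv (T := freeSh J) F
    (d.isAugResolution J hY) p (fun n q hnq =>
      @subsingleton_ext_freeCoprod _ _ _ _ Φ J F ((FormalCoproduct.mk _ Y).cech _⦋n⦌) (q + 1)
        fun a => hA n a q hnq)
  exact ⟨((HomologicalComplex.homologyFunctor _ _ p).mapIso
    (d.cxIso J F)).symm.addCommGroupIsoToAddEquiv.trans e⟩

end CechData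

end Groth.SiteCohomology
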