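import Groth.Agent.SiteCohomology.AcyclicHomCd
import Groth.Agent.SiteCohomology.Free
import Groth.Prelude.Def_CohDer

/-!
# Morphisms out of a free abelian sheaf into direct sums in the derived category
-/

universe u

open CategoryTheory CategoryTheory.Limits Opposite CategoryTheory.Abelian

set_option maxHeartbeats 2000000
set_option synthInstance.maxHeartbeats 400000

noncomputable section

namespace Groth.SiteCohomology.CompactFree

/-- Elements of a coproduct of abelian groups are finite sums. -/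
lemma exists_finset_sum_of_isColimit {T : Type u} {A : T → AddCommGrpCat.{u}} {c : Cofan A} (hc : IsColimit c)
    (a : c.pt) : ∃ (S : Finset T) (t : ∀ i, A i), a = ∑ i ∈ S, c.inj i (t i) := by
  classical
  let φ : DirectSum T (fun i => (A i : Type u)) →+ c.pt := DirectSum.toAddMonoid fun i => (c.inj i).hom
  have h : φ.range = ⊤ := by
    let q : c.pt ⟶ AddCommGrpCat.of (c.pt ⧸ φ.range) := AddCommGrpCat.ofHom (QuotientAddGroup.mk' φ.range)
    have hq : q = 0 := Cofan.IsColimit.hom_ext hc _ _ fun i => by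
      refine ConcreteCategory.hom_ext _ _ fun x => ?_
      exact (QuotientAddGroup.eq_zero_iff _).2 ⟨DirectSum.of (fun i => (A i : Type u)) i x, DirectSum.toAddMonoid_of (fun j => (c.inj j).hom) i x⟩
    exact eq_top_iff.2 fun x _ => (QuotientAddGroup.eq_zero_iff x).1
      (congrArg (fun f : c.pt ⟶ _ => f x) hq)
  obtain ⟨x, rfl⟩ : a ∈ φ.range := h ▸ AddSubgroup.mem_top a
  refine ⟨DFinsupp.support x, fun i => x i, ?_⟩
  conv_lhs => rw [← DirectSum.sum_support_of x]
  rw [map_sum]
  exact Finset.sum_congr rfl fun i _ => DirectSum.toAddMonoid_of (fun j => (c.inj j).hom) i (x i)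

variable {C : Type u} [SmallCategory C] {J : GrothendieckTopology C} (U : C)

/-- The functor `H^p(U, -)`. -/
abbrev HFun (J : GrothendieckTopology C) (p : ℕ) : Sheaf J AddCommGrpCat.{u} ⥤ AddCommGrpCat.{u} :=
  (Sheaf.cohomologyPresheafFunctor J p).flip.obj (op U)

variable {U} (h : ∀ (p : ℕ) (ι : Type u), PreservesColimitsOfShape (Discrete ι) (HFun U J p))
include h

lemma exists_finset_sum {T : Type u} (X : T → Sheaf J AddCommGrpCat.{u})
    (z : CohCx.freeSheaf J U ⟶ ∐ X) :
    ∃ (S : Finset T) (t : ∀ i, CohCx.freeSheaf J U ⟶ X i), z = ∑ i ∈ S, t i ≫ Limits.Sigma.ι X i := by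
  haveI := h 0 T
  obtain ⟨S, t, ht⟩ := exists_finset_sum_of_isColimit
    (isColimitCofanMkObjOfIsColimit (HFun U J 0) _ _ (coproductIsCoproduct X))
    (Ext.mk₀ z : Ext (CohCx.freeSheaf J U) (∐ X) 0)
  choose t' ht' using fun i => (Ext.mk₀_bijective (CohCx.freeSheaf J U) (X i)).2 (t i)
  let φ : (CohCx.freeSheaf J U ⟶ ∐ X) →+ Ext (CohCx.freeSheaf J U) (∐ X) 0 :=
    AddMonoidHom.mk' Ext.mk₀ Ext.mk₀_add
  refine ⟨S, t', (Ext.mk₀_bijective (CohCx.freeSheaf J U) (∐ X)).1 ((ht.trans ?_).trans (map_sum φ _ _).symm)⟩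
  refine Finset.sum_congr rfl fun i _ => ?_
  rw [← ht' i]
  exact Ext.mk₀_comp_mk₀ (t' i) (Sigma.ι X i)

variable {I : Type u} (K : I → CochainComplex (Sheaf J AddCommGrpCat.{u}) ℤ)
  (hI : ∀ i n, Injective ((K i).X n))
include hI

lemma subsingleton_ext_coproduct [HasCoproduct K]
    [∀ n, PreservesColimit (Discrete.functor K) (HomologicalComplex.eval (Sheaf J AddCommGrpCat.{u}) (ComplexShape.up ℤ) n)]
    (n : ℤ) (q : ℕ) : Subsingleton (Ext (CohCx.freeSheaf J U) ((∐ K).X n) (q + 1)) := by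
  let ε := isColimitCofanMkObjOfIsColimit
    (HomologicalComplex.eval (Sheaf J AddCommGrpCat.{u}) (ComplexShape.up ℤ) n) _ _ (coproductIsCoproduct K)
  haveI := h (q + 1) I
  let ε' := isColimitCofanMkObjOfIsColimit (HFun U J (q + 1)) _ _ ε
  have hz : IsZero ((HFun U J (q + 1)).obj ((∐ K).X n)) := by
    rw [IsZero.iff_id_eq_zero]
    refine Cofan.IsColimit.hom_ext ε' _ _ fun i => ?_
    have := hI i n
    have : IsZero ((HFun U J (q + 1)).obj ((K i).X n)) :=
      @AddCommGrpCat.isZero_of_subsingleton _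
        (Ext.subsingleton_of_injective (CohCx.freeSheaf J U) ((K i).X n) q)
    exact this.eq_of_src _ _
  exact AddCommGrpCat.subsingleton_of_isZero hz

omit hI in
/-- Uniformly bounded below families. -/
theorem bijective_homSum_of_isGE [HasDerivedCategory.{u} (Sheaf J AddCommGrpCat.{u})]
    (M : I → DerivedCategory (Sheaf J AddCommGrpCat.{u})) [HasCoproduct M] (a : ℤ) (hM : ∀ i, (M i).IsGE a) :
    Function.Bijective (CohDer.homSumToHomCoprod
      ((DerivedCategory.singleFunctor (Sheaf J AddCommGrpCat.{u}) 0).obj (CohCx.freeSheaf J U)) M) := by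
  have : HasCoproducts.{u} (Sheaf J AddCommGrpCat.{u}) := fun _ => inferInstance
  have : HasCoproducts.{u} (DerivedCategory (Sheaf J AddCommGrpCat.{u})) :=
    Groth.DerivedCoh.KInjRes.hasCoproducts
  have hex : ∀ i, ∃ (K : CochainComplex (Sheaf J AddCommGrpCat.{u}) ℤ), K.IsStrictlyGE a ∧
      (∀ n, Injective (K.X n)) ∧ Nonempty (DerivedCategory.Q.obj K ≅ M i) := fun i => by
    have := hM i
    obtain ⟨L, hL, ⟨e⟩⟩ := DerivedCategory.exists_iso_Q_obj_of_isGE (M i) a
    obtain ⟨K, f, hf, hI, hK⟩ := CochainComplex.Plus.modelCategoryQuillen.exists_quasiIso_injective L a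
    have : IsIso (DerivedCategory.Q.map f) := (DerivedCategory.isIso_Q_map_iff_quasiIso _ f).2 hf
    exact ⟨K, hK, hI, ⟨(asIso (DerivedCategory.Q.map f)).symm ≪≫ e.symm⟩⟩
  choose K hK hI e using hex
  let ε := fun n : ℤ => (isColimitCofanMkObjOfIsColimit
    (HomologicalComplex.eval (Sheaf J AddCommGrpCat.{u}) (ComplexShape.up ℤ) n) _ _ (coproductIsCoproduct K))
  have : (∐ K).IsStrictlyGE a := by
    rw [CochainComplex.isStrictlyGE_iff]
    intro n hn
    rw [IsZero.iff_id_eq_zero]
    exact Cofan.IsColimit.hom_ext (ε n) _ _ fun i => ((K i).isZero_of_isStrictlyGE a n hn).eq_of_src _ _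
  exact Groth.SitesTopoi.ProjCompact.bijective_homSum_of_reps _ M K (fun i => (e i).some)
    (Groth.SitesTopoi.AcyclicHom.Q_map_surjective_of_acyclic _ (∐ K) a (subsingleton_ext_coproduct h K hI))
    fun T X z => exists_finset_sum h X z

omit hI in
/-- With finite cohomological dimension the free sheaf is compact. -/
theorem isCompactObject_of_cd [HasDerivedCategory.{u} (Sheaf J AddCommGrpCat.{u})]
    [HasCoproducts.{u} (DerivedCategory (Sheaf J AddCommGrpCat.{u}))]
    (d : ℕ) (hd : ∀ (F : Sheaf J AddCommGrpCat.{u}) (p : ℕ), d < p → Subsingleton (CohSite.HU F p U)) :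
    CohDer.IsCompactObject ((DerivedCategory.singleFunctor (Sheaf J AddCommGrpCat.{u}) 0).obj
      (CohCx.freeSheaf J U)) := by
  intro I M
  have : HasCoproducts.{u} (Sheaf J AddCommGrpCat.{u}) := fun _ => inferInstance
  have hex : ∀ i, ∃ (K : CochainComplex (Sheaf J AddCommGrpCat.{u}) ℤ),
      (∀ n, Injective (K.X n)) ∧ Nonempty (DerivedCategory.Q.obj K ≅ M i) := fun i => by
    obtain ⟨K, f, -, hf, -, hI⟩ :=
      Groth.DerivedCoh.KInjRes.exists_resolution ((DerivedCategory.Q (C := Sheaf J AddCommGrpCat.{u})).objPreimage (M i))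
    have : IsIso (DerivedCategory.Q.map f) := (DerivedCategory.isIso_Q_map_iff_quasiIso _ f).2 hf
    exact ⟨K, hI, ⟨(asIso (DerivedCategory.Q.map f)).symm ≪≫ DerivedCategory.Q.objObjPreimageIso (M i)⟩⟩
  choose K hI e using hex
  exact Groth.SitesTopoi.ProjCompact.bijective_homSum_of_reps _ M K (fun i => (e i).some)
    (AcyclicHomCd.Q_map_surjective_of_acyclic _ d (fun F q hq => hd F (q + 1) (by omega)) (∐ K)
      (subsingleton_ext_coproduct h K hI))
    fun T X z => exists_finset_sum h X z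

end Groth.SiteCohomology.CompactFree
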