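import Groth.Prelude.Def_CohSite
import Mathlib.CategoryTheory.Sites.Pullback
import Mathlib.CategoryTheory.Abelian.GrothendieckCategory.EnoughInjectives
import Mathlib.CategoryTheory.Abelian.GrothendieckAxioms.Sheaf
import Mathlib.Algebra.Category.Grp.AB
import Mathlib.Algebra.Homology.ShortComplex.ExactFunctor

/-!
# Inverse image of abelian sheaves along a morphism of topoi is exact

If the inverse image of sheaves of sets preserves finite limits then so does the inverse image of
sheaves of abelian groups.
-/

universe w v u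

open CategoryTheory Limits Opposite

set_option synthInstance.maxHeartbeats 400000
set_option maxHeartbeats 1000000

namespace Groth.SiteCohomology

section GroupFunctor

variable {S₀ : Type v} [Category.{w} S₀] [HasFiniteProducts S₀]
  (E : S₀ ⥤ Type u) [PreservesFiniteProducts E] (S : S₀)

lemma exists_tup {n : ℕ} (a : Fin n → E.obj S) :
    ∃ t : E.obj (∏ᶜ fun _ : Fin n => S), ∀ k, E.map (Pi.π (fun _ : Fin n => S) k) t = a k := by
  let h := isLimitOfPreserves E (limit.isLimit (Discrete.functor fun _ : Fin n => S))
  refine ⟨(Types.isLimitEquivSections h).symm ⟨fun k => a k.as, ?_⟩, fun k =>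
    Types.isLimitEquivSections_symm_apply h _ ⟨k⟩⟩
  rintro ⟨j⟩ ⟨j'⟩ f
  obtain rfl : j = j' := Discrete.eq_of_hom f
  rw [show f = 𝟙 _ from Subsingleton.elim _ _]
  simp

lemma tup_ext {n : ℕ} {t t' : E.obj (∏ᶜ fun _ : Fin n => S)}
    (h : ∀ k, E.map (Pi.π (fun _ : Fin n => S) k) t = E.map (Pi.π (fun _ : Fin n => S) k) t') :
    t = t' := by
  let hl := isLimitOfPreserves E (limit.isLimit (Discrete.functor fun _ : Fin n => S))
  refine (Types.isLimitEquivSections hl).injective (Subtype.ext (funext fun k => ?_))
  rw [Types.isLimitEquivSections_apply, Types.isLimitEquivSections_apply]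
  exact h k.as

/-- An abelian group object, given by group structures on morphisms into it. -/
class HomGroup : Type (max v w) where
  grp : ∀ T : S₀, AddCommGroup (T ⟶ S)
  comp_add : ∀ {T T' : S₀} (h : T' ⟶ T) (f g : T ⟶ S),
    h ≫ @HAdd.hAdd _ _ _ (@instHAdd _ (grp T).toAdd) f g =
      @HAdd.hAdd _ _ _ (@instHAdd _ (grp T').toAdd) (h ≫ f) (h ≫ g)

variable [HG : HomGroup S]

attribute [instance] HomGroup.grp

lemma comp_zero' {T T' : S₀} (h : T' ⟶ T) : h ≫ (0 : T ⟶ S) = 0 := by
  have := HomGroup.comp_add (S := S) h 0 0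
  rw [add_zero] at this
  simpa using this

lemma comp_neg' {T T' : S₀} (h : T' ⟶ T) (f : T ⟶ S) : h ≫ (-f) = -(h ≫ f) := by
  refine eq_neg_of_add_eq_zero_left ?_
  rw [← HomGroup.comp_add, neg_add_cancel, comp_zero']

/-- Addition on `E(S)`. -/
noncomputable def addE (a b : E.obj S) : E.obj S :=
  E.map (Pi.π (fun _ : Fin 2 => S) 0 + Pi.π (fun _ : Fin 2 => S) 1)
    (exists_tup E S ![a, b]).choose

lemma map_add_apply {T : S₀} (p q : T ⟶ S) (t : E.obj T) :
    E.map (p + q) t = addE E S (E.map p t) (E.map q t) := by
  let l : T ⟶ ∏ᶜ fun _ : Fin 2 => S := Pi.lift ![p, q]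
  have e : l ≫ (Pi.π (fun _ : Fin 2 => S) 0 + Pi.π (fun _ : Fin 2 => S) 1) = p + q := by
    rw [HomGroup.comp_add, Pi.lift_π, Pi.lift_π]
    rfl
  rw [← e, Functor.map_comp_apply]
  refine congrArg _ (tup_ext E S fun k => ?_)
  rw [← Functor.map_comp_apply, Pi.lift_π]
  refine Eq.trans ?_ ((exists_tup E S ![E.map p t, E.map q t]).choose_spec k).symm
  fin_cases k <;> rfl

/-- Zero of `E(S)`. -/
noncomputable def zeroE : E.obj S :=
  E.map (0 : (∏ᶜ fun _ : Fin 0 => S) ⟶ S) (exists_tup E S (fun k : Fin 0 => k.elim0)).choose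

lemma map_zero_apply {T : S₀} (t : E.obj T) : E.map (0 : T ⟶ S) t = zeroE E S := by
  let l : T ⟶ ∏ᶜ fun _ : Fin 0 => S := Pi.lift fun k => k.elim0
  rw [← comp_zero' (S := S) l, Functor.map_comp_apply]
  exact congrArg _ (tup_ext E S fun k => k.elim0)

/-- Negation on `E(S)`. -/
noncomputable def negE (a : E.obj S) : E.obj S := E.map (-𝟙 S) a

lemma map_neg_apply {T : S₀} (p : T ⟶ S) (t : E.obj T) :
    E.map (-p) t = negE E S (E.map p t) := by
  have e : p ≫ (-𝟙 S) = -p := by rw [comp_neg', Category.comp_id]
  rw [← e, Functor.map_comp_apply]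
  rfl

/-- The group structure on `E(S)`. -/
@[instance_reducible]
noncomputable def groupE : AddCommGroup (E.obj S) :=
  letI : Add (E.obj S) := ⟨addE E S⟩
  letI : Zero (E.obj S) := ⟨zeroE E S⟩
  letI : Neg (E.obj S) := ⟨negE E S⟩
  have hadd : ∀ {T : S₀} (p q : T ⟶ S) (t : E.obj T), E.map p t + E.map q t = E.map (p + q) t :=
    fun p q t => (map_add_apply E S p q t).symm
  have hzero : ∀ {T : S₀} (t : E.obj T), (0 : E.obj S) = E.map (0 : T ⟶ S) t :=
    fun t => (map_zero_apply E S t).symm
  { add := (· + ·)
    zero := 0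
    neg := Neg.neg
    nsmul := nsmulRec
    zsmul := zsmulRec
    add_assoc := fun a b c => by
      obtain ⟨t, ht⟩ := exists_tup E S ![a, b, c]
      have ha : _ = a := ht 0
      have hb : _ = b := ht 1
      have hc : _ = c := ht 2
      rw [← ha, ← hb, ← hc, hadd, hadd, hadd, hadd, add_assoc]
    zero_add := fun a => by
      have h := hadd (0 : S ⟶ S) (𝟙 S) a
      rw [zero_add, ← hzero, Functor.map_id_apply] at h
      exact h
    add_zero := fun a => by
      have h := hadd (𝟙 S) (0 : S ⟶ S) a
      rw [add_zero, ← hzero, Functor.map_id_apply] at h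
      exact h
    neg_add_cancel := fun a => by
      change E.map (-𝟙 S) a + a = 0
      have h := hadd (-𝟙 S) (𝟙 S) a
      rw [neg_add_cancel, ← hzero, Functor.map_id_apply] at h
      exact h
    add_comm := fun a b => by
      obtain ⟨t, ht⟩ := exists_tup E S ![a, b]
      have ha : _ = a := ht 0
      have hb : _ = b := ht 1
      rw [← ha, ← hb, hadd, hadd, add_comm] }

lemma addE_natural {E' : S₀ ⥤ Type u} [PreservesFiniteProducts E'] (η : E ⟶ E') (a b : E.obj S) :
    η.app S (addE E S a b) = addE E' S (η.app S a) (η.app S b) := by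
  obtain ⟨t, ht⟩ := exists_tup E S ![a, b]
  have ha : _ = a := ht 0
  have hb : _ = b := ht 1
  rw [← ha, ← hb, ← map_add_apply, NatTrans.naturality_apply, map_add_apply,
    NatTrans.naturality_apply, NatTrans.naturality_apply]

lemma addE_map {S' : S₀} [HomGroup S'] (φ : S ⟶ S')
    (hφ : ∀ {T : S₀} (f g : T ⟶ S), (f + g) ≫ φ = f ≫ φ + g ≫ φ) (a b : E.obj S) :
    E.map φ (addE E S a b) = addE E S' (E.map φ a) (E.map φ b) := by
  obtain ⟨t, ht⟩ := exists_tup E S ![a, b]
  have ha : _ = a := ht 0
  have hb : _ = b := ht 1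
  rw [← ha, ← hb, ← map_add_apply, ← Functor.map_comp_apply, hφ, map_add_apply,
    Functor.map_comp_apply, Functor.map_comp_apply]

end GroupFunctor

section Sheaf

variable {C D : Type u} [SmallCategory C] [SmallCategory D]
  (J : GrothendieckTopology C) (K : GrothendieckTopology D) (F : D ⥤ C) [F.IsContinuous K J]

/-- The underlying sheaf of sets. -/
noncomputable abbrev setSh {L : GrothendieckTopology D} (A : Sheaf L AddCommGrpCat.{u}) :
    Sheaf L (Type u) :=
  (sheafCompose L (forget AddCommGrpCat.{u})).obj A

section HomGrp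

variable {E : Type u} [SmallCategory E] (L : GrothendieckTopology E) (A : Sheaf L AddCommGrpCat.{u})
  (T : Sheaf L (Type u))

/-- Morphisms into an abelian sheaf as natural families. -/
def natSub : AddSubgroup (∀ U : Eᵒᵖ, T.obj.obj U → A.obj.obj U) where
  carrier := {f | ∀ ⦃U V : Eᵒᵖ⦄ (m : U ⟶ V) (x : T.obj.obj U),
    f V (T.obj.map m x) = A.obj.map m (f U x)}
  zero_mem' := fun _ _ _ _ => (map_zero _).symm
  add_mem' := fun {f g} hf hg U V m x => by
    change f V _ + g V _ = A.obj.map m (f U x + g U x)
    rw [hf m x, hg m x, map_add]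
  neg_mem' := fun {f} hf U V m x => by
    change -f V _ = A.obj.map m (-f U x)
    rw [hf m x, map_neg]

/-- Morphisms of sheaves of sets into an abelian sheaf. -/
noncomputable def homEquivNatSub :
    (T ⟶ (sheafCompose L (forget AddCommGrpCat.{u})).obj A) ≃ natSub L A T where
  toFun f := ⟨fun U x => f.hom.app U x, fun U V m x => NatTrans.naturality_apply f.hom m x⟩
  invFun f := ⟨{ app := fun U => ↾(f.1 U)
                 naturality := fun U V m => by ext x; exact f.2 m x }⟩
  left_inv f := rfl
  right_inv f := rfl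

noncomputable instance : AddCommGroup (T ⟶ (sheafCompose L (forget AddCommGrpCat.{u})).obj A) :=
  (homEquivNatSub L A T).addCommGroup

noncomputable instance homGroupSetSh :
    HomGroup ((sheafCompose L (forget AddCommGrpCat.{u})).obj A) where
  grp T := inferInstance
  comp_add h f g := rfl

lemma homGrp_comp_map {A' : Sheaf L AddCommGrpCat.{u}} (φ : A ⟶ A')
    (f g : T ⟶ (sheafCompose L (forget AddCommGrpCat.{u})).obj A) :
    (f + g) ≫ (sheafCompose L (forget AddCommGrpCat.{u})).map φ =
      f ≫ (sheafCompose L (forget AddCommGrpCat.{u})).map φ +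
        g ≫ (sheafCompose L (forget AddCommGrpCat.{u})).map φ := by
  refine Sheaf.hom_ext (NatTrans.ext (funext fun U => ?_))
  ext x
  exact map_add (φ.hom.app U).hom _ _

end HomGrp

variable [PreservesFiniteLimits (F.sheafPullback (Type u) K J)]

/-- Sections over `U` of the inverse image of sheaves of sets. -/
noncomputable abbrev evalPull (U : Cᵒᵖ) : Sheaf K (Type u) ⥤ Type u :=
  F.sheafPullback (Type u) K J ⋙ sheafToPresheaf J (Type u) ⋙ (evaluation _ _).obj U

instance (U : Cᵒᵖ) : PreservesFiniteProducts (evalPull J K F U) := by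
  haveI : PreservesFiniteLimits (sheafToPresheaf J (Type u) ⋙
      (evaluation Cᵒᵖ (Type u)).obj U) := comp_preservesFiniteLimits _ _
  haveI : PreservesFiniteLimits (evalPull J K F U) := comp_preservesFiniteLimits _ _
  infer_instance

/-- Restriction as a natural transformation. -/
noncomputable def evalPullMap {U V : Cᵒᵖ} (m : U ⟶ V) : evalPull J K F U ⟶ evalPull J K F V :=
  Functor.whiskerLeft _ (Functor.whiskerLeft _ ((evaluation _ _).map m))

/-- Sections of the inverse image, as a type carrying its group structure. -/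
def PullSec (A : Sheaf K AddCommGrpCat.{u}) (U : Cᵒᵖ) : Type u :=
  (evalPull J K F U).obj (setSh A)

noncomputable instance (A : Sheaf K AddCommGrpCat.{u}) (U : Cᵒᵖ) :
    AddCommGroup (PullSec J K F A U) :=
  groupE (evalPull J K F U) (setSh A)

/-- Restriction of sections of the inverse image. -/
noncomputable def pullRes (A : Sheaf K AddCommGrpCat.{u}) {U V : Cᵒᵖ} (m : U ⟶ V) :
    PullSec J K F A U →+ PullSec J K F A V :=
  AddMonoidHom.mk' (fun a => (evalPullMap J K F m).app (setSh A) a)
    (addE_natural (evalPull J K F U) (setSh A) (evalPullMap J K F m))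

lemma pullRes_apply (A : Sheaf K AddCommGrpCat.{u}) {U V : Cᵒᵖ} (m : U ⟶ V)
    (a : PullSec J K F A U) :
    pullRes J K F A m a = ((F.sheafPullback (Type u) K J).obj (setSh A)).obj.map m a := rfl

/-- The abelian presheaf underlying the inverse image of sets of an abelian sheaf. -/
noncomputable def pullPsh (A : Sheaf K AddCommGrpCat.{u}) : Cᵒᵖ ⥤ AddCommGrpCat.{u} where
  obj U := AddCommGrpCat.of (PullSec J K F A U)
  map {U V} m := AddCommGrpCat.ofHom (pullRes J K F A m)
  map_id U := by
    refine AddCommGrpCat.hom_ext (AddMonoidHom.ext fun x => ?_)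
    exact congrArg (fun k => k x) (((F.sheafPullback (Type u) K J).obj (setSh A)).obj.map_id U)
  map_comp {U V W} m m' := by
    refine AddCommGrpCat.hom_ext (AddMonoidHom.ext fun x => ?_)
    exact congrArg (fun k => k x) (((F.sheafPullback (Type u) K J).obj (setSh A)).obj.map_comp m m')

/-- The inverse image of an abelian sheaf computed on the underlying sheaf of sets. -/
noncomputable def pullAb (A : Sheaf K AddCommGrpCat.{u}) : Sheaf J AddCommGrpCat.{u} :=
  ⟨pullPsh J K F A, (Presheaf.isSheaf_iff_isSheaf_forget J _ (forget AddCommGrpCat.{u})).2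
    ((F.sheafPullback (Type u) K J).obj (setSh A)).2⟩

/-- Functoriality of `pullAb`. -/
noncomputable def pullAbMap {A B : Sheaf K AddCommGrpCat.{u}} (φ : A ⟶ B) :
    pullAb J K F A ⟶ pullAb J K F B :=
  ⟨{ app := fun U =>
      letI := groupE (evalPull J K F U) (setSh A)
      letI := groupE (evalPull J K F U) (setSh B)
      AddCommGrpCat.ofHom (AddMonoidHom.mk'
        ((evalPull J K F U).map ((sheafCompose K (forget AddCommGrpCat.{u})).map φ))
        (addE_map _ _ _ (fun f g => homGrp_comp_map K A _ φ f g)))
     naturality := fun U V m => by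
      ext x
      exact congrArg (fun k => k x) (((F.sheafPullback (Type u) K J).map
        ((sheafCompose K (forget AddCommGrpCat.{u})).map φ)).hom.naturality m) }⟩

lemma mono_pullAbMap {A B : Sheaf K AddCommGrpCat.{u}} (φ : A ⟶ B) [Mono φ] :
    Mono (pullAbMap J K F φ) := by
  haveI : ∀ U, Mono (φ.hom.app U) := fun U =>
    inferInstanceAs (Mono ((sheafToPresheaf K AddCommGrpCat.{u} ⋙ (evaluation _ _).obj U).map φ))
  haveI : Mono ((sheafCompose K (forget AddCommGrpCat.{u})).map φ) := by
    refine ⟨fun {T} f g h => Sheaf.hom_ext (NatTrans.ext (funext fun U => ?_))⟩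
    ext x
    exact (AddCommGrpCat.mono_iff_injective (φ.hom.app U)).1 inferInstance
      (congrArg (fun k => k.hom.app U x) h)
  refine (sheafToPresheaf J AddCommGrpCat.{u}).mono_of_mono_map ?_
  haveI : ∀ U, Mono (((sheafToPresheaf J AddCommGrpCat.{u}).map (pullAbMap J K F φ)).app U) :=
    fun U => by
      refine (AddCommGrpCat.mono_iff_injective _).2 ?_
      exact (mono_iff_injective ((evalPull J K F U).map
        ((sheafCompose K (forget AddCommGrpCat.{u})).map φ))).1 inferInstance
  exact NatTrans.mono_of_mono_app _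

omit [PreservesFiniteLimits (F.sheafPullback (Type u) K J)] in
/-- The direct image of a map of sets into an abelian sheaf. -/
noncomputable def pushHom (I : Sheaf J AddCommGrpCat.{u}) {T : Sheaf J (Type u)}
    (f : T ⟶ (sheafCompose J (forget AddCommGrpCat.{u})).obj I) :
    (F.sheafPushforwardContinuous (Type u) K J).obj T ⟶ (sheafCompose K
      (forget AddCommGrpCat.{u})).obj ((F.sheafPushforwardContinuous AddCommGrpCat.{u} K J).obj I) :=
  (F.sheafPushforwardContinuous (Type u) K J).map f

omit [PreservesFiniteLimits (F.sheafPullback (Type u) K J)] in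
/-- Direct image of the underlying map is additive. -/
lemma pushHom_add (I : Sheaf J AddCommGrpCat.{u}) {T : Sheaf J (Type u)}
    (f g : T ⟶ (sheafCompose J (forget AddCommGrpCat.{u})).obj I) :
    pushHom J K F I (f + g) = pushHom J K F I f + pushHom J K F I g := rfl

/-- Transposition of maps of sets into an abelian sheaf. -/
noncomputable def transpose (I : Sheaf J AddCommGrpCat.{u}) (T : Sheaf K (Type u)) :
    ((F.sheafPullback (Type u) K J).obj T ⟶ (sheafCompose J (forget AddCommGrpCat.{u})).obj I) ≃
      (T ⟶ (sheafCompose K (forget AddCommGrpCat.{u})).obj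
        ((F.sheafPushforwardContinuous AddCommGrpCat.{u} K J).obj I)) :=
  (F.sheafAdjunctionContinuous (Type u) K J).homEquiv T _

lemma transpose_add (I : Sheaf J AddCommGrpCat.{u}) {T : Sheaf K (Type u)}
    (f g : (F.sheafPullback (Type u) K J).obj T ⟶
      (sheafCompose J (forget AddCommGrpCat.{u})).obj I) :
    transpose J K F I T (f + g) = transpose J K F I T f + transpose J K F I T g := by
  have h : ∀ k, transpose J K F I T k = (F.sheafAdjunctionContinuous (Type u) K J).unit.app T ≫
      pushHom J K F I k := fun k => Adjunction.homEquiv_unit _ _ _ k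
  rw [h, h, h, pushHom_add]
  exact HomGroup.comp_add _ _ _

lemma transpose_naturality (I : Sheaf J AddCommGrpCat.{u}) {T T' : Sheaf K (Type u)} (h : T' ⟶ T)
    (f : (F.sheafPullback (Type u) K J).obj T ⟶
      (sheafCompose J (forget AddCommGrpCat.{u})).obj I) :
    transpose J K F I T' ((F.sheafPullback (Type u) K J).map h ≫ f) =
      h ≫ transpose J K F I T f :=
  Adjunction.homEquiv_naturality_left _ _ _

/-- Direct image along a morphism of topoi preserves injective abelian sheaves. -/
theorem injective_sheafPushforward (I : Sheaf J AddCommGrpCat.{u}) [Injective I] :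
    Injective ((F.sheafPushforwardContinuous AddCommGrpCat.{u} K J).obj I) := by
  refine ⟨fun {A B} g φ _ => ?_⟩
  haveI := mono_pullAbMap J K F φ
  let π : ∀ k : Fin 2, (∏ᶜ fun _ : Fin 2 => setSh A) ⟶ setSh A :=
    Pi.π (fun _ : Fin 2 => setSh A)
  let σ := (sheafCompose K (forget AddCommGrpCat.{u})).map g
  let ψ := (transpose J K F I (setSh A)).symm σ
  have hψ : ∀ U (a b : (evalPull J K F U).obj (setSh A)),
      (show I.obj.obj U from ψ.hom.app U (addE (evalPull J K F U) (setSh A) a b)) =
        (show I.obj.obj U from ψ.hom.app U a) + (show I.obj.obj U from ψ.hom.app U b) := by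
    intro U a b
    obtain ⟨t, ht⟩ := exists_tup (evalPull J K F U) (setSh A) ![a, b]
    have ha : _ = a := ht 0
    have hb : _ = b := ht 1
    have e : (F.sheafPullback (Type u) K J).map (π 0 + π 1) ≫ ψ =
        (F.sheafPullback (Type u) K J).map (π 0) ≫ ψ +
          (F.sheafPullback (Type u) K J).map (π 1) ≫ ψ := by
      refine (transpose J K F I _).injective ?_
      rw [transpose_add, transpose_naturality, transpose_naturality, transpose_naturality,
        Equiv.apply_symm_apply]
      exact homGrp_comp_map K A _ g _ _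
    rw [← ha, ← hb, ← map_add_apply]
    exact congrArg (fun k => k.hom.app U t) e
  let ψ' : pullAb J K F A ⟶ I :=
    ⟨{ app := fun U => AddCommGrpCat.ofHom (AddMonoidHom.mk'
        (fun (a : PullSec J K F A U) => (show I.obj.obj U from ψ.hom.app U a)) (hψ U))
       naturality := fun U V m => by
        ext x
        exact congrArg (fun k => k x) (ψ.hom.naturality m) }⟩
  let h := Injective.factorThru ψ' (pullAbMap J K F φ)
  let h₀ : (F.sheafPullback (Type u) K J).obj (setSh B) ⟶
      (sheafCompose J (forget AddCommGrpCat.{u})).obj I :=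
    ⟨{ app := fun U => ↾(fun x => h.hom.app U x)
       naturality := fun U V m => by ext x; exact NatTrans.naturality_apply h.hom m x }⟩
  let ρ := transpose J K F I (setSh B) h₀
  have hρ : ∀ {T : Sheaf K (Type u)} (p q : T ⟶ setSh B), (p + q) ≫ ρ = p ≫ ρ + q ≫ ρ := by
    intro T p q
    have e : (F.sheafPullback (Type u) K J).map (p + q) ≫ h₀ =
        (F.sheafPullback (Type u) K J).map p ≫ h₀ + (F.sheafPullback (Type u) K J).map q ≫ h₀ := by
      refine Sheaf.hom_ext (NatTrans.ext (funext fun U => ?_))
      ext x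
      refine (congrArg (h.hom.app U) (map_add_apply (evalPull J K F U) (setSh B) p q x)).trans ?_
      exact map_add (h.hom.app U).hom _ _
    rw [← transpose_naturality, ← transpose_naturality, ← transpose_naturality, ← transpose_add, e]
  let π' : ∀ k : Fin 2, (∏ᶜ fun _ : Fin 2 => setSh B) ⟶ setSh B :=
    Pi.π (fun _ : Fin 2 => setSh B)
  let sec : Dᵒᵖ → (Sheaf K (Type u) ⥤ Type u) := fun V =>
    sheafToPresheaf K (Type u) ⋙ (evaluation _ _).obj V
  haveI : ∀ V, PreservesFiniteProducts (sec V) := fun V => by
    haveI : PreservesFiniteLimits (sec V) := comp_preservesFiniteLimits _ _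
    infer_instance
  have hadd : ∀ (V : Dᵒᵖ) (a b : B.obj.obj V),
      (show ((F.sheafPushforwardContinuous AddCommGrpCat.{u} K J).obj I).obj.obj V from
        ρ.hom.app V (a + b)) = (show ((F.sheafPushforwardContinuous AddCommGrpCat.{u} K J).obj
          I).obj.obj V from ρ.hom.app V a) + (show ((F.sheafPushforwardContinuous
            AddCommGrpCat.{u} K J).obj I).obj.obj V from ρ.hom.app V b) := by
    intro V a b
    obtain ⟨t, ht⟩ := exists_tup (sec V) (setSh B) ![a, b]
    have ha : _ = a := ht 0
    have hb : _ = b := ht 1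
    have e := congrArg (fun k => k.hom.app V t) (hρ (π' 0) (π' 1))
    rw [← ha, ← hb]
    exact e
  refine ⟨⟨{ app := fun V => AddCommGrpCat.ofHom (AddMonoidHom.mk'
        (fun a => (show ((F.sheafPushforwardContinuous AddCommGrpCat.{u} K J).obj I).obj.obj V from
          ρ.hom.app V a)) (hadd V))
             naturality := fun V W m => by
              ext x
              exact congrArg (fun k => k x) (ρ.hom.naturality m) }⟩, ?_⟩
  have e : (sheafCompose K (forget AddCommGrpCat.{u})).map φ ≫ ρ = σ := by
    rw [← transpose_naturality, ← (transpose J K F I (setSh A)).apply_symm_apply σ]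
    refine congrArg _ (Sheaf.hom_ext (NatTrans.ext (funext fun U => ?_)))
    ext x
    change (h.hom.app U).hom (((pullAbMap J K F φ).hom.app U).hom x) = (ψ'.hom.app U).hom x
    exact congrArg (fun k : pullAb J K F A ⟶ I => (k.hom.app U).hom x)
      (Injective.comp_factorThru ψ' (pullAbMap J K F φ))
  refine Sheaf.hom_ext (NatTrans.ext (funext fun V => ?_))
  ext x
  exact congrArg (fun k => k.hom.app V x) e

end Sheaf

/-- A left adjoint of a functor preserving injectives preserves monomorphisms, hence is exact. -/
theorem preservesFiniteLimits_of_adjunction_of_injective {A : Type u} [Category.{v} A] [Abelian A]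
    {B : Type w} [Category.{v} B] [Abelian B] [EnoughInjectives B] {L : A ⥤ B} {R : B ⥤ A}
    (adj : L ⊣ R) (h : ∀ I : B, Injective I → Injective (R.obj I)) :
    PreservesFiniteLimits L := by
  haveI : L.IsLeftAdjoint := adj.isLeftAdjoint
  haveI : PreservesFiniteColimits L := ⟨fun J _ _ => inferInstance⟩
  haveI : PreservesBinaryBiproducts L := preservesBinaryBiproducts_of_preservesBinaryCoproducts L
  haveI : L.Additive := L.additive_of_preservesBinaryBiproducts
  have hmono : ∀ {X Y : A} (f : X ⟶ Y) [Mono f], Mono (L.map f) := by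
    intro X Y f _
    let ι := Injective.ι (L.obj X)
    haveI := h _ (inferInstance : Injective (Injective.under (L.obj X)))
    let g := Injective.factorThru (adj.homEquiv _ _ ι) f
    have e : L.map f ≫ (adj.homEquiv _ _).symm g = ι := by
      rw [← Adjunction.homEquiv_naturality_left_symm, Injective.comp_factorThru,
        Equiv.symm_apply_apply]
    haveI : Mono (L.map f ≫ (adj.homEquiv _ _).symm g) := by rw [e]; infer_instance
    exact mono_of_mono (L.map f) ((adj.homEquiv _ _).symm g)
  rw [L.preservesFiniteLimits_iff_forall_exact_map_and_mono]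
  intro S hS
  haveI := hS.mono_f
  exact ⟨(L.preservesFiniteColimits_iff_forall_exact_map_and_epi.1 inferInstance S hS).1,
    hmono S.f⟩

/-- The inverse image on abelian sheaves is exact if it is on sheaves of sets. -/
theorem preservesFiniteLimits_sheafPullback_ab {C D : Type u} [SmallCategory C] [SmallCategory D]
    (J : GrothendieckTopology C) (K : GrothendieckTopology D) (F : D ⥤ C) [F.IsContinuous K J]
    [PreservesFiniteLimits (F.sheafPullback (Type u) K J)] :
    PreservesFiniteLimits (F.sheafPullback AddCommGrpCat.{u} K J) :=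
  preservesFiniteLimits_of_adjunction_of_injective
    (F.sheafAdjunctionContinuous AddCommGrpCat.{u} K J)
    (fun I _ => injective_sheafPushforward J K F I)

end Groth.SiteCohomology
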