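import Groth.Agent.SiteCohomology.BigEtale
import Groth.Agent.SiteCohomology.ExtAdjunction
import Groth.Agent.SiteCohomology.Free
import Mathlib.CategoryTheory.Adjunction.Unique
import Mathlib.CategoryTheory.Sites.ConstantSheaf

/-!
# The cohomology of the small and of the big étale site agree
-/

universe u

open CategoryTheory Limits Opposite AlgebraicGeometry

set_option maxHeartbeats 1000000
set_option synthInstance.maxHeartbeats 400000

namespace Groth.SiteCohomology

/-- The terminal object of the small étale site. -/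
noncomputable abbrev etaleTop (X : Scheme.{u}) : X.Etale :=
  MorphismProperty.Over.mk ⊤ (𝟙 X) (MorphismProperty.id_mem _ X)

variable (K : Precoverage Scheme.{u}) (X : Scheme.{u}) [BigSite.AEtCont K X]

/-- `π⁻¹` of a constant sheaf is constant. -/
theorem nonempty_piEtPull_constantSheaf_iso :
    Nonempty (constantSheaf X.smallEtaleTopology AddCommGrpCat.{u + 1} ⋙ BigSite.piEtPull K X ≅
      constantSheaf (QuotSh.J K X) AddCommGrpCat.{u + 1}) :=
  ⟨((constantSheafAdj X.smallEtaleTopology AddCommGrpCat.{u + 1}
      (T := etaleTop X) (MorphismProperty.Over.mkIdTerminal _ X)).comp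
        (BigSite.piEtAdj K X)).leftAdjointUniq
    ((constantSheafAdj (QuotSh.J K X) AddCommGrpCat.{u + 1}
      (T := Over.mk (𝟙 X)) Over.mkIdTerminal).ofNatIsoRight
      (NatIso.ofComponents (fun F => Iso.refl _)))⟩

/-- `H^p(X_et, F|) = H^p` of `F` on the big étale site. -/
theorem nonempty_H_resEt_equiv (F : BigSite.Ab Scheme.etalePrecoverage X) (p : ℕ) :
    Nonempty (EtCoh.H X ((BigSite.resEt Scheme.etalePrecoverage X).obj F) p ≃+
      BigSite.H Scheme.etalePrecoverage X F p) := by
  let R := BigSite.resEt Scheme.etalePrecoverage X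
  haveI : PreservesFiniteLimits R :=
    (BigSite.piEtAdj Scheme.etalePrecoverage X).rightAdjoint_preservesLimits.{0, 0}.preservesFiniteLimits
  haveI : PreservesFiniteColimits R :=
    (BigSite.iEtAdj Scheme.etalePrecoverage X).leftAdjoint_preservesColimits.{0, 0}.preservesFiniteColimits
  obtain ⟨e⟩ := nonempty_ext_adjunction_equiv (BigSite.piEtAdj Scheme.etalePrecoverage X)
    (fun I hI => @injective_resEt _ Scheme.etalePrecoverage _ I hI)
    ((constantSheaf X.smallEtaleTopology AddCommGrpCat.{u + 1}).obj
      (AddCommGrpCat.of (ULift ℤ))) F p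
  obtain ⟨i⟩ := nonempty_piEtPull_constantSheaf_iso Scheme.etalePrecoverage X
  exact ⟨e.trans (extIsoLeft (i.app (AddCommGrpCat.of (ULift ℤ))) F p).symm⟩

end Groth.SiteCohomology
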