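import Mathlib.CategoryTheory.Sites.Over
import Mathlib.CategoryTheory.Sites.Pullback
import Mathlib.CategoryTheory.Sites.CoverLifting
import Mathlib.CategoryTheory.Adjunction.Triple
import Mathlib.CategoryTheory.Functor.KanExtension.Adjunction

/-!
# Extension along a fully faithful continuous and cocontinuous functor is fully faithful
-/

universe w v v' u u'

open CategoryTheory Limits Opposite

namespace Groth.SiteCohomology

variable {C : Type u} [Category.{v} C] {D : Type u'} [Category.{v'} D] (G : C ⥤ D)
  (J : GrothendieckTopology C) (K : GrothendieckTopology D) (A : Type w) [Category* A]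

/-- For a fully faithful continuous and cocontinuous functor, the unit of the extension/restriction
adjunction on sheaves is an isomorphism. -/
theorem isIso_sheafAdjunctionContinuous_unit_app [G.IsContinuous J K] [G.IsCocontinuous J K]
    [G.Full] [G.Faithful] [∀ F : Cᵒᵖ ⥤ A, G.op.HasPointwiseRightKanExtension F]
    [HasWeakSheafify K A] [∀ P : Cᵒᵖ ⥤ A, G.op.HasLeftKanExtension P] (F : Sheaf J A) :
    IsIso ((G.sheafAdjunctionContinuous A J K).unit.app F) := by
  let t : Adjunction.Triple _ _ _ :=
    ⟨G.sheafAdjunctionContinuous A J K, G.sheafAdjunctionCocontinuous A J K⟩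
  haveI : IsIso (G.sheafAdjunctionCocontinuous A J K).counit := by
    refine @NatIso.isIso_of_isIso_app _ _ _ _ _ _ _ fun X => ?_
    have h : IsIso ((sheafToPresheaf J A).map
        ((G.sheafAdjunctionCocontinuous A J K).counit.app X)) := by
      change IsIso ((G.sheafAdjunctionCocontinuous A J K).counit.app X).hom
      rw [G.sheafAdjunctionCocontinuous_counit_app_hom A J K X]
      haveI : G.op.Full := inferInstance
      haveI : G.op.Faithful := inferInstance
      rw [Functor.ranAdjunction_counit]
      refine @NatIso.isIso_of_isIso_app _ _ _ _ _ _ _ fun Y => ?_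
      exact (G.op.isPointwiseRightKanExtensionRanCounit X.obj (G.op.obj Y)).isIso_hom_app
    exact isIso_of_reflects_iso _ (sheafToPresheaf J A)
  haveI : IsIso t.adj₁.unit := t.isIso_unit_iff_isIso_counit.2 this
  exact inferInstanceAs (IsIso (t.adj₁.unit.app F))

/-- `Over.forget U` is full when `U` is a subobject of the terminal object. -/
theorem full_overForget_of_subsingleton (U : C) (hU : ∀ V : C, Subsingleton (V ⟶ U)) :
    (Over.forget U).Full :=
  ⟨fun {_ _} f => ⟨Over.homMk f ((hU _).elim _ _), rfl⟩⟩

end Groth.SiteCohomology
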