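import Groth.Agent.SiteCohomology.BigRpush
import Groth.Agent.SiteCohomology.FullyFaithfulShriek
import Mathlib.CategoryTheory.Adjunction.Unique

/-!
# Restricting `π⁻¹` along a scheme over the base gives inverse image
-/

universe u

open CategoryTheory Limits Opposite AlgebraicGeometry

set_option maxHeartbeats 1000000
set_option synthInstance.maxHeartbeats 400000

namespace Groth.SiteCohomology

/-- Restriction after `i_*` is the identity. -/
theorem isIso_iEtAdj_counit (T : Scheme.{u}) :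
    IsIso (BigSite.iEtAdj Scheme.etalePrecoverage T).counit := by
  haveI : (EtFppf.a T).Full := inferInstanceAs (Scheme.Etale.forget T).Full
  haveI : (EtFppf.a T).Faithful := inferInstanceAs (Scheme.Etale.forget T).Faithful
  let t : Adjunction.Triple _ _ _ :=
    ⟨BigSite.piEtAdj Scheme.etalePrecoverage T, BigSite.iEtAdj Scheme.etalePrecoverage T⟩
  have hu : IsIso t.adj₁.unit := @NatIso.isIso_of_isIso_app _ _ _ _ _ _ _ fun G =>
    isIso_sheafAdjunctionContinuous_unit_app (EtFppf.a T) _ _ _ G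
  exact t.isIso_unit_iff_isIso_counit.1 hu

/-- `i_f⁻¹ π_S⁻¹ = f⁻¹`. -/
theorem nonempty_piEtPull_resEtAlong_iso {T S : Scheme.{u}} (f : T ⟶ S) :
    Nonempty (BigSite.piEtPull Scheme.etalePrecoverage S ⋙
        BigSite.resEtAlong Scheme.etalePrecoverage f ≅ EtCoh.pull f) := by
  obtain ⟨e⟩ := nonempty_pushBig_resEt_iso f
  have := isIso_iEtAdj_counit T
  let adj := ((BigSite.piEtAdj Scheme.etalePrecoverage S).comp
    (BigSite.bigAdj Scheme.etalePrecoverage f AddCommGrpCat.{u + 1})).comp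
      (BigSite.iEtAdj Scheme.etalePrecoverage T)
  let i : BigSite.iEtPush Scheme.etalePrecoverage T ⋙
      (BigSite.pushBig Scheme.etalePrecoverage f AddCommGrpCat.{u + 1} ⋙
        BigSite.resEt Scheme.etalePrecoverage S) ≅ EtCoh.push f :=
    Functor.isoWhiskerLeft _ e ≪≫ (Functor.associator _ _ _).symm ≪≫
      Functor.isoWhiskerRight (asIso (BigSite.iEtAdj Scheme.etalePrecoverage T).counit) _ ≪≫
        Functor.leftUnitor _
  exact ⟨(adj.ofNatIsoRight i).leftAdjointUniq (EtCoh.pullPushAdj f)⟩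

/-- `H^n(T/S, π_S⁻¹ F) = H^n(T_et, f⁻¹ F)`. -/
theorem nonempty_HU_piEtPull_equiv {T S : Scheme.{u}} (f : T ⟶ S) (n : ℕ) (F : EtCoh.Ab S) :
    Nonempty (BigSite.HU Scheme.etalePrecoverage ((BigSite.piEtPull Scheme.etalePrecoverage S).obj F)
      n (Over.mk f) ≃+ EtCoh.H T ((EtCoh.pull f).obj F) n) := by
  obtain ⟨e⟩ := nonempty_piEtPull_resEtAlong_iso f
  obtain ⟨a⟩ := nonempty_H_resEt_equiv T
    ((BigSite.pullBig Scheme.etalePrecoverage f AddCommGrpCat.{u + 1}).obj
      ((BigSite.piEtPull Scheme.etalePrecoverage S).obj F)) n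
  exact ⟨a.symm.trans (((Abelian.extFunctorObj ((constantSheaf T.smallEtaleTopology AddCommGrpCat.{u + 1}).obj
      (AddCommGrpCat.of (ULift.{u + 1} ℤ))) n).mapIso (e.app F)).addCommGroupIsoToAddEquiv)⟩

end Groth.SiteCohomology
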