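import Groth.Prelude.Def_BigSite
import Mathlib.AlgebraicGeometry.Pullbacks
import Mathlib.CategoryTheory.Comma.Over.Pullback

/-!
# Base change for the big sites along a cartesian square
-/

universe v' u' v u

open CategoryTheory CategoryTheory.Limits AlgebraicGeometry

namespace Groth.SiteCohomology

section Over

variable {C : Type u} [Category.{v} C] [HasPullbacks C] {S T S' T' : C}
  {f : T ⟶ S} {g : S' ⟶ S} {g' : T' ⟶ T} {f' : T' ⟶ S'} (hsq : IsPullback g' f' f g)

include hsq in
lemma isPullback_overMapPullback (U : Over S') :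
    IsPullback (pullback.fst U.hom f') (pullback.snd U.hom f' ≫ g') (U.hom ≫ g) f :=
  (IsPullback.of_hasPullback U.hom f').paste_vert hsq.flip

/-- Beck–Chevalley isomorphism for slices. -/
noncomputable def overMapPullbackIso :
    Over.map g ⋙ Over.pullback f ≅ Over.pullback f' ⋙ Over.map g' :=
  (NatIso.ofComponents
    (fun U => Over.isoMk (isPullback_overMapPullback hsq U).isoPullback
      ((isPullback_overMapPullback hsq U).isoPullback_hom_snd))
    (fun {U V} k => by
      apply Over.OverMorphism.ext
      apply pullback.hom_ext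
      · simp
        exact (pullback.lift_fst _ _ _).trans
          (((congrArg ((isPullback_overMapPullback hsq U).isoPullback.hom ≫ ·)
            (pullback.lift_fst _ _ _)).trans
              ((isPullback_overMapPullback hsq U).isoPullback_hom_fst_assoc _)).symm)
      · simp
        exact (pullback.lift_snd_assoc _ _ _ _).trans
          (((congrArg ((isPullback_overMapPullback hsq U).isoPullback.hom ≫ ·)
            (pullback.lift_snd _ _ _)).trans
              (isPullback_overMapPullback hsq U).isoPullback_hom_snd).symm))).symm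

end Over

variable {S T S' T' : Scheme.{u}} {f : T ⟶ S} {g : S' ⟶ S} {g' : T' ⟶ T} {f' : T' ⟶ S'}
  (hsq : IsPullback g' f' f g) (K : Precoverage Scheme.{u})

include hsq in
theorem nonempty_pullBig_pushBig_iso (A : Type u') [Category.{v'} A]
    [(Over.pullback f).IsContinuous (QuotSh.J K S) (QuotSh.J K T)]
    [(Over.pullback f').IsContinuous (QuotSh.J K S') (QuotSh.J K T')] :
    Nonempty (BigSite.pushBig K f A ⋙ BigSite.pullBig K g A ≅
      BigSite.pullBig K g' A ⋙ BigSite.pushBig K f' A) :=
  ⟨NatIso.ofComponents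
    (fun F => (fullyFaithfulSheafToPresheaf _ _).preimageIso
      (Functor.isoWhiskerRight (NatIso.op (overMapPullbackIso hsq)).symm F.obj))
    (fun {F G} φ => Sheaf.hom_ext (NatTrans.ext (funext fun U => (φ.hom.naturality _).symm)))⟩

include hsq in
theorem nonempty_resEtAlong_pushBig_iso [EtCoh.BCCont f'] [BigSite.AEtCont K S']
    [BigSite.AEtCont K T'] [(Over.pullback f).IsContinuous (QuotSh.J K S) (QuotSh.J K T)] :
    Nonempty (BigSite.pushBig K f AddCommGrpCat.{u + 1} ⋙ BigSite.resEtAlong K g ≅
      BigSite.resEtAlong K g' ⋙ EtCoh.push f') :=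
  let e₀ : EtCoh.bc f' ⋙ EtFppf.a T' ≅ EtFppf.a S' ⋙ Over.pullback f' :=
    MorphismProperty.Over.pullbackCompForgetIso (P := EtCoh.etaleMP) (Q := ⊤) f'
  let e : (EtCoh.bc f' ⋙ EtFppf.a T') ⋙ Over.map g' ≅
      EtFppf.a S' ⋙ (Over.map g ⋙ Over.pullback f) :=
    Functor.isoWhiskerRight e₀ _ ≪≫ Functor.associator _ _ _ ≪≫
      Functor.isoWhiskerLeft _ (overMapPullbackIso hsq).symm
  ⟨NatIso.ofComponents
    (fun F => (fullyFaithfulSheafToPresheaf _ _).preimageIso
      (Functor.isoWhiskerRight (NatIso.op e) F.obj))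
    (fun {F G} φ => Sheaf.hom_ext (NatTrans.ext (funext fun U => (φ.hom.naturality _).symm)))⟩

end Groth.SiteCohomology
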