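import Groth.Agent.SiteCohomology.BigEtaleCohomology
import Groth.Agent.SiteCohomology.BigBaseChange
import Groth.Agent.SiteCohomology.AcyclicImage

/-!
# Higher direct images on the big étale sites and restriction
-/

universe u

open CategoryTheory Limits Opposite AlgebraicGeometry

set_option maxHeartbeats 1000000
set_option synthInstance.maxHeartbeats 400000

namespace Groth.SiteCohomology

section Exact

variable (K : Precoverage Scheme.{u}) {T S : Scheme.{u}} (g : T ⟶ S)

instance preservesFiniteLimits_pullBig : PreservesFiniteLimits (BigSite.pullBig K g AddCommGrpCat.{u + 1}) :=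
  (BigSite.shriekAbAdj K g).rightAdjoint_preservesLimits.{0, 0}.preservesFiniteLimits

instance preservesFiniteColimits_pullBig : PreservesFiniteColimits (BigSite.pullBig K g AddCommGrpCat.{u + 1}) :=
  (BigSite.bigAdj K g AddCommGrpCat.{u + 1}).leftAdjoint_preservesColimits.{0, 0}.preservesFiniteColimits

instance preservesFiniteLimits_resEt [BigSite.AEtCont K S] : PreservesFiniteLimits (BigSite.resEt K S) :=
  (BigSite.piEtAdj K S).rightAdjoint_preservesLimits.{0, 0}.preservesFiniteLimits

instance preservesFiniteColimits_resEt [BigSite.AEtCont K S] [BigSite.AEtCocont K S] :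
    PreservesFiniteColimits (BigSite.resEt K S) :=
  (BigSite.iEtAdj K S).leftAdjoint_preservesColimits.{0, 0}.preservesFiniteColimits

end Exact

/-- Base change of étale schemes as schemes over the base. -/
noncomputable def bcIso {T S : Scheme.{u}} (f : T ⟶ S) :
    EtFppf.a S ⋙ Over.pullback f ≅ EtCoh.bc f ⋙ EtFppf.a T :=
  NatIso.ofComponents (fun V => Over.isoMk (Iso.refl _) (by exact Category.id_comp _))
    (fun {V W} k => by
      apply Over.OverMorphism.ext
      exact (Category.comp_id _).trans (Category.id_comp _).symm)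

/-- Restriction to the small étale site commutes with direct image. -/
theorem nonempty_pushBig_resEt_iso {T S : Scheme.{u}} (f : T ⟶ S) :
    Nonempty (BigSite.pushBig Scheme.etalePrecoverage f AddCommGrpCat.{u + 1} ⋙
        BigSite.resEt Scheme.etalePrecoverage S ≅
      BigSite.resEt Scheme.etalePrecoverage T ⋙ EtCoh.push f) :=
  ⟨NatIso.ofComponents
    (fun F => (fullyFaithfulSheafToPresheaf _ _).preimageIso
      (Functor.isoWhiskerRight (NatIso.op (bcIso f)).symm F.obj))
    (fun {F G} φ => Sheaf.hom_ext (NatTrans.ext (funext fun U => (φ.hom.naturality _).symm)))⟩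

variable {T S T' S' : Scheme.{u}} {f : T ⟶ S} {g : S' ⟶ S} {g' : T' ⟶ T} {f' : T' ⟶ S'}
  (c : IsPullback g' f' f g) (F : BigSite.Ab Scheme.etalePrecoverage T) (q : ℕ)

include c in
theorem nonempty_pullBig_RpushBig :
    Nonempty ((BigSite.pullBig Scheme.etalePrecoverage g AddCommGrpCat.{u + 1}).obj
        ((BigSite.RpushBig Scheme.etalePrecoverage f q).obj F) ≅
      (BigSite.RpushBig Scheme.etalePrecoverage f' q).obj
        ((BigSite.pullBig Scheme.etalePrecoverage g' AddCommGrpCat.{u + 1}).obj F)) := by
  obtain ⟨e⟩ := nonempty_pullBig_pushBig_iso c Scheme.etalePrecoverage AddCommGrpCat.{u + 1}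
  obtain ⟨a⟩ := nonempty_rightDerived_comp_exact (BigSite.pushBig Scheme.etalePrecoverage f AddCommGrpCat.{u + 1})
    (BigSite.pullBig Scheme.etalePrecoverage g AddCommGrpCat.{u + 1}) _ e.symm F q
  obtain ⟨b⟩ := nonempty_rightDerived_comp_of_acyclic
    (BigSite.pullBig Scheme.etalePrecoverage g' AddCommGrpCat.{u + 1})
    (BigSite.pushBig Scheme.etalePrecoverage f' AddCommGrpCat.{u + 1})
    (fun I hI => @injective_pullBig _ Scheme.etalePrecoverage _ g' I hI) F
    (fun k => isZero_rightDerived_succ_of_exact _ F k) q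
  exact ⟨a.symm ≪≫ b.symm⟩

theorem nonempty_resEt_RpushBig {T S : Scheme.{u}} (f : T ⟶ S)
    (G : BigSite.Ab Scheme.etalePrecoverage T) (q : ℕ) :
    Nonempty ((BigSite.resEt Scheme.etalePrecoverage S).obj
        ((BigSite.RpushBig Scheme.etalePrecoverage f q).obj G) ≅
      (EtCoh.Rpush f q).obj ((BigSite.resEt Scheme.etalePrecoverage T).obj G)) := by
  obtain ⟨e⟩ := nonempty_pushBig_resEt_iso f
  obtain ⟨a⟩ := nonempty_rightDerived_comp_exact (BigSite.pushBig Scheme.etalePrecoverage f AddCommGrpCat.{u + 1})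
    (BigSite.resEt Scheme.etalePrecoverage S) _ e.symm G q
  obtain ⟨b⟩ := nonempty_rightDerived_comp_of_acyclic (BigSite.resEt Scheme.etalePrecoverage T)
    (EtCoh.push f) (fun I hI => @injective_resEt _ Scheme.etalePrecoverage _ I hI) G
    (fun k => isZero_rightDerived_succ_of_exact _ G k) q
  exact ⟨a.symm ≪≫ b.symm⟩

include c in
theorem nonempty_resEtAlong_RpushBig :
    Nonempty ((BigSite.resEtAlong Scheme.etalePrecoverage g).obj
        ((BigSite.RpushBig Scheme.etalePrecoverage f q).obj F) ≅
      (EtCoh.Rpush f' q).obj ((BigSite.resEtAlong Scheme.etalePrecoverage g').obj F)) := by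
  obtain ⟨a⟩ := nonempty_pullBig_RpushBig c F q
  obtain ⟨b⟩ := nonempty_resEt_RpushBig f'
    ((BigSite.pullBig Scheme.etalePrecoverage g' AddCommGrpCat.{u + 1}).obj F) q
  exact ⟨(BigSite.resEt Scheme.etalePrecoverage S').mapIso a ≪≫ b⟩

end Groth.SiteCohomology
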