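import Groth.Agent.SiteCohomology.BigCartSet
import Groth.Agent.EtaleShriek.BCSets

/-!
# Direct images along proper morphisms of big étale sheaves of sets

Push forward along a proper morphism keeps `IsCart`; this is the degree zero proper base change.
-/

set_option autoImplicit false
set_option backward.isDefEq.respectTransparency.types false

universe u

open CategoryTheory CategoryTheory.Limits AlgebraicGeometry Opposite TopologicalSpace

namespace Groth.SiteCohomology.BigCartSet

open Groth.DescentBase (acPoint acPoint_apply)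
open Groth.EtaleBase (openObj openHom fiberPoint geomPoint geomPoint_apply)
open Groth.EtaleShriek.BCSets (sg agree mem_agree_iff agree_trans agree_symm exists_glue Wv aMap bMap
  comp_fibreLift_snd comp_fibreLift_mv)
open Groth.EtaleShriek.BCStage (mv fibreLift)

variable {S T : Scheme.{u}}

/-- Direct image on the big étale sites. -/
noncomputable abbrev push (f : T ⟶ S) : Bg T ⥤ Bg S :=
  BigSite.pushBig Scheme.etalePrecoverage f (Type (u + 1))

section locus

variable (G : Bg S) (C : Over S) (s t : G.obj.obj (op C))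

/-- The points near which two sections agree étale locally. -/
def agreeLocus : Set C.left :=
  {x | ∃ (V : Over S) (g : V ⟶ C), Etale g.left ∧ x ∈ Set.range g.left.base ∧
    G.obj.map g.op s = G.obj.map g.op t}

lemma isOpen_agreeLocus : IsOpen (agreeLocus G C s t) := by
  rw [isOpen_iff_forall_mem_open]
  rintro x ⟨V, g, hg, hx, h0⟩
  have := hg
  exact ⟨Set.range g.left.base, fun y hy => ⟨V, g, hg, hy, h0⟩, g.left.isOpenMap.isOpen_range, hx⟩

variable {G C s t}

lemma map_eq_of_range_subset {E : Over S} (h : E ⟶ C) (hr : ∀ e : E.left, h.left.base e ∈ agreeLocus G C s t) :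
    G.obj.map h.op s = G.obj.map h.op t := by
  refine eq_of_locally G _ _ fun e => ?_
  obtain ⟨V, g, hg, ⟨v, hv⟩, h0⟩ := hr e
  have := hg
  let W : Over S := Over.mk (pullback.fst h.left g.left ≫ E.hom)
  let p : W ⟶ E := Over.homMk (pullback.fst _ _)
  let q : W ⟶ V := Over.homMk (pullback.snd h.left g.left) (by
    show pullback.snd h.left g.left ≫ V.hom = pullback.fst h.left g.left ≫ E.hom
    rw [← Over.w g, ← Over.w h, pullback.condition_assoc])
  have hpq : p ≫ h = q ≫ g := Over.OverMorphism.ext pullback.condition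
  obtain ⟨z, hz, -⟩ := Scheme.Pullback.exists_preimage_pullback (f := h.left) (g := g.left) e v hv.symm
  refine ⟨W, p, inferInstanceAs (Etale (pullback.fst h.left g.left)), ⟨z, hz⟩, ?_⟩
  rw [← map_comp_apply', ← map_comp_apply', hpq, map_comp_apply', map_comp_apply', h0]

lemma mem_agreeLocus_iff (hG : IsCart G) {Ω : Type u} [Field Ω] [IsSepClosed Ω]
    (ξ : Spec (CommRingCat.of Ω) ⟶ C.left) :
    ξ.base default ∈ agreeLocus G C s t ↔ G.obj.map (ptHom C ξ).op s = G.obj.map (ptHom C ξ).op t := by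
  constructor
  · rintro ⟨V, g, hg, ⟨v, hv⟩, h0⟩
    have := hg
    obtain ⟨m, hm⟩ := exists_lift (ptHom C ξ) g v hv
    rw [← hm, map_comp_apply', map_comp_apply', h0]
  · intro h
    obtain ⟨V, g, hg, hx, h0⟩ := hG.sep C ξ s t h
    exact ⟨V, g, hg, hx, h0⟩

end locus

variable {H : Bg T} (f : T ⟶ S) [IsProper f]

/-- The separation property of a direct image. -/
theorem IsCart.sep_push (hH : IsCart H) (C : Over S) {Ω : Type u} [Field Ω] [IsSepClosed Ω]
    (ξ : Spec (CommRingCat.of Ω) ⟶ C.left) (s t : ((push f).obj H).obj.obj (op C))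
    (hst : ((push f).obj H).obj.map (ptHom C ξ).op s = ((push f).obj H).obj.map (ptHom C ξ).op t) :
    ∃ (V : Over S) (g : V ⟶ C), Etale g.left ∧ ξ.base default ∈ Set.range g.left.base ∧
      ((push f).obj H).obj.map g.op s = ((push f).obj H).obj.map g.op t := by
  let PC := (Over.pullback f).obj C
  let P := pullback C.hom f
  let fP : P ⟶ C.left := pullback.fst C.hom f
  let A : Set P := agreeLocus H PC s t
  have hA : IsOpen A := isOpen_agreeLocus H PC s t
  let O : C.left.Opens := ⟨(fP.base '' Aᶜ)ᶜ, (fP.isClosedMap _ hA.isClosed_compl).isOpen_compl⟩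
  have hξ : ξ.base default ∈ O := by
    rintro ⟨z, hz, hzx⟩
    apply hz
    obtain ⟨y, hy, -⟩ := Scheme.Pullback.exists_preimage_pullback (f := fP) (g := ξ) z default hzx
    let ζ := geomPoint y
    have hζ : ζ default = y := geomPoint_apply y _
    let ζ' := ζ ≫ pullback.fst fP ξ
    have e : ζ' default = z := by rw [Scheme.Hom.comp_apply, hζ, hy]
    rw [← e]
    refine (mem_agreeLocus_iff (C := PC) hH ζ').2 ?_
    let j : ptObj PC ζ' ⟶ (Over.pullback f).obj (ptObj C ξ) :=
      Over.homMk (pullback.lift (ζ ≫ pullback.snd fP ξ) (ζ' ≫ pullback.snd C.hom f) (by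
        show (ζ ≫ pullback.snd fP ξ) ≫ ξ ≫ C.hom = (ζ' ≫ pullback.snd C.hom f) ≫ f
        simp only [ζ', Category.assoc, ← pullback.condition, pullback.condition_assoc, fP]))
        (pullback.lift_snd _ _ _)
    have hj : ptHom PC ζ' = j ≫ (Over.pullback f).map (ptHom C ξ) := by
      apply Over.OverMorphism.ext
      show ζ' = j.left ≫ ((Over.pullback f).map (ptHom C ξ)).left
      apply pullback.hom_ext
      · refine Eq.trans ?_ ((congrArg (j.left ≫ ·) (pullback.lift_fst _ _ _).symm).trans
          (Category.assoc _ _ _).symm)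
        show ζ' ≫ fP = j.left ≫ pullback.fst (ξ ≫ C.hom) f ≫ ξ
        erw [pullback.lift_fst_assoc]
        simp only [ζ', Category.assoc, pullback.condition]
      · refine Eq.trans ?_ ((congrArg (j.left ≫ ·) (pullback.lift_snd _ _ _).symm).trans
          (Category.assoc _ _ _).symm)
        exact (pullback.lift_snd _ _ _).symm
    rw [hj, map_comp_apply', map_comp_apply']
    exact congrArg (H.obj.map j.op) hst
  let g : Over.mk (O.ι ≫ C.hom) ⟶ C := Over.homMk O.ι
  refine ⟨_, g, inferInstanceAs (Etale O.ι), ⟨⟨_, hξ⟩, rfl⟩, ?_⟩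
  show H.obj.map ((Over.pullback f).map g).op s = H.obj.map ((Over.pullback f).map g).op t
  refine map_eq_of_range_subset (C := PC) ((Over.pullback f).map g) fun e => ?_
  by_contra hn
  refine ((pullback.fst (O.ι ≫ C.hom) f).base e).2 ⟨((Over.pullback f).map g).left.base e, hn, ?_⟩
  exact congrArg (fun m : pullback (O.ι ≫ C.hom) f ⟶ C.left => m.base e) (pullback.lift_fst _ _ _)

section lift

variable {Ω : Type u} [Field Ω] [IsAlgClosed Ω] (η : Spec (CommRingCat.of Ω) ⟶ S)

/-- The geometric fibre as an object over the source. -/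
noncomputable abbrev fibObj : Over T := Over.mk (pullback.fst f η)

/-- The product of an étale scheme with the geometric fibre. -/
noncomputable abbrev fibProd (U : T.Etale) : Over T :=
  Over.mk (pullback.snd U.hom (pullback.fst f η) ≫ pullback.fst f η)

/-- Its projection to the étale scheme. -/
noncomputable abbrev fibProdFst (U : T.Etale) : fibProd f η U ⟶ (EtFppf.a T).obj U :=
  Over.homMk (pullback.fst U.hom (pullback.fst f η)) pullback.condition

/-- Its projection to the fibre. -/
noncomputable abbrev fibProdSnd (U : T.Etale) : fibProd f η U ⟶ fibObj f η :=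
  Over.homMk (pullback.snd U.hom (pullback.fst f η))

/-- Local representatives of a section over the geometric fibre. -/
lemma exists_rep (hH : IsCart H) (x : H.obj.obj (op (fibObj f η))) (S₀ : S.Opens)
    (hS : ∀ y, f (pullback.fst f η y) ∈ S₀) (y : ↥(pullback f η)) :
    ∃ (U : T.Etale) (_ : IsAffine U.left) (_ : ∀ v : U.left, f (U.hom v) ∈ S₀)
      (τ : ((res T).obj H).obj.obj (op U)) (O : (pullback U.hom (pullback.fst f η)).Opens),
      IsCompact (O : Set ↥(pullback U.hom (pullback.fst f η))) ∧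
      y ∈ pullback.snd U.hom (pullback.fst f η) '' (O : Set ↥(pullback U.hom (pullback.fst f η))) ∧
      ∀ d ∈ O, d ∈ agreeLocus H (fibProd f η U) (H.obj.map (fibProdFst f η U).op τ)
        (H.obj.map (fibProdSnd f η U).op x) := by
  let pη := pullback.fst f η
  let ζ := acPoint y
  have hζ : ζ default = y := acPoint_apply y _
  let p₀ : Over.mk (ζ ≫ pη) ⟶ fibObj f η := Over.homMk ζ
  obtain ⟨U₁, l₁, τ₁, hτ₁⟩ := hH.lift (ζ ≫ pη) (H.obj.map p₀.op x)
  obtain ⟨W₁, hW₁, hmem, hW₁S⟩ := exists_isAffineOpen_mem_and_subset (x := fiberPoint (ζ ≫ pη) l₁)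
    (U := (U₁.hom ≫ f) ⁻¹ᵁ S₀) (by
      have h2 : l₁.left ≫ U₁.hom = ζ ≫ pη := Over.w l₁
      show f (U₁.hom ((show _ ⟶ U₁.left from l₁.left) _)) ∈ S₀
      refine Groth.EtaleShriek.BCSets.mem_of_comp_eq (C := T) l₁.left U₁.hom (ζ ≫ pη) h2 _
        (f ⁻¹' (S₀ : Set S)) ?_
      show f ((ζ ≫ pη) _) ∈ S₀
      rw [Scheme.Hom.comp_apply]
      exact hS _)
  obtain ⟨l₂, hl₂⟩ := Groth.AlgSpEt.StrictLocal.exists_openLift (ζ ≫ pη) l₁ W₁ hmem
  let U := openObj U₁ W₁
  let τ := H.obj.map ((EtFppf.a T).map (openHom U₁ W₁)).op τ₁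
  let a := H.obj.map (fibProdFst f η U).op τ
  let b := H.obj.map (fibProdSnd f η U).op x
  let O₀ : (pullback U.hom pη).Opens := ⟨agreeLocus H (fibProd f η U) a b, isOpen_agreeLocus _ _ _ _⟩
  let oy : Spec (CommRingCat.of (AlgebraicClosure ((pullback f η).residueField y))) ⟶ pullback U.hom pη :=
    pullback.lift l₂.left ζ (Over.w l₂)
  have hoy : oy default ∈ O₀ := by
    refine (mem_agreeLocus_iff (C := fibProd f η U) hH oy).2 ?_
    have hw : (ζ ≫ pη) = oy ≫ pullback.snd U.hom pη ≫ pη := by
      rw [pullback.lift_snd_assoc]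
    let k : ptObj (fibProd f η U) oy ⟶ Over.mk (ζ ≫ pη) := Over.homMk (𝟙 _)
      ((Category.id_comp _).trans hw)
    have e₁ : ptHom (fibProd f η U) oy ≫ fibProdFst f η U ≫ (EtFppf.a T).map (openHom U₁ W₁) =
        k ≫ l₁ := by
      apply Over.OverMorphism.ext
      refine Eq.trans ?_ (Category.id_comp _).symm
      refine Eq.trans ?_ (congrArg (fun m => m.left) hl₂)
      exact pullback.lift_fst_assoc _ _ _ _
    have e₂ : ptHom (fibProd f η U) oy ≫ fibProdSnd f η U = k ≫ p₀ :=
      Over.OverMorphism.ext ((pullback.lift_snd _ _ _).trans (Category.id_comp _).symm)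
    simp only [a, b, τ, ← map_comp_apply']
    rw [e₁, e₂, map_comp_apply', map_comp_apply', hτ₁]
  obtain ⟨_, ⟨O, hO, rfl⟩, hyO, hOle⟩ :=
    (pullback U.hom pη).isBasis_affineOpens.exists_subset_of_mem_open hoy O₀.isOpen
  refine ⟨U, hW₁, fun v => hW₁S v.2, τ, O, hO.isCompact, ⟨oy default, hyO, ?_⟩, fun d hd => hOle hd⟩
  rw [← Scheme.Hom.comp_apply, pullback.lift_snd]; exact hζ

set_option backward.isDefEq.respectTransparency false in
set_option maxHeartbeats 1600000 in
theorem exists_nbhd (hH : IsCart H) (x : H.obj.obj (op (fibObj f η))) :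
    ∃ (V : S.Etale) (t : (Scheme.pointSmallEtale η).fiber.obj V)
      (σ : ((res T).obj H).obj.obj (op ((EtCoh.bc f).obj V)))
      (r : fibObj f η ⟶ (EtFppf.a T).obj ((EtCoh.bc f).obj V)),
      r.left ≫ pullback.fst V.hom f = pullback.snd f η ≫ t.left ∧ H.obj.map r.op σ = x := by
  classical
  let pη := pullback.fst f η
  obtain ⟨S₀, hS₀, hηS₀, -⟩ :=
    exists_isAffineOpen_mem_and_subset (x := η default) (U := (⊤ : S.Opens)) trivial
  have hS : ∀ y, f (pullback.fst f η y) ∈ S₀ := fun y =>
    Groth.EtaleShriek.BCSets.mem_of_comp_eq (pullback.fst f η) f _ pullback.condition y (S₀ : Set S) (by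
      rw [Scheme.Hom.comp_apply, Subsingleton.elim (pullback.snd f η y) default]
      exact hηS₀)
  have loc := exists_rep f η hH x S₀ hS
  choose U hUaff hUS τ O hOc hyO hOA using loc
  have : CompactSpace ↥(pullback f η) := QuasiCompact.compactSpace_of_compactSpace (pullback.snd f η)
  have hopen : ∀ y, IsOpen (pullback.snd (U y).hom pη ''
      (O y : Set ↥(pullback (U y).hom pη))) := fun y => by
    have : Etale (U y).hom := (U y).prop
    exact (pullback.snd (U y).hom pη).isOpenMap _ (O y).isOpen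
  obtain ⟨I, hI⟩ := isCompact_univ.elim_finite_subcover _ hopen fun y _ => Set.mem_iUnion.2 ⟨y, hyO y⟩
  let F := (res T).obj H
  let u : ∀ j : I, (U j.1).left ⟶ T := fun j => (U j.1).hom
  have : ∀ j : I, Etale (u j) := fun j => (U j.1).prop
  have : ∀ j : I, IsAffine (U j.1).left := fun j => hUaff j.1
  let A : ∀ j k : I, (pullback (u j) (u k)).Opens := fun j k => agree F (U j.1) (U k.1) (τ j.1) (τ k.1)
  have hval : ∀ (j : I) (K : Type u) [Field K] [IsSepClosed K]
      (l : Spec (CommRingCat.of K) ⟶ pullback (u j) pη) (_ : l default ∈ O j.1)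
      (ξ : Spec (CommRingCat.of K) ⟶ T) (a : Over.mk ξ ⟶ (EtFppf.a T).obj (U j.1))
      (b : Over.mk ξ ⟶ fibObj f η) (_ : l ≫ pullback.fst (u j) pη = a.left)
      (_ : l ≫ pullback.snd (u j) pη = b.left),
      H.obj.map a.op (τ j.1) = H.obj.map b.op x := by
    intro j K _ _ l hl ξ a b ha hb
    have h := (mem_agreeLocus_iff (C := fibProd f η (U j.1)) hH l).1 (hOA j.1 _ hl)
    let k : Over.mk ξ ⟶ ptObj (fibProd f η (U j.1)) l := Over.homMk (𝟙 _)
      ((Category.id_comp _).trans ((Category.assoc _ _ _).symm.trans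
        ((congrArg (· ≫ pullback.fst f η) hb).trans (Over.w b))))
    have e₁ : k ≫ ptHom (fibProd f η (U j.1)) l ≫ fibProdFst f η (U j.1) = a :=
      Over.OverMorphism.ext ((Category.id_comp _).trans ha)
    have e₂ : k ≫ ptHom (fibProd f η (U j.1)) l ≫ fibProdSnd f η (U j.1) = b :=
      Over.OverMorphism.ext ((Category.id_comp _).trans hb)
    rw [← e₁, ← e₂]
    simp only [map_comp_apply']
    exact congrArg (H.obj.map k.op) h
  obtain ⟨V, t, D, hcov, hDO, hDA⟩ := Groth.EtaleShriek.BCStageLocal.exists_nbhd_opens_local f η u A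
    (fun j => O j.1) S₀ hS₀ hηS₀ (fun j v => hUS j.1 v) (fun j => hOc j.1)
    (fun j k l q h₁ h₂ => agree_trans F (U j.1) (U k.1) (U l.1) (τ j.1) (τ k.1) (τ l.1) q h₁ h₂
      (pullback.lift_fst _ _ _) (pullback.lift_snd _ _ _))
    (fun j k p hp => agree_symm F (U j.1) (U k.1) (τ j.1) (τ k.1) p hp)
    (fun j k d h₁ h₂ => by
      let ζ := geomPoint d
      have hζ : ζ default = d := geomPoint_apply d _
      let l₁ := ζ ≫ pullback.fst (pullback.snd (u j) pη) (pullback.snd (u k) pη)
      let l₂ := ζ ≫ pullback.snd (pullback.snd (u j) pη) (pullback.snd (u k) pη)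
      let w := l₁ ≫ pullback.snd (u j) pη
      have hw : l₂ ≫ pullback.snd (u k) pη = w :=
        (Category.assoc _ _ _).trans ((congrArg (ζ ≫ ·) pullback.condition.symm).trans
          (Category.assoc _ _ _).symm)
      let ξ := w ≫ pη
      have ha : (l₁ ≫ pullback.fst (u j) pη) ≫ (U j.1).hom = ξ :=
        (Category.assoc _ _ _).trans ((congrArg (l₁ ≫ ·) pullback.condition).trans (Category.assoc _ _ _).symm)
      have hb : (l₂ ≫ pullback.fst (u k) pη) ≫ (U k.1).hom = ξ :=
        (Category.assoc _ _ _).trans ((congrArg (l₂ ≫ ·) pullback.condition).trans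
          ((Category.assoc _ _ _).symm.trans (congrArg (· ≫ pη) hw)))
      let a : Over.mk ξ ⟶ (EtFppf.a T).obj (U j.1) := Over.homMk (l₁ ≫ pullback.fst (u j) pη) ha
      let b : Over.mk ξ ⟶ (EtFppf.a T).obj (U k.1) := Over.homMk (l₂ ≫ pullback.fst (u k) pη) hb
      let c : Over.mk ξ ⟶ fibObj f η := Over.homMk w
      have g₁ := hval j _ l₁ (by rw [Scheme.Hom.comp_apply, hζ]; exact h₁) ξ a c rfl rfl
      have g₂ := hval k _ l₂ (by rw [Scheme.Hom.comp_apply, hζ]; exact h₂) ξ b c rfl hw
      have h₃ := (mem_agree_iff F (U j.1) (U k.1) (τ j.1) (τ k.1) ξ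
        (ζ ≫ Groth.EtaleShriek.Criterion.pairY pη u j k) a.left ha
        (by simp only [Groth.EtaleShriek.Criterion.pairY, Category.assoc]; rw [pullback.lift_fst]; exact (Category.assoc _ _ _).symm) b.left hb
        (by simp only [Groth.EtaleShriek.Criterion.pairY, Category.assoc]; rw [pullback.lift_snd]; exact (Category.assoc _ _ _).symm)).2
        ((hH.germ_eq_iff a b (τ j.1) (τ k.1)).2 (g₁.trans g₂.symm))
      rwa [Scheme.Hom.comp_apply, hζ] at h₃)
    (fun y => by
      obtain ⟨z, hz, hzy⟩ := Set.mem_iUnion₂.1 (hI (Set.mem_univ y))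
      exact ⟨⟨z, hz⟩, hzy⟩)
  obtain ⟨σ, hσ⟩ := exists_glue f F (fun j : I => U j.1) V (fun j => τ j.1) D hcov hDA
  let r : fibObj f η ⟶ (EtFppf.a T).obj ((EtCoh.bc f).obj V) :=
    Over.homMk (pullback.lift (pullback.snd f η ≫ t.left) (pullback.fst f η)
      ((Category.assoc _ _ _).trans ((congrArg (pullback.snd f η ≫ ·) (Over.w t)).trans
        pullback.condition.symm))) (pullback.lift_snd _ _ _)
  refine ⟨V, t, σ, r, pullback.lift_fst _ _ _, hH.ext _ _ fun q => ?_⟩
  let w := acPoint q
  have hwq : w default = q := acPoint_apply q _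
  obtain ⟨z, hz, o, ho, hoy⟩ := Set.mem_iUnion₂.1 (hI (Set.mem_univ (w default)))
  let j : I := ⟨z, hz⟩
  obtain ⟨l, hl, hlo⟩ := Scheme.exists_fac_of_etale_of_isSepClosed (pullback.snd (u j) pη) w o hoy
  let ξ := w ≫ pη
  have hlu : (l ≫ pullback.fst (u j) pη) ≫ (U j.1).hom = ξ := by
    rw [Category.assoc, pullback.condition, ← Category.assoc, hl]
  let lD := l ≫ fibreLift f η u V t j
  have hrg : Set.range lD ⊆ Set.range (D j).ι := by
    rintro _ ⟨p, rfl⟩
    simp only [Scheme.Opens.range_ι]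
    rw [Subsingleton.elim p default]
    show fibreLift f η u V t j (l default) ∈ D j
    rw [hlo]
    exact hDO j o ho
  let mW : Spec (CommRingCat.of (AlgebraicClosure ((pullback f η).residueField q))) ⟶
      (Wv f (fun j : I => U j.1) V j (D j)).left := IsOpenImmersion.lift (D j).ι lD hrg
  have hmW : mW ≫ (D j).ι = lD := IsOpenImmersion.lift_fac _ _ _
  have hmWa : mW ≫ (aMap f (fun j : I => U j.1) V j (D j)).left = l ≫ pullback.fst (u j) pη :=
    (Category.assoc _ _ _).symm.trans ((congrArg (· ≫ pullback.snd V.hom ((U j.1).hom ≫ f)) hmW).trans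
      (comp_fibreLift_snd f η u V t j l))
  have hmWh : mW ≫ (Wv f (fun j : I => U j.1) V j (D j)).hom = ξ :=
    (congrArg (mW ≫ ·) (MorphismProperty.Over.w (aMap f (fun j : I => U j.1) V j (D j))).symm).trans
      ((Category.assoc _ _ _).symm.trans ((congrArg (· ≫ (U j.1).hom) hmWa).trans hlu))
  have hmWb : mW ≫ (bMap f (fun j : I => U j.1) V j (D j)).left = w ≫ r.left := by
    refine (Category.assoc _ _ _).symm.trans
      ((congrArg (· ≫ mv (U j.1).hom f V.hom rfl) hmW).trans ?_)
    refine comp_fibreLift_mv f η u V t j l ?_ ?_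
    · refine (Category.assoc _ _ _).trans ((congrArg (w ≫ ·) (pullback.lift_fst _ _ _)).trans ?_)
      exact (Category.assoc _ _ _).symm.trans (congrArg (fun m => (m ≫ pullback.snd f η) ≫ t.left) hl.symm)
    · exact ((Category.assoc _ _ _).trans (congrArg (w ≫ ·) (pullback.lift_snd _ _ _))).trans hlu.symm
  let m : Over.mk ξ ⟶ (EtFppf.a T).obj (Wv f (fun j : I => U j.1) V j (D j)) := Over.homMk mW hmWh
  let a : Over.mk ξ ⟶ (EtFppf.a T).obj (U j.1) := Over.homMk (l ≫ pullback.fst (u j) pη) hlu
  let c : Over.mk ξ ⟶ fibObj f η := Over.homMk w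
  have e₁ : m ≫ (EtFppf.a T).map (aMap f (fun j : I => U j.1) V j (D j)) = a :=
    Over.OverMorphism.ext hmWa
  have e₂ : m ≫ (EtFppf.a T).map (bMap f (fun j : I => U j.1) V j (D j)) = c ≫ r :=
    Over.OverMorphism.ext hmWb
  have g₁ := hval j _ l (by rw [hlo]; exact ho) ξ a c rfl hl
  show H.obj.map c.op (H.obj.map r.op σ) = H.obj.map c.op x
  rw [← map_comp_apply', ← e₂, map_comp_apply', ← g₁, ← e₁, map_comp_apply']
  exact congrArg (H.obj.map m.op) (hσ j)

end lift

/-- Direct images along proper morphisms are determined by geometric points. -/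
theorem IsCart.push (hH : IsCart H) : IsCart ((push f).obj H) where
  sep C Ω _ _ ξ s t h := hH.sep_push f C ξ s t h
  lift {Ω} _ _ η x := by
    let Q := (Over.pullback f).obj (Over.mk η)
    let e : fibObj f η ≅ Q := Over.isoMk (pullbackSymmetry f η) (pullbackSymmetry_hom_comp_snd _ _)
    obtain ⟨V, t, σ, r, hr, hσ⟩ := exists_nbhd f η hH (H.obj.map e.hom.op x)
    let k : (Over.pullback f).obj ((EtFppf.a S).obj V) ⟶ (EtFppf.a T).obj ((EtCoh.bc f).obj V) :=
      Over.homMk (𝟙 _) (Category.id_comp _)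
    refine ⟨V, t, H.obj.map k.op σ, ?_⟩
    show H.obj.map ((Over.pullback f).map t).op (H.obj.map k.op σ) = x
    have hk : e.hom ≫ (Over.pullback f).map t ≫ k = r := by
      apply Over.OverMorphism.ext
      apply pullback.hom_ext
      · refine Eq.trans ?_ hr.symm
        show ((pullbackSymmetry f η).hom ≫ ((Over.pullback f).map t).left ≫ 𝟙 _) ≫ pullback.fst V.hom f = _
        rw [Category.comp_id, Category.assoc]
        erw [pullback.lift_fst]
        exact pullbackSymmetry_hom_comp_fst_assoc _ _ _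
      · refine Eq.trans ?_ (Over.w r).symm
        exact Over.w (e.hom ≫ (Over.pullback f).map t ≫ k)
    have hinv : ∀ z : H.obj.obj (op Q), H.obj.map e.inv.op (H.obj.map e.hom.op z) = z := fun z =>
      ((map_comp_apply' H e.inv e.hom z).symm.trans (map_eq_of_eq H e.inv_hom_id z)).trans
        (map_id_apply' H Q z)
    refine (hinv _).symm.trans (Eq.trans (congrArg (H.obj.map e.inv.op) ?_) (hinv x))
    refine Eq.trans ?_ hσ
    rw [← map_eq_of_eq H hk σ]
    simp only [map_comp_apply']
    rfl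

end Groth.SiteCohomology.BigCartSet
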