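import Groth.Prelude.Def_CGrpSh2
import Groth.Agent.SiteCohomology.ShriekExact
import Groth.Agent.AbSchBiext.Exactness
import Mathlib.CategoryTheory.Abelian.RightDerived
import Mathlib.Algebra.Homology.ShortComplex.ShortExact

/-!
# Dualising short exact sequences of abelian sheaves with vanishing local `Ext¹`
-/

set_option autoImplicit false
set_option maxHeartbeats 1000000
set_option synthInstance.maxHeartbeats 400000
set_option backward.isDefEq.respectTransparency false
set_option linter.style.haveILetI false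
set_option linter.unusedSectionVars false

universe u

open CategoryTheory Limits Opposite

namespace Groth.SiteCohomology.HomShDual

variable {C : Type (u + 1)} [Category.{u} C] {J : GrothendieckTopology C}
  [HasSheafify J AddCommGrpCat.{u + 1}] [J.WEqualsLocallyBijective AddCommGrpCat.{u + 1}]

/-- Restriction of abelian sheaves to a localised site is exact. -/
theorem over_shortExact (X : C) [HasSheafify (J.over X) AddCommGrpCat.{u + 1}]
    {S : ShortComplex (Sheaf J AddCommGrpCat.{u + 1})} (hS : S.ShortExact) :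
    (S.map (J.overPullback AddCommGrpCat.{u + 1} X)).ShortExact := by
  haveI : PreservesFiniteColimits (J.overPullback AddCommGrpCat.{u + 1} X) :=
    preservesFiniteColimits_sheafPushforward (J.over X) J (Over.forget X) AddCommGrpCat.{u + 1}
  haveI : PreservesFiniteLimits (J.overPullback AddCommGrpCat.{u + 1} X) :=
    ((Over.forget X).sheafAdjunctionContinuous AddCommGrpCat.{u + 1} (J.over X) J).rightAdjoint_preservesLimits.{0, 0}.preservesFiniteLimits
  exact hS.map_of_exact _

/-- Restriction to a localised site preserves injective sheaves. -/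
theorem injective_over (X : C) [HasSheafify (J.over X) AddCommGrpCat.{u + 1}]
    (I : Sheaf J AddCommGrpCat.{u + 1}) [Injective I] : Injective (I.over X) := by
  haveI := preservesFiniteLimits_sheafPullback_of_lan_mono (J.over X) J (Over.forget X) AddCommGrpCat.{u + 1}
    fun {P Q} φ hφ => @mono_lan_map_of_locallyFiltered _ _ _ _ _ _ _ _ (Over.forget X).op _ _
      (locallyFiltered_overForget X) _ _ φ hφ
  exact injective_map_of_adjunction ((Over.forget X).sheafAdjunctionContinuous AddCommGrpCat.{u + 1} (J.over X) J) I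

/-- A section killed by the second map of an exact sequence of sheaves is locally in the image of the first. -/
theorem exists_local_preimage_of_exact {T : ShortComplex (Sheaf J AddCommGrpCat.{u + 1})} (hT : T.Exact)
    (X : C) (χ : T.X₂.obj.obj (op X)) (hχ : T.g.hom.app (op X) χ = 0) :
    ∃ R ∈ J X, ∀ ⦃U : C⦄ (f : U ⟶ X), R f →
      ∃ a : T.X₁.obj.obj (op U), T.f.hom.app (op U) a = T.X₂.obj.map f.op χ := by
  refine Groth.AbSchBiext.exists_local_preimage T.f X χ ?_
  haveI : Mono (cokernel.desc T.f T.g T.zero) := hT.mono_cokernelDesc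
  haveI : Mono ((sheafToPresheaf J AddCommGrpCat.{u + 1} ⋙
    (evaluation Cᵒᵖ AddCommGrpCat.{u + 1}).obj (op X)).map (cokernel.desc T.f T.g T.zero)) := inferInstance
  refine (AddCommGrpCat.mono_iff_injective _).1 this ?_
  rw [map_zero]
  exact (ConcreteCategory.congr_hom (congrArg (fun m : T.X₂ ⟶ T.X₃ => m.hom.app (op X))
    (cokernel.π_desc T.f T.g T.zero)) χ).trans hχ

/-- Exactness of a sequence which is left exact on sections. -/
theorem exact_of_sections (T : ShortComplex (Sheaf J AddCommGrpCat.{u + 1}))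
    (hf : ∀ X : C, Function.Injective (T.f.hom.app (op X)))
    (hker : ∀ (X : C) (y : T.X₂.obj.obj (op X)), T.g.hom.app (op X) y = 0 → ∃ z, T.f.hom.app (op X) z = y) :
    T.Exact := by
  haveI : Mono T.f := Groth.AbSchBiext.mono_of_injective_app _ hf
  refine ShortComplex.exact_of_f_is_kernel _ (KernelFork.IsLimit.ofι' T.f T.zero fun {Z} k hk => ?_)
  have hl : ∀ (X : Cᵒᵖ) (z : Z.obj.obj X), ∃ y, T.f.hom.app X y = k.hom.app X z := fun X z =>
    hker (unop X) _ (ConcreteCategory.congr_hom (congrArg (fun m => m.hom.app X) hk) z)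
  choose l hl using hl
  have hadd : ∀ (X : Cᵒᵖ) (z z' : Z.obj.obj X), l X (z + z') = l X z + l X z' := fun X z z' => hf (unop X) (by
    change T.f.hom.app X (l X (z + z')) = T.f.hom.app X (l X z + l X z')
    rw [hl, map_add, map_add, hl, hl])
  refine ⟨ObjectProperty.homMk
    { app := fun X => AddCommGrpCat.ofHom (AddMonoidHom.mk' (l X) (hadd X))
      naturality := fun X Y f => AddCommGrpCat.ext fun z => hf (unop Y) ?_ },
    Sheaf.hom_ext (NatTrans.ext (funext fun X => AddCommGrpCat.ext fun z => hl X z))⟩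
  change T.f.hom.app Y (l Y (Z.obj.map f z)) = T.f.hom.app Y (T.X₁.obj.map f (l X z))
  rw [hl]
  refine (ConcreteCategory.congr_hom (k.hom.naturality f) z).trans ?_
  refine Eq.trans ?_ (ConcreteCategory.congr_hom (T.f.hom.naturality f) (l X z)).symm
  exact congrArg (T.X₂.obj.map f) (hl X z).symm

variable [∀ X : C, HasSheafify (J.over X) AddCommGrpCat.{u + 1}]
variable {S : ShortComplex (Sheaf J AddCommGrpCat.{u + 1})}

variable (S) in
/-- The dual sequence. -/
noncomputable def dual (M : Sheaf J AddCommGrpCat.{u + 1}) : ShortComplex (Sheaf J AddCommGrpCat.{u + 1}) :=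
  S.op.map ((HomSh.homShBi J).flip.obj M)

theorem dual_f_injective (hS : S.ShortExact) (M : Sheaf J AddCommGrpCat.{u + 1}) (X : C) :
    Function.Injective ((dual S M).f.hom.app (op X)) := fun φ ψ h => by
  haveI : Epi ((J.overPullback AddCommGrpCat.{u + 1} X).map S.g) := (over_shortExact X hS).epi_g
  change (J.overPullback _ X).map S.g ≫ φ ≫ (J.overPullback _ X).map (𝟙 M) =
    (J.overPullback _ X).map S.g ≫ ψ ≫ (J.overPullback _ X).map (𝟙 M) at h
  simp only [CategoryTheory.Functor.map_id, Category.comp_id] at h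
  exact (cancel_epi ((J.overPullback _ X).map S.g)).1 h

theorem dual_exact (hS : S.ShortExact) (M : Sheaf J AddCommGrpCat.{u + 1}) (X : C)
    (φ : (dual S M).X₂.obj.obj (op X)) (hφ : (dual S M).g.hom.app (op X) φ = 0) :
    ∃ ψ, (dual S M).f.hom.app (op X) ψ = φ := by
  have h := over_shortExact X hS
  haveI : Epi ((J.overPullback AddCommGrpCat.{u + 1} X).map S.g) := h.epi_g
  change (J.overPullback _ X).map S.f ≫ φ ≫ (J.overPullback _ X).map (𝟙 M) = 0 at hφ
  simp only [CategoryTheory.Functor.map_id, Category.comp_id] at hφ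
  haveI : Epi (S.map (J.overPullback AddCommGrpCat.{u + 1} X)).g := h.epi_g
  refine ⟨h.exact.desc φ hφ, ?_⟩
  change (J.overPullback _ X).map S.g ≫ h.exact.desc φ hφ ≫ (J.overPullback _ X).map (𝟙 M) = φ
  simp only [CategoryTheory.Functor.map_id, Category.comp_id]
  exact h.exact.g_desc φ hφ

variable [HasInjectiveResolutions (Sheaf J AddCommGrpCat.{u + 1})]

theorem exists_local_extension (hS : S.ShortExact) (M : Sheaf J AddCommGrpCat.{u + 1})
    (hExt : IsZero ((HomSh.extSh J S.X₃ 1).obj M)) (X : C) (φ : S.X₁.over X ⟶ M.over X) :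
    ∃ R ∈ J X, ∀ ⦃U : C⦄ (h : U ⟶ X), R h → ∃ ψ : S.X₂.over U ⟶ M.over U,
      (J.overPullback _ U).map S.f ≫ ψ = (J.overMapPullback AddCommGrpCat.{u + 1} h).map φ := by
  let I := injectiveResolution M
  let F := HomSh.homShFunctor J S.X₃
  let ι : M ⟶ I.cocomplex.X 0 := I.ι.f 0
  let d : I.cocomplex.X 0 ⟶ I.cocomplex.X 1 := I.cocomplex.d 0 1
  let d' : I.cocomplex.X 1 ⟶ I.cocomplex.X 2 := I.cocomplex.d 1 2
  have hdd : d ≫ d' = 0 := I.cocomplex.d_comp_d 0 1 2
  have hιd : ι ≫ d = 0 := I.ι_f_zero_comp_complex_d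
  -- the cohomology of `𝓗om(S.X₃, I)` vanishes in degree one
  have hT : (ShortComplex.mk (F.map d) (F.map d') (by rw [← F.map_comp, hdd, F.map_zero])).Exact := by
    rw [ShortComplex.exact_iff_isZero_homology]
    rw [HomSh.extSh_def] at hExt
    exact hExt.of_iso (I.isoRightDerivedObj F 1 ≪≫
      ((F.mapHomologicalComplex _).obj I.cocomplex).homologyIsoSc' 0 1 2 (by simp) (by simp)).symm
  -- the local extension
  have h := over_shortExact X hS
  haveI : Mono ((J.overPullback AddCommGrpCat.{u + 1} X).map S.f) := h.mono_f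
  haveI : Epi ((J.overPullback AddCommGrpCat.{u + 1} X).map S.g) := h.epi_g
  haveI := injective_over X (I.cocomplex.X 0)
  let a : S.X₁.over X ⟶ (I.cocomplex.X 0).over X := φ ≫ (J.overPullback _ X).map ι
  let ψ : S.X₂.over X ⟶ (I.cocomplex.X 0).over X :=
    Injective.factorThru a ((J.overPullback _ X).map S.f)
  have hψ : (J.overPullback _ X).map S.f ≫ ψ = a := Injective.comp_factorThru _ _
  have hψd : (J.overPullback _ X).map S.f ≫ ψ ≫ (J.overPullback _ X).map d = 0 := by
    rw [← Category.assoc, hψ, Category.assoc, ← Functor.map_comp, hιd, Functor.map_zero, comp_zero]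
  haveI : Epi (S.map (J.overPullback AddCommGrpCat.{u + 1} X)).g := h.epi_g
  let χ : S.X₃.over X ⟶ (I.cocomplex.X 1).over X := h.exact.desc _ hψd
  have hχ : (J.overPullback _ X).map S.g ≫ χ = ψ ≫ (J.overPullback _ X).map d := h.exact.g_desc _ hψd
  have hχd : (F.map d').hom.app (op X) χ = 0 := by
    change (J.overPullback _ X).map (𝟙 _) ≫ χ ≫ (J.overPullback _ X).map d' = 0
    rw [CategoryTheory.Functor.map_id, Category.id_comp, ← cancel_epi ((J.overPullback _ X).map S.g), comp_zero,
      ← Category.assoc, hχ, Category.assoc, ← Functor.map_comp, hdd, Functor.map_zero, comp_zero]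
  obtain ⟨R, hR, hloc⟩ := exists_local_preimage_of_exact hT X χ hχd
  refine ⟨R, hR, fun U f hf => ?_⟩
  obtain ⟨ξ₀, hξ₀⟩ := hloc f hf
  let ξ : S.X₃.over U ⟶ (I.cocomplex.X 0).over U := ξ₀
  let res := J.overMapPullback AddCommGrpCat.{u + 1} f
  have hξ : ξ ≫ (J.overPullback _ U).map d = res.map χ := by
    refine Eq.trans ?_ hξ₀
    change _ = (J.overPullback _ U).map (𝟙 _) ≫ ξ ≫ (J.overPullback _ U).map d
    rw [CategoryTheory.Functor.map_id, Category.id_comp]
  let rψ : S.X₂.over U ⟶ (I.cocomplex.X 0).over U := res.map ψ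
  let ψ₁ : S.X₂.over U ⟶ (I.cocomplex.X 0).over U := rψ - (J.overPullback _ U).map S.g ≫ ξ
  have hres : ∀ {A B : Sheaf J AddCommGrpCat.{u + 1}} (g : A ⟶ B),
      res.map ((J.overPullback _ X).map g) = (J.overPullback _ U).map g := fun g => rfl
  have hψ₁ : ψ₁ ≫ (J.overPullback _ U).map d = 0 := by
    change (rψ - _) ≫ _ = 0
    rw [Preadditive.sub_comp, Category.assoc, hξ, ← hres S.g, ← res.map_comp, hχ, ← hres d, ← res.map_comp,
      sub_self]
  haveI : PreservesFiniteLimits (J.overPullback AddCommGrpCat.{u + 1} U) :=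
    ((Over.forget U).sheafAdjunctionContinuous AddCommGrpCat.{u + 1} (J.over U) J).rightAdjoint_preservesLimits.{0, 0}.preservesFiniteLimits
  haveI : Mono ι := inferInstanceAs (Mono (I.ι.f 0))
  haveI : Mono ((J.overPullback AddCommGrpCat.{u + 1} U).map ι) := inferInstance
  let k : IsLimit (KernelFork.ofι ι hιd) := I.isLimitKernelFork
  let kU := KernelFork.mapIsLimit _ k (J.overPullback AddCommGrpCat.{u + 1} U)
  obtain ⟨ψ₂, hψ₂⟩ := KernelFork.IsLimit.lift' kU ψ₁ hψ₁
  refine ⟨ψ₂, ?_⟩
  change ψ₂ ≫ (J.overPullback AddCommGrpCat.{u + 1} U).map ι = ψ₁ at hψ₂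
  rw [← cancel_mono ((J.overPullback AddCommGrpCat.{u + 1} U).map ι), Category.assoc, hψ₂]
  change _ ≫ (rψ - _) = _
  rw [Preadditive.comp_sub, ← Category.assoc, ← Functor.map_comp, S.zero, Functor.map_zero, zero_comp, sub_zero,
    ← hres S.f, ← hres ι, ← res.map_comp, ← res.map_comp, hψ]

theorem dual_shortExact (hS : S.ShortExact) (M : Sheaf J AddCommGrpCat.{u + 1})
    (hExt : IsZero ((HomSh.extSh J S.X₃ 1).obj M)) : (dual S M).ShortExact :=
  Groth.AbSchBiext.shortExact_of_sections _ _ _ (dual_f_injective hS M)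
    (fun X φ hφ => dual_exact hS M X φ hφ) fun X φ => by
      obtain ⟨R, hR, hloc⟩ := exists_local_extension hS M hExt X φ
      refine ⟨R, hR, fun U h hh => ?_⟩
      obtain ⟨ψ, hψ⟩ := hloc h hh
      refine ⟨ψ, Eq.trans ?_ hψ⟩
      change (J.overPullback _ U).map S.f ≫ ψ ≫ (J.overPullback _ U).map (𝟙 M) = _
      rw [CategoryTheory.Functor.map_id, Category.comp_id]

omit [HasSheafify J AddCommGrpCat.{u + 1}] [J.WEqualsLocallyBijective AddCommGrpCat.{u + 1}]
  [∀ X : C, HasSheafify (J.over X) AddCommGrpCat.{u + 1}]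
  [HasInjectiveResolutions (Sheaf J AddCommGrpCat.{u + 1})] in
/-- The double-duality map is natural. -/
theorem bidual_naturality {F G : Sheaf J AddCommGrpCat.{u + 1}} (f : F ⟶ G)
    (M : Sheaf J AddCommGrpCat.{u + 1}) :
    HomSh.bidualMap J F M ≫ HomSh.homShMap J (HomSh.homShMap J f (𝟙 M)) (𝟙 M) = f ≫ HomSh.bidualMap J G M := by
  refine Sheaf.hom_ext (NatTrans.ext (funext fun X => AddCommGrpCat.ext fun s => ?_))
  refine Sheaf.hom_ext (NatTrans.ext (funext fun U => AddCommGrpCat.ext fun φ => ?_))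
  refine congrArg (φ.hom.app (op (Over.mk (𝟙 (unop U).left)))) ?_
  exact ConcreteCategory.congr_hom (f.hom.naturality (unop U).hom.op) s

theorem isIso_bidual (hS : S.ShortExact) (M : Sheaf J AddCommGrpCat.{u + 1})
    (hExt : IsZero ((HomSh.extSh J S.X₃ 1).obj M))
    (h₁ : IsIso (HomSh.bidualMap J S.X₁ M)) (h₃ : IsIso (HomSh.bidualMap J S.X₃ M)) :
    IsIso (HomSh.bidualMap J S.X₂ M) := by
  have hD := dual_shortExact hS M hExt
  let T := dual (dual S M) M
  let φ : S ⟶ T := ShortComplex.homMk (HomSh.bidualMap J S.X₁ M) (HomSh.bidualMap J S.X₂ M)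
    (HomSh.bidualMap J S.X₃ M) (bidual_naturality S.f M) (bidual_naturality S.g M)
  haveI := hS.epi_g
  haveI : Epi (HomSh.bidualMap J S.X₂ M ≫ T.g) := by
    rw [show HomSh.bidualMap J S.X₂ M ≫ T.g = S.g ≫ HomSh.bidualMap J S.X₃ M from φ.comm₂₃]
    exact epi_comp _ _
  haveI : Epi T.g := epi_of_epi (HomSh.bidualMap J S.X₂ M) _
  haveI : Mono T.f := Groth.AbSchBiext.mono_of_injective_app _ (dual_f_injective hD M)
  have hker : T.Exact := exact_of_sections T (dual_f_injective hD M) (dual_exact hD M)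
  have hT : T.ShortExact := { exact := hker }
  haveI : IsIso φ.τ₁ := h₁
  haveI : IsIso φ.τ₃ := h₃
  exact ShortComplex.isIso₂_of_shortExact_of_isIso₁₃ φ hS hT

end Groth.SiteCohomology.HomShDual
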