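import Groth.Agent.SiteCohomology.BigEtaleCohomology
import Mathlib.Topology.Sheaves.SheafCondition.Sites
import Mathlib.AlgebraicGeometry.Sites.BigZariski

/-!
# The cohomology of the small and of the big Zariski site agree
-/

universe w z v v' v'' u u' u''

open CategoryTheory Limits Opposite AlgebraicGeometry TopologicalSpace

set_option maxHeartbeats 1000000
set_option synthInstance.maxHeartbeats 400000

namespace Groth.SiteCohomology

variable {A : Type u'} [Category.{v'} A] [Abelian A]

/-- Colimits with locally filtered index category, in a category with larger colimits. -/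
theorem mono_colimMap_of_locallyFiltered'' {I : Type w} [Category.{v} I]
    [IsGrothendieckAbelian.{max v w z} A] [HasColimitsOfShape I A] (hI : LocallyFiltered I)
    {F G : I ⥤ A} (φ : F ⟶ G) [Mono φ] :
    Mono (colimMap φ) := by
  let e : AsSmall.{max v w z} I ≌ I := (AsSmall.equiv (C := I)).symm
  have hJ : LocallyFiltered (AsSmall.{max v w z} I) :=
    { span := fun f g => by
        obtain ⟨d, ⟨p⟩, ⟨q⟩⟩ := hI.span (e.functor.map f) (e.functor.map g)
        exact ⟨AsSmall.up.obj d, ⟨⟨p⟩⟩, ⟨⟨q⟩⟩⟩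
      coeq := fun f g => by
        obtain ⟨d, h, he⟩ := hI.coeq (e.functor.map f) (e.functor.map g)
        exact ⟨AsSmall.up.obj d, ⟨h⟩, e.functor.map_injective (by
          rw [e.functor.map_comp, e.functor.map_comp]; exact he)⟩ }
  have : ∀ x, Mono ((Functor.whiskerLeft e.functor φ).app x) := fun x =>
    inferInstanceAs (Mono (((evaluation I A).obj (e.functor.obj x)).map φ))
  have : Mono (Functor.whiskerLeft e.functor φ) := NatTrans.mono_of_mono_app _
  have := mono_colimMap_of_locallyFiltered hJ (Functor.whiskerLeft e.functor φ)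
  have h : colimMap φ = inv (colimit.pre F e.functor) ≫
      colimMap (Functor.whiskerLeft e.functor φ) ≫ colimit.pre G e.functor := by
    rw [IsIso.eq_inv_comp]
    exact colimit.hom_ext fun j => by simp
  rw [h]
  infer_instance

/-- Left Kan extension preserves monomorphisms, for coefficients with larger colimits. -/
theorem mono_lan_map_of_locallyFiltered'' {C : Type u} [Category.{v} C] {D : Type u''}
    [Category.{v''} D] [IsGrothendieckAbelian.{max u v v'' z} A] (L : C ⥤ D)
    [∀ F : C ⥤ A, L.HasPointwiseLeftKanExtension F]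
    [∀ d, HasColimitsOfShape (CostructuredArrow L d) A]
    (hL : ∀ d : D, LocallyFiltered (CostructuredArrow L d))
    {F G : C ⥤ A} (φ : F ⟶ G) [Mono φ] : Mono (L.lan.map φ) := by
  have : ∀ d, Mono ((L.lan.map φ).app d) := by
    intro d
    let ψ : CostructuredArrow.proj L d ⋙ F ⟶ CostructuredArrow.proj L d ⋙ G :=
      Functor.whiskerLeft _ φ
    have : ∀ x, Mono (ψ.app x) := fun x =>
      inferInstanceAs (Mono (((evaluation C A).obj x.left).map φ))
    have : Mono ψ := NatTrans.mono_of_mono_app _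
    have := mono_colimMap_of_locallyFiltered''.{max u v'', z} (hL d) ψ
    let αF : (L.lan.obj F).obj d ≅ colimit (CostructuredArrow.proj L d ⋙ F) :=
      L.leftKanExtensionObjIsoColimit F d
    let αG : (L.lan.obj G).obj d ≅ colimit (CostructuredArrow.proj L d ⋙ G) :=
      L.leftKanExtensionObjIsoColimit G d
    have e : (L.lan.map φ).app d = αF.hom ≫ colimMap ψ ≫ αG.inv := by
      refine (Iso.inv_comp_eq αF).1 ?_
      refine colimit.hom_ext fun f => ?_
      have hF : colimit.ι _ f ≫ αF.inv = (L.lanUnit.app F).app f.left ≫ (L.lan.obj F).map f.hom :=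
        L.ι_leftKanExtensionObjIsoColimit_inv F d f
      have hG : colimit.ι _ f ≫ αG.inv = (L.lanUnit.app G).app f.left ≫ (L.lan.obj G).map f.hom :=
        L.ι_leftKanExtensionObjIsoColimit_inv G d f
      rw [reassoc_of% hF, ι_colimMap_assoc, hG]
      have h : φ.app f.left ≫ (L.lanUnit.app G).app f.left =
          (L.lanUnit.app F).app f.left ≫ (L.lan.map φ).app (L.obj f.left) :=
        congrArg (fun k => k.app f.left) (L.lanUnit.naturality φ)
      refine (Category.assoc _ _ _).trans ?_
      exact ((congrArg (_ ≫ ·) ((L.lan.map φ).naturality f.hom)).trans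
        ((Category.assoc _ _ _).symm.trans ((congrArg (· ≫ _) h.symm).trans
          (Category.assoc _ _ _))))
    rw [e]
    infer_instance
  exact NatTrans.mono_of_mono_app _

section Zar

variable (X : Scheme.{u})

lemma subsingleton_hom_opens_over {d : Over X} (U : X.Opens) :
    Subsingleton (d ⟶ (BigSite.zarIncl X).obj U) :=
  ⟨fun p q => Over.OverMorphism.ext ((cancel_mono U.ι).1 ((Over.w p).trans (Over.w q).symm))⟩

lemma nonempty_hom_opens_over {d : Over X} (U : X.Opens)
    (h : Set.range d.hom ⊆ (U : Set X)) : Nonempty (d ⟶ (BigSite.zarIncl X).obj U) := by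
  have h' : Set.range d.hom ⊆ Set.range U.ι := by rw [Scheme.Opens.range_ι]; exact h
  have : IsOpenImmersion U.ι := inferInstance
  let l : d.left ⟶ (U : Scheme) := IsOpenImmersion.lift U.ι d.hom h'
  have hl : l ≫ U.ι = d.hom := IsOpenImmersion.lift_fac _ _ _
  exact ⟨Over.homMk l hl⟩

lemma range_subset_of_hom {d : Over X} {U : X.Opens} (x : d ⟶ (BigSite.zarIncl X).obj U) :
    Set.range d.hom ⊆ (U : Set X) := by
  rintro _ ⟨t, rfl⟩
  have h : x.left ≫ U.ι = d.hom := Over.w x
  rw [← h, Scheme.Hom.comp_apply]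
  simpa using (Scheme.Opens.ι_apply _ _).symm ▸ (x.left t).2

theorem locallyFiltered_zarIncl (d : (Over X)ᵒᵖ) :
    LocallyFiltered (CostructuredArrow (BigSite.zarIncl X).op d) := by
  refine locallyFiltered_costructuredArrow_op (BigSite.zarIncl X) (fun {d a b c} x y p q _ => ?_)
    (fun {d a b} y p q _ => ⟨b, y, 𝟙 b, (subsingleton_hom_opens_over X b).elim _ _,
      Subsingleton.elim _ _⟩) d
  obtain ⟨z⟩ := nonempty_hom_opens_over X (a ⊓ b)
    (fun t ht => ⟨range_subset_of_hom X x ht, range_subset_of_hom X y ht⟩)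
  exact ⟨a ⊓ b, z, homOfLE inf_le_left, homOfLE inf_le_right,
    (subsingleton_hom_opens_over X a).elim _ _, (subsingleton_hom_opens_over X b).elim _ _⟩

instance isCocontinuous_zarIncl : (BigSite.zarIncl X).IsCocontinuous
    (Opens.grothendieckTopology X) (QuotSh.J Scheme.zariskiPrecoverage X) where
  cover_lift {U S} hS := by
    have hS' : Sieve.overEquiv ((BigSite.zarIncl X).obj U) S ∈
      Scheme.zariskiTopology ((BigSite.zarIncl X).obj U).left :=
        ((Scheme.zariskiPrecoverage.toGrothendieck).mem_over_iff S).1 hS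
    obtain ⟨𝒰, h𝒰⟩ := Scheme.exists_cover_of_mem_grothendieckTopology hS'
    intro t ht
    have hz : ∀ i, IsOpenImmersion (𝒰.f i) := fun i => 𝒰.map_prop i
    obtain ⟨i, s, hs⟩ := 𝒰.exists_eq (⟨t, ht⟩ : (U : Scheme.{u}))
    have := hz i
    refine ⟨U.ι ''ᵁ (𝒰.f i).opensRange, homOfLE (U.ι_image_le _), ?_, ?_⟩
    · have hmem : (Sieve.overEquiv ((BigSite.zarIncl X).obj U) S).arrows (𝒰.f i) :=
        h𝒰 _ _ (Presieve.ofArrows.mk i)
      have h := (Sieve.overEquiv_iff S (𝒰.f i)).1 hmem
      let f' : 𝒰.X i ⟶ (U : Scheme.{u}) := 𝒰.f i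
      have : IsOpenImmersion f' := hz i
      let W : X.Opens := U.ι ''ᵁ (𝒰.f i).opensRange
      let l : (W : Scheme.{u}) ⟶ 𝒰.X i := IsOpenImmersion.lift (f' ≫ U.ι) W.ι (by
        rw [Scheme.Opens.range_ι]
        rintro _ ⟨_, ⟨r, rfl⟩, hr⟩
        exact ⟨r, by rw [Scheme.Hom.comp_apply]; exact hr⟩)
      have hl : l ≫ f' ≫ U.ι = W.ι := IsOpenImmersion.lift_fac _ _ _
      let g : Over.mk W.ι ⟶ Over.mk (𝒰.f i ≫ ((BigSite.zarIncl X).obj U).hom) :=
        Over.homMk l hl
      have h2 := S.downward_closed h g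
      change S.arrows ((BigSite.zarIncl X).map (homOfLE (U.ι_image_le (𝒰.f i).opensRange) : W ⟶ U))
      have key : ∀ {k k' : Over.mk W.ι ⟶ (BigSite.zarIncl X).obj U}, S.arrows k → S.arrows k' :=
        fun {k k'} hk => (subsingleton_hom_opens_over X U).elim k k' ▸ hk
      exact key h2
    · exact ⟨_, ⟨s, rfl⟩, by rw [hs]; rfl⟩

/-- `zar⁻¹` on abelian sheaves is left exact. -/
theorem preservesFiniteLimits_piZarPull (K : Precoverage Scheme.{u}) [BigSite.ZarCont K X] :
    PreservesFiniteLimits (BigSite.piZarPull K X) :=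
  preservesFiniteLimits_sheafPullback_of_lan_mono _ _ _ _ fun φ hφ =>
    have := hφ
    mono_lan_map_of_locallyFiltered''.{u+1} _ (locallyFiltered_zarIncl X) φ

theorem nonempty_H_resZar_equiv [BigSite.ZarCont Scheme.zariskiPrecoverage X]
    (F : BigSite.Ab Scheme.zariskiPrecoverage X) (p : ℕ) :
    Nonempty (EtZar.H ((BigSite.resZar Scheme.zariskiPrecoverage X).obj F) p ≃+
      BigSite.H Scheme.zariskiPrecoverage X F p) := by
  have := preservesFiniteLimits_piZarPull X Scheme.zariskiPrecoverage
  let R := BigSite.resZar Scheme.zariskiPrecoverage X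
  have : PreservesFiniteLimits R :=
    (BigSite.piZarAdj Scheme.zariskiPrecoverage X).rightAdjoint_preservesLimits.{0, 0}.preservesFiniteLimits
  have : PreservesFiniteColimits R := preservesFiniteColimits_sheafPushforward _ _ _ _
  obtain ⟨e⟩ := nonempty_ext_adjunction_equiv (BigSite.piZarAdj Scheme.zariskiPrecoverage X)
    (fun I hI => @injective_map_of_adjunction _ _ _ _ _ _ _ _
      (BigSite.piZarAdj Scheme.zariskiPrecoverage X) _ I hI)
    ((constantSheaf (Opens.grothendieckTopology X) AddCommGrpCat.{u + 1}).obj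
      (AddCommGrpCat.of (ULift ℤ))) F p
  let T : IsTerminal (Over.mk (⊤ : X.Opens).ι) :=
    IsTerminal.ofUniqueHom
      (fun d => (nonempty_hom_opens_over X ⊤ (Set.subset_univ _)).some)
      (fun d m => (subsingleton_hom_opens_over X ⊤).elim _ _)
  let i : constantSheaf (Opens.grothendieckTopology X) AddCommGrpCat.{u + 1} ⋙
      BigSite.piZarPull Scheme.zariskiPrecoverage X ≅
        constantSheaf (QuotSh.J Scheme.zariskiPrecoverage X) AddCommGrpCat.{u + 1} :=
    ((constantSheafAdj (Opens.grothendieckTopology X) AddCommGrpCat.{u + 1}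
      (T := (⊤ : X.Opens)) isTerminalTop).comp
        (BigSite.piZarAdj Scheme.zariskiPrecoverage X)).leftAdjointUniq
    ((constantSheafAdj (QuotSh.J Scheme.zariskiPrecoverage X) AddCommGrpCat.{u + 1} T).ofNatIsoRight
      (NatIso.ofComponents (fun F => Iso.refl _)))
  exact ⟨e.trans (extIsoLeft (i.app (AddCommGrpCat.of (ULift ℤ))) F p).symm⟩

end Zar

end Groth.SiteCohomology
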