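import Groth.Prelude.Def_SixF1
import Groth.Prelude.Def_EtZar
import Groth.Agent.DerivedCoh.KInj.Resolution
import Groth.Agent.DerivedAdj.Basic
import Groth.Agent.Misc7.HDU.Push
import Groth.Agent.EtaleBase.PullStalk

/-!
`Rf_*` on unbounded derived categories of abelian etale sheaves is computed by K-injective complexes, and is compatible
with composition.
-/

set_option autoImplicit false
set_option synthInstance.maxHeartbeats 400000
set_option maxHeartbeats 1000000
set_option backward.isDefEq.respectTransparency false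

universe u

open CategoryTheory CategoryTheory.Limits AlgebraicGeometry

namespace Groth.SiteCohomology.EtPushComp

attribute [local instance] HasDerivedCategory.standard

variable {X Y Z : Scheme.{u}}

local notation "up" => ComplexShape.up ℤ

lemma enoughKInj (X : Scheme.{u}) : DerivedAdj.EnoughKInj (EtCoh.Ab X) := fun K => by
  obtain ⟨I, f, _, hq, hI, _⟩ := Groth.DerivedCoh.KInjRes.exists_resolution K
  exact ⟨I, f, hI, hq⟩

lemma exists_rep (K : DCoh.DEt X) :
    ∃ I : CochainComplex (EtCoh.Ab X) ℤ, I.IsKInjective ∧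
      Nonempty (DerivedCategory.Qh.obj ((HomotopyCategory.quotient _ up).obj I) ≅ K) := by
  obtain ⟨M, hM⟩ := HomotopyCategory.quotient_obj_surjective ((DerivedCategory.Qh (C := EtCoh.Ab X)).objPreimage K)
  obtain ⟨I, f, hI, hf⟩ := enoughKInj X M
  have := Localization.inverts DerivedCategory.Qh (HomotopyCategory.quasiIso (EtCoh.Ab X) up)
    ((HomotopyCategory.quotient _ up).map f) ((HomotopyCategory.quotient_map_mem_quasiIso_iff f).2 hf)
  exact ⟨I, hI, ⟨(asIso (DerivedCategory.Qh.map ((HomotopyCategory.quotient _ up).map f))).symm ≪≫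
    DerivedCategory.Qh.mapIso (eqToIso hM) ≪≫ DerivedCategory.Qh.objObjPreimageIso K⟩⟩

lemma isIso_unit_app (f : X ⟶ Y) [DCoh.HasRpushEt X f] (I : CochainComplex (EtCoh.Ab X) ℤ) [I.IsKInjective] :
    IsIso (((DCoh.pushEtKh X f).totalRightDerivedUnit DerivedCategory.Qh
      (HomotopyCategory.quasiIso (EtCoh.Ab X) up)).app ((HomotopyCategory.quotient _ up).obj I)) :=
  DerivedAdj.isIso_app_of_bijective (HomotopyCategory.quasiIso (EtCoh.Ab X) up) _ _
    (DerivedAdj.exists_good (enoughKInj X)) _ fun K =>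
      CochainComplex.IsKInjective.Qh_map_bijective K I

lemma isKInjective_push (f : X ⟶ Y) (I : CochainComplex (EtCoh.Ab X) ℤ) [I.IsKInjective] :
    CochainComplex.IsKInjective (((EtCoh.push f).mapHomologicalComplex up).obj I) :=
  Groth.Misc7.HDU.isKInjective_map_of_adjunction (EtCoh.pullPushAdj f) I

lemma isIso_compUnit_app (f : X ⟶ Y) (g : Y ⟶ Z) [DCoh.HasRpushEt X f] [DCoh.HasRpushEt Y g]
    (I : CochainComplex (EtCoh.Ab X) ℤ) [I.IsKInjective] :
    IsIso ((EtSix.compUnit f g).app ((HomotopyCategory.quotient _ up).obj I)) := by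
  have := isKInjective_push f I
  have h1 := isIso_unit_app f I
  have h2 : IsIso (((DCoh.pushEtKh Y g).totalRightDerivedUnit DerivedCategory.Qh
      (HomotopyCategory.quasiIso (EtCoh.Ab Y) up)).app
        (((EtCoh.push f).mapHomotopyCategory up).obj ((HomotopyCategory.quotient _ up).obj I))) :=
    isIso_unit_app g (((EtCoh.push f).mapHomologicalComplex up).obj I)
  have : IsIso (NatTrans.mapHomotopyCategory (EtCoh.pushComp g f).inv up) :=
    ⟨NatTrans.mapHomotopyCategory (EtCoh.pushComp g f).hom up,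
      by rw [← NatTrans.mapHomotopyCategory_comp, Iso.inv_hom_id, NatTrans.mapHomotopyCategory_id],
      by rw [← NatTrans.mapHomotopyCategory_comp, Iso.hom_inv_id, NatTrans.mapHomotopyCategory_id]⟩
  simp only [EtSix.compUnit, NatTrans.comp_app, Functor.whiskerLeft_app, Functor.whiskerRight_app,
    Functor.associator_hom_app, Functor.associator_inv_app]
  infer_instance

theorem isIso_compMap (f : X ⟶ Y) (g : Y ⟶ Z) [DCoh.HasRpushEt X f] [DCoh.HasRpushEt Y g]
    [DCoh.HasRpushEt X (f ≫ g)] : IsIso (EtSix.compMap f g) := by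
  suffices ∀ K, IsIso ((EtSix.compMap f g).app K) from NatIso.isIso_of_isIso_app _
  intro K
  obtain ⟨I, hI, ⟨e⟩⟩ := exists_rep K
  have h1 := isIso_unit_app (f ≫ g) I
  have h2 := isIso_compUnit_app f g I
  have h3 := (DCoh.RpushEt X (f ≫ g)).rightDerived_fac_app
    ((DCoh.pushEtKh X (f ≫ g)).totalRightDerivedUnit DerivedCategory.Qh
      (HomotopyCategory.quasiIso (EtCoh.Ab X) up))
    (HomotopyCategory.quasiIso (EtCoh.Ab X) up) (DCoh.RpushEt X f ⋙ DCoh.RpushEt Y g) (EtSix.compUnit f g)
    ((HomotopyCategory.quotient _ up).obj I)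
  have h4 : IsIso ((EtSix.compMap f g).app (DerivedCategory.Qh.obj ((HomotopyCategory.quotient _ up).obj I))) :=
    IsIso.of_isIso_fac_left h3
  exact (NatTrans.isIso_app_iff_of_iso (EtSix.compMap f g) e).1 h4

end Groth.SiteCohomology.EtPushComp
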