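import Groth.Agent.SiteCohomology.CechCovers

/-!
# Vanishing of cohomology from vanishing of Čech cohomology (Cartan's criterion)
-/

universe u v' u'

open CategoryTheory Limits Opposite TopologicalSpace Simplicial

set_option synthInstance.maxHeartbeats 400000
set_option maxHeartbeats 1000000

namespace Groth.SiteCohomology

open Abelian

section Data

variable {C : Type u} [SmallCategory C] {D : Type u'} [Category.{v'} D] [HasFiniteProducts D]
  {Φ : D ⥤ C} {ι : Type u} {Y : ι → D} {U : C}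

/-- A class in `H^{p+1}(U, F)` vanishing on the members of a covering family is zero when the
`(p+1)`-st Čech group vanishes and the intersections are acyclic below degree `p + 1`. -/
theorem CechData.eq_zero_of_cech (d : CechData Φ Y U) (J : GrothendieckTopology C)
    (hY : Sieve.ofArrows (fun i => Φ.obj (Y i)) d.p ∈ J U) (F : Sheaf J AddCommGrpCat.{u}) (p : ℕ)
    (hA : ∀ (n : ℕ) (a : Fin (n + 1) → ι) (q : ℕ), q < p →
      Subsingleton (CohSite.HU F (q + 1) (Φ.obj (∏ᶜ (Y ∘ a)))))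
    (hC : IsZero (((cechComplexFunctor Y).obj (Φ.op ⋙ F.obj)).homology (p + 1)))
    (ξ : CohSite.HU F (p + 1) U) (hξ : ∀ i, CohSite.res F (p + 1) (d.p i) ξ = 0) : ξ = 0 := by
  have hL : IsZero ((yonedaCofaceCx (freeSh J) d.aug F).homology (p + 1)) :=
    hC.of_iso ((HomologicalComplex.homologyFunctor _ _ (p + 1)).mapIso (d.cxIso J F))
  refine eq_zero_of_isZero_homology (T := freeSh J) (X := d.aug) F (d.isAugResolution J hY) p
    (fun n q hq => @subsingleton_ext_freeCoprod _ _ _ _ Φ J F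
      ((FormalCoproduct.mk _ Y).cech _⦋n⦌) (q + 1) fun a => hA n a q hq)
    (fun n q hq hn => @subsingleton_ext_freeCoprod _ _ _ _ Φ J F
      ((FormalCoproduct.mk _ Y).cech _⦋n⦌) (q + 1) fun a => hA n a q (by omega)) hL ξ ?_
  obtain ⟨hc⟩ := nonempty_isColimit_freeCoprod Φ J ((FormalCoproduct.mk _ Y).cech _⦋0⦌)
  refine (bijective_ext_coproduct hc F (p + 1)).1 (funext fun a => ?_)
  have hm : coprodι Φ ((FormalCoproduct.mk _ Y).cech _⦋0⦌) a ≫ d.aug.hom.app (op ⦋0⦌) =
      yoneda.map (Φ.map (Pi.π (Y ∘ a) (0 : Fin 1)) ≫ d.p (a (0 : Fin 1))) := by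
    ext c h
    exact d.aug_hom_apply c a h 0
  have key : ∀ {P Q R S : Sheaf J AddCommGrpCat.{u}} (a : P ⟶ Q) (b : Q ⟶ R) (a' : P ⟶ S)
      (b' : S ⟶ R) (x : Ext R F (p + 1)), (Ext.mk₀ b').comp x (zero_add _) = 0 →
        a ≫ b = a' ≫ b' →
          (Ext.mk₀ a).comp ((Ext.mk₀ b).comp x (zero_add _)) (zero_add _) =
            (Ext.mk₀ a).comp 0 (zero_add _) := fun a b a' b' x hx h => by
    rw [Ext.comp_zero, Ext.mk₀_comp_mk₀_assoc, h, ← Ext.mk₀_comp_mk₀,
      Ext.comp_assoc_of_second_deg_zero, hx, Ext.comp_zero]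
  exact key _ _ (CohCx.freeSheafMap J (Φ.map (Pi.π (Y ∘ a) (0 : Fin 1))))
    (CohCx.freeSheafMap J (d.p (a (0 : Fin 1)))) ξ (hξ _)
    (((freeSh J).map_comp _ _).symm.trans ((congrArg (freeSh J).map hm).trans
      (CohFree.freeSheafMap_comp J _ _)))

end Data

section Site

variable {C : Type u} [SmallCategory C] [HasPullbacks C] (J : GrothendieckTopology C)

/-- Cartan's criterion for a basis and a class of coverings of a site. -/
theorem subsingleton_HU_of_cech (B : Set C) (Cov : ∀ (U : C) (ι : Type u), (ι → Over U) → Prop)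
    (h1 : ∀ (U : C) (ι : Type u) (Y : ι → Over U), Cov U ι Y → U ∈ B ∧
      Sieve.ofArrows (fun i => (Y i).left) (fun i => (Y i).hom) ∈ J U ∧
      ∀ (p : ℕ) (a : Fin (p + 1) → ι), (∏ᶜ fun k => Y (a k)).left ∈ B)
    (h2 : ∀ U ∈ B, ∀ T ∈ J U, ∃ (ι : Type u) (Y : ι → Over U), Cov U ι Y ∧
      ∀ i, T.arrows (Y i).hom)
    (F : Sheaf J AddCommGrpCat.{u})
    (h3 : ∀ (U : C) (ι : Type u) (Y : ι → Over U), Cov U ι Y →
      ∀ p : ℕ, IsZero (CohCx.cechH F.obj Y (p + 1)))
    (U : C) (hU : U ∈ B) (p : ℕ) : Subsingleton (CohSite.HU F (p + 1) U) := by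
  induction p using Nat.strong_induction_on generalizing U with
  | _ p ih =>
    refine subsingleton_of_forall_eq 0 fun ξ => ?_
    obtain ⟨T, hT, hξ⟩ := exists_cover_res_eq_zero p F U ξ
    obtain ⟨ι, Y, hY, hYT⟩ := h2 U hU T hT
    exact (cechDataOver Y).eq_zero_of_cech J (h1 U ι Y hY).2.1 F p
      (fun n a q hq => ih q hq _ ((h1 U ι Y hY).2.2 n a)) (h3 U ι Y hY p) ξ
      fun i => hξ _ (hYT i)

/-- `H^1(U, F) = 0` if every covering sieve is refined by a family with vanishing first Čech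
group. -/
theorem subsingleton_HU_one_of_cech (F : Sheaf J AddCommGrpCat.{u}) (U : C)
    (h : ∀ T ∈ J U, ∃ (ι : Type u) (Y : ι → Over U), (∀ i, T.arrows (Y i).hom) ∧
      Sieve.ofArrows (fun i => (Y i).left) (fun i => (Y i).hom) ∈ J U ∧
      IsZero (CohCx.cechH F.obj Y 1)) :
    Subsingleton (CohSite.HU F 1 U) := by
  refine subsingleton_of_forall_eq 0 fun ξ => ?_
  obtain ⟨T, hT, hξ⟩ := exists_cover_res_eq_zero 0 F U ξ
  obtain ⟨ι, Y, hYT, hY, hC⟩ := h T hT
  exact (cechDataOver Y).eq_zero_of_cech J hY F 0 (fun _ _ q hq => absurd hq (by omega)) hC ξ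
    fun i => hξ _ (hYT i)

end Site

section Space

variable {X : TopCat.{u}} (F : CohTop.Ab X)

/-- The family of members of a sieve. -/
lemma exists_family_of_sieve {U : Opens X} {S : Sieve U}
    (hS : S ∈ Opens.grothendieckTopology X U) :
    ∃ (ι : Type u) (V : ι → Opens X), iSup V = U ∧
      ∀ i, ∃ h : V i ≤ U, S.arrows (homOfLE h) := by
  refine ⟨{V : Opens X // ∃ h : V ≤ U, S.arrows (homOfLE h)}, fun V => V.1,
    le_antisymm (iSup_le fun V => V.2.1) fun x hx => ?_, fun V => V.2⟩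
  obtain ⟨V, f, hf, hxV⟩ := hS x hx
  exact Opens.mem_iSup.2 ⟨⟨V, f.le, hf⟩, hxV⟩

/-- `H^1(U, F) = 0` if every open covering is refined by one with vanishing first Čech group. -/
theorem subsingleton_HU_one_of_cech_space (U : Opens X)
    (h : ∀ (ι : Type u) (V : ι → Opens X), iSup V = U →
      ∃ (κ : Type u) (W : κ → Opens X) (r : κ → ι), iSup W = U ∧ (∀ k, W k ≤ V (r k)) ∧
        IsZero (CohTop.cechH F.obj W 1)) :
    Subsingleton (CohTop.HU F 1 U) := by
  refine subsingleton_of_forall_eq 0 fun ξ => ?_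
  obtain ⟨T, hT, hξ⟩ := exists_cover_res_eq_zero 0 F U ξ
  obtain ⟨ι, V, hV, hVT⟩ := exists_family_of_sieve hT
  obtain ⟨κ, W, r, hW, hWV, hC⟩ := h ι V hV
  subst hW
  refine (cechDataOpens W).eq_zero_of_cech _ (ofArrows_mem W) F 0
    (fun _ _ q hq => absurd hq (by omega)) hC ξ fun i => hξ _ ?_
  obtain ⟨hle, hT'⟩ := hVT (r i)
  exact T.downward_closed hT' (homOfLE (hWV i))

/-- Cartan's criterion for a basis and a class of coverings of a space. -/
theorem subsingleton_HU_of_cech_space (B : Set (Opens X))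
    (Cov : ∀ (ι : Type u), (ι → Opens X) → Prop)
    (h1 : ∀ (ι : Type u) (V : ι → Opens X), Cov ι V →
      iSup V ∈ B ∧ ∀ (p : ℕ) (a : Fin (p + 1) → ι), (iInf fun k => V (a k)) ∈ B)
    (h2 : ∀ U ∈ B, ∀ (κ : Type u) (W : κ → Opens X), iSup W = U →
      ∃ (ι : Type u) (V : ι → Opens X), Cov ι V ∧ iSup V = U ∧ ∀ i, ∃ k, V i ≤ W k)
    (h3 : ∀ (ι : Type u) (V : ι → Opens X), Cov ι V →
      ∀ p : ℕ, IsZero (CohTop.cechH F.obj V (p + 1)))
    (U : Opens X) (hU : U ∈ B) (p : ℕ) : Subsingleton (CohTop.HU F (p + 1) U) := by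
  induction p using Nat.strong_induction_on generalizing U with
  | _ p ih =>
    refine subsingleton_of_forall_eq 0 fun ξ => ?_
    obtain ⟨T, hT, hξ⟩ := exists_cover_res_eq_zero p F U ξ
    obtain ⟨κ, W, hW, hWT⟩ := exists_family_of_sieve hT
    obtain ⟨ι, V, hV, hVU, hVW⟩ := h2 U hU κ W hW
    subst hVU
    refine (cechDataOpens V).eq_zero_of_cech _ (ofArrows_mem V) F p (fun n a q hq => ?_)
      (h3 ι V hV p) ξ fun i => hξ _ ?_
    · have := ih q hq _ ((h1 ι V hV).2 n a)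
      rw [← pi_eq_iInf V a] at this
      exact this
    · obtain ⟨k, hk⟩ := hVW i
      obtain ⟨hle, hT'⟩ := hWT k
      exact T.downward_closed hT' (homOfLE hk)

end Space

end Groth.SiteCohomology
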