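import Groth.Agent.SiteCohomology.CechExt
import Groth.Prelude.Def_CohCx

/-!
# Čech cohomology and totally acyclic sheaves
-/

universe u

open CategoryTheory Limits Opposite Simplicial

set_option synthInstance.maxHeartbeats 400000
set_option maxHeartbeats 1000000

namespace Groth.SiteCohomology

open Abelian

variable {C : Type u} [SmallCategory C] {J : GrothendieckTopology C}

/-- The fibre product of presheaves of sets. -/
def fibPresheaf {P Q R : Cᵒᵖ ⥤ Type u} (φ : P ⟶ R) (ψ : Q ⟶ R) : Cᵒᵖ ⥤ Type u where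
  obj c := {x : P.obj c × Q.obj c // φ.app c x.1 = ψ.app c x.2}
  map g := TypeCat.ofHom fun x => ⟨(P.map g x.1.1, Q.map g x.1.2),
    (congrArg (fun k => k x.1.1) (φ.naturality g)).trans
      ((congrArg (R.map g) x.2).trans (congrArg (fun k => k x.1.2) (ψ.naturality g)).symm)⟩
  map_id c := by
    ext x
    · exact congrArg (fun k => k x.1.1) (P.map_id c)
    · exact congrArg (fun k => k x.1.2) (Q.map_id c)
  map_comp g h := by
    ext x
    · exact congrArg (fun k => k x.1.1) (P.map_comp g h)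
    · exact congrArg (fun k => k x.1.2) (Q.map_comp g h)

/-- First projection. -/
def fibFst {P Q R : Cᵒᵖ ⥤ Type u} (φ : P ⟶ R) (ψ : Q ⟶ R) : fibPresheaf φ ψ ⟶ P where
  app _ := TypeCat.ofHom fun x => x.1.1

/-- Second projection. -/
def fibSnd {P Q R : Cᵒᵖ ⥤ Type u} (φ : P ⟶ R) (ψ : Q ⟶ R) : fibPresheaf φ ψ ⟶ Q where
  app _ := TypeCat.ofHom fun x => x.1.2

lemma fib_w {P Q R : Cᵒᵖ ⥤ Type u} (φ : P ⟶ R) (ψ : Q ⟶ R) :
    fibFst φ ψ ≫ φ = fibSnd φ ψ ≫ ψ := by
  ext c x
  exact x.2

lemma isLocallySurjective_fibFst {P Q R : Cᵒᵖ ⥤ Type u} (φ : P ⟶ R) (ψ : Q ⟶ R)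
    [Presheaf.IsLocallySurjective J ψ] : Presheaf.IsLocallySurjective J (fibFst φ ψ) where
  imageSieve_mem {U} s := by
    refine J.superset_covering ?_
      (Presheaf.imageSieve_mem J ψ (U := op U) (φ.app (op U) s))
    rintro V g ⟨t, ht⟩
    exact ⟨⟨(P.map g.op s, t),
      (congrArg (fun k => k s) (φ.naturality g.op)).trans ht.symm⟩, rfl⟩

/-- A morphism from the free sheaf on a sheaf of sets lifts along an epimorphism after pullback
along an epimorphism of sheaves of sets. -/
theorem exists_epi_lift (K : Sheaf J (Type u)) {I Q : Sheaf J AddCommGrpCat.{u}} (π : I ⟶ Q)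
    [Epi π] (φ : (freeSh J).obj K.obj ⟶ Q) :
    ∃ (K' : Sheaf J (Type u)) (f : K' ⟶ K) (ψ : (freeSh J).obj K'.obj ⟶ I), Epi f ∧
      (freeSh J).map f.hom ≫ φ = ψ ≫ π := by
  let F := sheafToPresheaf J AddCommGrpCat.{u} ⋙
    (Functor.whiskeringRight Cᵒᵖ _ _).obj (forget AddCommGrpCat.{u})
  let a : K.obj ⟶ F.obj Q := (freeShAdj J).homEquiv _ _ φ
  let b : F.obj I ⟶ F.obj Q := F.map π
  have hπ : Sheaf.IsLocallySurjective π :=
    (Sheaf.isLocallySurjective_iff_epi' AddCommGrpCat.{u} π).2 inferInstance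
  have hb : Presheaf.IsLocallySurjective J b :=
    (Presheaf.isLocallySurjective_iff_whisker_forget J π.hom).1 hπ
  have := isLocallySurjective_fibFst (J := J) a b
  let P' := fibPresheaf a b
  let K' := (presheafToSheaf J (Type u)).obj P'
  let f : K' ⟶ K := ⟨sheafifyLift J (fibFst a b) K.2⟩
  have hI : Presheaf.IsSheaf J (F.obj I) :=
    GrothendieckTopology.HasSheafCompose.isSheaf I.obj I.2
  have hQ : Presheaf.IsSheaf J (F.obj Q) :=
    GrothendieckTopology.HasSheafCompose.isSheaf Q.obj Q.2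
  have : Presheaf.IsLocallySurjective J f.hom :=
    Presheaf.isLocallySurjective_of_isLocallySurjective_fac J
      (toSheafify_sheafifyLift J (fibFst a b) K.2)
  refine ⟨K', f, ((freeShAdj J).homEquiv _ _).symm (sheafifyLift J (fibSnd a b) hI),
    (Sheaf.isLocallySurjective_iff_epi f).1 this, ?_⟩
  apply ((freeShAdj J).homEquiv _ _).injective
  rw [Adjunction.homEquiv_naturality_left, Adjunction.homEquiv_naturality_right,
    Equiv.apply_symm_apply]
  refine sheafify_hom_ext J _ _ hQ ?_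
  refine ((Category.assoc _ _ _).symm.trans ?_).trans (Category.assoc _ _ _)
  refine (congrArg (· ≫ a) (toSheafify_sheafifyLift J (fibFst a b) K.2)).trans ?_
  exact (fib_w a b).trans (congrArg (· ≫ b) (toSheafify_sheafifyLift J (fibSnd a b) hI)).symm

/-- A class in positive degree vanishes on some epimorphism of sheaves of sets. -/
theorem exists_epi_comp_eq_zero : ∀ (n : ℕ) (F : Sheaf J AddCommGrpCat.{u})
    (K : Sheaf J (Type u)) (ξ : CohCx.HK K F (n + 1)),
    ∃ (K' : Sheaf J (Type u)) (f : K' ⟶ K), Epi f ∧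
      (Ext.mk₀ ((freeSh J).map f.hom)).comp ξ (zero_add (n + 1)) = 0
  | 0, F, K, ξ => by
    let hS := injSES_shortExact F
    have : Injective (injSES F).X₂ := inferInstanceAs (Injective (Injective.under F))
    have := Ext.subsingleton_of_injective ((freeSh J).obj K.obj) (injSES F).X₂ 0
    obtain ⟨x, hx⟩ := ext_surjective_postcomp_extClass hS ((freeSh J).obj K.obj) 0 ξ
    obtain ⟨φ, rfl⟩ := (Ext.mk₀_bijective _ _).2 x
    subst hx
    have : Epi (injSES F).g := hS.epi_g
    obtain ⟨K', f, ψ, hf, h⟩ := exists_epi_lift K (injSES F).g φ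
    refine ⟨K', f, hf, ?_⟩
    change (Ext.mk₀ ((freeSh J).map f.hom)).comp
      ((Ext.mk₀ φ).comp hS.extClass (zero_add 1)) (zero_add 1) = 0
    rw [Ext.mk₀_comp_mk₀_assoc, h, ← Ext.mk₀_comp_mk₀, Ext.comp_assoc_of_second_deg_zero,
      hS.comp_extClass, Ext.comp_zero]
  | n + 1, F, K, ξ => by
    let hS := injSES_shortExact F
    have : Injective (injSES F).X₂ := inferInstanceAs (Injective (Injective.under F))
    have := Ext.subsingleton_of_injective ((freeSh J).obj K.obj) (injSES F).X₂ (n + 1)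
    obtain ⟨x, hx⟩ := ext_surjective_postcomp_extClass hS ((freeSh J).obj K.obj) (n + 1) ξ
    subst hx
    obtain ⟨K', f, hf, hx⟩ := exists_epi_comp_eq_zero n _ K x
    refine ⟨K', f, hf, ?_⟩
    change (Ext.mk₀ ((freeSh J).map f.hom)).comp (x.comp hS.extClass rfl) (zero_add (n + 2)) = 0
    rw [← Ext.comp_assoc _ _ _ (zero_add (n + 1)) rfl (by omega)]
    exact (congrArg (fun z => Ext.comp z hS.extClass rfl) hx).trans (Ext.zero_comp _ _ _ _ _)

/-- The free-sheaf functor on sheaves of sets. -/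
noncomputable abbrev freeT (J : GrothendieckTopology C) :
    Sheaf J (Type u) ⥤ Sheaf J AddCommGrpCat.{u} :=
  Sheaf.composeAndSheafify J AddCommGrpCat.free.{u}

/-- Totally acyclic sheaves have no positive Čech cohomology for epimorphisms of sheaves of
sets. -/
theorem isZero_cechNerveCx_homology (F : Sheaf J AddCommGrpCat.{u})
    (hF : CohCx.IsTotallyAcyclic F) {K' K : Sheaf J (Type u)} (f : K' ⟶ K) [Epi f] (q : ℕ) :
    IsZero ((CohCx.cechNerveCx F f).homology (q + 1)) := by
  obtain ⟨e⟩ := nonempty_yonedaCofaceCx_homology_equiv (T := freeT J) F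
    (isAugResolution_cechNerve J f) (q + 1) (fun n i _ => hF _ i)
  have : Subsingleton (Ext ((freeT J).obj K) F (q + 1)) := hF K q
  have : Subsingleton ((CohCx.cechNerveCx F f).homology (q + 1)) :=
    @Equiv.subsingleton _ _ e.toEquiv this
  exact AddCommGrpCat.isZero_of_subsingleton _

/-- Vanishing of Čech cohomology of all epimorphisms of sheaves of sets implies total
acyclicity. -/
theorem isTotallyAcyclic_of_cech (F : Sheaf J AddCommGrpCat.{u})
    (h : ∀ (K' K : Sheaf J (Type u)) (f : K' ⟶ K), Epi f →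
      ∀ q : ℕ, IsZero ((CohCx.cechNerveCx F f).homology (q + 1))) :
    CohCx.IsTotallyAcyclic F := by
  intro K p
  induction p using Nat.strong_induction_on generalizing K with
  | _ p ih =>
    refine subsingleton_of_forall_eq 0 fun ξ => ?_
    obtain ⟨K', f, hf, hξ⟩ := exists_epi_comp_eq_zero p F K ξ
    refine eq_zero_of_isZero_homology (T := freeT J) (X := (Arrow.mk f).augmentedCechNerve) F
      (isAugResolution_cechNerve J f) p (fun n q hq => ih q hq _)
      (fun n q hq hn => ih q (by omega) _) (h _ _ f hf p) ξ ?_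
    let g : (Arrow.mk f).augmentedCechNerve.left _⦋0⦌ ⟶ K' :=
      WidePullback.π (fun _ : Fin 1 => f) 0
    have hg : (Arrow.mk f).augmentedCechNerve.hom.app (op ⦋0⦌) = g ≫ f :=
      (WidePullback.π_arrow (fun _ : Fin 1 => f) 0).symm
    have key : ∀ {P Q R : Sheaf J AddCommGrpCat.{u}} (a : P ⟶ Q) (b : Q ⟶ R)
        (x : Ext R F (p + 1)), (Ext.mk₀ b).comp x (zero_add _) = 0 → ∀ c : P ⟶ R, c = a ≫ b →
          (Ext.mk₀ c).comp x (zero_add _) = 0 := fun a b x hx c hc => by
      rw [hc, ← Ext.mk₀_comp_mk₀, Ext.comp_assoc_of_second_deg_zero, hx, Ext.comp_zero]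
    exact key ((freeT J).map g) ((freeT J).map f) ξ hξ _
      ((congrArg (freeT J).map hg).trans ((freeT J).map_comp g f))

end Groth.SiteCohomology
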