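import Groth.Agent.CohTopBC.SpectralSoft
import Groth.Agent.SiteCohomology.Free
import Groth.Agent.SiteCohomology.Flasque
import Mathlib.Topology.KrullDimension

/-!
# Cohomological dimension of spectral spaces

The sheaf of families of germs which are constructibly locally given by sections is acyclic, and the
quotient by the sheaf itself is supported in higher height.
-/

set_option autoImplicit false
universe u

open CategoryTheory CategoryTheory.Limits Opposite TopologicalSpace
open CategoryTheory.Abelian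
open scoped Topology
open Groth.Agent.CohDescent (gm gm_res gm_eq gm_map gm_surjective sect_ext exists_glue_germs)
open Groth.Agent.CohTopBC (IsQcSoft IsQcInter exists_lift_qc exists_glue_pair exists_nhd_disjoint isOpen_gm_eq)

set_option synthInstance.maxHeartbeats 400000
set_option maxHeartbeats 1000000

noncomputable section

namespace Groth.SiteCohomology.SpectralDim

variable {X : TopCat.{u}}

lemma ctInter {s t : Set X} (hs : IsOpen[constructibleTopology X] s) (ht : IsOpen[constructibleTopology X] t) :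
    IsOpen[constructibleTopology X] (s ∩ t) :=
  (constructibleTopology X).isOpen_inter s t hs ht

/-- There is a chain of `k` proper generalisations starting at the point. -/
def GenChain : ℕ → X → Prop
  | 0, _ => True
  | k + 1, x => ∃ y, y ⤳ x ∧ y ≠ x ∧ GenChain k y

lemma GenChain.pred : ∀ {k : ℕ} {x : X}, GenChain (k + 1) x → GenChain k x
  | 0, _, _ => trivial
  | _ + 1, _, ⟨y, hy, hne, h⟩ => ⟨y, hy, hne, h.pred⟩

/-- The closure of a point as an irreducible closed set. -/
def pointClosure (x : X) : IrreducibleCloseds X :=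
  ⟨closure {x}, isIrreducible_singleton.closure, isClosed_closure⟩

lemma exists_series [T0Space X] : ∀ (k : ℕ) (x : X), GenChain k x →
    ∃ s : LTSeries (IrreducibleCloseds X), s.length = k ∧ s.head = pointClosure x
  | 0, x, _ => ⟨RelSeries.singleton _ (pointClosure x), rfl, rfl⟩
  | k + 1, x, ⟨y, hy, hne, h⟩ => by
    obtain ⟨s, hs, hhd⟩ := exists_series k y h
    have hlt : pointClosure x < s.head := by
      rw [hhd]
      refine lt_of_le_of_ne (specializes_iff_closure_subset.1 hy) fun e => hne ?_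
      have hy' : closure ({y} : Set X) ⊆ closure {x} := ((congrArg IrreducibleCloseds.carrier e).symm).subset
      exact ((specializes_iff_closure_subset.2 hy').antisymm hy).eq.symm
    exact ⟨s.cons (pointClosure x) hlt, by simp [hs], by simp⟩

lemma not_genChain_of_krullDim_le [T0Space X] {d : ℕ} (hd : topologicalKrullDim X ≤ d) (x : X) :
    ¬ GenChain (d + 1) x := fun h => by
  obtain ⟨s, hs, -⟩ := exists_series _ x h
  have h1 := (Order.LTSeries.length_le_krullDim s).trans hd
  rw [hs] at h1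
  have h2 : d + 1 ≤ d := by exact_mod_cast h1
  omega

/-- All stalks outside the points with a chain of `k` generalisations vanish. -/
def IsSupportedAt (k : ℕ) (F : CohTop.Ab X) : Prop :=
  ∀ x : X, ¬ GenChain k x → ∀ a : (sfib x).obj F, a = 0

section CtSheaf

variable (F : CohTop.Ab X)

/-- Families of germs which are constructibly locally given by a section. -/
def ctSecs (U : Opens X) : AddSubgroup (∀ z : U, ((sfib z.1).obj F : Type u)) where
  carrier := {a | ∀ z : U, ∃ (V : Opens X) (s : F.obj.obj (op V)) (E : Set X),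
    IsOpen[constructibleTopology X] E ∧ z.1 ∈ E ∧ E ⊆ V ∧
      ∀ (w : U), w.1 ∈ E → ∀ hw : w.1 ∈ V, a w = gm F w.1 V hw s}
  zero_mem' z := ⟨⊤, 0, Set.univ, @isOpen_univ X (constructibleTopology X), trivial, fun _ _ => trivial,
    fun _ _ _ => (map_zero _).symm⟩
  add_mem' {a b} ha hb z := by
    obtain ⟨V, s, E, hE, hzE, hEV, hs⟩ := ha z
    obtain ⟨V', s', E', hE', hzE', hEV', hs'⟩ := hb z
    refine ⟨V ⊓ V', F.obj.map (homOfLE inf_le_left).op s + F.obj.map (homOfLE inf_le_right).op s', E ∩ E',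
      ctInter hE hE', ⟨hzE, hzE'⟩,
      fun w hw => ⟨hEV hw.1, hEV' hw.2⟩, fun w hw hwV => ?_⟩
    rw [Pi.add_apply, hs w hw.1 hwV.1, hs' w hw.2 hwV.2, map_add, gm_res, gm_res]
  neg_mem' {a} ha z := by
    obtain ⟨V, s, E, hE, hzE, hEV, hs⟩ := ha z
    exact ⟨V, -s, E, hE, hzE, hEV, fun w hw hwV => by rw [Pi.neg_apply, hs w hw hwV, map_neg]⟩

/-- The presheaf of constructibly continuous families of germs. -/
def ctPresheaf : TopCat.Presheaf AddCommGrpCat.{u} X where
  obj U := AddCommGrpCat.of (ctSecs F U.unop)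
  map {U V} i := AddCommGrpCat.ofHom (AddMonoidHom.mk'
    (fun a => ⟨fun z => a.1 ⟨z.1, i.unop.le z.2⟩, fun z => by
      obtain ⟨W, s, E, hE, hzE, hEW, hs⟩ := a.2 ⟨z.1, i.unop.le z.2⟩
      exact ⟨W, s, E, hE, hzE, hEW, fun w hw hwW => hs ⟨w.1, i.unop.le w.2⟩ hw hwW⟩⟩)
    fun _ _ => rfl)
  map_id _ := rfl
  map_comp _ _ := rfl

variable [PrespectralSpace X]

lemma ctPresheaf_isSheaf : TopCat.Presheaf.IsSheaf (ctPresheaf F) := by
  rw [TopCat.Presheaf.isSheaf_iff_isSheafUniqueGluing]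
  intro ι U sf hsf
  have hsf' : ∀ i j (z : X) (hi : z ∈ U i) (hj : z ∈ U j), (sf i).1 ⟨z, hi⟩ = (sf j).1 ⟨z, hj⟩ :=
    fun i j z hi hj => congr_fun (congrArg Subtype.val (hsf i j)) ⟨z, hi, hj⟩
  choose i hi using fun z : (iSup U : Opens X) => Opens.mem_iSup.1 z.2
  refine ⟨⟨fun z => (sf (i z)).1 ⟨z.1, hi z⟩, fun z => ?_⟩, fun j => ?_, fun t ht => ?_⟩
  · obtain ⟨V, s, E, hE, hzE, hEV, hs⟩ := (sf (i z)).2 ⟨z.1, hi z⟩
    refine ⟨V, s, E ∩ (U (i z) : Set X), ctInter hE
      (Groth.SpectralTopology.constructibleTopology_le _ (U (i z)).2), ⟨hzE, hi z⟩,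
      fun w hw => hEV hw.1, fun w hw hwV => ?_⟩
    exact (hsf' (i w) (i z) w.1 (hi w) hw.2).trans (hs ⟨w.1, hw.2⟩ hw.1 hwV)
  · exact Subtype.ext (funext fun z => hsf' _ j z.1 _ z.2)
  · exact Subtype.ext (funext fun z => congr_fun (congrArg Subtype.val (ht (i z))) ⟨z.1, hi z⟩)

/-- The sheaf of constructibly continuous families of germs. -/
def ctSheaf : CohTop.Ab X := ⟨ctPresheaf F, ctPresheaf_isSheaf F⟩

/-- A section as a family of germs. -/
noncomputable def toCtSheaf : F ⟶ ctSheaf F := ⟨{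
  app U := AddCommGrpCat.ofHom (AddMonoidHom.mk'
    (fun s => ⟨fun z => gm F z.1 U.unop z.2 s, fun z => ⟨U.unop, s, (U.unop : Set X),
      Groth.SpectralTopology.constructibleTopology_le _ U.unop.2, z.2, subset_rfl, fun _ _ _ => rfl⟩⟩)
    fun a b => Subtype.ext (funext fun z => map_add _ a b))
  naturality U V i := by
    refine ConcreteCategory.hom_ext _ _ fun s => Subtype.ext (funext fun z => ?_)
    exact gm_res F z.1 i.unop.le z.2 s }⟩

instance mono_toCtSheaf : Mono (toCtSheaf F) := by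
  haveI : ∀ U, Mono ((toCtSheaf F).hom.app U) := fun U =>
    (AddCommGrpCat.mono_iff_injective _).2 fun s t h => sect_ext s t fun y hy =>
      congr_fun (congrArg Subtype.val h) ⟨y, hy⟩
  haveI : Mono ((sheafToPresheaf _ _).map (toCtSheaf F)) := NatTrans.mono_of_mono_app (toCtSheaf F).hom
  exact (sheafToPresheaf _ _).mono_of_mono_map ‹_›

theorem isQcSoft_ctSheaf : IsQcSoft (ctSheaf F) := by
  classical
  intro U hU a
  have hUo : IsOpen[constructibleTopology X] (U : Set X)ᶜ :=
    (@isOpen_compl_iff X _ (constructibleTopology X)).2 (Groth.SpectralTopology.isClosed_ct U.2 hU)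
  refine ⟨⟨fun z => if h : z.1 ∈ U then a.1 ⟨z.1, h⟩ else 0, fun z => ?_⟩, Subtype.ext (funext fun z => dif_pos z.2)⟩
  by_cases h : z.1 ∈ U
  · obtain ⟨V, s, E, hE, hzE, hEV, hs⟩ := a.2 ⟨z.1, h⟩
    refine ⟨V, s, E ∩ (U : Set X), ctInter hE
      (Groth.SpectralTopology.constructibleTopology_le _ U.2), ⟨hzE, h⟩, fun w hw => hEV hw.1,
      fun w hw hwV => ?_⟩
    exact (dif_pos hw.2).trans (hs ⟨w.1, hw.2⟩ hw.1 hwV)
  · exact ⟨⊤, 0, (U : Set X)ᶜ, hUo, h, fun _ _ => trivial,
      fun w hw _ => (dif_neg hw).trans (map_zero _).symm⟩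

end CtSheaf

theorem exists_germ_eq_toCtSheaf [SpectralSpace X] (F : CohTop.Ab X) {k : ℕ} (hF : IsSupportedAt k F) {x : X}
    (hx : ¬ GenChain (k + 1) x) (b : (sfib x).obj (ctSheaf F)) :
    ∃ a, (sfib x).map (toCtSheaf F) a = b := by
  obtain ⟨U, hxU, a, rfl⟩ := gm_surjective _ x b
  obtain ⟨U', hxU', s, hs⟩ := gm_surjective F x (a.1 ⟨x, hxU⟩)
  obtain ⟨W, ⟨hWo, hWc⟩, hxW, hW⟩ := PrespectralSpace.isTopologicalBasis.exists_subset_of_mem_open
    (show x ∈ (U ⊓ U' : Opens X) from ⟨hxU, hxU'⟩) (U ⊓ U').2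
  let E : Set X := {z | ∃ (h : z ∈ U) (h' : z ∈ U'), a.1 ⟨z, h⟩ = gm F z U' h' s}
  have hE : IsOpen[constructibleTopology X] E := by
    refine (@isOpen_iff_forall_mem_open X (constructibleTopology X) E).2 fun z hz => ?_
    obtain ⟨h, h', e⟩ := hz
    obtain ⟨V, t, G, hG, hzG, hGV, ht⟩ := a.2 ⟨z, h⟩
    rw [ht ⟨z, h⟩ hzG (hGV hzG)] at e
    refine ⟨G ∩ {w | ∃ (hV : w ∈ V) (hU : w ∈ U'), gm F w V hV t = gm F w U' hU s} ∩ (U : Set X), ?_,
      ctInter
        (ctInter hG
          (Groth.SpectralTopology.constructibleTopology_le _ (isOpen_gm_eq F t s)))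
        (Groth.SpectralTopology.constructibleTopology_le _ U.2), ⟨⟨hzG, hGV hzG, h', e⟩, h⟩⟩
    rintro w ⟨⟨hwG, hwV, hwU', e'⟩, hwU⟩
    exact ⟨hwU, hwU', (ht ⟨w, hwU⟩ hwG hwV).trans e'⟩
  let K : Set X := {z | z ⤳ x}
  have hK : IsQcInter K := fun z hz => by
    obtain ⟨O, hO, hxO, hzO⟩ : ∃ O : Set X, IsOpen O ∧ x ∈ O ∧ z ∉ O := by
      simpa [K, specializes_iff_forall_open] using hz
    obtain ⟨V, ⟨hVo, hVc⟩, hxV, hV⟩ := PrespectralSpace.isTopologicalBasis.exists_subset_of_mem_open hxO hO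
    exact ⟨V, hVo, hVc, fun w hw => hw.mem_open hVo hxV, fun h => hzO (hV h)⟩
  obtain ⟨N, hNo, -, hKN, hN⟩ := exists_nhd_disjoint hK (C := W ∩ Eᶜ)
    (@IsClosed.inter X _ _ (constructibleTopology X) (Groth.SpectralTopology.isClosed_ct hWo hWc)
      ((@isClosed_compl_iff X (constructibleTopology X) _).2 hE))
    (Set.eq_empty_iff_forall_notMem.2 fun z hz => hz.2.2 (by
      obtain ⟨hzK, hzW, -⟩ := hz
      refine ⟨(hW hzW).1, (hW hzW).2, ?_⟩
      by_cases hzx : z = x
      · subst hzx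
        exact hs.symm
      · have : ¬ GenChain k z := fun h => hx ⟨z, hzK, hzx, h⟩
        exact (hF z this _).trans (hF z this _).symm))
  let W' : Opens X := ⟨W ∩ N, hWo.inter hNo⟩
  have hW'U : W' ≤ U := fun z hz => (hW hz.1).1
  have hW'U' : W' ≤ U' := fun z hz => (hW hz.1).2
  have hxW' : x ∈ W' := ⟨hxW, hKN (show x ⤳ x from specializes_rfl)⟩
  refine ⟨gm F x W' hxW' (F.obj.map (homOfLE hW'U').op s), ?_⟩
  rw [gm_map, ← gm_res (ctSheaf F) x hW'U hxW' a]
  refine congrArg _ (Subtype.ext (funext fun z => ?_))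
  obtain ⟨h, h', e⟩ : z.1 ∈ E := by_contra fun hc => (Set.eq_empty_iff_forall_notMem.1 hN) z.1 ⟨z.2.2, z.2.1, hc⟩
  exact (gm_res F z.1 hW'U' z.2 s).trans e.symm

/-- The embedding into families of germs as a short complex. -/
noncomputable def ctSES [PrespectralSpace X] (F : CohTop.Ab X) : ShortComplex (CohTop.Ab X) :=
  ShortComplex.mk (toCtSheaf F) (cokernel.π (toCtSheaf F)) (cokernel.condition _)

lemma ctSES_shortExact [PrespectralSpace X] (F : CohTop.Ab X) : (ctSES F).ShortExact where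
  exact := ShortComplex.exact_cokernel _
  mono_f := mono_toCtSheaf F
  epi_g := inferInstanceAs (Epi (cokernel.π (toCtSheaf F)))

theorem isSupportedAt_succ [SpectralSpace X] (F : CohTop.Ab X) {k : ℕ} (hF : IsSupportedAt k F) :
    IsSupportedAt (k + 1) (ctSES F).X₃ := fun x hx c => by
  obtain ⟨b, rfl⟩ := Groth.Agent.CohTopBC.exists_stalk_lift (ctSES_shortExact F) x c
  obtain ⟨a, rfl⟩ := exists_germ_eq_toCtSheaf F hF hx b
  change ((sfib x).map (ctSES F).f ≫ (sfib x).map (ctSES F).g) a = 0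
  rw [← Functor.map_comp, (ctSES F).zero, Functor.map_zero]
  rfl

theorem subsingleton_ext_free_qc [CompactSpace X] [PrespectralSpace X] [QuasiSeparatedSpace X] (U : Opens X)
    (hU : IsCompact (U : Set X)) (n : ℕ) (F : CohTop.Ab X) (hF : IsQcSoft F) :
    Subsingleton (Ext (CohCx.freeSheaf (Opens.grothendieckTopology X) U) F (n + 1)) := by
  refine subsingleton_ext_succ_of_class _ (fun F : CohTop.Ab X => IsQcSoft F) ?_ ?_ n F hF
  · intro _ S hS hF h _
    subst h
    exact (surjective_sections_iff_lift S.g).1 fun t => exists_lift_qc hS hF U hU t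
  · intro _ S hS hF h hI V hV t
    subst h
    haveI := hI
    haveI := isFlasque_of_injective S.X₂
    obtain ⟨g, rfl⟩ := exists_lift_qc hS hF V hV t
    obtain ⟨g', rfl⟩ := (isFlasque_iff_surjective S.X₂).1 inferInstance (homOfLE (le_top : V ≤ ⊤)) g
    exact ⟨S.g.hom.app (op ⊤) g', (NatTrans.naturality_apply S.g.hom (homOfLE (le_top : V ≤ ⊤)).op g').symm⟩

theorem surjective_sections_top [SpectralSpace X] {d : ℕ} (hd : topologicalKrullDim X ≤ d) (F : CohTop.Ab X)
    (hF : IsSupportedAt d F) (U : Opens X) (hU : IsCompact (U : Set X)) :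
    Function.Surjective (F.obj.map (homOfLE (le_top : U ≤ ⊤)).op) := by
  intro s
  let S : Set X := (U : Set X) ∩ {z | ∃ (h : z ∈ U) (h' : z ∈ (⊤ : Opens X)),
    gm F z U h s = gm F z ⊤ h' 0}ᶜ
  have hSc : IsClosed[constructibleTopology X] S :=
    @IsClosed.inter X _ _ (constructibleTopology X) (Groth.SpectralTopology.isClosed_ct U.2 hU)
      (Groth.SpectralTopology.isClosed_ct_of_isClosed (isOpen_gm_eq F s 0).isClosed_compl)
  have hS : ∀ z ∈ S, GenChain d z := fun z ⟨hzU, hz⟩ => by_contra fun hc =>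
    hz ⟨hzU, trivial, (hF z hc _).trans (hF z hc _).symm⟩
  have hcl : IsClosed S := Groth.SpectralTopology.isClosed_of_isClosed_ct hSc fun z w hzw hz => by
    by_cases e : z = w
    · exact e ▸ hz
    · exact absurd ⟨z, hzw, e, hS z hz⟩ (not_genChain_of_krullDim_le hd w)
  obtain ⟨r, hr, -⟩ := exists_glue_pair F (U := U) (V := ⟨Sᶜ, hcl.isOpen_compl⟩) s 0 fun z hzU hzS => by
    obtain ⟨_, _, e⟩ := by_contra fun h => hzS ⟨hzU, h⟩
    rw [e, map_zero, map_zero]
  have htop : (⊤ : Opens X) ≤ U ⊔ ⟨Sᶜ, hcl.isOpen_compl⟩ := fun z _ => by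
    by_cases h : z ∈ S
    · exact Or.inl h.1
    · exact Or.inr h
  refine ⟨F.obj.map (homOfLE htop).op r, sect_ext _ _ fun z hz => ?_⟩
  rw [gm_res, gm_res]
  exact hr z hz

/-- Vanishing and surjectivity of restriction for sheaves supported in height at least `k`. -/
theorem vanishing_and_surjective [SpectralSpace X] {d : ℕ} (hd : topologicalKrullDim X ≤ d) :
    ∀ (j k : ℕ), k + j = d + 1 → ∀ F : CohTop.Ab X, IsSupportedAt k F →
      (∀ p, d < p + k → ∀ U : Opens X, IsCompact (U : Set X) → Subsingleton (CohTop.HU F p U)) ∧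
      ∀ p, d ≤ p + k → ∀ U : Opens X, IsCompact (U : Set X) →
        Function.Surjective (CohTop.res F p (le_top : U ≤ ⊤))
  | 0, k, hk, F, hF => by
    obtain rfl : k = d + 1 := hk
    have hsec : ∀ (U : Opens X) (s : F.obj.obj (op U)), s = 0 := fun U s => sect_ext _ _ fun z hz =>
      (hF z (not_genChain_of_krullDim_le hd z) _).trans (map_zero _).symm
    have hz : IsZero F := by
      rw [IsZero.iff_id_eq_zero]
      refine Sheaf.hom_ext (NatTrans.ext (funext fun U => ConcreteCategory.hom_ext _ _ fun s => ?_))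
      exact hsec _ s
    have : ∀ p (U : Opens X), Subsingleton (CohTop.HU F p U) := fun p U =>
      show Subsingleton (Ext (CohCx.freeSheaf _ U) F p) from
        subsingleton_of_forall_eq 0 fun x => by
          rw [← Ext.comp_mk₀_id x, hz.eq_of_src (𝟙 F) 0, Ext.mk₀_zero, Ext.comp_zero]
    exact ⟨fun p _ U _ => this p U, fun p _ U _ y => ⟨0, (this p U).elim _ _⟩⟩
  | j + 1, k, hk, F, hF => by
    let hS := ctSES_shortExact F
    obtain ⟨hvan, hsur⟩ := vanishing_and_surjective hd j (k + 1) (by omega) _ (isSupportedAt_succ F hF)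
    refine ⟨fun p hp U hU => ?_, fun p hp U hU => ?_⟩
    · obtain ⟨m, rfl⟩ : ∃ m, p = m + 1 := ⟨p - 1, by omega⟩
      refine (subsingleton_of_forall_eq (0 : Ext (CohCx.freeSheaf (Opens.grothendieckTopology X) U)
        (ctSES F).X₁ (m + 1)) fun y => ?_ : Subsingleton (Ext _ (ctSES F).X₁ (m + 1)))
      haveI := subsingleton_ext_free_qc U hU m (ctSES F).X₂ (isQcSoft_ctSheaf F)
      haveI : Subsingleton (Ext (CohCx.freeSheaf (Opens.grothendieckTopology X) U) (ctSES F).X₃ m) :=
        hvan m (by omega) U hU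
      obtain ⟨z, rfl⟩ := Ext.covariant_sequence_exact₁ _ hS y (Subsingleton.elim _ _) (rfl : m + 1 = m + 1)
      rw [Subsingleton.elim z 0, Ext.zero_comp]
    · rcases p with _ | m
      · intro y
        obtain ⟨f, rfl⟩ := (Ext.mk₀_bijective (CohCx.freeSheaf (Opens.grothendieckTopology X) U) F).2 y
        obtain ⟨S, hs⟩ := surjective_sections_top hd F (by
          obtain rfl : k = d := by omega
          exact hF) U hU (CohFree.evalGen _ U F f)
        refine ⟨Ext.mk₀ (CohFree.ofSect (Opens.grothendieckTopology X) ⊤ F S), ?_⟩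
        refine (res_apply (J := Opens.grothendieckTopology X) F 0 (homOfLE (le_top : U ≤ ⊤)) _).trans ?_
        refine (Ext.mk₀_comp_mk₀ (CohCx.freeSheafMap (Opens.grothendieckTopology X) (homOfLE (le_top : U ≤ ⊤)))
          (CohFree.ofSect (Opens.grothendieckTopology X) ⊤ F S)).trans (congrArg Ext.mk₀ ?_)
        rw [freeSheafMap_comp_ofSect, hs, CohFree.ofSect_evalGen]
      · haveI := subsingleton_ext_free_qc U hU m (ctSES F).X₂ (isQcSoft_ctSheaf F)
        refine fun (y : Ext (CohCx.freeSheaf (Opens.grothendieckTopology X) U) (ctSES F).X₁ (m + 1)) => ?_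
        obtain ⟨z, rfl⟩ := Ext.covariant_sequence_exact₁ _ hS y (Subsingleton.elim _ _) (rfl : m + 1 = m + 1)
        obtain ⟨w, rfl⟩ := hsur m (by omega) U hU z
        exact ⟨Ext.comp (α := (w : Ext (CohCx.freeSheaf (Opens.grothendieckTopology X) ⊤) (ctSES F).X₃ m))
          hS.extClass rfl, (Ext.comp_assoc _ _ _ (zero_add m) rfl (by omega)).symm⟩

theorem subsingleton_H [SpectralSpace X] {d : ℕ} (hd : topologicalKrullDim X ≤ d) (F : CohTop.Ab X) {p : ℕ}
    (hp : d < p) : Subsingleton (CohTop.H F p) :=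
  haveI := (vanishing_and_surjective hd (d + 1) 0 (zero_add _) F (fun _ h => absurd trivial h)).1 p hp ⊤
    isCompact_univ
  (HUTopEquiv F p).symm.subsingleton

theorem surjective_res_top [SpectralSpace X] {d : ℕ} (hd : topologicalKrullDim X ≤ d) (F : CohTop.Ab X)
    (U : Opens X) (hU : IsCompact (U : Set X)) : Function.Surjective (CohTop.res F d (le_top : U ≤ ⊤)) :=
  (vanishing_and_surjective hd (d + 1) 0 (zero_add _) F (fun _ h => absurd trivial h)).2 d le_rfl U hU

end Groth.SiteCohomology.SpectralDim
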