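import Groth.Prelude.Def_CohSite
import Groth.Prelude.Def_CohTop
import Groth.Agent.SiteCohomology.ShriekExact
import Groth.Agent.SiteCohomology.AcyclicImage
import Groth.Agent.SiteCohomology.Free
import Groth.Agent.SiteCohomology.Flasque
import Mathlib.Algebra.Category.Grp.Limits
import Mathlib.Topology.Sheaves.Over

/-!
# Cohomology of restrictions along continuous cocontinuous functors
-/

universe u

open CategoryTheory Limits Opposite TopologicalSpace

set_option maxHeartbeats 1000000
set_option synthInstance.maxHeartbeats 400000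

namespace Groth.SiteCohomology

section Small

variable {C D : Type u} [SmallCategory C] [SmallCategory D]
  (J : GrothendieckTopology C) (K : GrothendieckTopology D) (u : C ⥤ D) [u.IsContinuous J K]

/-- `u_!` on abelian sheaves is exact when the comma categories are locally filtered. -/
theorem preservesFiniteLimits_shriek (hu : ∀ d, LocallyFiltered (CostructuredArrow u.op d)) :
    PreservesFiniteLimits (u.sheafPullback AddCommGrpCat.{u} J K) :=
  preservesFiniteLimits_sheafPullback_of_lan_mono J K u AddCommGrpCat.{u}
    fun φ hφ => @mono_lan_map_of_locallyFiltered _ _ _ _ _ _ _ _ u.op _ _ hu _ _ φ hφ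

/-- Restriction along `u` preserves injective abelian sheaves. -/
theorem injective_restrict (hu : ∀ d, LocallyFiltered (CostructuredArrow u.op d))
    (I : Sheaf K AddCommGrpCat.{u}) [Injective I] : Injective ((CohSite.push K J u).obj I) :=
  haveI := preservesFiniteLimits_shriek J K u hu
  injective_map_of_adjunction (u.sheafAdjunctionContinuous AddCommGrpCat.{u} J K) I

/-- Restriction along `u` preserves K-injective complexes. -/
theorem isKInjective_restrict (hu : ∀ d, LocallyFiltered (CostructuredArrow u.op d))
    (I : CochainComplex (Sheaf K AddCommGrpCat.{u}) ℤ) (hI : I.IsKInjective) :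
    CochainComplex.IsKInjective (((u.sheafPushforwardContinuous AddCommGrpCat.{u} J K).mapHomologicalComplex
      (ComplexShape.up ℤ)).obj I) :=
  haveI := preservesFiniteLimits_shriek J K u hu
  isKInjective_map_of_adjunction (u.sheafAdjunctionContinuous AddCommGrpCat.{u} J K) I hI

/-- `H^n(V, g⁻¹F) = H^n(u V, F)`. -/
theorem nonempty_HU_restrict_equiv [u.IsCocontinuous J K]
    (hu : ∀ d, LocallyFiltered (CostructuredArrow u.op d)) (F : Sheaf K AddCommGrpCat.{u})
    (V : C) (n : ℕ) :
    Nonempty (CohSite.HU ((CohSite.push K J u).obj F) n V ≃+ CohSite.HU F n (u.obj V)) := by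
  haveI : PreservesFiniteLimits (CohSite.push K J u) :=
    (u.sheafAdjunctionContinuous AddCommGrpCat.{u} J K).rightAdjoint_preservesLimits.{0, 0}.preservesFiniteLimits
  haveI : PreservesFiniteColimits (CohSite.push K J u) :=
    preservesFiniteColimits_sheafPushforward J K u AddCommGrpCat.{u}
  exact nonempty_HU_push_equiv K J u (fun I hI => @injective_restrict _ _ _ _ J K u _ hu I hI) F
    (fun k => isZero_rightDerived_succ_of_exact (CohSite.push K J u) F k) n V

/-- Global cohomology when `u` respects terminal objects. -/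
theorem nonempty_H_restrict_equiv [u.IsCocontinuous J K]
    (hu : ∀ d, LocallyFiltered (CostructuredArrow u.op d)) (F : Sheaf K AddCommGrpCat.{u})
    {T : C} (hT : IsTerminal T) (hT' : IsTerminal (u.obj T)) (n : ℕ) :
    Nonempty (Sheaf.H ((CohSite.push K J u).obj F) n ≃+ Sheaf.H F n) := by
  obtain ⟨e⟩ := nonempty_HU_restrict_equiv J K u hu F T n
  exact ⟨((HUEquivHOfIsTerminal hT _ n).symm.trans e).trans (HUEquivHOfIsTerminal hT' F n)⟩

end Small

/-- Cohomology over an object is cohomology of the localised site. -/
theorem nonempty_HU_over_equiv {C : Type u} [SmallCategory C] (J : GrothendieckTopology C)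
    (F : Sheaf J AddCommGrpCat.{u}) (U : C) (n : ℕ) :
    Nonempty (CohSite.HU F n U ≃+ Sheaf.H.{u} (F.over U) n) := by
  obtain ⟨e⟩ := nonempty_HU_restrict_equiv (J.over U) J (Over.forget U)
    (locallyFiltered_overForget U) F (Over.mk (𝟙 U)) n
  exact ⟨e.symm.trans (HUEquivHOfIsTerminal (J := J.over U) Over.mkIdTerminal _ n)⟩

section Open

variable {X : TopCat.{u}} (U : Opens X)

/-- The inclusion of an open subspace. -/
noncomputable abbrev openIncl : TopCat.of U ⟶ X := TopCat.ofHom ⟨_, continuous_subtype_val⟩

lemma isOpenEmbedding_openIncl : Topology.IsOpenEmbedding (openIncl U).hom := U.isOpenEmbedding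

/-- Image of opens of an open subspace. -/
noncomputable abbrev openFunctor : Opens (TopCat.of U) ⥤ Opens X :=
  (isOpenEmbedding_openIncl U).isOpenMap.functor

instance : (openFunctor U).IsContinuous (Opens.grothendieckTopology (TopCat.of U))
    (Opens.grothendieckTopology X) :=
  (isOpenEmbedding_openIncl U).functor_isContinuous

instance : (openFunctor U).IsCocontinuous (Opens.grothendieckTopology (TopCat.of U))
    (Opens.grothendieckTopology X) := by
  rw [(IsOpenMap.adjunction (isOpenEmbedding_openIncl U).isOpenMap).isCocontinuous_iff_coverPreserving]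
  exact coverPreserving_opens_map (openIncl U)

theorem locallyFiltered_openFunctor (d : (Opens X)ᵒᵖ) :
    LocallyFiltered (CostructuredArrow (openFunctor U).op d) := by
  refine locallyFiltered_costructuredArrow_op (openFunctor U) (fun {d a b c} x y p q _ => ?_)
    (fun {d a b} y p q _ => ⟨b, y, 𝟙 b, Subsingleton.elim _ _, Subsingleton.elim _ _⟩) d
  refine ⟨a ⊓ b, homOfLE ?_, homOfLE inf_le_left, homOfLE inf_le_right, Subsingleton.elim _ _,
    Subsingleton.elim _ _⟩
  intro z hz
  obtain ⟨w, hw, rfl⟩ := x.le hz
  obtain ⟨w', hw', e⟩ := y.le hz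
  obtain rfl := (isOpenEmbedding_openIncl U).injective e
  exact ⟨w', ⟨hw, hw'⟩, rfl⟩

/-- `H^n(U, F) = H^n(U, F|_U)`. -/
theorem nonempty_HU_restr_equiv (F : CohTop.Ab X) (n : ℕ) :
    Nonempty (CohTop.HU F n U ≃+ CohTop.H (CohTop.restr F U) n) := by
  obtain ⟨e⟩ := nonempty_HU_restrict_equiv (Opens.grothendieckTopology (TopCat.of U))
    (Opens.grothendieckTopology X) (openFunctor U) (locallyFiltered_openFunctor U) F
    (⊤ : Opens (TopCat.of U)) n
  have h : (openFunctor U).obj (⊤ : Opens (TopCat.of U)) = U :=
    Opens.ext (Set.image_univ.trans Subtype.range_coe)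
  let t : CohTop.HU F n ((openFunctor U).obj (⊤ : Opens (TopCat.of U))) ≃+ CohTop.HU F n U :=
    (eqToIso (congrArg (fun V => (Sheaf.cohomologyPresheaf.{u} F n).obj (op V)) h)).addCommGroupIsoToAddEquiv
  exact ⟨(t.symm.trans e.symm).trans (HUTopEquiv (CohTop.restr F U) n)⟩

end Open

end Groth.SiteCohomology
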