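import Groth.Prelude.Def_CohTop
import Mathlib.Topology.Sheaves.SheafOfFunctions
import Mathlib.Topology.Category.TopCat.Adjunctions
import Mathlib.Topology.Sheaves.Flasque

/-!
# First step of the Godement resolution
-/

universe u

open CategoryTheory Limits Opposite TopologicalSpace

set_option synthInstance.maxHeartbeats 400000
set_option maxHeartbeats 1000000

namespace Groth.SiteCohomology

variable {X : TopCat.{u}}

/-- Sheaves of abelian groups on a discrete space are flasque. -/
lemma isFlasque_of_discrete {Y : TopCat.{u}} [DiscreteTopology Y]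
    (G : CohTop.Ab Y) : TopCat.Sheaf.IsFlasque G := by
  refine ⟨fun {U V} i => (AddCommGrpCat.epi_iff_surjective _).2 fun s => ?_⟩
  have hle : V.unop ≤ U.unop := i.unop.le
  let W : Opens Y := ⟨(U.unop : Set Y) \ (V.unop : Set Y), isOpen_discrete _⟩
  let fam : Bool → Opens Y := fun b => cond b V.unop W
  let sf : ∀ b, G.obj.obj (op (fam b)) := fun b => match b with
    | true => s
    | false => 0
  have hsub : ∀ (A : Opens Y), A ≤ ⊥ → Subsingleton (G.obj.obj (op A)) := fun A hA =>
    AddCommGrpCat.subsingleton_of_isZero (IsZero.of_iso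
      (IsZero.of_iso (isZero_zero AddCommGrpCat.{u})
        ((TopCat.Sheaf.isTerminalOfEmpty (C := AddCommGrpCat.{u}) G).uniqueUpToIso
          (isZero_zero _).isTerminal))
      (eqToIso (congrArg (fun B => G.obj.obj (op B)) (le_bot_iff.1 hA))))
  have hdis : ∀ (A : Opens Y), A ≤ V.unop → A ≤ W → A ≤ ⊥ :=
    fun A h1 h2 x hx => absurd (h1 hx) (h2 hx).2
  have hc : TopCat.Presheaf.IsCompatible G.obj fam sf := by
    intro a b
    cases a <;> cases b
    · rfl
    · exact @Subsingleton.elim _ (hsub _ (hdis _ inf_le_right inf_le_left)) _ _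
    · exact @Subsingleton.elim _ (hsub _ (hdis _ inf_le_left inf_le_right)) _ _
    · rfl
  obtain ⟨t, ht, -⟩ := TopCat.Sheaf.existsUnique_gluing' (C := AddCommGrpCat.{u}) G fam U.unop
    (fun b => match b with
      | true => i.unop
      | false => homOfLE fun x hx => hx.1)
    (fun x hx => Opens.mem_iSup.2 (by
      by_cases hV : x ∈ V.unop
      · exact ⟨true, hV⟩
      · exact ⟨false, hx, hV⟩))
    sf hc
  exact ⟨t, ht true⟩

/-- The unit of `f⁻¹ ⊣ f_*` for the discrete space is a monomorphism. -/
theorem mono_unit_discrete (F : CohTop.Ab X) :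
    Mono ((TopCat.Sheaf.pullbackPushforwardAdjunction AddCommGrpCat.{u}
      (TopCat.adj₁.counit.app X)).unit.app F) := by
  let Y : TopCat.{u} := TopCat.discrete.obj X
  let f : Y ⟶ X := TopCat.adj₁.counit.app X
  let T : Y → Type u := fun y => (TopCat.Presheaf.stalk (C := AddCommGrpCat.{u}) F.obj (f y) : Type u)
  let P : (Opens Y)ᵒᵖ ⥤ AddCommGrpCat.{u} :=
    { obj := fun U => AddCommGrpCat.of (∀ y : U.unop, T y)
      map := fun i => AddCommGrpCat.ofHom
        (AddMonoidHom.mk' (fun g y => g (i.unop y)) fun _ _ => rfl) }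
  have hP : TopCat.Presheaf.IsSheaf P :=
    (TopCat.Presheaf.isSheaf_iff_isSheaf_comp' (forget AddCommGrpCat.{u}) P).2
      (TopCat.Presheaf.toTypes_isSheaf Y T)
  let G : CohTop.Ab Y := ⟨P, hP⟩
  let γ : F ⟶ (CohTop.push f).obj G := ⟨{
    app := fun U => AddCommGrpCat.ofHom (AddMonoidHom.mk'
      (fun s y => TopCat.Presheaf.germ (C := AddCommGrpCat.{u}) F.obj U.unop (f y.1) y.2 s)
      fun a b => funext fun y => map_add _ a b)
    naturality := fun U V i => by
      ext s
      funext y
      exact TopCat.Presheaf.germ_res_apply' F.obj i (f y.1) y.2 s }⟩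
  have hγ : Mono γ := by
    have : ∀ U, Mono (γ.hom.app U) := fun U => by
      rw [AddCommGrpCat.mono_iff_injective]
      intro s t hst
      refine TopCat.Presheaf.section_ext (C := AddCommGrpCat.{u}) F U.unop s t fun x hx => ?_
      exact congrFun hst ⟨x, hx⟩
    exact (sheafToPresheaf _ _).mono_of_mono_map (NatTrans.mono_of_mono_app γ.hom)
  let adj := TopCat.Sheaf.pullbackPushforwardAdjunction AddCommGrpCat.{u} f
  have h : γ = adj.unit.app F ≫ (CohTop.push f).map ((adj.homEquiv F G).symm γ) :=
    (((adj.homEquiv F G).apply_symm_apply γ).symm.trans (adj.homEquiv_unit _ _ _))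
  have hγ' : Mono (adj.unit.app F ≫ (CohTop.push f).map ((adj.homEquiv F G).symm γ)) := h ▸ hγ
  exact @mono_of_mono _ _ _ _ _ _ ((CohTop.push f).map ((adj.homEquiv F G).symm γ)) hγ'

end Groth.SiteCohomology
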