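import Groth.Agent.SiteCohomology.CechCovers
import Groth.Agent.SiteCohomology.RestrictCohomology

/-!
# Čech vanishing for surjective restriction maps
-/

universe u

open CategoryTheory Limits Opposite TopologicalSpace AlgebraicTopology

set_option synthInstance.maxHeartbeats 400000
set_option maxHeartbeats 1000000

namespace Groth.SiteCohomology

section Compare

variable {C : Type u} [SmallCategory C] {D : Type u} [SmallCategory D]

/-- Čech complexes along a functor between thin categories preserving the products involved. -/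
theorem nonempty_cechComplex_iso [HasFiniteProducts C] [HasFiniteProducts D] [Quiver.IsThin C]
    (v : D ⥤ C) {ι : Type u} (V : ι → D) (U : ι → C)
    (h : ∀ (n : ℕ) (a : Fin (n + 1) → ι), v.obj (∏ᶜ (V ∘ a)) = ∏ᶜ (U ∘ a))
    (P : Cᵒᵖ ⥤ AddCommGrpCat.{u}) :
    Nonempty ((cechComplexFunctor V).obj (v.op ⋙ P) ≅ (cechComplexFunctor U).obj P) := by
  refine ⟨(alternatingCofaceMapComplex AddCommGrpCat.{u}).mapIso (NatIso.ofComponents
    (fun n => Limits.Pi.mapIso fun a : Fin (n.len + 1) → ι =>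
      P.mapIso (eqToIso (h n.len a).symm).op) (fun {m n} φ => ?_))⟩
  refine Pi.hom_ext _ _ fun a => ?_
  let b : Fin (m.len + 1) → ι := a ∘ φ.toOrderHom
  have e1 := fun (Q : Dᵒᵖ ⥤ AddCommGrpCat.{u}) =>
    (Pi.lift_π (fun j : Fin (n.len + 1) → ι => Pi.π (fun i : Fin (m.len + 1) → ι => Q.obj (op (∏ᶜ (V ∘ i)))) (j ∘ φ.toOrderHom) ≫
      Q.map (Pi.lift (f := V ∘ j ∘ φ.toOrderHom) fun k => Pi.π (V ∘ j) (φ.toOrderHom k)).op) a)
  have e2 : ∀ {W W' : AddCommGrpCat.{u}} {Z : (Fin (n.len + 1) → ι) → AddCommGrpCat.{u}}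
      (x : W ⟶ W') (g : ∀ j, W' ⟶ Z j) (j), (x ≫ Pi.lift g) ≫ Pi.π Z j = x ≫ g j :=
    fun x g j => by simp
  refine Eq.trans ?_ (e2 _ (fun j : Fin (n.len + 1) → ι =>
    Pi.π (fun i : Fin (m.len + 1) → ι => P.obj (op (∏ᶜ (U ∘ i)))) (j ∘ φ.toOrderHom) ≫
      P.map (Pi.lift (f := U ∘ j ∘ φ.toOrderHom) fun k => Pi.π (U ∘ j) (φ.toOrderHom k)).op) a).symm
  refine (Category.assoc _ _ _).trans ?_
  refine (congrArg (_ ≫ ·) (limMap_π _ (Discrete.mk a))).trans ?_
  refine (Category.assoc _ _ _).symm.trans ((congrArg (· ≫ _) (e1 (v.op ⋙ P))).trans ?_)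
  refine Eq.trans ?_ ((congrArg (· ≫ _) (limMap_π _ (Discrete.mk b))).symm.trans (Category.assoc _ _ _))
  refine (Category.assoc _ _ _).trans (Eq.trans ?_ (Category.assoc _ _ _).symm)
  refine congrArg (_ ≫ ·) ?_
  refine (P.map_comp _ _).symm.trans (Eq.trans ?_ (P.map_comp _ _))
  exact congrArg P.map (Quiver.Hom.unop_inj (Subsingleton.elim _ _))

end Compare

lemma mem_iInf_opens {Z : Type u} {_ : TopologicalSpace Z} {n : ℕ} (V : Fin n → Opens Z) {z : Z}
    (h : ∀ k, z ∈ V k) : z ∈ ⨅ k, V k := by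
  rw [← SetLike.mem_coe, Opens.coe_iInf]
  exact Set.mem_iInter.2 h

variable {X : TopCat.{u}} {ι : Type u} (U : ι → Opens X)

/-- The points of the union, to carry the coarse topology. -/
def CoarsePt : Type u := {x : X // x ∈ iSup U}

instance : TopologicalSpace (CoarsePt U) :=
  TopologicalSpace.generateFrom (Set.range fun i => {x : CoarsePt U | x.1 ∈ U i})

/-- The topology on the union generated by the members. -/
abbrev coarseSpace : TopCat.{u} := TopCat.of (CoarsePt U)

/-- The identity to the coarse topology. -/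
noncomputable def toCoarse : TopCat.of (iSup U : Opens X) ⟶ coarseSpace U :=
  TopCat.ofHom ⟨fun x => (⟨x.1, x.2⟩ : CoarsePt U), continuous_generateFrom_iff.2 fun s hs => by
    obtain ⟨i, rfl⟩ := hs
    exact (U i).2.preimage continuous_subtype_val⟩

/-- Members as opens of the coarse space. -/
noncomputable def coarseMem (i : ι) : Opens (coarseSpace U) :=
  ⟨{x : CoarsePt U | x.1 ∈ U i}, GenerateOpen.basic _ ⟨i, rfl⟩⟩

/-- Opens of the coarse space as opens of `X`. -/
noncomputable abbrev coarseImage : Opens (coarseSpace U) ⥤ Opens X :=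
  Opens.map (toCoarse U) ⋙ openFunctor (iSup U)

lemma mem_coarseImage {W : Opens (coarseSpace U)} {x : X} :
    x ∈ (coarseImage U).obj W ↔ ∃ h : x ∈ iSup U, (⟨x, h⟩ : CoarsePt U) ∈ W := by
  constructor
  · rintro ⟨⟨y, hy⟩, hw, rfl⟩
    exact ⟨hy, hw⟩
  · rintro ⟨h, hw⟩
    exact ⟨⟨x, h⟩, hw, rfl⟩

lemma coarseImage_coarseMem (i : ι) : (coarseImage U).obj (coarseMem U i) = U i := by
  ext x
  exact ⟨fun h => ((mem_coarseImage U).1 h).2,
    fun h => (mem_coarseImage U).2 ⟨le_iSup U i h, h⟩⟩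

lemma exists_tuple_subset {W : Opens (coarseSpace U)} (x : CoarsePt U) (hx : x ∈ W) :
    ∃ (p : ℕ) (a : Fin (p + 1) → ι), (∀ k, x.1 ∈ U (a k)) ∧
      ∀ y : CoarsePt U, (∀ k, y.1 ∈ U (a k)) → y ∈ W := by
  obtain ⟨W, hW⟩ := W
  induction hW generalizing x with
  | basic s hs =>
    obtain ⟨i, rfl⟩ := hs
    exact ⟨0, fun _ => i, fun _ => hx, fun y hy => hy 0⟩
  | univ =>
    obtain ⟨i, hi⟩ := Opens.mem_iSup.1 x.2
    exact ⟨0, fun _ => i, fun _ => hi, fun y _ => trivial⟩
  | inter s t _ _ ih₁ ih₂ =>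
    obtain ⟨p, a, ha, ha'⟩ := ih₁ x hx.1
    obtain ⟨q, b, hb, hb'⟩ := ih₂ x hx.2
    refine ⟨p + q + 1, fun k => Fin.append a b (k.cast (by omega)), fun k => ?_, fun y hy => ⟨?_, ?_⟩⟩
    · change x.1 ∈ U (Fin.append a b _)
      refine Fin.addCases (motive := fun l => x.1 ∈ U (Fin.append a b l)) (fun i => ?_) (fun j => ?_) _
      · rw [Fin.append_left]; exact ha i
      · rw [Fin.append_right]; exact hb j
    · exact ha' y fun i => by
        have := hy ((Fin.castAdd (q + 1) i).cast (by omega))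
        simpa using this
    · exact hb' y fun j => by
        have := hy ((Fin.natAdd (p + 1) j).cast (by omega))
        simpa using this
  | sUnion S _ ih =>
    obtain ⟨s, hs, hxs⟩ := hx
    obtain ⟨p, a, ha, ha'⟩ := ih s hs x hxs
    exact ⟨p, a, ha, fun y hy => ⟨s, hs, ha' y hy⟩⟩

/-- Čech vanishing from surjective restriction maps. -/
theorem isZero_cechH_of_surjective (F : CohTop.Ab X)
    (h : ∀ (κ : Type u) (a : κ → Σ p : ℕ, Fin (p + 1) → ι),
      Function.Surjective (F.obj.map (homOfLE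
        (iSup_le fun k => (iInf_le _ ⟨0, Nat.succ_pos _⟩).trans (le_iSup U ((a k).2 ⟨0, Nat.succ_pos _⟩)) :
          (⨆ k, ⨅ j, U ((a k).2 j)) ≤ iSup U)).op)) (p : ℕ) :
    IsZero (CohTop.cechH F.obj U (p + 1)) := by
  let G : CohTop.Ab (coarseSpace U) := (CohTop.push (toCoarse U)).obj (CohTop.restr F (iSup U))
  have hle : ∀ W, (coarseImage U).obj W ≤ iSup U := fun W x hx => ((mem_coarseImage U).1 hx).1
  have key : ∀ W : Opens (coarseSpace U), Function.Surjective (F.obj.map (homOfLE (hle W)).op) := by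
    intro W
    let κ : Type u := {a : Σ q : ℕ, Fin (q + 1) → ι //
      ∀ y : CoarsePt U, (∀ k, y.1 ∈ U (a.2 k)) → y ∈ W}
    have e : (⨆ k : κ, ⨅ j, U (k.1.2 j)) = (coarseImage U).obj W := by
      refine le_antisymm (iSup_le fun k x hx => ?_) fun x hx => ?_
      · have hj : ∀ j, x ∈ U (k.1.2 j) := fun j => (iInf_le (fun j => U (k.1.2 j)) j) hx
        exact (mem_coarseImage U).2 ⟨le_iSup U _ (hj 0), k.2 _ hj⟩
      · obtain ⟨hxU, hxW⟩ := (mem_coarseImage U).1 hx
        obtain ⟨q, a, ha, ha'⟩ := exists_tuple_subset U ⟨x, hxU⟩ hxW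
        refine Opens.mem_iSup.2 ⟨⟨⟨q, a⟩, ha'⟩, ?_⟩
        exact mem_iInf_opens _ ha
    intro s
    have hsurj := h κ fun k => k.1
    let s' : F.obj.obj (op (⨆ k : κ, ⨅ j, U (k.1.2 j))) := F.obj.map (eqToHom e).op s
    obtain ⟨t, ht⟩ := hsurj s'
    refine ⟨t, ?_⟩
    have h1 : Function.Injective (F.obj.map (eqToHom e).op) :=
      (AddCommGrpCat.mono_iff_injective _).1 inferInstance
    refine h1 (Eq.trans ?_ ht)
    rw [← ConcreteCategory.comp_apply, ← F.obj.map_comp]
    exact congrArg (fun k => F.obj.map k t) (Quiver.Hom.unop_inj (Subsingleton.elim _ _))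
  haveI : TopCat.Sheaf.IsFlasque G := (isFlasque_iff_surjective G).2 fun W W' g s => by
    obtain ⟨t, ht⟩ := key W' s
    refine ⟨F.obj.map (homOfLE (hle W)).op t, ?_⟩
    refine Eq.trans ?_ ht
    change F.obj.map ((coarseImage U).map g).op _ = _
    rw [← ConcreteCategory.comp_apply, ← F.obj.map_comp]
    exact congrArg (fun k => F.obj.map k t) (Quiver.Hom.unop_inj (Subsingleton.elim _ _))
  have h0 := isZero_cechH_of_flasque (coarseMem U) G p
  obtain ⟨e⟩ := nonempty_cechComplex_iso (coarseImage U) (coarseMem U) U (fun n a => by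
    rw [pi_eq_iInf, pi_eq_iInf]
    ext x
    simp only [SetLike.mem_coe, mem_coarseImage]
    constructor
    · rintro ⟨hx, hW⟩
      have hj : ∀ k, (⟨x, hx⟩ : CoarsePt U) ∈ coarseMem U (a k) := fun k =>
        (iInf_le (fun k => coarseMem U (a k)) k) hW
      exact mem_iInf_opens _ hj
    · intro hx
      have hj : ∀ k, x ∈ U (a k) := fun k => (iInf_le (fun k => U (a k)) k) hx
      refine ⟨le_iSup U _ (hj 0), ?_⟩
      exact mem_iInf_opens _ hj) F.obj
  exact IsZero.of_iso h0 ((HomologicalComplex.homologyFunctor _ _ (p + 1)).mapIso e).symm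

end Groth.SiteCohomology
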