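import Groth.Agent.SiteCohomology.CechPresheaf
import Groth.Agent.SiteCohomology.CechSurjective
import Groth.Prelude.Def_CohTop
import Mathlib.CategoryTheory.Functor.ReflectsIso.Jointly
import Mathlib.Algebra.Homology.ShortComplex.Ab

/-!
# Čech cohomology of a presheaf vanishes above the number of members of the family
-/

universe u

open CategoryTheory Limits Opposite TopologicalSpace

set_option synthInstance.maxHeartbeats 400000
set_option maxHeartbeats 1000000

namespace Groth.SiteCohomology.CechFinite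

open Abelian

variable {C : Type u} [SmallCategory C]

/-- A class of objects closed under maps to its members. -/
structure Lower (C : Type u) [SmallCategory C] : Type u where
  mem : C → Prop
  down : ∀ {V W : C}, (V ⟶ W) → mem W → mem V

namespace Lower

/-- The presheaf of sets with at most one section, on the members. -/
def psh (L : Lower C) : Cᵒᵖ ⥤ Type u where
  obj V := ULift.{u} (PLift (L.mem V.unop))
  map f := TypeCat.ofHom fun x => ⟨⟨L.down f.unop x.down.down⟩⟩
  map_id _ := rfl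
  map_comp _ _ := rfl

instance (L : Lower C) (V : Cᵒᵖ) : Subsingleton (L.psh.obj V) :=
  inferInstanceAs (Subsingleton (ULift.{u} (PLift (L.mem V.unop))))

/-- Inclusion. -/
def incl {L L' : Lower C} (h : ∀ V, L.mem V → L'.mem V) : L.psh ⟶ L'.psh where
  app V := TypeCat.ofHom fun x => ⟨⟨h _ x.down.down⟩⟩
  naturality _ _ _ := rfl

lemma isIso_free_app {L L' : Lower C} (h : ∀ V, L.mem V → L'.mem V) (V : Cᵒᵖ)
    (h' : L'.mem V.unop → L.mem V.unop) :
    IsIso ((Functor.whiskerRight (incl h) AddCommGrpCat.free.{u}).app V) := by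
  have : IsIso ((incl h).app V) :=
    ⟨TypeCat.ofHom fun x => ⟨⟨h' x.down.down⟩⟩, rfl, rfl⟩
  exact inferInstanceAs (IsIso (AddCommGrpCat.free.{u}.map ((incl h).app V)))

lemma isZero_free_app (L : Lower C) (V : Cᵒᵖ) (h : ¬ L.mem V.unop) :
    IsZero (AddCommGrpCat.free.{u}.obj (L.psh.obj V)) := by
  have : IsEmpty (L.psh.obj V) := ⟨fun x => h x.down.down⟩
  have : Subsingleton (AddCommGrpCat.free.{u}.obj (L.psh.obj V)) :=
    subsingleton_of_forall_eq 0 fun x => by
      induction x using FreeAbelianGroup.induction_on with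
      | zero => rfl
      | of y => exact isEmptyElim y
      | neg y => exact isEmptyElim y
      | add a b ha hb => exact (congrArg₂ (· + ·) ha hb).trans (add_zero _)
  exact AddCommGrpCat.isZero_of_subsingleton _

/-- Union. -/
def sup (L M : Lower C) : Lower C :=
  ⟨fun V => L.mem V ∨ M.mem V, fun f h => h.imp (L.down f) (M.down f)⟩

/-- Intersection. -/
def inf (L M : Lower C) : Lower C :=
  ⟨fun V => L.mem V ∧ M.mem V, fun f h => ⟨L.down f h.1, M.down f h.2⟩⟩

variable (L M : Lower C)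

/-- The free presheaf on the class. -/
noncomputable abbrev Z : Cᵒᵖ ⥤ AddCommGrpCat.{u} := L.psh ⋙ AddCommGrpCat.free.{u}

/-- Free inclusion. -/
noncomputable abbrev zincl {L L' : Lower C} (h : ∀ V, L.mem V → L'.mem V) : L.Z ⟶ L'.Z :=
  Functor.whiskerRight (incl h) AddCommGrpCat.free.{u}

lemma zincl_comp {L₁ L₂ L₃ : Lower C} (h : ∀ V, L₁.mem V → L₂.mem V) (h' : ∀ V, L₂.mem V → L₃.mem V) :
    zincl h ≫ zincl h' = zincl (fun V hV => h' V (h V hV)) :=
  (Functor.whiskerRight_comp (incl h) (incl h') AddCommGrpCat.free.{u}).symm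

/-- The Mayer-Vietoris sequence. -/
noncomputable def mv : ShortComplex (Cᵒᵖ ⥤ AddCommGrpCat.{u}) :=
  ShortComplex.mk
    (biprod.lift (zincl (L := L.inf M) (L' := L) fun _ h => h.1)
      (-zincl (L := L.inf M) (L' := M) fun _ h => h.2))
    (biprod.desc (zincl (L := L) (L' := L.sup M) fun _ h => Or.inl h)
      (zincl (L := M) (L' := L.sup M) fun _ h => Or.inr h))
    (by
      rw [biprod.lift_desc, Preadditive.neg_comp, ← sub_eq_add_neg, sub_eq_zero]
      rw [zincl_comp, zincl_comp])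

lemma shortExact_of_app (S : ShortComplex (Cᵒᵖ ⥤ AddCommGrpCat.{u}))
    (h : ∀ j, (S.map ((evaluation _ _).obj j)).ShortExact) : S.ShortExact := by
  have : ∀ j, Mono (S.f.app j) := fun j => (h j).mono_f
  have : ∀ j, Epi (S.g.app j) := fun j => (h j).epi_g
  have := NatTrans.mono_of_mono_app S.f
  have := NatTrans.epi_of_epi_app S.g
  refine { exact := (ShortComplex.exact_iff_isZero_homology S).2 (Functor.isZero _ fun j => ?_) }
  exact ((ShortComplex.exact_iff_isZero_homology _).1 (h j).exact).of_iso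
    (S.mapHomologyIso ((evaluation _ _).obj j)).symm

lemma shortExact_mv : (mv L M).ShortExact := by
  refine shortExact_of_app _ fun V => ?_
  let a := zincl (L := L.inf M) (L' := L) fun _ h => h.1
  let b := zincl (L := L.inf M) (L' := M) fun _ h => h.2
  let c := zincl (L := L) (L' := L.sup M) fun _ h => Or.inl h
  let d := zincl (L := M) (L' := L.sup M) fun _ h => Or.inr h
  have w : a.app V ≫ c.app V = b.app V ≫ d.app V :=
    congrArg (fun t => t.app V) ((zincl_comp (L₁ := L.inf M) (L₂ := L) (L₃ := L.sup M) _ _).trans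
      (zincl_comp (L₁ := L.inf M) (L₂ := M) (L₃ := L.sup M) (fun _ h => h.2) (fun _ h => Or.inr h)).symm :
        a ≫ c = b ≫ d)
  let i₁ : L.Z.obj V ⟶ (L.Z ⊞ M.Z).obj V := (biprod.inl : L.Z ⟶ L.Z ⊞ M.Z).app V
  let i₂ : M.Z.obj V ⟶ (L.Z ⊞ M.Z).obj V := (biprod.inr : M.Z ⟶ L.Z ⊞ M.Z).app V
  let p₁ : (L.Z ⊞ M.Z).obj V ⟶ L.Z.obj V := (biprod.fst : L.Z ⊞ M.Z ⟶ L.Z).app V
  let p₂ : (L.Z ⊞ M.Z).obj V ⟶ M.Z.obj V := (biprod.snd : L.Z ⊞ M.Z ⟶ M.Z).app V
  let f : (L.inf M).Z.obj V ⟶ (L.Z ⊞ M.Z).obj V := (biprod.lift a (-b)).app V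
  let g : (L.Z ⊞ M.Z).obj V ⟶ (L.sup M).Z.obj V := (biprod.desc c d).app V
  have htot : p₁ ≫ i₁ + p₂ ≫ i₂ = 𝟙 _ :=
    congrArg (fun t : L.Z ⊞ M.Z ⟶ L.Z ⊞ M.Z => t.app V) (biprod.total (X := L.Z) (Y := M.Z))
  have hi₁p₁ : i₁ ≫ p₁ = 𝟙 _ := congrArg (fun t : L.Z ⟶ L.Z => t.app V) biprod.inl_fst
  have hi₂p₂ : i₂ ≫ p₂ = 𝟙 _ := congrArg (fun t : M.Z ⟶ M.Z => t.app V) biprod.inr_snd
  have hi₁p₂ : i₁ ≫ p₂ = 0 := congrArg (fun t : L.Z ⟶ M.Z => t.app V) biprod.inl_snd
  have hi₂p₁ : i₂ ≫ p₁ = 0 := congrArg (fun t : M.Z ⟶ L.Z => t.app V) biprod.inr_fst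
  have hfp₁ : f ≫ p₁ = a.app V :=
    congrArg (fun t : (L.inf M).Z ⟶ L.Z => t.app V) (biprod.lift_fst a (-b))
  have hfp₂ : f ≫ p₂ = -(b.app V) :=
    congrArg (fun t : (L.inf M).Z ⟶ M.Z => t.app V) (biprod.lift_snd a (-b))
  have hig₁ : i₁ ≫ g = c.app V := congrArg (fun t : L.Z ⟶ (L.sup M).Z => t.app V) (biprod.inl_desc c d)
  have hig₂ : i₂ ≫ g = d.app V := congrArg (fun t : M.Z ⟶ (L.sup M).Z => t.app V) (biprod.inr_desc c d)
  have hf : f = a.app V ≫ i₁ - b.app V ≫ i₂ := by
    rw [← Category.comp_id f, ← htot, Preadditive.comp_add, ← Category.assoc, ← Category.assoc, hfp₁,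
      hfp₂, Preadditive.neg_comp, sub_eq_add_neg]
  have hg : g = p₁ ≫ c.app V + p₂ ≫ d.app V := by
    rw [← hig₁, ← hig₂, ← Category.assoc, ← Category.assoc, ← Preadditive.add_comp, htot,
      Category.id_comp]
  refine ShortComplex.Splitting.shortExact (S := (mv L M).map ((evaluation _ _).obj V)) ?_
  by_cases h : L.mem V.unop
  · have : IsIso (b.app V) := isIso_free_app _ V fun hM => ⟨h, hM⟩
    have : IsIso (c.app V) := isIso_free_app _ V fun _ => h
    let ic := inv (c.app V)
    let ib := inv (b.app V)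
    exact
      { r := -(p₂ ≫ ib)
        s := ic ≫ i₁
        f_r := by
          change f ≫ (-(p₂ ≫ inv (b.app V))) = 𝟙 _
          rw [Preadditive.comp_neg, reassoc_of% hfp₂]
          simp
        s_g := by
          change (inv (c.app V) ≫ i₁) ≫ g = 𝟙 _
          rw [Category.assoc, hig₁, IsIso.inv_hom_id]
        id := by
          change (-(p₂ ≫ inv (b.app V))) ≫ f + g ≫ inv (c.app V) ≫ i₁ = 𝟙 _
          have e : d.app V ≫ inv (c.app V) = inv (b.app V) ≫ a.app V := by
            rw [IsIso.comp_inv_eq, Category.assoc, IsIso.eq_inv_comp, w]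
          rw [← htot, hf, hg]
          simp only [Preadditive.comp_sub, Preadditive.add_comp, Preadditive.neg_comp, Category.assoc,
            IsIso.inv_hom_id_assoc, IsIso.hom_inv_id_assoc, reassoc_of% e]
          abel }
  · have : IsIso (d.app V) := isIso_free_app _ V fun h' => h'.resolve_left h
    have hL := isZero_free_app L V h
    let id' := inv (d.app V)
    have hK := isZero_free_app (L.inf M) V fun h' => h h'.1
    exact
      { r := 0
        s := id' ≫ i₂
        f_r := hK.eq_of_src _ _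
        s_g := by
          change (inv (d.app V) ≫ i₂) ≫ g = 𝟙 _
          rw [Category.assoc, hig₂, IsIso.inv_hom_id]
        id := by
          change (0 : (L.Z ⊞ M.Z).obj V ⟶ (L.inf M).Z.obj V) ≫ f + g ≫ inv (d.app V) ≫ i₂ = 𝟙 _
          rw [← htot, hg, zero_comp, zero_add, hL.eq_of_tgt p₁ 0]
          simp }

end Lower

namespace Lower

/-- The class generated by finitely many objects. -/
def gen {κ : Type*} (U : κ → C) : Lower C :=
  ⟨fun V => ∃ i, Nonempty (V ⟶ U i), fun f ⟨i, ⟨g⟩⟩ => ⟨i, ⟨f ≫ g⟩⟩⟩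

/-- The free sheaf on a class for the trivial topology. -/
noncomputable abbrev sh (L : Lower C) : PreAb C := (freeSh (⊥ : GrothendieckTopology C)).obj L.psh

/-- Classes with the same members give isomorphic free objects. -/
noncomputable def pshIso {L L' : Lower C} (h : ∀ V, L.mem V ↔ L'.mem V) : L.psh ≅ L'.psh where
  hom := incl fun V => (h V).1
  inv := incl fun V => (h V).2
  hom_inv_id := rfl
  inv_hom_id := rfl

end Lower

variable [Quiver.IsThin C]

/-- The class generated by one object is the representable. -/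
noncomputable def genUnitIso (W : C) : (Lower.gen fun _ : Fin 1 => W).psh ≅ yoneda.obj W :=
  NatIso.ofComponents (fun V =>
    { hom := TypeCat.ofHom fun x => x.down.down.choose_spec.some
      inv := TypeCat.ofHom fun g => ⟨⟨0, ⟨g⟩⟩⟩
      hom_inv_id := by ext x; rfl
      inv_hom_id := by ext g; exact Subsingleton.elim _ _ })
    (fun f => by ext x; exact Subsingleton.elim _ _)

variable [HasFiniteProducts C]

lemma ext_subsingleton_congr {X X' : PreAb C} (e : X ≅ X') (M : PreAb C) (n : ℕ)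
    (h : Subsingleton (Ext X' M n)) : Subsingleton (Ext X M n) :=
  subsingleton_of_forall_eq 0 fun x => by
    rw [← Ext.mk₀_id_comp x, ← e.hom_inv_id, ← Ext.mk₀_comp_mk₀, Ext.comp_assoc _ _ _ (zero_add 0)
      (zero_add n) (show 0 + 0 + n = n by omega), Subsingleton.elim ((Ext.mk₀ e.inv).comp x (zero_add n)) 0,
      Ext.comp_zero]

theorem subsingleton_ext_gen : ∀ (n : ℕ) (U : Fin n → C) (M : PreAb C) (q : ℕ), n ≤ q →
    Subsingleton (Ext (Lower.gen U).sh M q)
  | 0, U, M, q, _ => by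
    have hz : IsZero (Lower.gen U).sh :=
      (presheafToSheaf (⊥ : GrothendieckTopology C) AddCommGrpCat.{u}).map_isZero
        (Functor.isZero _ fun V => Lower.isZero_free_app _ V fun h => h.choose.elim0)
    exact subsingleton_of_forall_eq 0 fun e => by
      rw [← Ext.mk₀_id_comp e, hz.eq_of_src (𝟙 _) 0, Ext.mk₀_zero, Ext.zero_comp]
  | n + 1, U, M, q, hq => by
    obtain ⟨q, rfl⟩ : ∃ r, q = r + 1 := ⟨q - 1, by omega⟩
    let L := Lower.gen fun i : Fin n => U i.castSucc
    let W := Lower.gen fun _ : Fin 1 => U (Fin.last n)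
    let K := Lower.gen fun i : Fin n => U i.castSucc ⨯ U (Fin.last n)
    have hK : ∀ V, (L.inf W).mem V ↔ K.mem V := fun V =>
      ⟨fun ⟨⟨i, ⟨f⟩⟩, _, ⟨g⟩⟩ => ⟨i, ⟨prod.lift f g⟩⟩,
        fun ⟨i, ⟨f⟩⟩ => ⟨⟨i, ⟨f ≫ prod.fst⟩⟩, 0, ⟨f ≫ prod.snd⟩⟩⟩
    have hG : ∀ V, (L.sup W).mem V ↔ (Lower.gen U).mem V := fun V =>
      ⟨fun h => h.elim (fun ⟨i, f⟩ => ⟨i.castSucc, f⟩) (fun ⟨_, f⟩ => ⟨Fin.last n, f⟩),
        fun ⟨i, f⟩ => by
          induction i using Fin.lastCases with
          | last => exact Or.inr ⟨0, f⟩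
          | cast i => exact Or.inl ⟨i, f⟩⟩
    let S := (Lower.mv L W).map (presheafToSheaf (⊥ : GrothendieckTopology C) AddCommGrpCat.{u})
    have hS : S.ShortExact := (Lower.shortExact_mv L W).map_of_exact _
    have h1 : Subsingleton (Ext S.X₁ M q) := by
      have := subsingleton_ext_gen n (fun i => U i.castSucc ⨯ U (Fin.last n)) M q (by omega)
      exact ext_subsingleton_congr ((freeSh ⊥).mapIso (Lower.pshIso hK)) M q this
    have hL : Subsingleton (Ext L.sh M (q + 1)) := subsingleton_ext_gen n _ M (q + 1) (by omega)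
    have hW : Subsingleton (Ext W.sh M (q + 1)) :=
      ext_subsingleton_congr ((freeSh ⊥).mapIso (genUnitIso (U (Fin.last n)))) M (q + 1)
        (subsingleton_HU_bot M (U (Fin.last n)) q)
    have h2 : Subsingleton (Ext S.X₂ M (q + 1)) := by
      let F := presheafToSheaf (⊥ : GrothendieckTopology C) AddCommGrpCat.{u}
      have : F.Additive := (sheafificationAdjunction (⊥ : GrothendieckTopology C) AddCommGrpCat.{u}).left_adjoint_additive
      have : PreservesBinaryBiproduct L.Z W.Z F :=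
        preservesBinaryBiproduct_of_preservesBiproduct F L.Z W.Z
      let e : F.obj (L.Z ⊞ W.Z) ≅ L.sh ⊞ W.sh := F.mapBiprod L.Z W.Z
      refine ext_subsingleton_congr e M (q + 1) ?_
      exact (Ext.biprodAddEquiv (X₁ := L.sh) (X₂ := W.sh) (Y := M) (n := q + 1)).toEquiv.subsingleton
    refine ext_subsingleton_congr ((freeSh ⊥).mapIso (Lower.pshIso hG).symm) M (q + 1) ?_
    refine subsingleton_of_forall_eq 0 fun e => ?_
    obtain ⟨x, rfl⟩ := Ext.contravariant_sequence_exact₃ hS M e (Subsingleton.elim (α := Ext S.X₂ M (q + 1)) _ _)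
      (n₀ := q) (by omega)
    rw [Subsingleton.elim x 0, Ext.comp_zero]
    rfl

variable {X : TopCat.{u}}

/-- Čech cohomology of a presheaf vanishes in degrees at least the number of members. -/
theorem isZero_cechH_of_card_le (P : (Opens X)ᵒᵖ ⥤ AddCommGrpCat.{u}) {ι : Type u} [Finite ι]
    (U : ι → Opens X) (q : ℕ) (hq : Nat.card ι ≤ q) : IsZero (CohTop.cechH P U q) := by
  let Y : ι → Over (⊤ : Opens X) := fun i => Over.mk (homOfLE (le_top : U i ≤ ⊤))
  obtain ⟨e⟩ := nonempty_cechComplex_iso (Over.forget (⊤ : Opens X)) Y U (fun n a => by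
    refine le_antisymm ((Pi.lift fun k => (Over.forget _).map (Pi.π (Y ∘ a) k) :
        (Over.forget _).obj (∏ᶜ (Y ∘ a)) ⟶ ∏ᶜ (U ∘ a))).le ?_
    exact ((Pi.lift (f := Y ∘ a) fun k => Over.homMk (U := Over.mk (homOfLE (le_top : ∏ᶜ (U ∘ a) ≤ ⊤)))
      (Pi.π (U ∘ a) k) (Subsingleton.elim _ _)).left).le) P
  refine IsZero.of_iso ?_ ((HomologicalComplex.homologyFunctor _ _ q).mapIso e).symm
  let M : PreAb (Opens X) := ⟨P, Presheaf.isSheaf_bot _⟩
  obtain ⟨f⟩ := nonempty_cechH_equiv_sieve Y M q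
  let V : Fin (Nat.card ι) → Opens X := U ∘ (Finite.equivFin ι).symm
  let i : (famSieve Y).functor ≅ (Lower.gen V).psh :=
    NatIso.ofComponents (fun W =>
      { hom := TypeCat.ofHom fun x => ⟨⟨by
          obtain ⟨j, k, -⟩ := (Sieve.mem_ofArrows_iff _ _ _).1 x.2
          exact ⟨Finite.equivFin ι j, ⟨k ≫ eqToHom (by simp [V, Y])⟩⟩⟩⟩
        inv := TypeCat.ofHom fun x => ⟨homOfLE le_top, (Sieve.mem_ofArrows_iff _ _ _).2
          ⟨(Finite.equivFin ι).symm x.down.down.choose, x.down.down.choose_spec.some, Subsingleton.elim _ _⟩⟩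
        hom_inv_id := by ext x; exact Subtype.ext (Subsingleton.elim _ _)
        inv_hom_id := by ext x; rfl })
      (fun g => by ext x; exact Subsingleton.elim _ _)
  have := ext_subsingleton_congr ((freeSh ⊥).mapIso i) M q (subsingleton_ext_gen _ V M q hq)
  exact @AddCommGrpCat.isZero_of_subsingleton _ f.toEquiv.subsingleton

end Groth.SiteCohomology.CechFinite
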