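import Groth.Agent.SiteCohomology.TotallyAcyclic
import Groth.Prelude.Def_CohSite
import Mathlib.CategoryTheory.Sites.Adjunction
import Mathlib.CategoryTheory.Sites.Pullback
import Mathlib.CategoryTheory.Limits.Shapes.WidePullbacks
import Mathlib.CategoryTheory.Functor.Flat

/-!
# Direct images of totally acyclic sheaves
-/

universe u v' u'

open CategoryTheory Limits Opposite Simplicial AlgebraicTopology

set_option synthInstance.maxHeartbeats 400000
set_option maxHeartbeats 1000000

namespace Groth.SiteCohomology

open Abelian

/-- Augmented resolutions and composition of functors. -/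
lemma IsAugResolution.whisker_comp {E' : Type*} [Category E'] {P : Type*} [Category P] {A : Type*}
    [Category A] [Abelian A] (G : E' ⥤ P) (F : P ⥤ A) {F' : E' ⥤ A} (i : G ⋙ F ≅ F')
    {X : SimplicialObject.Augmented E'}
    (h : IsAugResolution (((SimplicialObject.Augmented.whiskering _ _).obj F).obj
      (((SimplicialObject.Augmented.whiskering _ _).obj G).obj X))) :
    IsAugResolution (((SimplicialObject.Augmented.whiskering _ _).obj F').obj X) := by
  let e : ((SimplicialObject.Augmented.whiskering _ _).obj F).obj
      (((SimplicialObject.Augmented.whiskering _ _).obj G).obj X) ⟶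
        ((SimplicialObject.Augmented.whiskering _ _).obj F').obj X :=
    { left := Functor.whiskerLeft X.left i.hom
      right := i.hom.app X.right
      w := by
        apply NatTrans.ext
        funext n
        change i.hom.app _ ≫ (F'.map (X.hom.app n) ≫ 𝟙 _) =
          (F.map (G.map (X.hom.app n) ≫ 𝟙 _) ≫ 𝟙 _) ≫ i.hom.app _
        simp only [Category.comp_id]
        exact (i.hom.naturality (X.hom.app n)).symm }
  have h1 : IsIso e.left := inferInstanceAs (IsIso (Functor.whiskerLeft X.left i.hom))
  have h2 : IsIso e.right := inferInstanceAs (IsIso (i.hom.app X.right))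
  exact @IsAugResolution.congr_point _ _ _ _ _ h e h1 h2

section Nerve

variable {C : Type u} [SmallCategory C] (J : GrothendieckTopology C)
  {E : Type u'} [Category.{v'} E] [HasFiniteLimits E] (L : E ⥤ Sheaf J (Type u))
  [PreservesFiniteLimits L]

/-- The Čech nerve transported by a left exact functor to sheaves of sets gives a resolution. -/
theorem isAugResolution_cechNerve_map {K' K : E} (f : K' ⟶ K) [Epi (L.map f)] :
    IsAugResolution (((SimplicialObject.Augmented.whiskering _ _).obj (L ⋙ freeT J)).obj
      (Arrow.mk f).augmentedCechNerve) := by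
  let G := L ⋙ sheafToPresheaf J (Type u)
  let q : K' ⟶ widePullback.{0} K (fun _ : Fin 1 => K') (fun _ => f) :=
    WidePullback.lift f (fun _ => 𝟙 _) (fun _ => Category.id_comp _)
  have hq : q ≫ WidePullback.base (fun _ : Fin 1 => f) = f := WidePullback.lift_base ..
  have : Epi (L.map (WidePullback.base (fun _ : Fin 1 => f))) :=
    epi_of_epi_fac ((L.map_comp q (WidePullback.base (fun _ : Fin 1 => f))).symm.trans
      (congrArg L.map hq))
  have hl : Sheaf.IsLocallySurjective (L.map (WidePullback.base (fun _ : Fin 1 => f))) :=
    (Sheaf.isLocallySurjective_iff_epi _).2 inferInstance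
  have : Presheaf.IsLocallySurjective J
      ((((SimplicialObject.Augmented.whiskering _ _).obj G).obj
        (Arrow.mk f).augmentedCechNerve).hom.app (op ⦋0⦌)) := by
    have e : (((SimplicialObject.Augmented.whiskering _ _).obj G).obj
        (Arrow.mk f).augmentedCechNerve).hom.app (op ⦋0⦌) =
          (L.map (WidePullback.base (fun _ : Fin 1 => f))).hom := Category.comp_id _
    rw [e]
    exact hl
  exact IsAugResolution.whisker_comp G (freeSh J)
    (Functor.associator L (sheafToPresheaf J (Type u)) (freeSh J) ≪≫
      Functor.isoWhiskerLeft L (Iso.refl (freeT J)))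
    (isAugResolution_freeSh J
      (((SimplicialObject.Augmented.whiskering _ _).obj G).obj (Arrow.mk f).augmentedCechNerve)
      fun c => isCechType_map (Arrow.mk f) (G ⋙ (evaluation _ _).obj c))

end Nerve

section AbstractAdj

variable {S : Type*} [Category S] {A B : Type (u + 1)} [Category.{u} A] [Preadditive A]
  [Category.{u} B] [Preadditive B] {LA : S ⥤ A} {RA : A ⥤ S} {LB : S ⥤ B} {RB : B ⥤ S}
  (adjA : LA ⊣ RA) (adjB : LB ⊣ RB) (P : A ⥤ B) [P.Additive] (e : RA ≅ P ⋙ RB)

/-- The unit transferred to the other side. -/
noncomputable def transferUnit (X : S) : LB.obj X ⟶ P.obj (LA.obj X) :=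
  (adjB.homEquiv X _).symm (adjA.unit.app X ≫ e.hom.app (LA.obj X))

omit [Preadditive A] [Preadditive B] [P.Additive] in
lemma transferUnit_comp (X : S) {G : A} (φ : LA.obj X ⟶ G) :
    transferUnit adjA adjB P e X ≫ P.map φ =
      (adjB.homEquiv X (P.obj G)).symm (adjA.homEquiv X G φ ≫ e.hom.app G) := by
  rw [transferUnit, ← Adjunction.homEquiv_naturality_right_symm, Adjunction.homEquiv_unit,
    Category.assoc, Category.assoc, e.hom.naturality]
  rfl

omit [Preadditive A] [Preadditive B] [P.Additive] in
lemma transferUnit_naturality {X X' : S} (g : X ⟶ X') :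
    LB.map g ≫ transferUnit adjA adjB P e X' =
      transferUnit adjA adjB P e X ≫ P.map (LA.map g) := by
  rw [transferUnit_comp, transferUnit, ← Adjunction.homEquiv_naturality_left_symm,
    Adjunction.homEquiv_unit]
  congr 1
  rw [← Category.assoc]
  exact congrArg (· ≫ _) (adjA.unit.naturality g)

/-- The transposition `Hom(LA -, G) → Hom(LB -, P G)`. -/
noncomputable def transferHom (G : A) :
    LA.op ⋙ preadditiveYoneda.obj G ⟶ LB.op ⋙ preadditiveYoneda.obj (P.obj G) where
  app X := AddCommGrpCat.ofHom (AddMonoidHom.mk'
    (fun φ => transferUnit adjA adjB P e X.unop ≫ P.map φ)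
    fun a b => (congrArg (_ ≫ ·) P.map_add).trans (Preadditive.comp_add ..))
  naturality X X' g := by
    ext φ
    change transferUnit adjA adjB P e X'.unop ≫ P.map (LA.map g.unop ≫ φ) =
      LB.map g.unop ≫ transferUnit adjA adjB P e X.unop ≫ P.map φ
    exact ((congrArg (_ ≫ ·) (P.map_comp _ _)).trans (Category.assoc _ _ _).symm).trans
      ((congrArg (· ≫ _) (transferUnit_naturality adjA adjB P e g.unop).symm).trans
        (Category.assoc _ _ _))

instance isIso_transferHom (G : A) : IsIso (transferHom adjA adjB P e G) := by
  have : ∀ X, IsIso ((transferHom adjA adjB P e G).app X) := fun X => by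
    rw [ConcreteCategory.isIso_iff_bijective]
    have h : ⇑((transferHom adjA adjB P e G).app X) =
        fun φ => (adjB.homEquiv X.unop (P.obj G)).symm (adjA.homEquiv X.unop G φ ≫ e.hom.app G) :=
      funext fun φ => transferUnit_comp adjA adjB P e _ φ
    rw [h]
    exact (Equiv.bijective _).comp
      (Function.Bijective.comp (Iso.homToEquiv (e.app G)).bijective (Equiv.bijective _))
  exact NatIso.isIso_of_isIso_app _

end AbstractAdj

section Push

variable {C D : Type u} [SmallCategory C] [SmallCategory D]
  (J : GrothendieckTopology C) (K : GrothendieckTopology D) (u : D ⥤ C) [u.IsContinuous K J]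

/-- The adjunction for free sheaves on sheaves of sets. -/
noncomputable abbrev freeTAdj :
    freeT J ⊣ sheafCompose J (forget AddCommGrpCat.{u}) :=
  Sheaf.adjunction J AddCommGrpCat.adj.{u}

/-- The composite adjunction for `freeT` after inverse image. -/
noncomputable abbrev pullFreeAdj :
    u.sheafPullback (Type u) K J ⋙ freeT J ⊣
      sheafCompose J (forget AddCommGrpCat.{u}) ⋙ u.sheafPushforwardContinuous (Type u) K J :=
  (u.sheafAdjunctionContinuous (Type u) K J).comp (freeTAdj J)

/-- Direct image commutes with forgetting the group structure. -/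
noncomputable def forgetPushIso :
    sheafCompose J (forget AddCommGrpCat.{u}) ⋙ u.sheafPushforwardContinuous (Type u) K J ≅
      CohSite.push J K u ⋙ sheafCompose K (forget AddCommGrpCat.{u}) :=
  NatIso.ofComponents (fun _ => (fullyFaithfulSheafToPresheaf K (Type u)).preimageIso (Iso.refl _))
    fun φ => (fullyFaithfulSheafToPresheaf K (Type u)).map_injective
      (by ext c x; rfl)

/-- Direct image of totally acyclic sheaves is totally acyclic when inverse image of sheaves of sets
is left exact. -/
theorem isTotallyAcyclic_push (F : Sheaf J AddCommGrpCat.{u}) [PreservesFiniteLimits (u.sheafPullback (Type u) K J)]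
    (hF : CohCx.IsTotallyAcyclic F) :
    CohCx.IsTotallyAcyclic ((CohSite.push J K u).obj F) := by
  refine isTotallyAcyclic_of_cech _ fun K' K'' f hf q => ?_
  have : PreservesColimitsOfSize.{0, 0} (u.sheafPullback (Type u) K J) :=
    (u.sheafAdjunctionContinuous (Type u) K J).leftAdjoint_preservesColimits
  have : Epi ((u.sheafPullback (Type u) K J).map f) := inferInstance
  obtain ⟨e⟩ := nonempty_yonedaCofaceCx_homology_equiv
    (T := u.sheafPullback (Type u) K J ⋙ freeT J) F
    (isAugResolution_cechNerve_map J (u.sheafPullback (Type u) K J) f) (q + 1)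
    (fun n i _ => hF _ i)
  have h0 : Subsingleton (Ext ((u.sheafPullback (Type u) K J ⋙ freeT J).obj K'') F (q + 1)) :=
    hF _ q
  have := @Equiv.subsingleton _ _ e.toEquiv h0
  exact (@AddCommGrpCat.isZero_of_subsingleton _ this).of_iso
    ((HomologicalComplex.homologyFunctor _ _ (q + 1)).mapIso
      ((alternatingCofaceMapComplex AddCommGrpCat.{u}).mapIso
        (Functor.isoWhiskerLeft (Arrow.mk f).cechNerve.rightOp (asIso (transferHom (pullFreeAdj J K u)
          (freeTAdj K) (CohSite.push J K u) (forgetPushIso J K u) F))))).symm

end Push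

end Groth.SiteCohomology

namespace Groth.SiteCohomology

open Abelian

variable {C D : Type u} [SmallCategory C] [SmallCategory D]
  (J : GrothendieckTopology C) (K : GrothendieckTopology D) (u : D ⥤ C) [u.IsContinuous K J]

lemma shortExact_push {S : ShortComplex (Sheaf J AddCommGrpCat.{u})} (hS : S.ShortExact)
    (h : ∀ V : D, Subsingleton (CohSite.HU S.X₁ 1 (u.obj V))) :
    (S.map (CohSite.push J K u)).ShortExact := by
  have : PreservesFiniteLimits (CohSite.push J K u) :=
    (u.sheafAdjunctionContinuous AddCommGrpCat.{u} K J).rightAdjoint_preservesLimits.{0, 0}.preservesFiniteLimits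
  have := hS.mono_f
  refine ShortComplex.ShortExact.mk' (hS.exact.map_of_mono_of_preservesKernel _ hS.mono_f
    inferInstance) (inferInstanceAs (Mono ((CohSite.push J K u).map S.f))) ?_
  have : Sheaf.IsLocallySurjective ((CohSite.push J K u).map S.g) :=
    ⟨fun {V} s => by
      have := h V
      obtain ⟨t, ht⟩ := surjective_sections_of_subsingleton_HU hS (u.obj V) s
      refine K.superset_covering (fun W g _ => ⟨((CohSite.push J K u).obj S.X₂).obj.map g.op t, ?_⟩)
        (K.top_mem V)
      exact (congrArg (fun k => k t)
        (((CohSite.push J K u).map S.g).hom.naturality g.op)).trans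
          (congrArg (fun z => ((CohSite.push J K u).obj S.X₃).obj.map g.op z) ht)⟩
  exact (Sheaf.isLocallySurjective_iff_epi' AddCommGrpCat.{u} ((CohSite.push J K u).map S.g)).1 this

/-- Direct image of sheaves acyclic on all objects is acyclic on all objects. -/
theorem subsingleton_HU_push [PreservesFiniteLimits (u.sheafPullback (Type u) K J)] :
    ∀ (q : ℕ) (F : Sheaf J AddCommGrpCat.{u}),
      (∀ (U : C) (i : ℕ), Subsingleton (CohSite.HU F (i + 1) U)) → ∀ V : D,
        Subsingleton (CohSite.HU ((CohSite.push J K u).obj F) (q + 1) V) := by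
  have hI : ∀ (I : Sheaf J AddCommGrpCat.{u}), Injective I → ∀ (q : ℕ) (V : D),
      Subsingleton (CohSite.HU ((CohSite.push J K u).obj I) (q + 1) V) := fun I hI q V =>
    subsingleton_HU_of_totallyAcyclic K _
      (isTotallyAcyclic_push J K u I fun P p => Ext.subsingleton_of_injective _ _ p) V q
  intro q
  induction q with
  | zero =>
    intro F hF V
    let S := injSES F
    have hS : S.ShortExact := injSES_shortExact F
    have hS' := shortExact_push J K u hS fun V => hF _ 0
    refine @subsingleton_ext_one_left _ _ _ _ _ hS' (CohCx.freeSheaf K V)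
      (hI _ (inferInstanceAs (Injective (Injective.under F))) 0 V)
      ((surjective_sections_iff_lift _).1 ?_)
    have := hF (u.obj V) 0
    exact surjective_sections_of_subsingleton_HU hS (u.obj V)
  | succ q ih =>
    intro F hF V
    have hS' := shortExact_push J K u (injSES_shortExact F) fun V => hF _ 0
    have : Injective (injSES F).X₂ := inferInstanceAs (Injective (Injective.under F))
    have hQ : ∀ (U : C) (i : ℕ), Subsingleton (CohSite.HU (injSES F).X₃ (i + 1) U) := fun U i =>
      @subsingleton_ext_right _ _ _ _ _ (injSES_shortExact F) (CohCx.freeSheaf J U) (i + 1)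
        (Ext.subsingleton_of_injective _ _ i) (hF U (i + 1))
    exact @subsingleton_ext_left _ _ _ _ _ hS' (CohCx.freeSheaf K V) (q + 1)
      (hI _ this (q + 1) V) (ih _ hQ V)

/-- A continuous cover-preserving functor preserving finite limits has left exact inverse image. -/
theorem preservesFiniteLimits_sheafPullback_of_flat [HasFiniteLimits D] [PreservesFiniteLimits u] :
    PreservesFiniteLimits (u.sheafPullback (Type u) K J) := by
  have : RepresentablyFlat u := flat_of_preservesFiniteLimits u
  have : PreservesFiniteLimits (u.op.lan : (Dᵒᵖ ⥤ Type u) ⥤ _) :=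
    lan_preservesFiniteLimits_of_flat (Type u) u
  exact Functor.sheafPullbackConstruction.preservesFiniteLimits u (Type u) K J

end Groth.SiteCohomology
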