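import Groth.Agent.SiteCohomology.CechFamily
import Groth.Agent.SiteCohomology.Flasque
import Groth.Prelude.Def_CohCx
import Mathlib.CategoryTheory.Limits.Lattice

/-!
# Čech cohomology of coverings on sites and spaces
-/

universe u

open CategoryTheory Limits Opposite TopologicalSpace

set_option synthInstance.maxHeartbeats 400000
set_option maxHeartbeats 1000000

namespace Groth.SiteCohomology

section Site

variable {C : Type u} [SmallCategory C] [HasPullbacks C] {U : C} {ι : Type u} (Y : ι → Over U)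

/-- A family over `U` as Čech data. -/
noncomputable def cechDataOver : CechData (Over.forget U) Y U where
  p i := (Y i).hom
  hp n a k l := (Over.w (Pi.π (Y ∘ a) k)).trans (Over.w (Pi.π (Y ∘ a) l)).symm
  hlift n a c h hh := by
    let P : Over U := Over.mk (h 0 ≫ (Y (a 0)).hom)
    let g : P ⟶ ∏ᶜ (Y ∘ a) := Pi.lift fun k => Over.homMk (h k) (hh k 0)
    have hπ : ∀ k, g ≫ Pi.π (Y ∘ a) k = Over.homMk (h k) (hh k 0) := fun k => Pi.lift_π _ k
    refine ⟨g.left, fun k => congrArg CommaMorphism.left (hπ k), fun g' hg' => ?_⟩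
    have w : g' ≫ (∏ᶜ (Y ∘ a)).hom = P.hom := by
      exact (congrArg (g' ≫ ·) (Over.w (Pi.π (Y ∘ a) 0)).symm).trans
        ((Category.assoc _ _ _).symm.trans (congrArg (· ≫ (Y (a 0)).hom) (hg' 0)))
    have e : (Over.homMk g' w : P ⟶ ∏ᶜ (Y ∘ a)) = g := Pi.hom_ext _ _ fun k => by
      rw [hπ]
      exact Over.OverMorphism.ext (hg' k)
    exact congrArg CommaMorphism.left e

variable (J : GrothendieckTopology C)
  (hY : Sieve.ofArrows (fun i => (Y i).left) (fun i => (Y i).hom) ∈ J U)

include hY in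
/-- The Čech-to-cohomology isomorphism for an acyclic covering family. -/
theorem nonempty_cechH_equiv_site (F : Sheaf J AddCommGrpCat.{u}) (p : ℕ)
    (h : ∀ (n : ℕ) (a : Fin (n + 1) → ι) (q : ℕ), n + q + 1 ≤ p →
      Subsingleton (CohSite.HU F (q + 1) (∏ᶜ fun k => Y (a k)).left)) :
    Nonempty (CohCx.cechH F.obj Y p ≃+ CohSite.HU F p U) :=
  (cechDataOver Y).nonempty_cechH_equiv J hY F p h

end Site

section Space

variable {X : TopCat.{u}} {ι : Type u} (V : ι → Opens X)

/-- A family of opens as Čech data over its union. -/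
noncomputable def cechDataOpens : CechData (𝟭 (Opens X)) V (iSup V) where
  p i := homOfLE (le_iSup V i)
  hp _ _ _ _ := Subsingleton.elim _ _
  hlift _ _ _ h _ := ⟨Pi.lift h, fun _ => Subsingleton.elim _ _, fun _ _ => Subsingleton.elim _ _⟩

lemma pi_eq_iInf {n : ℕ} (a : Fin (n + 1) → ι) : ∏ᶜ (V ∘ a) = ⨅ k, V (a k) :=
  le_antisymm (le_iInf fun k => (Pi.π (V ∘ a) k).le)
    (Pi.lift fun k => homOfLE (iInf_le (fun k => V (a k)) k) : (⨅ k, V (a k)) ⟶ ∏ᶜ (V ∘ a)).le

lemma ofArrows_mem : Sieve.ofArrows V (cechDataOpens V).p ∈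
    Opens.grothendieckTopology X (iSup V) := by
  intro x hx
  obtain ⟨i, hi⟩ := Opens.mem_iSup.1 hx
  exact ⟨V i, homOfLE (le_iSup V i), (Sieve.mem_ofArrows_iff _ _ _).2 ⟨i, 𝟙 _, Subsingleton.elim _ _⟩, hi⟩

/-- The Čech-to-cohomology isomorphism for an acyclic family of opens. -/
theorem nonempty_cechH_equiv_space (F : CohTop.Ab X) (p : ℕ)
    (h : ∀ (n : ℕ) (a : Fin (n + 1) → ι) (q : ℕ), n + q + 1 ≤ p →
      Subsingleton (CohTop.HU F (q + 1) (⨅ k, V (a k)))) :
    Nonempty (CohTop.cechH F.obj V p ≃+ CohTop.HU F p (iSup V)) :=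
  (cechDataOpens V).nonempty_cechH_equiv _ (ofArrows_mem V) F p fun n a q hnq => by
    have := h n a q hnq
    rw [← pi_eq_iInf V a] at this
    exact this

/-- Flasque sheaves have no higher Čech cohomology. -/
theorem isZero_cechH_of_flasque (F : CohTop.Ab X) [TopCat.Sheaf.IsFlasque F] (p : ℕ) :
    IsZero (CohTop.cechH F.obj V (p + 1)) := by
  obtain ⟨e⟩ := nonempty_cechH_equiv_space V F (p + 1)
    fun _ _ q _ => subsingleton_HU_succ_of_flasque F _ q
  have h := subsingleton_HU_succ_of_flasque F (iSup V) p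
  have := @Equiv.subsingleton _ _ e.toEquiv h
  exact AddCommGrpCat.isZero_of_subsingleton _

end Space

end Groth.SiteCohomology
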