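import Groth.Agent.SiteCohomology.Flasque
import Groth.Agent.SiteCohomology.ClosedPush
import Mathlib.Topology.Separation.DisjointCover

/-!
# Profinite spaces are acyclic
-/

universe u

open CategoryTheory Limits Opposite TopologicalSpace

namespace Groth.SiteCohomology

variable {X : TopCat.{u}} [CompactSpace X] [T2Space X] [TotallyDisconnectedSpace X]

/-- An epimorphism of abelian sheaves on a profinite space is surjective on global sections. -/
theorem surjective_sections_top_of_epi {F G : CohTop.Ab X} (ψ : F ⟶ G) [Epi ψ] :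
    Function.Surjective (ψ.hom.app (op (⊤ : Opens X))) := by
  intro s
  have hloc : Sheaf.IsLocallySurjective ψ := (Sheaf.isLocallySurjective_iff_epi' _ ψ).2 inferInstance
  have h := hloc.imageSieve_mem (U := (⊤ : Opens X)) s
  choose V f hf hxV using fun x : X => h x trivial
  have hV : IsOpenCover V := IsOpenCover.of_sets (fun x => (V x).2)
    (Set.eq_univ_of_forall fun x => Set.mem_iUnion.2 ⟨x, hxV x⟩)
  obtain ⟨n, W, hW, hcov, hdisj⟩ := hV.exists_finite_nonempty_disjoint_clopen_cover
  let O : Fin n → Opens X := fun j => ⟨W j, (W j).isClopen.2⟩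
  have hlift : ∀ j, ∃ t, ψ.hom.app (op (O j)) t =
      G.obj.map (homOfLE (le_top : O j ≤ ⊤)).op s := by
    intro j
    obtain ⟨x, hx⟩ := (hW j).2
    obtain ⟨t, ht⟩ := hf x
    refine ⟨F.obj.map (homOfLE (show O j ≤ V x from hx)).op t, ?_⟩
    refine (NatTrans.naturality_apply ψ.hom _ t).trans ?_
    rw [ht, ← ConcreteCategory.comp_apply, ← Functor.map_comp]
    rfl
  choose t ht using hlift
  have hcompat : TopCat.Presheaf.IsCompatible (F.obj : TopCat.Presheaf AddCommGrpCat.{u} X) O t := by
    intro i j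
    by_cases hij : i = j
    · subst hij
      exact congrArg (fun k => F.obj.map k (t i)) (Subsingleton.elim _ _)
    · refine @Subsingleton.elim _ (subsingleton_sections_of_le_bot F (O i ⊓ O j) ?_) _ _
      intro z hz
      have h0 : z ∈ ((W i ⊓ W j : Clopens X) : Set X) := hz
      rw [disjoint_iff.1 (hdisj hij)] at h0
      exact h0
  obtain ⟨g, hg, -⟩ := TopCat.Sheaf.existsUnique_gluing' (X := X) F O ⊤
    (fun j => homOfLE le_top) (fun z _ => by
      obtain ⟨j, hj⟩ := Set.mem_iUnion.1 (hcov (Set.mem_univ z))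
      exact Opens.mem_iSup.2 ⟨j, hj⟩) t hcompat
  refine ⟨g, ?_⟩
  refine TopCat.Sheaf.eq_of_locally_eq' (X := X) G O ⊤ (fun j => homOfLE le_top) (fun z _ => by
      obtain ⟨j, hj⟩ := Set.mem_iUnion.1 (hcov (Set.mem_univ z))
      exact Opens.mem_iSup.2 ⟨j, hj⟩) _ _ fun j => ?_
  exact ((NatTrans.naturality_apply ψ.hom (homOfLE (le_top : O j ≤ ⊤)).op g).symm).trans
    ((congrArg _ (hg j)).trans (ht j))

/-- Profinite spaces have no higher cohomology. -/
theorem subsingleton_H_succ_profinite (F : CohTop.Ab X) (p : ℕ) :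
    Subsingleton (CohTop.H F (p + 1)) := by
  have := subsingleton_ext_succ_of_class
    (CohCx.freeSheaf (Opens.grothendieckTopology X) (⊤ : Opens X))
    (fun _ : CohTop.Ab X => True)
    (fun F S hS _ _ _ => (surjective_sections_iff_lift S.g).1
      (haveI := hS.epi_g; surjective_sections_top_of_epi S.g))
    (fun _ _ _ _ _ _ => trivial) p F trivial
  exact @Equiv.subsingleton _ _ (HUTopEquiv F (p + 1)).symm.toEquiv this

end Groth.SiteCohomology
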