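import Groth.Agent.Misc7.SitePush.Modules
import Groth.Agent.SiteCohomology.AcyclicResolution
import Groth.Agent.SiteCohomology.HK
import Groth.Agent.DAlg.SiteInj
import Mathlib.Algebra.Category.ModuleCat.Sheaf.Free
import Mathlib.CategoryTheory.Sites.ConstantSheaf
import Mathlib.CategoryTheory.Abelian.Injective.Resolution

/-!
# Cohomology of modules and of the underlying abelian sheaves
-/

universe u

open CategoryTheory CategoryTheory.Limits Opposite

set_option backward.defeqAttrib.useBackward true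
set_option backward.isDefEq.respectTransparency false
set_option synthInstance.maxHeartbeats 400000
set_option maxHeartbeats 1000000

namespace Groth.SiteCohomology

open Groth.Misc7.SitePush

variable {C : Type u} [SmallCategory C] {J : GrothendieckTopology C}

/-- The constant sheaf `ℤ` is the free sheaf on the terminal sheaf of sets. -/
theorem exists_freeT_iso_const :
    ∃ K : Sheaf J (Type u), Nonempty ((freeSh J).obj K.obj ≅
      (constantSheaf J AddCommGrpCat.{u}).obj (AddCommGrpCat.of (ULift.{u} ℤ))) := by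
  let P : Cᵒᵖ ⥤ Type u := (Functor.const Cᵒᵖ).obj PUnit
  refine ⟨(presheafToSheaf J (Type u)).obj P, ⟨?_⟩⟩
  let e : AddCommGrpCat.free.obj (PUnit : Type u) ≅ AddCommGrpCat.of (ULift.{u} ℤ) :=
    ((FreeAbelianGroup.uniqueEquiv PUnit.{u + 1}).trans AddEquiv.ulift.symm).toAddCommGrpIso
  exact (@asIso _ _ _ _ _ (isIso_freeSh_map_toSheafify J P)).symm ≪≫
    (presheafToSheaf J AddCommGrpCat.{u}).mapIso
      (NatIso.ofComponents (fun _ => e) (fun f => by
        change AddCommGrpCat.free.map (𝟙 (PUnit : Type u)) ≫ e.hom = e.hom ≫ 𝟙 _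
        rw [CategoryTheory.Functor.map_id]
        simp))

variable (R : Sheaf J RingCat.{u})

/-- The global section `1` as a map `ℤ → O`. -/
noncomputable def oneMap : (constantSheaf J AddCommGrpCat.{u}).obj (AddCommGrpCat.of (ULift.{u} ℤ)) ⟶
    (SheafOfModules.toSheaf R).obj (SheafOfModules.unit R) :=
  ((sheafificationAdjunction J AddCommGrpCat.{u}).homEquiv _ _).symm
    { app := fun X => AddCommGrpCat.ofHom
        ((zmultiplesHom _ (show ((SheafOfModules.toSheaf R).obj (SheafOfModules.unit R)).obj.obj X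
          from (1 : R.obj.obj X))).comp AddEquiv.ulift.toAddMonoidHom)
      naturality := fun X Y f => by
        ext ⟨n⟩
        change n • (1 : R.obj.obj Y) = R.obj.map f (n • (1 : R.obj.obj X))
        rw [map_zsmul, map_one] }

/-- `Hom(O, M) → Hom(ℤ, M)`. -/
noncomputable def oneComp (M : SheafOfModules.{u} R) : (SheafOfModules.unit R ⟶ M) →+
    ((constantSheaf J AddCommGrpCat.{u}).obj (AddCommGrpCat.of (ULift.{u} ℤ)) ⟶
      (SheafOfModules.toSheaf R).obj M) :=
  AddMonoidHom.mk' (fun f => oneMap R ≫ (SheafOfModules.toSheaf R).map f) fun a b => by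
    rw [Functor.map_add, Preadditive.comp_add]

lemma oneComp_app {M : SheafOfModules.{u} R} (f : SheafOfModules.unit R ⟶ M) (X : Cᵒᵖ) :
    (toSheafify J ((Functor.const Cᵒᵖ).obj (AddCommGrpCat.of (ULift.{u} ℤ))) ≫
      (oneComp R M f).hom).app X (ULift.up (1 : ℤ)) = (M.unitHomEquiv f).val X := by
  have h : toSheafify J ((Functor.const Cᵒᵖ).obj (AddCommGrpCat.of (ULift.{u} ℤ))) ≫
      (oneComp R M f).hom = ((sheafificationAdjunction J AddCommGrpCat.{u}).homEquiv _ _) (oneComp R M f) := by
    rw [Adjunction.homEquiv_unit]; rfl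
  rw [h]
  change (((sheafificationAdjunction J AddCommGrpCat.{u}).homEquiv _ _)
    (oneMap R ≫ (SheafOfModules.toSheaf R).map f)).app X _ = _
  rw [Adjunction.homEquiv_naturality_right, oneMap, Equiv.apply_symm_apply,
    SheafOfModules.unitHomEquiv_apply_coe]
  change (f.val.app X) ((1 : ℤ) • (1 : R.obj.obj X)) = _
  rw [one_zsmul]

lemma bijective_oneComp (M : SheafOfModules.{u} R) : Function.Bijective (oneComp R M) := by
  refine ⟨fun f g hfg => M.unitHomEquiv.injective (Subtype.ext (funext fun X => ?_)), fun k => ?_⟩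
  · rw [← oneComp_app, ← oneComp_app, hfg]
  · let t := toSheafify J ((Functor.const Cᵒᵖ).obj (AddCommGrpCat.of (ULift.{u} ℤ))) ≫ k.hom
    let s : M.sections := ⟨fun X => t.app X (ULift.up (1 : ℤ)), fun {X Y} g =>
      (ConcreteCategory.congr_hom (t.naturality g) (ULift.up (1 : ℤ))).symm⟩
    refine ⟨M.unitHomEquiv.symm s, Sheaf.hom_ext (sheafify_hom_ext J _ _
      ((SheafOfModules.toSheaf R).obj M).property ?_)⟩
    refine NatTrans.ext (funext fun X => AddCommGrpCat.hom_ext ?_)
    refine AddMonoidHom.ext fun ⟨n⟩ => ?_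
    rw [show (ULift.up n : ULift.{u} ℤ) = n • ULift.up (1 : ℤ) from ULift.ext _ _ (by simp)]
    refine (map_zsmul _ n _).trans (Eq.trans (congrArg (n • ·) ?_) (map_zsmul _ n _).symm)
    exact (oneComp_app R _ X).trans (by rw [Equiv.apply_symm_apply])

/-- `Hom(O, -) = Hom(ℤ, -)`. -/
noncomputable def unitCoyonedaIso : preadditiveCoyoneda.obj (op (SheafOfModules.unit R)) ≅
    SheafOfModules.toSheaf R ⋙ preadditiveCoyoneda.obj
      (op ((constantSheaf J AddCommGrpCat.{u}).obj (AddCommGrpCat.of (ULift.{u} ℤ)))) :=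
  NatIso.ofComponents
    (fun M => (AddEquiv.ofBijective (oneComp R M) (bijective_oneComp R M)).toAddCommGrpIso)
    (fun {M N} φ => by
      ext f
      exact (congrArg (oneMap R ≫ ·) ((SheafOfModules.toSheaf R).map_comp f φ)).trans
        (Category.assoc _ _ _).symm)

/-- `Ext_O(O, M) = H(M)`. -/
theorem nonempty_ext_unit_equiv [HasExt.{u} (SheafOfModules.{u} R)] (M : SheafOfModules.{u} R) (n : ℕ) :
    Nonempty (Abelian.Ext (SheafOfModules.unit R) M n ≃+
      Sheaf.H.{u} ((SheafOfModules.toSheaf R).obj M) n) := by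
  let I : InjectiveResolution M := injectiveResolution M
  let G := SheafOfModules.toSheaf.{u} R
  let ι : M ⟶ I.cocomplex.X 0 := I.ι.f 0
  have h : AcyclicRes.IsResolution I.cocomplex.X (fun n => I.cocomplex.d n (n + 1)) ι :=
    { mono := inferInstanceAs (Mono (I.ι.f 0))
      zero₀ := I.ι_f_zero_comp_complex_d
      exact₀ := I.exact₀
      zero := fun n => I.cocomplex.d_comp_d _ _ _
      exact := fun n => I.exact_succ n }
  let Y := (G.mapHomologicalComplex (ComplexShape.up ℕ)).obj I.cocomplex
  have h' : AcyclicRes.IsResolution Y.X (fun n => Y.d n (n + 1)) (G.map ι) :=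
    { mono := by have := h.mono; exact G.map_mono ι
      zero₀ := by rw [← G.map_zero, ← h.zero₀, G.map_comp]; rfl
      exact₀ := h.exact₀.map G
      zero := fun n => Y.d_comp_d _ _ _
      exact := fun n => (h.exact n).map G }
  obtain ⟨K, ⟨e⟩⟩ := exists_freeT_iso_const (J := J)
  obtain ⟨e₁⟩ := AcyclicRes.nonempty_homology_equiv_ext (SheafOfModules.unit R) I.cocomplex ι h n
    fun n q _ => Abelian.Ext.subsingleton_of_injective _ _ q
  obtain ⟨e₂⟩ := AcyclicRes.nonempty_homology_equiv_ext
    ((constantSheaf J AddCommGrpCat.{u}).obj (AddCommGrpCat.of (ULift.{u} ℤ))) Y (G.map ι) h' n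
    fun m q _ => @Equiv.subsingleton _ _ (extIsoLeft e _ (q + 1)).toEquiv
      (isTotallyAcyclic_toSheaf R (I.cocomplex.X m) K q)
  exact ⟨e₁.symm.trans ((((HomologicalComplex.homologyFunctor _ _ n).mapIso
    ((NatIso.mapHomologicalComplex (unitCoyonedaIso R) (ComplexShape.up ℕ)).app I.cocomplex))
      ).addCommGroupIsoToAddEquiv.trans e₂)⟩

end Groth.SiteCohomology
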