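import Groth.Agent.SiteCohomology.WeaklyContractibleExact
import Groth.Prelude.Def_CohSite
import Mathlib.CategoryTheory.Abelian.GrothendieckAxioms.Basic
import Mathlib.CategoryTheory.Sites.Limits
import Mathlib.CategoryTheory.Abelian.FunctorCategory

/-!
# Exact products on sites with enough weakly contractible objects
-/

universe u

open CategoryTheory Limits Opposite

set_option synthInstance.maxHeartbeats 400000

namespace Groth.SiteCohomology

variable {C : Type u} [SmallCategory C] {J : GrothendieckTopology C}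

/-- Sections over a weakly contractible object turn epimorphisms into surjections. -/
lemma surjective_app_of_weaklyContractible {U : C} (hU : CohSite.IsWeaklyContractible J U)
    {P Q : Sheaf J AddCommGrpCat.{u}} (φ : P ⟶ Q) [Epi φ] :
    Function.Surjective (φ.hom.app (op U)) := by
  have := hasSheafCompose_forget_addCommGrp.{u} J
  have hφ : Sheaf.IsLocallySurjective φ :=
    (Sheaf.isLocallySurjective_iff_epi' AddCommGrpCat.{u} φ).2 ‹_›
  let ψ := (sheafCompose J (forget AddCommGrpCat.{u})).map φ
  haveI : Sheaf.IsLocallySurjective ψ := ⟨fun {U} s => hφ.imageSieve_mem (U := U) s⟩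
  exact hU _ _ ψ inferInstance

/-- Products of abelian sheaves are exact if weakly contractible objects cover. -/
theorem ab4Star_of_weaklyContractible
    (B : Set C) (hB : ∀ U ∈ B, CohSite.IsWeaklyContractible J U)
    (hcov : ∀ V : C, ∃ (ι : Type u) (U : ι → C) (f : ∀ i, U i ⟶ V),
      (∀ i, U i ∈ B) ∧ Sieve.ofArrows U f ∈ J V) :
    AB4Star (Sheaf J AddCommGrpCat.{u}) := by
  refine ⟨fun α => ?_⟩
  have : (lim : (Discrete α ⥤ Sheaf J AddCommGrpCat.{u}) ⥤ _).PreservesEpimorphisms := by
    refine ⟨fun {F G} φ hφ => ?_⟩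
    have hφi : ∀ i, Epi (φ.app i) := fun i => inferInstance
    refine (Sheaf.isLocallySurjective_iff_epi' AddCommGrpCat.{u} _).1 ⟨fun {V} s => ?_⟩
    obtain ⟨ι, U, f, hU, hf⟩ := hcov V
    refine J.superset_covering ?_ hf
    rw [Sieve.ofArrows, Sieve.generate_le_iff]
    rintro W _ ⟨i⟩
    show ∃ t, (lim.map φ).hom.app (op (U i)) t = (limit G).obj.map (f i).op s
    let Φ := sheafToPresheaf J AddCommGrpCat.{u} ⋙ (evaluation Cᵒᵖ AddCommGrpCat.{u}).obj (op (U i)) ⋙
      forget AddCommGrpCat.{u}
    choose x hx using fun j => surjective_app_of_weaklyContractible (hB _ (hU i)) (φ.app j)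
      (Φ.map (limit.π G j) ((limit G).obj.map (f i).op s))
    have hsec : x ∈ (F ⋙ Φ).sections := by
      intro j j' g
      obtain rfl := Discrete.ext (Discrete.eq_of_hom g)
      rw [Subsingleton.elim g (𝟙 j), (F ⋙ Φ).map_id]
      rfl
    obtain ⟨t, ht, -⟩ := (Types.isLimit_iff _).1 ⟨isLimitOfPreserves Φ (limit.isLimit F)⟩ x hsec
    refine ⟨t, ?_⟩
    refine Concrete.isLimit_ext _
      (isLimitOfPreserves (sheafToPresheaf J AddCommGrpCat.{u} ⋙
        (evaluation Cᵒᵖ AddCommGrpCat.{u}).obj (op (U i))) (limit.isLimit G)) _ _ fun j => ?_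
    refine (congrArg (fun k => k.hom.app (op (U i)) t) (limMap_π φ j)).trans ?_
    exact (congrArg ((φ.app j).hom.app (op (U i))) (ht j)).trans (hx j)
  exact hasExactLimitsOfShape_of_preservesEpi _ _

end Groth.SiteCohomology
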