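import Groth.Agent.SiteCohomology.CechImage
import Groth.Agent.SiteCohomology.ShriekExact
import Groth.Agent.SiteCohomology.AcyclicResolution
import Groth.Agent.SiteCohomology.Free
import Mathlib.CategoryTheory.Abelian.Injective.Resolution

/-!
# Cohomology of restrictions along cocontinuous functors preserving fibre products
-/

universe u

open CategoryTheory Limits Opposite

set_option synthInstance.maxHeartbeats 400000
set_option maxHeartbeats 1000000

namespace Groth.SiteCohomology

variable {C D : Type u} [SmallCategory C] [SmallCategory D] (J : GrothendieckTopology C)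
  (K : GrothendieckTopology D) (u : C ⥤ D) [u.IsContinuous J K]

/-- Sections of a restricted sheaf. -/
noncomputable def freeRestrictIso (U : C) :
    preadditiveCoyoneda.obj (op (CohCx.freeSheaf K (u.obj U))) ≅
      CohSite.push K J u ⋙ preadditiveCoyoneda.obj (op (CohCx.freeSheaf J U)) :=
  NatIso.ofComponents
    (fun G => (((CohFree.homEquivSect K (u.obj U) G).trans
      (CohFree.homEquivSect J U ((CohSite.push K J u).obj G)).symm)).toAddCommGrpIso)
    (fun {G H} ψ => by
      ext φ
      change CohFree.ofSect J U _ (CohFree.evalGen K (u.obj U) H (φ ≫ ψ)) =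
        CohFree.ofSect J U _ (CohFree.evalGen K (u.obj U) G φ) ≫ (CohSite.push K J u).map ψ
      rw [ofSect_comp, evalGen_comp]
      rfl)

/-- Restriction of an injective sheaf along a cover-preserving functor preserving fibre products is
acyclic. -/
theorem subsingleton_HU_push_injective' [HasPullbacks C] [PreservesLimitsOfShape WalkingCospan u] 
    (hu : CoverPreserving J K u) (I : Sheaf K AddCommGrpCat.{u}) [Injective I]
    (U : C) (p : ℕ) : Subsingleton (CohSite.HU ((CohSite.push K J u).obj I) (p + 1) U) := by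
  refine subsingleton_HU_of_cech J Set.univ (fun V ι Y =>
    Sieve.ofArrows (fun i => (Y i).left) (fun i => (Y i).hom) ∈ J V)
    (fun V ι Y hY => ⟨trivial, hY, fun _ _ => trivial⟩) (fun V _ T hT => ?_) _
    (fun V ι Y hY q => ?_) U trivial p
  · refine ⟨{f : Over V // T.arrows f.hom}, fun f => f.1, ?_, fun f => f.2⟩
    refine J.superset_covering (fun W g hg => ?_) hT
    exact (Sieve.mem_ofArrows_iff _ _ _).2 ⟨⟨Over.mk g, hg⟩, 𝟙 _, (Category.id_comp g).symm⟩
  · have hY' : Sieve.ofArrows (fun i => (Over.forget V ⋙ u).obj (Y i))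
        (cechDataImage u Y).p ∈ K (u.obj V) := by
      refine K.superset_covering ?_ (hu.cover_preserve hY)
      rintro W g ⟨Z, a, b, ha, rfl⟩
      obtain ⟨i, q, rfl⟩ := (Sieve.mem_ofArrows_iff _ _ _).1 ha
      exact (Sieve.mem_ofArrows_iff _ _ _).2 ⟨i, b ≫ u.map q,
        ((congrArg (b ≫ ·) (u.map_comp _ _)).trans (Category.assoc _ _ _).symm)⟩
    obtain ⟨e⟩ := (cechDataImage u Y).nonempty_cechH_equiv K hY' I (q + 1)
      fun _ _ i _ => Abelian.Ext.subsingleton_of_injective _ _ i
    have h : Subsingleton (CohSite.HU I (q + 1) (u.obj V)) := Abelian.Ext.subsingleton_of_injective _ _ q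
    exact @AddCommGrpCat.isZero_of_subsingleton _ (@Equiv.subsingleton _ _ e.toEquiv h)

/-- `H^p(U, g⁻¹ F) = H^p(u U, F)` when `u` is cocontinuous and preserves fibre products. -/
theorem nonempty_HU_restrict_pullbacks_equiv [HasPullbacks C] (hu : CoverPreserving J K u)
    [PreservesLimitsOfShape WalkingCospan u] [u.IsCocontinuous J K]
    (F : Sheaf K AddCommGrpCat.{u}) (U : C) (p : ℕ) :
    Nonempty (CohSite.HU ((CohSite.push K J u).obj F) p U ≃+ CohSite.HU F p (u.obj U)) := by
  let G := CohSite.push K J u
  have hl : PreservesFiniteLimits G :=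
    (u.sheafAdjunctionContinuous AddCommGrpCat.{u} J K).rightAdjoint_preservesLimits.{0, 0}.preservesFiniteLimits
  have hr : PreservesFiniteColimits G :=
    preservesFiniteColimits_sheafPushforward J K u AddCommGrpCat.{u}
  let I : InjectiveResolution F := injectiveResolution F
  let ι : F ⟶ I.cocomplex.X 0 := I.ι.f 0
  have h : AcyclicRes.IsResolution I.cocomplex.X (fun n => I.cocomplex.d n (n + 1)) ι :=
    { mono := inferInstanceAs (Mono (I.ι.f 0))
      zero₀ := I.ι_f_zero_comp_complex_d
      exact₀ := I.exact₀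
      zero := fun n => I.cocomplex.d_comp_d _ _ _
      exact := fun n => I.exact_succ n }
  let Y := (G.mapHomologicalComplex (ComplexShape.up ℕ)).obj I.cocomplex
  have h' : AcyclicRes.IsResolution Y.X (fun n => Y.d n (n + 1)) (G.map ι) :=
    { mono := by have := h.mono; exact G.map_mono ι
      zero₀ := (G.map_comp _ _).symm.trans ((congrArg G.map h.zero₀).trans (G.map_zero _ _))
      exact₀ := h.exact₀.map G
      zero := fun n => Y.d_comp_d _ _ _
      exact := fun n => (h.exact n).map G }
  obtain ⟨e₁⟩ := AcyclicRes.nonempty_homology_equiv_ext (CohCx.freeSheaf K (u.obj U)) I.cocomplex ι h p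
    fun n q _ => Abelian.Ext.subsingleton_of_injective _ _ q
  obtain ⟨e₂⟩ := AcyclicRes.nonempty_homology_equiv_ext (CohCx.freeSheaf J U) Y (G.map ι) h' p
    fun n q _ => have := I.injective n; subsingleton_HU_push_injective' J K u hu (I.cocomplex.X n) U q
  exact ⟨e₂.symm.trans ((((HomologicalComplex.homologyFunctor _ _ p).mapIso
    ((NatIso.mapHomologicalComplex (freeRestrictIso J K u U) (ComplexShape.up ℕ)).app
      I.cocomplex)).symm.addCommGroupIsoToAddEquiv).trans e₁)⟩

/-- Global version. -/
theorem nonempty_H_restrict_pullbacks_equiv [HasPullbacks C] (hu : CoverPreserving J K u)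
    [PreservesLimitsOfShape WalkingCospan u] [u.IsCocontinuous J K]
    (F : Sheaf K AddCommGrpCat.{u}) {T : C} (hT : IsTerminal T) (hT' : IsTerminal (u.obj T)) (p : ℕ) :
    Nonempty (Sheaf.H.{u} ((CohSite.push K J u).obj F) p ≃+ Sheaf.H.{u} F p) := by
  obtain ⟨e⟩ := nonempty_HU_restrict_pullbacks_equiv J K u hu F T p
  exact ⟨((HUEquivHOfIsTerminal hT _ p).symm.trans e).trans (HUEquivHOfIsTerminal hT' F p)⟩

end Groth.SiteCohomology
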