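import Groth.Agent.SiteCohomology.DegenerateHom
import Groth.Agent.SiteCohomology.RestrictPullbacks
import Groth.Agent.SiteCohomology.Flasque
import Mathlib.CategoryTheory.Abelian.RightDerived

/-!
# The Leray comparison when the base is acyclic
-/

universe u

open CategoryTheory Limits Opposite TopologicalSpace

set_option maxHeartbeats 1000000
set_option synthInstance.maxHeartbeats 400000

namespace Groth.SiteCohomology

variable {X Y : TopCat.{u}} (f : X ⟶ Y) (F : CohTop.Ab X)

/-- If the higher direct images are acyclic, cohomology is their sections. -/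
theorem nonempty_H_equiv_Rpush_sections
    (h : ∀ p q : ℕ, Subsingleton (CohTop.H ((CohTop.Rpush f q).obj F) (p + 1))) (q : ℕ) :
    Nonempty (CohTop.H F q ≃+ ((CohTop.Rpush f q).obj F).obj.obj (op ⊤)) := by
  let JX := Opens.grothendieckTopology X
  let JY := Opens.grothendieckTopology Y
  let I : InjectiveResolution F := injectiveResolution F
  let G := CohTop.push f
  let K := (G.mapHomologicalComplex (ComplexShape.up ℕ)).obj I.cocomplex
  let A := CohCx.freeSheaf JY (⊤ : Opens Y)
  have hK : ∀ n k : ℕ, Subsingleton (Abelian.Ext A (K.X n) (k + 1)) := fun n k => by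
    haveI : Injective (K.X n) := @injective_push _ _ (I.injective n) _ f
    exact Abelian.Ext.subsingleton_of_injective _ _ k
  have hH : ∀ n k : ℕ, Subsingleton (Abelian.Ext A (K.homology n) (k + 1)) := fun n k => by
    haveI := h k n
    haveI : Subsingleton (CohTop.HU ((CohTop.Rpush f n).obj F) (k + 1) ⊤) :=
      (HUTopEquiv ((CohTop.Rpush f n).obj F) (k + 1)).toEquiv.subsingleton
    exact @Equiv.subsingleton _ _ (((Abelian.extFunctorObj A (k + 1)).mapIso
      (I.isoRightDerivedObj G n).symm).addCommGroupIsoToAddEquiv.toEquiv) this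
  obtain ⟨e₂⟩ := nonempty_homology_hom_equiv K A hK hH q
  let ι : F ⟶ I.cocomplex.X 0 := I.ι.f 0
  have hres : AcyclicRes.IsResolution I.cocomplex.X (fun n => I.cocomplex.d n (n + 1)) ι :=
    { mono := inferInstanceAs (Mono (I.ι.f 0))
      zero₀ := I.ι_f_zero_comp_complex_d
      exact₀ := I.exact₀
      zero := fun n => I.cocomplex.d_comp_d _ _ _
      exact := fun n => I.exact_succ n }
  obtain ⟨e₁⟩ := AcyclicRes.nonempty_homology_equiv_ext
    (CohCx.freeSheaf JX ((Opens.map f).obj ⊤)) I.cocomplex ι hres q
    fun n k _ => Abelian.Ext.subsingleton_of_injective _ _ k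
  have e₀ : CohTop.HU F q ((Opens.map f).obj ⊤) ≃+ CohTop.H F q := HUTopEquiv F q
  exact ⟨((e₀.symm.trans e₁.symm).trans
    ((((HomologicalComplex.homologyFunctor _ _ q).mapIso
      ((NatIso.mapHomologicalComplex (freeRestrictIso JY JX (Opens.map f) ⊤) (ComplexShape.up ℕ)).app
        I.cocomplex)).addCommGroupIsoToAddEquiv).trans e₂)).trans
    ((CohFree.homEquivSect JY ⊤ (K.homology q)).trans
      (((sheafToPresheaf JY AddCommGrpCat.{u}).mapIso (I.isoRightDerivedObj G q).symm).app
        (op ⊤)).addCommGroupIsoToAddEquiv)⟩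

end Groth.SiteCohomology
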