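import Groth.Agent.SiteCohomology.AcyclicImage
import Groth.Agent.SiteCohomology.Flasque

/-!
# Cohomology of an acyclic direct image on topological spaces
-/

universe u

open CategoryTheory Limits Opposite TopologicalSpace

namespace Groth.SiteCohomology

/-- `H^p(f⁻¹ V, F) = H^p(V, f_* F)` when `R^{>0} f_* F = 0`. -/
theorem nonempty_HU_push_top_equiv {X Y : TopCat.{u}} (f : X ⟶ Y) (F : CohTop.Ab X)
    (h : ∀ q : ℕ, IsZero ((CohTop.Rpush f (q + 1)).obj F)) (p : ℕ) (V : Opens Y) :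
    Nonempty (CohTop.HU ((CohTop.push f).obj F) p V ≃+ CohTop.HU F p ((Opens.map f).obj V)) :=
  nonempty_HU_push_equiv (Opens.grothendieckTopology X) (Opens.grothendieckTopology Y) (Opens.map f)
    (fun I hI => @injective_push _ I hI _ f) F h p V

/-- `H^p(X, F) = H^p(Y, f_* F)` when `R^{>0} f_* F = 0`. -/
theorem nonempty_H_push_equiv {X Y : TopCat.{u}} (f : X ⟶ Y) (F : CohTop.Ab X)
    (h : ∀ q : ℕ, IsZero ((CohTop.Rpush f (q + 1)).obj F)) (p : ℕ) :
    Nonempty (CohTop.H F p ≃+ CohTop.H ((CohTop.push f).obj F) p) := by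
  obtain ⟨e⟩ := nonempty_HU_push_top_equiv f F h p ⊤
  exact ⟨((HUTopEquiv F p).symm.trans e.symm).trans (HUTopEquiv _ p)⟩

end Groth.SiteCohomology
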