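import Groth.Agent.SiteCohomology.RestrictCohomology
import Groth.Agent.SiteCohomology.PushCohomology

/-!
# Higher direct images are local on the base
-/

universe u

open CategoryTheory Limits Opposite TopologicalSpace

set_option maxHeartbeats 1000000
set_option synthInstance.maxHeartbeats 400000

namespace Groth.SiteCohomology

variable {X Y : TopCat.{u}} (f : X ⟶ Y) (V : Opens Y)

/-- The restriction of a map over an open of the base. -/
noncomputable abbrev restrictMap : TopCat.of ((Opens.map f).obj V) ⟶ TopCat.of V :=
  TopCat.ofHom ⟨(V : Set Y).restrictPreimage f, f.hom.continuous.restrictPreimage⟩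

lemma map_openFunctor (W : Opens (TopCat.of V)) :
    (Opens.map f).obj ((openFunctor V).obj W) =
      (openFunctor ((Opens.map f).obj V)).obj ((Opens.map (restrictMap f V)).obj W) := by
  refine Opens.ext (Set.ext fun x => ⟨?_, ?_⟩)
  · rintro ⟨⟨y, hy⟩, hw, h⟩
    have h' : y = f x := h
    subst h'
    exact ⟨⟨x, hy⟩, hw, rfl⟩
  · rintro ⟨⟨x', hx'⟩, hw, rfl⟩
    exact ⟨⟨f x', hx'⟩, hw, rfl⟩

/-- Direct image commutes with restriction to an open of the base. -/
noncomputable def pushRestrIso :
    CohTop.push f ⋙ CohTop.restrFunctor V ≅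
      CohTop.restrFunctor ((Opens.map f).obj V) ⋙ CohTop.push (restrictMap f V) :=
  NatIso.ofComponents
    (fun F => (fullyFaithfulSheafToPresheaf _ _).preimageIso
      (Functor.isoWhiskerRight (NatIso.op (NatIso.ofComponents
        (fun W => eqToIso (map_openFunctor f V W).symm) (fun _ => Subsingleton.elim _ _) :
          Opens.map (restrictMap f V) ⋙ openFunctor ((Opens.map f).obj V) ≅
            openFunctor V ⋙ Opens.map f)) F.obj))
    (fun {F G} φ => Sheaf.hom_ext (NatTrans.ext (funext fun W => (φ.hom.naturality _).symm)))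

instance preservesFiniteLimits_restrFunctor {Z : TopCat.{u}} (U : Opens Z) :
    PreservesFiniteLimits (CohTop.restrFunctor U) :=
  ((openFunctor U).sheafAdjunctionContinuous AddCommGrpCat.{u} (Opens.grothendieckTopology _)
    (Opens.grothendieckTopology Z)).rightAdjoint_preservesLimits.{0, 0}.preservesFiniteLimits

instance preservesFiniteColimits_restrFunctor {Z : TopCat.{u}} (U : Opens Z) :
    PreservesFiniteColimits (CohTop.restrFunctor U) :=
  preservesFiniteColimits_sheafPushforward (Opens.grothendieckTopology _)
    (Opens.grothendieckTopology Z) (openFunctor U) AddCommGrpCat.{u}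

theorem injective_restr {Z : TopCat.{u}} (U : Opens Z) (I : CohTop.Ab Z) (hI : Injective I) :
    Injective (CohTop.restr I U) :=
  haveI := hI
  injective_restrict (Opens.grothendieckTopology _) (Opens.grothendieckTopology Z) (openFunctor U)
    (locallyFiltered_openFunctor U) I

/-- `(R^p f_* F)|_V = R^p g_* (F|_{f⁻¹ V})`. -/
theorem nonempty_restr_Rpush_iso (F : CohTop.Ab X) (p : ℕ) :
    Nonempty (CohTop.restr ((CohTop.Rpush f p).obj F) V ≅
      (CohTop.Rpush (restrictMap f V) p).obj (CohTop.restr F ((Opens.map f).obj V))) := by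
  have h1 : (CohTop.restrFunctor ((Opens.map f).obj V)).Additive := inferInstance
  have h2 : (CohTop.push (restrictMap f V)).Additive := ⟨fun {_ _ _ _} => rfl⟩
  haveI : (CohTop.restrFunctor ((Opens.map f).obj V) ⋙ CohTop.push (restrictMap f V)).Additive :=
    { map_add := fun {_ _ _ _} => by
        change (CohTop.push (restrictMap f V)).map ((CohTop.restrFunctor _).map _) = _
        rw [h1.map_add, h2.map_add]; rfl }
  obtain ⟨a⟩ := nonempty_rightDerived_comp_exact (CohTop.push f) (CohTop.restrFunctor V)
    (CohTop.restrFunctor ((Opens.map f).obj V) ⋙ CohTop.push (restrictMap f V))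
    (pushRestrIso f V).symm F p
  obtain ⟨b⟩ := nonempty_rightDerived_comp_of_acyclic (CohTop.restrFunctor ((Opens.map f).obj V))
    (CohTop.push (restrictMap f V)) (injective_restr _) F
    (fun k => isZero_rightDerived_succ_of_exact _ F k) p
  exact ⟨a.symm ≪≫ b.symm⟩

end Groth.SiteCohomology
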