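import Groth.Agent.SiteCohomology.ExtBasic
import Mathlib.CategoryTheory.Preadditive.Injective.Basic

universe w v u t

open CategoryTheory Limits

namespace Groth.SiteCohomology

open Abelian

variable {C : Type u} [Category.{v} C] [Abelian C] [HasExt.{w} C] [EnoughInjectives C]

/-- `Ext^1(X, ∏ F) → ∏ Ext^1(X, F i)` is injective. -/
theorem injective_ext_one_product {α : Type t} [HasProductsOfShape α C] (F : α → C) (X : C)
    (x : Ext X (∏ᶜ F) 1) (hx : ∀ i, x.comp (Ext.mk₀ (Pi.π F i)) (add_zero 1) = 0) : x = 0 := by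
  let ι : ∏ᶜ F ⟶ ∏ᶜ fun i => Injective.under (F i) := Limits.Pi.map fun i => Injective.ι (F i)
  let q : (∏ᶜ fun i => Injective.under (F i)) ⟶ ∏ᶜ fun i => cokernel (Injective.ι (F i)) :=
    Limits.Pi.map fun i => cokernel.π (Injective.ι (F i))
  have w : ι ≫ q = 0 := by ext i; simp [ι, q]
  have hex : (ShortComplex.mk ι q w).Exact := by
    refine ShortComplex.exact_of_f_is_kernel _ (KernelFork.IsLimit.ofι' _ _ fun {W} k hk => ?_)
    have hki : ∀ i, (k ≫ Pi.π _ i) ≫ cokernel.π (Injective.ι (F i)) = 0 := fun i => by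
      have h := congrArg (fun z => z ≫ Pi.π _ i) hk
      simpa [q] using h
    exact ⟨Pi.lift fun i => Abelian.monoLift (Injective.ι (F i)) _ (hki i),
      by ext i; simp [ι, Abelian.monoLift_comp]⟩
  let S : ShortComplex C := ShortComplex.mk ι (cokernel.π ι) (cokernel.condition ι)
  have hS : S.ShortExact := ShortComplex.ShortExact.mk'
    (ShortComplex.exact_of_g_is_cokernel _ (cokernelIsCokernel _))
    (inferInstanceAs (Mono ι)) (inferInstanceAs (Epi (cokernel.π ι)))
  haveI : Mono (cokernel.desc ι q w) := (ShortComplex.mk ι q w).exact_iff_mono_cokernel_desc.1 hex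
  haveI : Subsingleton (Ext X S.X₂ 1) := Ext.subsingleton_of_injective _ _ 0
  obtain ⟨f', rfl⟩ := ext_surjective_postcomp_extClass hS X 0 x
  obtain ⟨f, rfl⟩ := (Ext.mk₀_bijective _ _).2 f'
  have hg : ∀ i, ∃ g : X ⟶ Injective.under (F i),
      g ≫ cokernel.π (Injective.ι (F i)) = f ≫ cokernel.desc ι q w ≫ Pi.π _ i := fun i => by
    let φ : S ⟶ injSES (F i) :=
      { τ₁ := Pi.π _ i, τ₂ := Pi.π _ i, τ₃ := cokernel.desc ι q w ≫ Pi.π _ i
        comm₁₂ := by simp [S, ι]
        comm₂₃ := by simp [S, q] }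
    have h := hx i
    rw [Ext.comp_assoc_of_third_deg_zero] at h
    have hn := ShortComplex.ShortExact.extClass_naturality hS (injSES_shortExact (F i)) φ
    simp only [φ] at hn
    rw [hn, Ext.mk₀_comp_mk₀_assoc] at h
    obtain ⟨y, hy⟩ := Ext.covariant_sequence_exact₃ X (injSES_shortExact (F i)) _ _ h
    obtain ⟨g, rfl⟩ := (Ext.mk₀_bijective _ _).2 y
    rw [Ext.mk₀_comp_mk₀] at hy
    exact ⟨g, (Ext.mk₀_bijective _ _).1 hy⟩
  choose g hg using hg
  have : f = Pi.lift g ≫ cokernel.π ι := by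
    rw [← cancel_mono (cokernel.desc ι q w)]
    ext i
    simp [q, hg]
  rw [this, ← Ext.mk₀_comp_mk₀]
  exact (Ext.comp_assoc_of_second_deg_zero _ _ _ _).trans (by rw [hS.comp_extClass]; simp)

end Groth.SiteCohomology
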