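import Groth.Agent.SiteCohomology.CechVanishing
import Groth.Prelude.Def_CohSite
import Mathlib.CategoryTheory.Limits.Constructions.Over.Connected
import Mathlib.CategoryTheory.Limits.Constructions.FiniteProductsOfBinaryProducts
import Mathlib.CategoryTheory.Limits.Constructions.LimitsOfProductsAndEqualizers
import Mathlib.CategoryTheory.Limits.Preserves.Shapes.Terminal

/-!
# Čech data along a functor preserving fibre products
-/

universe u

open CategoryTheory Limits Opposite

set_option synthInstance.maxHeartbeats 400000
set_option maxHeartbeats 1000000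

namespace Groth.SiteCohomology

variable {C D : Type u} [SmallCategory C] [SmallCategory D] [HasPullbacks C] [HasPullbacks D]
  (u : C ⥤ D) [PreservesLimitsOfShape WalkingCospan u]

omit [HasPullbacks D] in
/-- The functor on slices preserves finite products. -/
lemma preservesFiniteLimits_overPost (U : C) :
    PreservesFiniteLimits (Over.post (X := U) u) := by
  have : HasTerminal (Over U) := Over.over_hasTerminal U
  have : HasTerminal (Over (u.obj U)) := Over.over_hasTerminal (u.obj U)
  have : PreservesLimitsOfShape WalkingCospan (Over.post (X := U) u ⋙ Over.forget (u.obj U)) :=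
    inferInstanceAs (PreservesLimitsOfShape WalkingCospan (Over.forget U ⋙ u))
  have : PreservesLimitsOfShape WalkingCospan (Over.post (X := U) u) :=
    preservesLimitsOfShape_of_reflects_of_preserves (Over.post u) (Over.forget _)
  have : PreservesLimitsOfShape (Discrete PEmpty.{1}) (Over.post (X := U) u) := by
    have hT := Over.mkIdTerminal (X := U)
    have hT' : IsTerminal ((Over.post (X := U) u).obj (Over.mk (𝟙 U))) :=
      Over.mkIdTerminal.ofIso (Over.isoMk (Iso.refl _) ((Category.id_comp _).trans (u.map_id U)))
    have hP := preservesTerminal_of_iso (Over.post (X := U) u)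
      ((hT'.ofIso ((Over.post u).mapIso (hT.uniqueUpToIso terminalIsTerminal))).uniqueUpToIso
        terminalIsTerminal)
    exact preservesLimitsOfShape_pempty_of_preservesTerminal _
  exact preservesFiniteLimits_of_preservesTerminal_and_pullbacks _

/-- The image of a family over `U` as Čech data over `u U`. -/
noncomputable def cechDataImage {U : C} {ι : Type u} (Y : ι → Over U) :
    CechData (Over.forget U ⋙ u) Y (u.obj U) where
  p i := u.map (Y i).hom
  hp n a k l := (u.map_comp _ _).symm.trans ((congrArg u.map ((Over.w (Pi.π (Y ∘ a) k)).trans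
    (Over.w (Pi.π (Y ∘ a) l)).symm)).trans (u.map_comp _ _))
  hlift n a c h hh := by
    have := preservesFiniteLimits_overPost u U
    let P : Over (u.obj U) := Over.mk (h 0 ≫ u.map (Y (a 0)).hom)
    have hl := isLimitOfHasProductOfPreservesLimit (Over.post (X := U) u) (Y ∘ a)
    let s : Fan fun k => (Over.post (X := U) u).obj ((Y ∘ a) k) :=
      Fan.mk P fun k => Over.homMk (h k) (hh k 0)
    have hπ : ∀ k, hl.lift s ≫ (Over.post u).map (Pi.π (Y ∘ a) k) = Over.homMk (h k) (hh k 0) :=
      fun k => hl.fac s ⟨k⟩
    refine ⟨(hl.lift s).left, fun k => congrArg CommaMorphism.left (hπ k), fun g' hg' => ?_⟩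
    have w : g' ≫ u.map (∏ᶜ (Y ∘ a)).hom = P.hom := by
      exact (congrArg (fun z => g' ≫ u.map z) (Over.w (Pi.π (Y ∘ a) 0)).symm).trans
        ((congrArg (g' ≫ ·) (u.map_comp _ _)).trans
          ((Category.assoc _ _ _).symm.trans (congrArg (· ≫ u.map (Y (a 0)).hom) (hg' 0))))
    have e : (Over.homMk g' w : P ⟶ (Over.post u).obj (∏ᶜ (Y ∘ a))) = hl.lift s :=
      hl.hom_ext fun k => by
        obtain ⟨k⟩ := k
        exact (Over.OverMorphism.ext (hg' k)).trans (hπ k).symm
    exact congrArg CommaMorphism.left e

/-- Restriction of an injective sheaf along a cover-preserving functor preserving fibre products is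
acyclic. -/
theorem subsingleton_HU_push_injective (J : GrothendieckTopology C) (K : GrothendieckTopology D)
    (hu : CoverPreserving J K u) [u.IsContinuous J K] (I : Sheaf K AddCommGrpCat.{u}) [Injective I]
    (U : C) (p : ℕ) : Subsingleton (CohSite.HU ((CohSite.push K J u).obj I) (p + 1) U) := by
  refine subsingleton_HU_of_cech J Set.univ (fun V ι Y =>
    Sieve.ofArrows (fun i => (Y i).left) (fun i => (Y i).hom) ∈ J V)
    (fun V ι Y hY => ⟨trivial, hY, fun _ _ => trivial⟩) (fun V _ T hT => ?_) _
    (fun V ι Y hY q => ?_) U trivial p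
  · refine ⟨{f : Over V // T.arrows f.hom}, fun f => f.1, ?_, fun f => f.2⟩
    refine J.superset_covering (fun W g hg => ?_) hT
    exact (Sieve.mem_ofArrows_iff _ _ _).2 ⟨⟨Over.mk g, hg⟩, 𝟙 _, (Category.id_comp g).symm⟩
  · have hY' : Sieve.ofArrows (fun i => (Over.forget V ⋙ u).obj (Y i))
        (cechDataImage u Y).p ∈ K (u.obj V) := by
      refine K.superset_covering ?_ (hu.cover_preserve hY)
      rintro W g ⟨Z, a, b, ha, rfl⟩
      obtain ⟨i, q, rfl⟩ := (Sieve.mem_ofArrows_iff _ _ _).1 ha
      exact (Sieve.mem_ofArrows_iff _ _ _).2 ⟨i, b ≫ u.map q,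
        ((congrArg (b ≫ ·) (u.map_comp _ _)).trans (Category.assoc _ _ _).symm)⟩
    obtain ⟨e⟩ := (cechDataImage u Y).nonempty_cechH_equiv K hY' I (q + 1)
      fun _ _ i _ => Abelian.Ext.subsingleton_of_injective _ _ i
    have h : Subsingleton (CohSite.HU I (q + 1) (u.obj V)) := Abelian.Ext.subsingleton_of_injective _ _ q
    exact @AddCommGrpCat.isZero_of_subsingleton _ (@Equiv.subsingleton _ _ e.toEquiv h)

end Groth.SiteCohomology
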