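import Mathlib.CategoryTheory.Sites.SheafCohomology.Cech
import Mathlib.AlgebraicTopology.ExtraDegeneracy
import Mathlib.Algebra.Homology.Opposite
import Mathlib.CategoryTheory.Limits.Lattice
import Mathlib.Topology.Category.TopCat.Opens
import Mathlib.Algebra.Category.Grp.Abelian
import Mathlib.Algebra.Category.Grp.Limits

/-!
# Čech complex of a covering containing the whole open
-/

universe u v w

open CategoryTheory Limits Opposite TopologicalSpace Simplicial AlgebraicTopology

set_option synthInstance.maxHeartbeats 400000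
set_option maxHeartbeats 1000000

namespace Groth.SiteCohomology

section Complexes

variable {V : Type u} [Category.{v} V] [Preadditive V] [HasZeroObject V]

/-- A homotopy equivalence to a single complex in the opposite category, read in the category. -/
theorem nonempty_homotopyEquiv_unop (K : ChainComplex Vᵒᵖ ℕ) (A : V)
    (e : HomotopyEquiv K ((ChainComplex.single₀ Vᵒᵖ).obj (op A)))
    (L : CochainComplex V ℕ) (i : ∀ n, L.X n ≅ unop (K.X n))
    (hi : ∀ n, (i n).hom ≫ (K.d (n + 1) n).unop = L.d n (n + 1) ≫ (i (n + 1)).hom) :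
    Nonempty (HomotopyEquiv ((CochainComplex.single₀ V).obj A) L) := by
  let U := HomologicalComplex.unopFunctor V (ComplexShape.down ℕ)
  let e' : HomotopyEquiv (U.obj (op ((ChainComplex.single₀ Vᵒᵖ).obj (op A)))) (U.obj (op K)) :=
    { hom := U.map e.hom.op
      inv := U.map e.inv.op
      homotopyHomInvId := (Homotopy.ofEq (U.map_comp _ _).symm).trans
        (e.homotopyInvHomId.unop.trans (Homotopy.ofEq (U.map_id _)))
      homotopyInvHomId := (Homotopy.ofEq (U.map_comp _ _).symm).trans
        (e.homotopyHomInvId.unop.trans (Homotopy.ofEq (U.map_id _))) }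
  let eL : L ≅ U.obj (op K) := HomologicalComplex.Hom.isoOfComponents (fun n => i n)
    (fun m n h => by
      obtain rfl : m + 1 = n := h
      exact hi m)
  let eA : (CochainComplex.single₀ V).obj A ≅ U.obj (op ((ChainComplex.single₀ Vᵒᵖ).obj (op A))) :=
    HomologicalComplex.Hom.isoOfComponents (fun n =>
      match n with
      | 0 => Iso.refl A
      | _ + 1 => (isZero_zero V).iso (isZero_zero Vᵒᵖ).unop)
      (fun m n h => by
        obtain rfl : m + 1 = n := h
        exact ((HomologicalComplex.isZero_single_obj_X (ComplexShape.down ℕ) 0 (op A) (m + 1)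
          (by omega)).unop).eq_of_tgt _ _)
  exact ⟨((HomotopyEquiv.ofIso eA).trans e').trans (HomotopyEquiv.ofIso eL.symm)⟩

end Complexes

section Cover

variable {X : TopCat.{w}} {ι : Type w} (U : ι → Opens X) (i₀ : ι) (hi : U i₀ = iSup U)

/-- The Čech object of a family of opens, augmented to its union. -/
noncomputable def cechAugOpens : SimplicialObject.Augmented (FormalCoproduct.{w} (Opens X)) where
  left := (FormalCoproduct.mk _ U).cech
  right := (FormalCoproduct.incl (Opens X)).obj (iSup U)
  hom :=
    { app := fun n => ⟨fun _ => PUnit.unit, fun a =>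
        Pi.π _ (0 : Fin (n.unop.len + 1)) ≫ homOfLE (le_iSup U (a (0 : Fin (n.unop.len + 1))))⟩
      naturality := fun m n f => FormalCoproduct.hom_ext rfl fun _ => Subsingleton.elim _ _ }

include hi in
lemma nonempty_extraDegeneracy_cechAugOpens :
    Nonempty (SimplicialObject.Augmented.ExtraDegeneracy (cechAugOpens U)) := by
  have hle : ∀ (n : ℕ) (a : Fin (n + 1) → ι), ∀ j : Fin (n + 2),
      (∏ᶜ (U ∘ a)) ≤ U (Fin.cases (motive := fun _ => ι) i₀ a j) := fun n a j => by
    cases j using Fin.cases with
    | zero => exact hi ▸ (Pi.π (U ∘ a) 0).le.trans (le_iSup U (a 0))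
    | succ j => exact (Pi.π (U ∘ a) j).le
  refine ⟨{ s' := ⟨fun _ _ => i₀, fun _ => Pi.lift fun _ => homOfLE (le_of_eq hi.symm)⟩
            s := fun n => ⟨fun a => Fin.cases (motive := fun _ => ι) i₀ a,
              fun a => Pi.lift fun j => homOfLE (hle n a j)⟩
            s'_comp_ε := ?_
            s₀_comp_δ₁ := ?_
            s_comp_δ₀ := ?_
            s_comp_δ := ?_
            s_comp_σ := ?_ }⟩
  · exact FormalCoproduct.hom_ext rfl fun _ => Subsingleton.elim _ _
  · refine FormalCoproduct.hom_ext (funext fun a => funext fun j => ?_) fun _ =>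
      Subsingleton.elim _ _
    change Fin.cases (motive := fun _ => ι) i₀ a ((1 : Fin 2).succAbove j) = i₀
    obtain rfl : j = (0 : Fin 1) := Subsingleton.elim (α := Fin 1) _ _
    rfl
  · intro n
    refine FormalCoproduct.hom_ext (funext fun a => funext fun (j : Fin (n + 1)) => ?_) fun _ =>
      Subsingleton.elim _ _
    change Fin.cases (motive := fun _ => ι) i₀ a ((0 : Fin (n + 2)).succAbove j) = a j
    rw [Fin.succAbove_zero]
    rfl
  · intro n k
    refine FormalCoproduct.hom_ext (funext fun a => funext fun (j : Fin (n + 2)) => ?_) fun _ =>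
      Subsingleton.elim _ _
    change Fin.cases (motive := fun _ => ι) i₀ a (k.succ.succAbove j) =
      Fin.cases (motive := fun _ => ι) i₀ (fun l => a (k.succAbove l)) j
    cases j using Fin.cases with
    | zero => rw [Fin.succ_succAbove_zero]; rfl
    | succ l => rw [Fin.succ_succAbove_succ]; rfl
  · intro n k
    refine FormalCoproduct.hom_ext (funext fun a => funext fun (j : Fin (n + 3)) => ?_) fun _ =>
      Subsingleton.elim _ _
    change Fin.cases (motive := fun _ => ι) i₀ a (k.succ.predAbove j) =
      Fin.cases (motive := fun _ => ι) i₀ (fun l => a (k.predAbove l)) j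
    cases j using Fin.cases with
    | zero => rw [Fin.predAbove_right_zero]; rfl
    | succ l => rw [Fin.succ_predAbove_succ]; rfl

include hi in
/-- The Čech complex is homotopy equivalent to sections over the union when a member is the
union. -/
theorem nonempty_homotopyEquiv_cech_of_eq_iSup (F : (Opens X)ᵒᵖ ⥤ AddCommGrpCat.{w}) :
    Nonempty (HomotopyEquiv ((CochainComplex.single₀ AddCommGrpCat.{w}).obj (F.obj (op (iSup U))))
      ((cechComplexFunctor U).obj F)) := by
  obtain ⟨ed⟩ := nonempty_extraDegeneracy_cechAugOpens U i₀ hi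
  let G := ((FormalCoproduct.evalOp.{w} (Opens X) AddCommGrpCat.{w}).obj F).rightOp
  let e0 := (ed.map G).homotopyEquiv
  let eP : (F.obj (op (iSup U))) ≅ unop (G.obj ((FormalCoproduct.incl (Opens X)).obj (iSup U))) :=
    (((FormalCoproduct.evalOpCompInlIsoId (Opens X) AddCommGrpCat.{w}).app F).app
      (op (iSup U))).symm
  refine nonempty_homotopyEquiv_unop _ _
    (e0.trans (HomotopyEquiv.ofIso ((ChainComplex.single₀ _).mapIso eP.op))) _
    (fun n => Iso.refl _) fun n => ?_
  refine (Category.id_comp _).trans (Eq.trans ?_ (Category.comp_id _).symm)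
  refine (congrArg Quiver.Hom.unop (AlternatingFaceMapComplex.obj_d_eq _ n)).trans ?_
  refine Eq.trans ?_ (CochainComplex.of_d
    (fun k => ((FormalCoproduct.cosimplicialObjectFunctor (FormalCoproduct.mk _ U).cech).obj F).obj ⦋k⦌)
    (AlternatingCofaceMapComplex.objD _) n).symm
  rw [AlternatingCofaceMapComplex.objD, unop_sum]
  exact Finset.sum_congr rfl fun i _ => unop_zsmul _ _ _

end Cover

end Groth.SiteCohomology
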