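import Groth.Agent.SiteCohomology.TowerHomology
import Mathlib.CategoryTheory.Sites.Localization
import Mathlib.CategoryTheory.Sites.LocallySurjective
import Mathlib.CategoryTheory.Sites.Limits

/-!
# Detecting isomorphisms of cohomology sheaves on sections, and limits of towers of complexes
-/

universe u

open CategoryTheory Limits Opposite

set_option synthInstance.maxHeartbeats 400000
set_option maxHeartbeats 800000
set_option backward.isDefEq.respectTransparency false

namespace Groth.SiteCohomology

variable {C : Type u} [SmallCategory C] {J : GrothendieckTopology C}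

/-- An exact functor transports isomorphisms in homology. -/
lemma isIso_map_homologyMap_iff {A B : Type*} [Category A] [Category B] [Abelian A] [Abelian B]
    (E : A ⥤ B) [E.Additive] [E.PreservesHomology] {S T : ShortComplex A} (φ : S ⟶ T) :
    IsIso (E.map (ShortComplex.homologyMap φ)) ↔
      IsIso (ShortComplex.homologyMap (E.mapShortComplex.map φ)) := by
  have h := ShortComplex.mapHomologyIso_hom_naturality φ E
  constructor <;> intro
  · have : IsIso (ShortComplex.homologyMap (E.mapShortComplex.map φ) ≫ (T.mapHomologyIso E).hom) := by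
      rw [h]; infer_instance
    exact IsIso.of_isIso_comp_right _ (T.mapHomologyIso E).hom
  · have : IsIso ((S.mapHomologyIso E).hom ≫ E.map (ShortComplex.homologyMap φ)) := by
      rw [← h]; infer_instance
    exact IsIso.of_isIso_comp_left (S.mapHomologyIso E).hom _

/-- The same for complexes. -/
lemma isIso_map_homologyMap_cx_iff {A B : Type*} [Category A] [Category B] [Abelian A] [Abelian B]
    (E : A ⥤ B) [E.Additive] [E.PreservesHomology] {K L : CochainComplex A ℤ} (φ : K ⟶ L) (m : ℤ) :
    IsIso (E.map (HomologicalComplex.homologyMap φ m)) ↔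
      IsIso (HomologicalComplex.homologyMap ((E.mapHomologicalComplex _).map φ) m) :=
  isIso_map_homologyMap_iff E ((HomologicalComplex.shortComplexFunctor A (ComplexShape.up ℤ) m).map φ)

/-- The map of cohomology sheaves is invertible if it is bijective on sections over a class of objects
covering every object. -/
theorem isIso_homologyMap_of_cover {K L : CochainComplex (Sheaf J AddCommGrpCat.{u}) ℤ} (φ : K ⟶ L)
    (m : ℤ) (B : Set C)
    (hB : ∀ U : C, ∃ (ι : Type u) (Y : ι → C) (f : ∀ i, Y i ⟶ U), Sieve.ofArrows Y f ∈ J U ∧ ∀ i, Y i ∈ B)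
    (h : ∀ U ∈ B, Function.Bijective (HomologicalComplex.homologyMap ((CohCx.sectCx J U).map φ) m)) :
    IsIso (HomologicalComplex.homologyMap φ m) := by
  let i := sheafToPresheaf J AddCommGrpCat.{u}
  let a := presheafToSheaf J AddCommGrpCat.{u}
  let ψ := HomologicalComplex.homologyMap ((i.mapHomologicalComplex _).map φ) m
  have hψ : ∀ U ∈ B, Function.Bijective (ψ.app (op U)) := by
    intro U hU
    have : IsIso (((evaluation Cᵒᵖ AddCommGrpCat.{u}).obj (op U)).map ψ) :=
      (isIso_map_homologyMap_cx_iff ((evaluation Cᵒᵖ AddCommGrpCat.{u}).obj (op U))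
        ((i.mapHomologicalComplex _).map φ) m).2 ((ConcreteCategory.isIso_iff_bijective _).2 (h U hU))
    exact ConcreteCategory.bijective_of_isIso
      (((evaluation Cᵒᵖ AddCommGrpCat.{u}).obj (op U)).map ψ)
  have hinj : Presheaf.IsLocallyInjective J ψ := by
    refine ⟨fun {U} x y hxy => ?_⟩
    obtain ⟨ι, Y, f, hf, hY⟩ := hB U.unop
    refine J.superset_covering ?_ hf
    rw [Sieve.ofArrows, Sieve.generate_le_iff]
    rintro V g ⟨k⟩
    refine (hψ _ (hY k)).1 ?_
    rw [← ConcreteCategory.comp_apply, ← ConcreteCategory.comp_apply, ψ.naturality,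
      ConcreteCategory.comp_apply, ConcreteCategory.comp_apply, hxy]
  have hsurj : Presheaf.IsLocallySurjective J ψ := by
    refine ⟨fun {U} s => ?_⟩
    obtain ⟨ι, Y, f, hf, hY⟩ := hB U
    refine J.superset_covering ?_ hf
    rw [Sieve.ofArrows, Sieve.generate_le_iff]
    rintro V g ⟨k⟩
    exact (hψ _ (hY k)).2 _
  have hW : IsIso (a.map ψ) := (J.W_iff ψ).1 ((J.W_iff_isLocallyBijective ψ).2 ⟨hinj, hsurj⟩)
  rw [isIso_map_homologyMap_cx_iff a] at hW
  -- sheafification of the underlying complex gives back the complex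
  let e := asIso (sheafificationAdjunction J AddCommGrpCat.{u}).counit
  have hnat : (a.mapHomologicalComplex _).map ((i.mapHomologicalComplex _).map φ) ≫
      ((NatTrans.mapHomologicalComplex e.hom (ComplexShape.up ℤ)).app L) =
      ((NatTrans.mapHomologicalComplex e.hom (ComplexShape.up ℤ)).app K) ≫ φ := by
    ext j : 1
    exact e.hom.naturality (φ.f j)
  have hi : ∀ (M : CochainComplex (Sheaf J AddCommGrpCat.{u}) ℤ),
      IsIso ((NatTrans.mapHomologicalComplex e.hom (ComplexShape.up ℤ)).app M) := fun M => by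
    have : ∀ j, IsIso (((NatTrans.mapHomologicalComplex e.hom (ComplexShape.up ℤ)).app M).f j) :=
      fun j => inferInstanceAs (IsIso (e.hom.app (M.X j)))
    exact HomologicalComplex.Hom.isIso_of_components _
  have h2 := congrArg (fun k => HomologicalComplex.homologyMap k m) hnat
  simp only [HomologicalComplex.homologyMap_comp] at h2
  have := hi K
  have := hi L
  have : IsIso (HomologicalComplex.homologyMap
      ((NatTrans.mapHomologicalComplex e.hom (ComplexShape.up ℤ)).app K) m ≫
        HomologicalComplex.homologyMap φ m) := by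
    rw [← h2]; infer_instance
  exact IsIso.of_isIso_comp_left (HomologicalComplex.homologyMap
      ((NatTrans.mapHomologicalComplex e.hom (ComplexShape.up ℤ)).app K) m) _

/-- A successor-compatible family in an inverse sequence of types is a section. -/
lemma mem_sections_of_succ {H : ℕᵒᵖ ⥤ Type u} (s : ∀ n, H.obj n)
    (hs : ∀ n : ℕ, H.map (homOfLE (Nat.le_succ n)).op (s (op (n + 1))) = s (op n)) :
    s ∈ H.sections := by
  rintro ⟨b⟩ ⟨a⟩ f
  rw [show f = (homOfLE (leOfHom f.unop)).op from Subsingleton.elim _ _]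
  have key : ∀ {a b : ℕ} (h : a ≤ b), H.map (homOfLE h).op (s (op b)) = s (op a) := by
    intro a b h
    induction h with
    | refl =>
      rw [show (homOfLE (le_refl a)).op = 𝟙 (op a) from Subsingleton.elim _ _, H.map_id]
      rfl
    | @step c h ih =>
      rw [show (homOfLE (le_trans h (Nat.le_succ c))).op =
        (homOfLE (Nat.le_succ c)).op ≫ (homOfLE h).op from Subsingleton.elim _ _, H.map_comp]
      exact (congrArg (H.map (homOfLE h).op) (hs c)).trans ih
  exact key (leOfHom f.unop)

/-- The map from the limit of a tower of complexes of sheaves to a far out term is invertible on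
cohomology sheaves. -/
theorem isIso_homologyMap_limit_π
    (F : ℕ → CochainComplex (Sheaf J AddCommGrpCat.{u}) ℤ) (t : ∀ n, F (n + 1) ⟶ F n) (m : ℤ)
    (B : Set C)
    (hB : ∀ U : C, ∃ (ι : Type u) (Y : ι → C) (f : ∀ i, Y i ⟶ U), Sieve.ofArrows Y f ∈ J U ∧ ∀ i, Y i ∈ B)
    (n₀ : ℕ)
    (ha : ∀ U ∈ B, ∀ j : ℤ, (j = m - 2 ∨ j = m - 1) →
      CohCx.LimOneIsZero (fun n => ((F n).X j).obj.obj (op U)) (fun n => (((t n).f j).hom.app (op U)).hom))
    (hb : ∀ U ∈ B, CohCx.LimOneIsZero
      (fun n => ((CohCx.sectCx J U).obj (F n)).homology (m - 1))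
      (fun n => (HomologicalComplex.homologyMap ((CohCx.sectCx J U).map (t n)) (m - 1)).hom))
    (hc : ∀ U ∈ B, ∀ k : ℕ, IsIso (HomologicalComplex.homologyMap
      ((CohCx.sectCx J U).map (CohCx.transition F t n₀ k)) m)) :
    IsIso (HomologicalComplex.homologyMap (limit.π (CohCx.opSequence F t) (op n₀)) m) := by
  refine isIso_homologyMap_of_cover _ m B hB fun U hU => ?_
  let G := fun n => (CohCx.sectCx J U).obj (F n)
  let s : ∀ n, G (n + 1) ⟶ G n := fun n => (CohCx.sectCx J U).map (t n)
  let Φ : ℤ → CochainComplex (Sheaf J AddCommGrpCat.{u}) ℤ ⥤ Type u := fun j =>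
    HomologicalComplex.eval _ _ j ⋙ sheafToPresheaf J AddCommGrpCat.{u} ⋙
      (evaluation Cᵒᵖ AddCommGrpCat.{u}).obj (op U) ⋙ forget AddCommGrpCat.{u}
  have hlim : ∀ j, Nonempty (IsLimit ((Φ j).mapCone (limit.cone (CohCx.opSequence F t)))) := fun j => by
    have : PreservesLimit (CohCx.opSequence F t) (Φ j) := inferInstance
    exact ⟨isLimitOfPreserves (Φ j) (limit.isLimit _)⟩
  refine TowerHomology.bijective_homologyMap s
    (fun n => (CohCx.sectCx J U).map (limit.π (CohCx.opSequence F t) (op n))) ?_ ?_ ?_ m n₀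
    (ha U hU) (hb U hU) ?_
  · intro n
    rw [← Functor.map_comp, ← limit.w (CohCx.opSequence F t) (homOfLE (Nat.le_succ n)).op,
      Functor.ofOpSequence_map_homOfLE_succ]
  · intro j x hx
    obtain ⟨l, -, hl⟩ := (Types.isLimit_iff _).1 (hlim j) (fun n => (0 : (G n.unop).X j))
      (fun {a b} f => map_zero ((((CohCx.opSequence F t).map f).f j).hom.app (op U)).hom)
    exact (hl x fun n => hx n.unop).trans (hl (0 : ((CohCx.sectCx J U).obj (limit (CohCx.opSequence F t))).X j) fun n => map_zero (((limit.π (CohCx.opSequence F t) n).f j).hom.app (op U)).hom).symm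
  · intro j x hx
    obtain ⟨l, hl, -⟩ := (Types.isLimit_iff _).1 (hlim j) (fun n => x n.unop)
      (mem_sections_of_succ (H := CohCx.opSequence F t ⋙ Φ j) (fun n : ℕᵒᵖ => x n.unop) fun n => by
        refine Eq.trans ?_ (hx n)
        show (Φ j).map ((CohCx.opSequence F t).map _) (x (n + 1)) = _
        rw [Functor.ofOpSequence_map_homOfLE_succ]
        rfl)
    exact ⟨l, fun n => hl (op n)⟩
  · intro n hn
    obtain ⟨k, rfl⟩ := Nat.le.dest hn
    convert hc U hU k using 2
    induction k with
    | zero =>
      rw [TowerHomology.down_self]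
      exact ((CohCx.sectCx J U).map_id _).symm
    | succ k ih =>
      rw [CohCx.transition, Functor.map_comp, ← ih, ← TowerHomology.down_comp s (Nat.le_add_right n₀ k)
        (Nat.le_succ (n₀ + k)), TowerHomology.down_succ]

end Groth.SiteCohomology
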