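import Groth.Agent.SiteCohomology.SubSheafGerms
import Groth.Agent.SiteCohomology.Flasque
import Groth.Agent.S0468
import Mathlib.CategoryTheory.Limits.Preserves.Shapes.Zero
import Mathlib.Algebra.Homology.ShortComplex.Abelian

/-!
# Vanishing of cohomology from vanishing on free sheaves of quasi-compact opens
-/

set_option autoImplicit false
universe u

open CategoryTheory CategoryTheory.Limits Opposite TopologicalSpace
open CategoryTheory.Abelian
open Groth.Agent.CohDescent (gm gm_res gm_eq gm_map gm_surjective sect_ext)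
open Groth.SiteCohomology.SubSheafGerms

set_option synthInstance.maxHeartbeats 400000
set_option maxHeartbeats 1000000

noncomputable section

namespace Groth.SiteCohomology.VanishingGenerators

variable {X : TopCat.{u}}

/-- The free sheaf on an open. -/
abbrev Z (U : Opens X) : CohTop.Ab X := CohCx.freeSheaf (Opens.grothendieckTopology X) U

/-- Vanishing of cohomology above a degree. -/
def Van (d : ℕ) (F : CohTop.Ab X) : Prop := ∀ p, d < p → Subsingleton (Ext (Z (⊤ : Opens X)) F p)

variable {d : ℕ}

lemma van_of_iso {F F' : CohTop.Ab X} (e : F ≅ F') (h : Van d F) : Van d F' := fun p hp =>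
  haveI := h p hp
  (extIsoRight e (Z (⊤ : Opens X)) p).symm.toEquiv.subsingleton

lemma van_of_isZero {F : CohTop.Ab X} (hF : IsZero F) : Van d F := fun p _ =>
  subsingleton_of_forall_eq 0 fun x => by
    rw [← Ext.comp_mk₀_id x, hF.eq_of_src (𝟙 F) 0, Ext.mk₀_zero, Ext.comp_zero]

lemma van_middle {S : ShortComplex (CohTop.Ab X)} (hS : S.ShortExact) (h₁ : Van d S.X₁) (h₃ : Van d S.X₃) :
    Van d S.X₂ := fun p hp =>
  haveI := h₁ p hp
  haveI := h₃ p hp
  subsingleton_ext_middle hS _ p

lemma van_right {S : ShortComplex (CohTop.Ab X)} (hS : S.ShortExact) (h₁ : Van d S.X₁) (h₂ : Van d S.X₂) :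
    Van d S.X₃ := fun p hp =>
  haveI := h₂ p hp
  haveI := h₁ (p + 1) (by omega)
  subsingleton_ext_right hS _ p

lemma van_biprod {F F' : CohTop.Ab X} (h : Van d F) (h' : Van d F') : Van d (F ⊞ F') :=
  van_middle (ShortComplex.Splitting.ofHasBinaryBiproduct F F').shortExact h h'

variable {M : CohTop.Ab X}

/-- A section over a quasi-compact open. -/
abbrev QSec (M : CohTop.Ab X) : Type u := Σ W : {W : Opens X // IsCompact (W : Set X)}, M.obj.obj (op W.1)

/-- The germs of the sections of a finite family at a point. -/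
def germsOf (S : Finset (QSec M)) (x : X) : Set ((sfib x).obj M) :=
  {a | ∃ s ∈ S, ∃ hx : x ∈ s.1.1, a = gm M x s.1.1 hx s.2}

/-- The subgroups generated by a finite family of sections. -/
def genA (S : Finset (QSec M)) (x : X) : AddSubgroup ((sfib x).obj M) := AddSubgroup.closure (germsOf S x)

lemma genA_mono {S T : Finset (QSec M)} (h : S ⊆ T) (x : X) : genA S x ≤ genA T x :=
  AddSubgroup.closure_mono fun _ ⟨s, hs, hx, e⟩ => ⟨s, h hs, hx, e⟩

/-- Elements of the generated subgroups come from sections with germs in them. -/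
lemma exists_genA (S : Finset (QSec M)) (x : X) (b : (sfib x).obj M) (hb : b ∈ genA S x) :
    ∃ a, (sfib x).map (incl M (genA S)) a = b := by
  have : genA S x ≤ AddMonoidHom.range ((sfib x).map (incl M (genA S))).hom := by
    rw [genA, AddSubgroup.closure_le]
    rintro _ ⟨s, hs, hx, rfl⟩
    exact exists_incl M (genA S) s.2 (fun z hz => AddSubgroup.subset_closure ⟨s, hs, hz, rfl⟩) x hx
  exact this hb

variable [CompactSpace X] [PrespectralSpace X]

lemma exists_qsec_germ (M : CohTop.Ab X) (x : X) (a : (sfib x).obj M) :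
    ∃ (s : QSec M) (hx : x ∈ s.1.1), a = gm M x s.1.1 hx s.2 := by
  obtain ⟨U, hxU, t, rfl⟩ := gm_surjective M x a
  obtain ⟨W, ⟨hWo, hWc⟩, hxW, hW⟩ := PrespectralSpace.isTopologicalBasis.exists_subset_of_mem_open
    (show x ∈ (U : Set X) from hxU) U.2
  let W' : Opens X := ⟨W, hWo⟩
  have hle : W' ≤ U := hW
  exact ⟨⟨⟨W', hWc⟩, M.obj.map (homOfLE hle).op t⟩, hxW, (gm_res M x hle hxW t).symm⟩

variable [QuasiSeparatedSpace X]

/-- Vanishing passes to a sheaf from its finitely generated subsheaves. -/
theorem van_of_finite (M : CohTop.Ab X) (h : ∀ S : Finset (QSec M), Van d (subSh M (genA S))) : Van d M := by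
  classical
  let D : Finset (QSec M) ⥤ CohTop.Ab X :=
    { obj := fun S => subSh M (genA S)
      map := fun f => subMap (genA_mono (leOfHom f))
      map_id := fun S => by rw [← cancel_mono (incl M (genA S)), subMap_incl, Category.id_comp]
      map_comp := fun {S T R} f g => by
        rw [← cancel_mono (incl M (genA R)), subMap_incl, Category.assoc, subMap_incl, subMap_incl] }
  let c : Cocone D :=
    { pt := M
      ι := { app := fun S => incl M (genA S)
             naturality := fun S T f => (subMap_incl (genA_mono (leOfHom f))).trans (Category.comp_id _).symm } }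
  let q : colimit D ⟶ M := colimit.desc D c
  have hq : ∀ S, colimit.ι D S ≫ q = incl M (genA S) := fun S => colimit.ι_desc c S
  have happ : ∀ (x : X) S (a : (sfib x).obj (D.obj S)),
      (sfib x).map q ((sfib x).map (colimit.ι D S) a) = (sfib x).map (incl M (genA S)) a := fun x S a => by
    rw [← ConcreteCategory.comp_apply, ← Functor.map_comp, hq]
  haveI : Mono q := mono_of_injective q fun x => by
    refine (injective_iff_map_eq_zero _).2 fun b hb => ?_
    obtain ⟨S, a, rfl⟩ := Concrete.isColimit_exists_rep _ (isColimitOfPreserves (sfib x) (colimit.isColimit D)) b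
    have ha : a = 0 := injective_of_mono (incl M (genA S)) x
      ((happ x S a).symm.trans (hb.trans (map_zero _).symm))
    exact (congrArg _ ha).trans (map_zero _)
  haveI : Epi q := epi_of_surjective q fun x b => by
    obtain ⟨s, hx, rfl⟩ := exists_qsec_germ M x b
    obtain ⟨a, ha⟩ := exists_genA {s} x (gm M x s.1.1 hx s.2)
      (AddSubgroup.subset_closure ⟨s, Finset.mem_singleton_self s, hx, rfl⟩)
    exact ⟨(sfib x).map (colimit.ι D {s}) a, (happ x _ a).trans ha⟩
  haveI : IsIso q := isIso_of_mono_of_epi q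
  refine van_of_iso (asIso q) fun p hp => subsingleton_of_forall_eq 0 fun e => ?_
  haveI := Groth.Agent.S0468.result (⊤ : Opens X) isCompact_univ (Finset (QSec M)) p
  obtain ⟨S, a, rfl⟩ := Concrete.isColimit_exists_rep _ (isColimitOfPreserves
    ((Sheaf.cohomologyPresheafFunctor (Opens.grothendieckTopology X) p).flip.obj (op (⊤ : Opens X)))
    (colimit.isColimit D)) e
  haveI := h S p hp
  exact (congrArg _ (Subsingleton.elim (α := Ext (Z (⊤ : Opens X)) (subSh M (genA S)) p) a 0)).trans (map_zero _)

/-- The germ of the generator of the free sheaf on the whole space. -/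
abbrev g0 (x : X) : (sfib x).obj (Z (⊤ : Opens X)) := freeGerm ⊤ x trivial

open Classical in
/-- Subgroups given by quasi-compact opens and monotone subgroups of `ℤ`. -/
def constA {m : ℕ} (U : Opens X) (W : Fin m → Opens X) (c : Set (Fin m) → AddSubgroup ℤ) (x : X) :
    AddSubgroup ((sfib x).obj (Z (⊤ : Opens X))) :=
  if x ∈ U then (c {j | x ∈ W j}).map (zmultiplesHom _ (g0 x)) else ⊥

lemma exists_constA {m : ℕ} (U : Opens X) (W : Fin m → Opens X) (c : Set (Fin m) → AddSubgroup ℤ)
    (hc : Monotone c) (x : X) (b : (sfib x).obj (Z (⊤ : Opens X))) (hb : b ∈ constA U W c x) :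
    ∃ a, (sfib x).map (incl _ (constA U W c)) a = b := by
  classical
  by_cases hx : x ∈ U
  · rw [constA, if_pos hx] at hb
    obtain ⟨k, hk, rfl⟩ := hb
    obtain ⟨V, hxV, hVU, hVW⟩ : ∃ V : Opens X, x ∈ V ∧ V ≤ U ∧ ∀ j, x ∈ W j → V ≤ W j := by
      refine ⟨U ⊓ Finset.univ.inf (fun j => if x ∈ W j then W j else ⊤), ⟨hx, ?_⟩, inf_le_left, fun j hj => ?_⟩
      · have : ∀ s : Finset (Fin m), x ∈ s.inf (fun j => if x ∈ W j then W j else ⊤) := fun s => by
          induction s using Finset.induction_on with
          | empty => exact trivial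
          | insert a s _ ih =>
            rw [Finset.inf_insert]
            refine ⟨?_, ih⟩
            by_cases h : x ∈ W a
            · simp [h]
            · simp [h]
        exact this _
      · refine inf_le_right.trans ((Finset.inf_le (Finset.mem_univ j)).trans ?_)
        rw [if_pos hj]
    obtain ⟨a, ha⟩ := exists_incl (Z (⊤ : Opens X)) (constA U W c)
      ((Z (⊤ : Opens X)).obj.map (homOfLE (le_top : V ≤ ⊤)).op
        (k • CohFree.gen (Opens.grothendieckTopology X) (⊤ : Opens X))) (fun z hz => by
      rw [gm_res, map_zsmul, constA, if_pos (hVU hz)]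
      exact ⟨k, hc (fun j hj => hVW j hj hz) hk, rfl⟩) x hxV
    refine ⟨a, ha.trans ?_⟩
    rw [gm_res, map_zsmul]
    rfl
  · rw [constA, if_neg hx] at hb
    exact ⟨0, (map_zero _).trans (AddSubgroup.mem_bot.1 hb).symm⟩

variable (h : ∀ U : Opens X, IsCompact (U : Set X) → Van d (Z U))
include h

theorem van_constA : ∀ (m : ℕ) (U : Opens X), IsCompact (U : Set X) → ∀ (W : Fin m → Opens X),
    (∀ j, IsCompact (W j : Set X)) → ∀ (c : Set (Fin m) → AddSubgroup ℤ), Monotone c →
      Van d (subSh (Z (⊤ : Opens X)) (constA U W c))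
  | 0, U, hU, W, _, c, hc => by
    classical
    obtain ⟨k, hk⟩ := Int.subgroup_cyclic (c ∅)
    have hA : ∀ x, x ∈ U → constA U W c x = AddSubgroup.zmultiples (k • g0 x) := fun x hx => by
      rw [constA, if_pos hx, show {j : Fin 0 | x ∈ W j} = ∅ from Set.eq_empty_of_isEmpty _, hk,
        AddMonoidHom.map_closure, Set.image_singleton, AddSubgroup.zmultiples_eq_closure]
      rfl
    by_cases hk0 : k = 0
    · refine van_of_isZero (isZero_of_stalks fun x a => injective_of_mono (incl _ (constA U W c)) x ?_)
      rw [map_zero]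
      have ha := incl_mem _ (constA U W c) x a
      by_cases hx : x ∈ U
      · rw [hA x hx, hk0, zero_zsmul, AddSubgroup.zmultiples_zero_eq_bot] at ha
        exact AddSubgroup.mem_bot.1 ha
      · rw [constA, if_neg hx] at ha
        exact AddSubgroup.mem_bot.1 ha
    let σ : (Z (⊤ : Opens X)).obj.obj (op U) := (Z (⊤ : Opens X)).obj.map (homOfLE (le_top : U ≤ ⊤)).op
      (k • CohFree.gen (Opens.grothendieckTopology X) (⊤ : Opens X))
    let φ := CohFree.ofSect (Opens.grothendieckTopology X) U (Z (⊤ : Opens X)) σ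
    have hφ : ∀ x (hx : x ∈ U) (n : ℤ), (sfib x).map φ (n • freeGerm U x hx) = (n * k) • g0 x := fun x hx n => by
      rw [map_zsmul, gm_map, show φ.hom.app (op U) (CohFree.gen (Opens.grothendieckTopology X) U) = σ from
        CohFree.evalGen_ofSect _ U _ σ]
      simp only [σ]
      rw [gm_res, map_zsmul, smul_smul]
    have hmem : ∀ x a, (sfib x).map φ a ∈ constA U W c x := fun x a => by
      by_cases hx : x ∈ U
      · obtain ⟨n, rfl⟩ := (exists_zsmul_freeGerm U x a).1 hx
        rw [hA x hx, hφ, mul_smul]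
        exact ⟨n, rfl⟩
      · rw [(exists_zsmul_freeGerm U x a).2 hx, map_zero]
        exact zero_mem _
    haveI : Mono φ := mono_of_injective φ fun x => (injective_iff_map_eq_zero _).2 fun a ha => by
      by_cases hx : x ∈ U
      · obtain ⟨n, rfl⟩ := (exists_zsmul_freeGerm U x a).1 hx
        rw [hφ] at ha
        rw [(mul_eq_zero.1 (zsmul_freeGerm_eq_zero ⊤ x trivial ha)).resolve_right hk0, zero_zsmul]
      · exact (exists_zsmul_freeGerm U x a).2 hx
    haveI : Epi (lift φ hmem) := epi_lift φ hmem fun x b hb => by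
      by_cases hx : x ∈ U
      · rw [hA x hx] at hb
        obtain ⟨n, rfl⟩ := AddSubgroup.mem_zmultiples_iff.1 hb
        exact ⟨n • freeGerm U x hx, (hφ x hx n).trans (mul_smul _ _ _)⟩
      · rw [constA, if_neg hx] at hb
        exact ⟨0, (map_zero _).trans (AddSubgroup.mem_bot.1 hb).symm⟩
    haveI := isIso_of_mono_of_epi (lift φ hmem)
    exact van_of_iso (asIso (lift φ hmem)) (h U hU)
  | m + 1, U, hU, W, hW, c, hc => by
    classical
    let V := fun j : Fin m => W j.castSucc
    have hV : ∀ j, IsCompact (V j : Set X) := fun j => hW j.castSucc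
    let U' := U ⊓ W (Fin.last m)
    have hU' : IsCompact (U' : Set X) :=
      QuasiSeparatedSpace.inter_isCompact _ _ U.2 hU (W (Fin.last m)).2 (hW _)
    let c' : Set (Fin m) → AddSubgroup ℤ := fun S => c (Fin.castSucc '' S)
    let c'' : Set (Fin m) → AddSubgroup ℤ := fun S => c (insert (Fin.last m) (Fin.castSucc '' S))
    have hc' : Monotone c' := fun S T hST => hc (Set.image_mono hST)
    have hc'' : Monotone c'' := fun S T hST => hc (Set.insert_subset_insert (Set.image_mono hST))
    let A := constA U W c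
    let A' := constA U V c'
    let B := constA U' V c''
    let B' := constA U' V c'
    have hset : ∀ x, x ∈ W (Fin.last m) → {j | x ∈ W j} = insert (Fin.last m) (Fin.castSucc '' {j | x ∈ V j}) :=
      fun x hx => by
        ext j
        refine Fin.lastCases ?_ (fun i => ?_) j
        · simp [hx]
        · simp [V, (Fin.castSucc_lt_last i).ne]
    have hset' : ∀ x, x ∉ W (Fin.last m) → {j | x ∈ W j} = Fin.castSucc '' {j | x ∈ V j} :=
      fun x hx => by
        ext j
        refine Fin.lastCases ?_ (fun i => ?_) j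
        · simp [hx]
        · simp [V]
    have hA'A : ∀ x, A' x ≤ A x := fun x => by
      by_cases hxU : x ∈ U
      · simp only [A, A', constA, if_pos hxU]
        refine AddSubgroup.map_mono (hc ?_)
        rintro _ ⟨j, hj, rfl⟩
        exact hj
      · simp [A', constA, hxU]
    have hBA : ∀ x, B x ≤ A x := fun x => by
      by_cases hx : x ∈ U'
      · simp only [A, B, constA, if_pos hx, if_pos (show x ∈ U from hx.1), c'', hset x hx.2]
        exact le_rfl
      · simp [B, constA, hx]
    have hAU : ∀ x, x ∈ U' → A x = B x := fun x hx => by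
      simp only [A, B, constA, if_pos hx, if_pos (show x ∈ U from hx.1), c'', hset x hx.2]
    have hAU' : ∀ x, x ∉ U' → A x = A' x := fun x hx => by
      by_cases hxU : x ∈ U
      · simp only [A, A', constA, if_pos hxU, c', hset' x fun h' => hx ⟨hxU, h'⟩]
      · simp [A, A', constA, hxU]
    have hB'A' : ∀ x, B' x ≤ A' x := fun x => by
      by_cases hx : x ∈ U'
      · simp only [B', A', constA, if_pos hx, if_pos (show x ∈ U from hx.1)]
        exact le_rfl
      · simp [B', constA, hx]
    have hB'B : ∀ x, B' x ≤ B x := fun x => by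
      by_cases hx : x ∈ U'
      · simp only [B', B, constA, if_pos hx]
        exact AddSubgroup.map_mono (hc (Set.subset_insert _ _))
      · simp [B', constA, hx]
    have hinf : ∀ x a, a ∈ A' x → a ∈ B x → a ∈ B' x := fun x a ha hb => by
      by_cases hx : x ∈ U'
      · simp only [B', A', constA, if_pos hx, if_pos (show x ∈ U from hx.1)] at ha ⊢
        exact ha
      · simp only [B', B, constA, if_neg hx] at hb ⊢
        exact hb
    let S : ShortComplex (CohTop.Ab X) :=
      ShortComplex.mk (biprod.lift (subMap hB'A') (-subMap hB'B)) (biprod.desc (subMap hA'A) (subMap hBA)) (by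
        rw [biprod.lift_desc, ← cancel_mono (incl _ A), Preadditive.add_comp, Category.assoc, Category.assoc,
          subMap_incl, subMap_incl, Preadditive.neg_comp, subMap_incl, subMap_incl, add_neg_cancel, zero_comp])
    haveI : Mono (subMap hB'A') := mono_of_mono_fac (subMap_incl hB'A')
    haveI : Mono S.f := mono_of_mono_fac (biprod.lift_fst (subMap hB'A') (-subMap hB'B))
    haveI : Epi S.g := epi_of_surjective _ fun x b => by
      have hb := incl_mem _ A x b
      by_cases hx : x ∈ U'
      · rw [hAU x hx] at hb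
        obtain ⟨a, ha⟩ := exists_constA U' V c'' hc'' x _ hb
        refine ⟨(sfib x).map biprod.inr a, injective_of_mono (incl _ A) x ?_⟩
        simp only [S, ← ConcreteCategory.comp_apply, ← Functor.map_comp, biprod.inr_desc, subMap_incl]
        exact ha
      · rw [hAU' x hx] at hb
        obtain ⟨a, ha⟩ := exists_constA U V c' hc' x _ hb
        refine ⟨(sfib x).map biprod.inl a, injective_of_mono (incl _ A) x ?_⟩
        simp only [S, ← ConcreteCategory.comp_apply, ← Functor.map_comp, biprod.inl_desc, subMap_incl]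
        exact ha
    have hex : S.Exact := by
      refine ShortComplex.exact_of_f_is_kernel _ (KernelFork.IsLimit.ofι' _ _ fun {T} z hz => ?_)
      let α := z ≫ biprod.fst ≫ incl _ A'
      have hα : α = -(z ≫ biprod.snd ≫ incl _ B) := by
        have := congrArg (· ≫ incl _ A) hz
        simp only [S, zero_comp, Category.assoc, biprod.desc_eq, Preadditive.add_comp, subMap_incl,
          Preadditive.comp_add] at this
        exact eq_neg_of_add_eq_zero_left this
      have hαm : ∀ x a, (sfib x).map α a ∈ B' x := fun x a => by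
        refine hinf x _ ?_ ?_
        · simp only [α, Functor.map_comp, ConcreteCategory.comp_apply]
          exact incl_mem _ A' x _
        · rw [hα, ← Preadditive.neg_comp, Functor.map_comp, ConcreteCategory.comp_apply, Functor.map_comp,
            ConcreteCategory.comp_apply]
          exact incl_mem _ B x _
      refine ⟨lift α hαm, biprod.hom_ext _ _ ?_ ?_⟩
      · rw [← cancel_mono (incl _ A')]
        simp only [S, Category.assoc, biprod.lift_fst_assoc, subMap_incl, lift_incl]
        rfl
      · rw [← cancel_mono (incl _ B)]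
        simp only [S, Category.assoc, biprod.lift_snd_assoc, Preadditive.neg_comp, Preadditive.comp_neg,
          subMap_incl, lift_incl, hα, neg_neg]
    exact van_right (S := S) (ShortComplex.ShortExact.mk' hex inferInstance inferInstance)
      (van_constA m U' hU' V hV c' hc')
      (van_biprod (van_constA m U hU V hV c' hc') (van_constA m U' hU' V hV c'' hc''))

/-- Sections of the free sheaf over quasi-compact opens are piecewise multiples of the generator. -/
lemma exists_pieces (V : Opens X) (hV : IsCompact (V : Set X)) (s : (Z (⊤ : Opens X)).obj.obj (op V)) :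
    ∃ P : Finset (Opens X × ℤ), (∀ w ∈ P, IsCompact (w.1 : Set X) ∧
        ∀ x ∈ w.1, ∃ hx : x ∈ V, gm _ x V hx s = w.2 • g0 x) ∧
      ∀ x ∈ V, ∃ w ∈ P, x ∈ w.1 := by
  classical
  have hloc : ∀ x : (V : Set X), ∃ w : Opens X × ℤ, IsCompact (w.1 : Set X) ∧ x.1 ∈ w.1 ∧
      ∀ z ∈ w.1, ∃ hz : z ∈ V, gm _ z V hz s = w.2 • g0 z := fun x => by
    obtain ⟨n, hn⟩ := (exists_zsmul_freeGerm (⊤ : Opens X) x.1 (gm _ x.1 V x.2 s)).1 trivial
    let t := (Z (⊤ : Opens X)).obj.map (homOfLE (le_top : V ≤ ⊤)).op
      (n • CohFree.gen (Opens.grothendieckTopology X) (⊤ : Opens X))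
    have e : gm _ x.1 V x.2 t = gm _ x.1 V x.2 s := by
      simp only [t]
      rw [gm_res, map_zsmul]
      exact hn
    obtain ⟨N, hN, hxN, e'⟩ := gm_eq _ _ _ _ _ e
    obtain ⟨N', ⟨hNo, hNc⟩, hxN', hN'⟩ := PrespectralSpace.isTopologicalBasis.exists_subset_of_mem_open
      (show x.1 ∈ (N : Set X) from hxN) N.2
    refine ⟨(⟨N', hNo⟩, n), hNc, hxN', fun z hz => ⟨hN (hN' hz), ?_⟩⟩
    have e'' := congrArg (gm _ z N (hN' hz)) e'
    refine (gm_res _ z hN (hN' hz) s).symm.trans (e''.symm.trans ?_)
    simp only [t]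
    rw [gm_res, gm_res, map_zsmul]
  choose w hwc hxw hw using hloc
  obtain ⟨t, ht⟩ := hV.elim_finite_subcover (fun x => ((w x).1 : Set X)) (fun x => (w x).1.2)
    fun x hx => Set.mem_iUnion.2 ⟨⟨x, hx⟩, hxw _⟩
  refine ⟨t.image w, fun v hv => ?_, fun x hx => ?_⟩
  · obtain ⟨y, -, rfl⟩ := Finset.mem_image.1 hv
    exact ⟨hwc y, hw y⟩
  · obtain ⟨y, hy, hxy⟩ := Set.mem_iUnion₂.1 (ht hx)
    exact ⟨w y, Finset.mem_image_of_mem w hy, hxy⟩

theorem van_fg_top (S : Finset (QSec (Z (⊤ : Opens X)))) : Van d (subSh (Z (⊤ : Opens X)) (genA S)) := by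
  classical
  choose P hP hcov using fun s : QSec (Z (⊤ : Opens X)) => exists_pieces h s.1.1 s.1.2 s.2
  let Q := S.biUnion P
  let w : Fin Q.card → Opens X × ℤ := fun j => (Q.equivFin.symm j).1
  have hw : ∀ j, ∃ s ∈ S, w j ∈ P s := fun j => Finset.mem_biUnion.1 (Q.equivFin.symm j).2
  let W := fun j => (w j).1
  let c : Set (Fin Q.card) → AddSubgroup ℤ := fun T => AddSubgroup.closure ((fun j => (w j).2) '' T)
  have hc : Monotone c := fun T T' hT => AddSubgroup.closure_mono (Set.image_mono hT)
  have hWc : ∀ j, IsCompact (W j : Set X) := fun j => by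
    obtain ⟨s, -, hj⟩ := hw j
    exact (hP s _ hj).1
  have hA : genA S = constA ⊤ W c := funext fun x => by
    rw [constA, if_pos (show x ∈ (⊤ : Opens X) from trivial)]
    refine le_antisymm ((AddSubgroup.closure_le _).2 ?_) ?_
    · rintro _ ⟨s, hs, hx, rfl⟩
      obtain ⟨v, hv, hxv⟩ := hcov s x hx
      obtain ⟨_, e⟩ := (hP s v hv).2 x hxv
      have hvQ : v ∈ Q := Finset.mem_biUnion.2 ⟨s, hs, hv⟩
      have hj : w (Q.equivFin ⟨v, hvQ⟩) = v := by simp [w]
      exact ⟨v.2, AddSubgroup.subset_closure ⟨Q.equivFin ⟨v, hvQ⟩, show x ∈ (w _).1 from (congrArg Prod.fst hj).symm ▸ hxv,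
        congrArg Prod.snd hj⟩, e.symm⟩
    · rw [AddMonoidHom.map_closure, AddSubgroup.closure_le]
      rintro _ ⟨_, ⟨j, hj, rfl⟩, rfl⟩
      obtain ⟨s, hs, hjs⟩ := hw j
      obtain ⟨hx, e⟩ := (hP s _ hjs).2 x hj
      exact AddSubgroup.subset_closure ⟨s, hs, hx, e.symm⟩
  rw [hA]
  exact van_constA h _ ⊤ isCompact_univ W hWc c hc

/-- Subsheaves of the free sheaf on the whole space. -/
theorem van_of_mono {L : CohTop.Ab X} (ι : L ⟶ Z (⊤ : Opens X)) [Mono ι] : Van d L := by
  classical
  refine van_of_finite L fun S => ?_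
  let S' : Finset (QSec (Z (⊤ : Opens X))) := S.image fun s => ⟨s.1, ι.hom.app (op s.1.1) s.2⟩
  have hgen : ∀ x, genA S' x = (genA S x).map ((sfib x).map ι).hom := fun x => by
    rw [genA, genA, AddMonoidHom.map_closure]
    congr 1
    ext b
    constructor
    · rintro ⟨_, hs, hx, rfl⟩
      obtain ⟨s, hs', rfl⟩ := Finset.mem_image.1 hs
      exact ⟨_, ⟨s, hs', hx, rfl⟩, gm_map ι x s.1.1 hx s.2⟩
    · rintro ⟨_, ⟨s, hs, hx, rfl⟩, rfl⟩
      exact ⟨_, Finset.mem_image_of_mem _ hs, hx, gm_map ι x s.1.1 hx s.2⟩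
  have hmem : ∀ x a, (sfib x).map (incl L (genA S) ≫ ι) a ∈ genA S' x := fun x a => by
    rw [hgen, Functor.map_comp, ConcreteCategory.comp_apply]
    exact ⟨_, incl_mem L (genA S) x a, rfl⟩
  haveI : Epi (lift (incl L (genA S) ≫ ι) hmem) := epi_lift _ hmem fun x b hb => by
    rw [hgen] at hb
    obtain ⟨b', hb', rfl⟩ := hb
    obtain ⟨a, rfl⟩ := exists_genA S x b' hb'
    exact ⟨a, by rw [Functor.map_comp]; rfl⟩
  haveI := isIso_of_mono_of_epi (lift (incl L (genA S) ≫ ι) hmem)
  exact van_of_iso (asIso (lift (incl L (genA S) ≫ ι) hmem)).symm (van_fg_top h S')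

/-- Vanishing for all sheaves. -/
theorem van_all (F : CohTop.Ab X) : Van d F := by
  classical
  refine van_of_finite F fun S => ?_
  induction S using Finset.induction_on with
  | empty =>
    refine van_of_isZero (isZero_of_stalks fun x a => injective_of_mono (incl F (genA ∅)) x ?_)
    rw [map_zero]
    have ha := incl_mem F (genA ∅) x a
    rw [genA, show germsOf (∅ : Finset (QSec F)) x = ∅ from
      Set.eq_empty_iff_forall_notMem.2 fun _ ⟨s, hs, _⟩ => Finset.notMem_empty s hs,
      AddSubgroup.closure_empty] at ha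
    exact AddSubgroup.mem_bot.1 ha
  | insert t S _ ih =>
    let i := subMap (genA_mono (Finset.subset_insert t S))
    haveI : Mono i := mono_of_mono_fac (subMap_incl _)
    let σ : (subSh F (genA (insert t S))).obj.obj (op t.1.1) :=
      ⟨t.2, fun z hz => AddSubgroup.subset_closure ⟨t, Finset.mem_insert_self t S, hz, rfl⟩⟩
    let o := CohFree.ofSect (Opens.grothendieckTopology X) t.1.1 (subSh F (genA (insert t S))) σ
    haveI : Epi (biprod.desc i o) := epi_of_surjective _ fun x b => by
      let φ := (sfib x).map (biprod.desc i o) ≫ (sfib x).map (incl F (genA (insert t S)))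
      have hle : genA (insert t S) x ≤ AddMonoidHom.range φ.hom := by
        rw [genA, AddSubgroup.closure_le]
        rintro _ ⟨s, hs, hx, rfl⟩
        rcases Finset.mem_insert.1 hs with rfl | hs
        · refine ⟨(sfib x).map biprod.inr (freeGerm s.1.1 x hx), ?_⟩
          change (sfib x).map (incl F _) ((sfib x).map (biprod.desc i o) ((sfib x).map biprod.inr _)) = _
          rw [← ConcreteCategory.comp_apply ((sfib x).map biprod.inr), ← Functor.map_comp, biprod.inr_desc,
            gm_map, gm_map]
          exact congrArg _ (congrArg Subtype.val (CohFree.evalGen_ofSect (Opens.grothendieckTopology X)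
            s.1.1 (subSh F (genA (insert s S))) σ))
        · obtain ⟨a, ha⟩ := exists_genA S x (gm F x s.1.1 hx s.2) (AddSubgroup.subset_closure ⟨s, hs, hx, rfl⟩)
          refine ⟨(sfib x).map biprod.inl a, ?_⟩
          change (sfib x).map (incl F _) ((sfib x).map (biprod.desc i o) ((sfib x).map biprod.inl _)) = _
          rw [← ConcreteCategory.comp_apply ((sfib x).map biprod.inl), ← Functor.map_comp, biprod.inl_desc,
            ← ConcreteCategory.comp_apply, ← Functor.map_comp, subMap_incl]
          exact ha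
      obtain ⟨a, ha⟩ := hle (incl_mem F _ x b)
      exact ⟨a, injective_of_mono (incl F (genA (insert t S))) x ha⟩
    let ψ := o ≫ cokernel.π i
    haveI : Epi ψ := by
      have e : biprod.desc i o ≫ cokernel.π i = biprod.snd ≫ ψ := by
        refine biprod.hom_ext' _ _ ?_ ?_
        · rw [biprod.inl_desc_assoc, biprod.inl_snd_assoc, zero_comp, cokernel.condition]
        · rw [biprod.inr_desc_assoc, biprod.inr_snd_assoc]
      let snd' : subSh F (genA S) ⊞ Z t.1.1 ⟶ Z t.1.1 := biprod.snd
      haveI : Epi (snd' ≫ ψ) := e ▸ epi_comp _ _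
      exact epi_of_epi snd' ψ
    let ι' := kernel.ι ψ ≫ CohCx.freeSheafMap (Opens.grothendieckTopology X) (homOfLE (le_top : t.1.1 ≤ ⊤))
    haveI : Mono (CohCx.freeSheafMap (Opens.grothendieckTopology X) (homOfLE (le_top : t.1.1 ≤ ⊤))) := by
      haveI : Mono (homOfLE (le_top : t.1.1 ≤ ⊤)) := ⟨fun _ _ _ => Subsingleton.elim _ _⟩
      exact mono_freeSheafMap _ _
    have hQ : Van d (cokernel i) :=
      van_right (S := ShortComplex.mk (kernel.ι ψ) ψ (kernel.condition ψ))
        (ShortComplex.ShortExact.mk' (ShortComplex.exact_of_f_is_kernel _ (kernelIsKernel ψ))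
          inferInstance inferInstance) (van_of_mono h ι') (h t.1.1 t.1.2)
    exact van_middle (S := ShortComplex.mk i (cokernel.π i) (cokernel.condition i))
      (ShortComplex.ShortExact.mk' (ShortComplex.exact_cokernel _) inferInstance inferInstance) ih hQ

end Groth.SiteCohomology.VanishingGenerators
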