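import Groth.Prelude.Def_CohSite
import Groth.Agent.SiteCohomology.Free
import Mathlib.CategoryTheory.Preadditive.LeftExact
import Mathlib.Algebra.Homology.ShortComplex.ExactFunctor

/-!
# Weakly contractible objects
-/

universe u

open CategoryTheory Limits Opposite

set_option synthInstance.maxHeartbeats 400000

namespace Groth.SiteCohomology

open Abelian

variable {C : Type u} [SmallCategory C] {J : GrothendieckTopology C} {U : C}

lemma surjective_of_isWeaklyContractible (hU : CohSite.IsWeaklyContractible J U)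
    {F G : Sheaf J AddCommGrpCat.{u}} (φ : F ⟶ G) [Epi φ] :
    Function.Surjective (φ.hom.app (op U)) := by
  have hφ : Sheaf.IsLocallySurjective φ :=
    (Sheaf.isLocallySurjective_iff_epi' AddCommGrpCat.{u} φ).2 inferInstance
  have h : Sheaf.IsLocallySurjective ((sheafCompose J (forget AddCommGrpCat.{u})).map φ) :=
    (Presheaf.isLocallySurjective_iff_whisker_forget J φ.hom).1 hφ
  exact hU _ _ _ ((Sheaf.isLocallySurjective_iff_epi _).1 h)

lemma preservesFiniteColimits_sections (hU : CohSite.IsWeaklyContractible J U) :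
    PreservesFiniteColimits
      (sheafToPresheaf J AddCommGrpCat.{u} ⋙ (evaluation Cᵒᵖ AddCommGrpCat.{u}).obj (op U)) := by
  let G := sheafToPresheaf J AddCommGrpCat.{u} ⋙ (evaluation Cᵒᵖ AddCommGrpCat.{u}).obj (op U)
  have : G.PreservesEpimorphisms := ⟨fun φ _ =>
    (AddCommGrpCat.epi_iff_surjective _).2 (surjective_of_isWeaklyContractible hU φ)⟩
  have := G.preservesHomology_of_preservesEpis_and_kernels
  exact G.preservesFiniteColimits_of_preservesHomology

lemma subsingleton_HU_of_isWeaklyContractible (hU : CohSite.IsWeaklyContractible J U)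
    (F : Sheaf J AddCommGrpCat.{u}) (p : ℕ) : Subsingleton (CohSite.HU F (p + 1) U) :=
  subsingleton_ext_succ_of_class (CohCx.freeSheaf J U) (fun _ => True)
    (fun _ S hS _ _ _ =>
      have := hS.epi_g
      (surjective_sections_iff_lift S.g).1 (surjective_of_isWeaklyContractible hU S.g))
    (fun _ _ _ _ _ _ => trivial) p F trivial

/-- Sheafification kills a presheaf vanishing on a prebasis. -/
lemma isZero_presheafToSheaf_of_prebasis (B : ObjectProperty C)
    (hB : ∀ (V : C) (S : Sieve V), S ∈ J V →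
      Sieve.generate (fun (U : C) => {g : U ⟶ V | S.arrows g ∧ B U}) ∈ J V)
    (F : Cᵒᵖ ⥤ AddCommGrpCat.{u}) (hF : ∀ U : C, B U → IsZero (F.obj (op U))) :
    IsZero ((presheafToSheaf J AddCommGrpCat.{u}).obj F) := by
  have hcov : ∀ V : C, Sieve.generate (fun (U : C) => {g : U ⟶ V | B U}) ∈ J V := fun V =>
    J.superset_covering (Sieve.generate_mono fun W g hg => hg.2) (hB V ⊤ (J.top_mem V))
  let Z : Cᵒᵖ ⥤ AddCommGrpCat.{u} := (Functor.const _).obj (AddCommGrpCat.of PUnit.{u + 1})
  have hZ : IsZero Z := Functor.isZero _ fun c =>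
    haveI : Subsingleton (Z.obj c) := inferInstanceAs (Subsingleton PUnit.{u + 1})
    AddCommGrpCat.isZero_of_subsingleton _
  have : Presheaf.IsLocallyInjective J (0 : F ⟶ Z) :=
    ⟨fun {X} x y _ => J.superset_covering (Sieve.generate_le_iff _ _ |>.2 fun W g hg =>
      haveI := AddCommGrpCat.subsingleton_of_isZero (hF W hg)
      Subsingleton.elim _ _) (hcov X.unop)⟩
  have : Presheaf.IsLocallySurjective J (0 : F ⟶ Z) :=
    ⟨fun {U} s => J.superset_covering (fun W g _ => ⟨0, Subsingleton.elim (α := PUnit.{u + 1}) _ _⟩)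
      (J.top_mem U)⟩
  have h := J.W_of_isLocallyBijective (0 : F ⟶ Z)
  rw [GrothendieckTopology.W_iff] at h
  exact IsZero.of_iso (Functor.map_isZero _ hZ) (@asIso _ _ _ _ _ h)

end Groth.SiteCohomology
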