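import Groth.Agent.DerivedCoh.KInj.Resolution
import Mathlib.Algebra.Homology.Single

/-! Functorial injective embeddings in a Grothendieck abelian category. -/

set_option autoImplicit false

universe v u

open CategoryTheory

namespace Groth.SiteCohomology.FunctorialEmbedding

theorem exists_functorial_injective_embedding {A : Type u} [Category.{v} A] [Abelian A]
    [IsGrothendieckAbelian.{v} A] :
    ∃ (J : A ⥤ A) (j : 𝟭 _ ⟶ J), ∀ F : A, Injective (J.obj F) ∧ Mono (j.app F) := by
  obtain ⟨N, j, h⟩ := Groth.DerivedCoh.KInjRes.exists_functorial (A := A)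
  let S := HomologicalComplex.single A (ComplexShape.up ℤ) 0
  let E := HomologicalComplex.eval A (ComplexShape.up ℤ) 0
  let e : 𝟭 A ≅ S ⋙ E := NatIso.ofComponents (fun X => (HomologicalComplex.singleObjXSelf (ComplexShape.up ℤ) 0 X).symm)
    fun {X Y} f => by
      simp [S, E, HomologicalComplex.single_map_f_self]
      exact (Iso.inv_hom_id_assoc _ _).symm
  refine ⟨S ⋙ N ⋙ E, e.hom ≫ Functor.whiskerRight (Functor.whiskerLeft S j) E, fun F => ⟨(h _).2.2.2 0, ?_⟩⟩
  have this := h (S.obj F)
  have hE : E.PreservesMonomorphisms := inferInstance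
  have : Mono ((j.app (S.obj F)).f 0) := @Functor.map_mono _ _ _ _ E _ _ _ (j.app (S.obj F)) this.1
  change Mono (e.hom.app F ≫ (j.app (S.obj F)).f 0)
  exact @mono_comp _ _ _ _ _ _ inferInstance _ this

end Groth.SiteCohomology.FunctorialEmbedding
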