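import Groth.Agent.Calg8.RightResolution
import Mathlib.Algebra.Homology.CochainComplexOpposite
import Mathlib.Algebra.Homology.QuasiIso
import Mathlib.Algebra.Homology.Embedding.TruncLE

/-!
# Left resolutions in a class of objects, dual to `Groth.Calg8.RightRes`
-/

set_option autoImplicit false
set_option backward.isDefEq.respectTransparency false
set_option backward.defeqAttrib.useBackward true

universe v u

open CategoryTheory Limits Opposite HomologicalComplex

namespace Groth.SiteCohomology.LeftResClass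

variable {A : Type u} [Category.{v} A] [Abelian A]

theorem quasiIso_op_iff {K L : CochainComplex A ℤ} (f : K ⟶ L) :
    QuasiIso ((CochainComplex.opEquivalence A).functor.map f.op) ↔ QuasiIso f := by
  simp only [quasiIso_iff]
  have key : ∀ m : ℤ, QuasiIsoAt ((CochainComplex.opEquivalence A).functor.map f.op) m ↔ QuasiIsoAt f (-m) := fun m => by
    rw [quasiIsoAt_iff' _ (m - 1) m (m + 1) (by simp) (by simp),
      quasiIsoAt_iff' f (-(m + 1)) (-m) (-(m - 1)) (by simp; omega) (by simp; omega),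
      ← ShortComplex.quasiIso_opMap_iff
        ((shortComplexFunctor' A (ComplexShape.up ℤ) (-(m + 1)) (-m) (-(m - 1))).map f)]
    rfl
  refine ⟨fun h n => ?_, fun h m => (key m).2 (h _)⟩
  obtain ⟨m, rfl⟩ : ∃ m, n = -m := ⟨-n, by omega⟩
  exact (key m).1 (h m)

theorem exists_left_resolution (P : A → Prop) (hP0 : ∃ Z : A, IsZero Z ∧ P Z)
    (hP : ∀ X : A, ∃ (Y : A) (π : Y ⟶ X), P Y ∧ Epi π) (K : CochainComplex A ℤ) (a : ℤ)
    [K.IsStrictlyLE a] :
    ∃ (Q : CochainComplex A ℤ) (α : Q ⟶ K), Q.IsStrictlyLE a ∧ (∀ n, P (Q.X n)) ∧ (∀ n, Epi (α.f n)) ∧ QuasiIso α := by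
  let E := CochainComplex.opEquivalence A
  let K' := E.functor.obj (op K)
  have hK' : CochainComplex.IsStrictlyGE K' (-a) := by
    rw [CochainComplex.isStrictlyGE_iff]
    exact fun i hi => (K.isZero_of_isStrictlyLE a (-i) (by omega)).op
  have hI : ∀ X : Aᵒᵖ, ∃ (Y : Aᵒᵖ) (ι : X ⟶ Y), P Y.unop ∧ Mono ι := fun X => by
    obtain ⟨Y, π, hY, hπ⟩ := hP X.unop
    exact ⟨op Y, π.op, hY, inferInstance⟩
  have hI0 : ∃ Z : Aᵒᵖ, IsZero Z ∧ P Z.unop := hP0.elim fun Z hZ => ⟨op Z, hZ.1.op, hZ.2⟩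
  obtain ⟨L, α, hL, hLP, hmono, hq⟩ := Groth.Calg8.RightRes.exists_resolution hI hI0 K' (-a)
  let γ : E.functor.obj (op K) ⟶ E.functor.obj (E.inverse.obj L) :=
    K'.πTruncGE (-a) ≫ α ≫ (E.counitIso.app L).inv
  obtain ⟨δ, hδ⟩ := E.functor.map_surjective γ
  refine ⟨(E.inverse.obj L).unop, δ.unop, ?_, fun n => hLP _, fun n => ?_, (quasiIso_op_iff δ.unop).1 ?_⟩
  · rw [CochainComplex.isStrictlyLE_iff]
    exact fun i hi => (L.isZero_of_isStrictlyGE (-a) (-i) (by omega)).unop
  · obtain ⟨m, rfl⟩ : ∃ m, n = -m := ⟨-n, by omega⟩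
    have h1 : Mono (γ.f m) := by
      have := hmono m
      have : IsIso ((K'.πTruncGE (-a)).f m) :=
        inferInstanceAs (IsIso ((HomologicalComplex.eval Aᵒᵖ _ m).map (K'.πTruncGE (-a))))
      have : IsIso ((E.counitIso.app L).inv.f m) :=
        inferInstanceAs (IsIso ((HomologicalComplex.eval Aᵒᵖ _ m).map (E.counitIso.app L).inv))
      rw [HomologicalComplex.comp_f, HomologicalComplex.comp_f]
      infer_instance
    rw [← hδ] at h1
    have h2 : Mono (δ.unop.f (-m)).op := h1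
    exact (op_mono_iff _).1 h2
  · change QuasiIso (E.functor.map δ)
    rw [hδ]
    infer_instance

end Groth.SiteCohomology.LeftResClass
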