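import Groth.Agent.SiteCohomology.PushTotallyAcyclic
import Groth.Agent.SiteCohomology.ExtBasic
import Groth.Agent.SiteCohomology.Free
import Mathlib.CategoryTheory.Abelian.CommSq
import Mathlib.CategoryTheory.Sites.Limits

/-!
# Restriction along monomorphisms of sheaves of sets for totally acyclic sheaves
-/

universe u

open CategoryTheory Limits Opposite Abelian

set_option maxHeartbeats 1000000
set_option synthInstance.maxHeartbeats 400000

namespace Groth.SiteCohomology

lemma biprod_adjust {A : Type*} [Category A] [Abelian A] {P Q R F : A} (a : P ⟶ Q) (b : P ⟶ R)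
    (c : Q ⟶ R) (e : a ≫ c = b) (g : Q ⊞ R ⟶ F) :
    a ≫ (biprod.inl ≫ g - c ≫ biprod.inr ≫ g) = biprod.lift a (-b) ≫ g := by
  subst e
  rw [biprod.lift_eq]
  simp [sub_eq_add_neg]

variable {C : Type u} [SmallCategory C] {J : GrothendieckTopology C}

/-- Maps out of the free sheaf on a subsheaf of sets into a totally acyclic sheaf extend. -/
theorem exists_extension_of_totallyAcyclic (F : Sheaf J AddCommGrpCat.{u})
    (hF : CohCx.IsTotallyAcyclic F) {Y X : Sheaf J (Type u)} (ι : Y ⟶ X) [Mono ι]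
    (φ : (freeT J).obj Y ⟶ F) : ∃ ψ, (freeT J).map ι ≫ ψ = φ := by
  let L : Sheaf J (Type u) ⥤ Sheaf J AddCommGrpCat.{u} := freeT J
  haveI : PreservesColimitsOfSize.{0, 0} L :=
    (freeTAdj J).leftAdjoint_preservesColimits
  let h := (IsPushout.of_hasPushout ι (terminal.from Y)).map L
  haveI : Mono ι.hom := inferInstanceAs (Mono ((sheafToPresheaf J (Type u)).map ι))
  haveI : Mono (L.map ι) := mono_freeSh_map J ι.hom
  haveI : Mono h.shortComplex.f := by
    haveI : Mono (biprod.lift (L.map ι) (-(L.map (terminal.from Y))) ≫ biprod.fst) := by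
      rw [biprod.lift_fst]; infer_instance
    exact mono_of_mono (biprod.lift (L.map ι) (-(L.map (terminal.from Y)))) biprod.fst
  have hS : h.shortComplex.ShortExact :=
    ShortComplex.ShortExact.mk' h.exact_shortComplex inferInstance h.epi_shortComplex_g
  haveI : Subsingleton (Ext h.shortComplex.X₃ F 1) := hF _ 0
  obtain ⟨x, hx⟩ := Ext.contravariant_sequence_exact₁ hS F (Ext.mk₀ φ) (add_zero 1)
    (Subsingleton.elim _ _)
  obtain ⟨g, rfl⟩ := (Ext.mk₀_bijective _ _).2 x
  rw [Ext.mk₀_comp_mk₀] at hx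
  have hg : biprod.lift (L.map ι) (-(L.map (terminal.from Y))) ≫ g = φ :=
    (Ext.mk₀_bijective _ _).1 hx
  change L.obj X ⊞ L.obj (⊤_ Sheaf J (Type u)) ⟶ F at g
  change ∃ ψ, L.map ι ≫ ψ = φ
  exact ⟨_, (biprod_adjust (L.map ι) (L.map (terminal.from Y)) (L.map (terminal.from X))
    ((L.map_comp _ _).symm.trans (congrArg L.map (terminal.comp_from ι))) g).trans hg⟩

end Groth.SiteCohomology
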