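import Mathlib.CategoryTheory.Sites.ConstantSheaf
import Mathlib.CategoryTheory.Sites.EpiMono
import Mathlib.CategoryTheory.Sites.SheafCohomology.Basic
import Mathlib.CategoryTheory.Sites.Abelian
import Mathlib.CategoryTheory.Abelian.Injective.Basic
import Mathlib.Algebra.Homology.DerivedCategory.Ext.ExactSequences
import Mathlib.Algebra.Homology.DerivedCategory.Ext.EnoughInjectives
import Mathlib.Algebra.Category.Grp.Zero
import Mathlib.Algebra.Homology.ShortComplex.Ab
import Mathlib.CategoryTheory.Sites.Limits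
import Mathlib.GroupTheory.QuotientGroup.Defs
import Groth.Agent.SiteCohomology.CohomologyPresheaf
import Groth.Prelude.Def_CohSite

/-!
# `H¹` of a torsion-free constant sheaf has no torsion for locally nonzero integers
-/

universe u

open CategoryTheory Limits Opposite

set_option synthInstance.maxHeartbeats 400000
set_option maxHeartbeats 1000000
set_option backward.isDefEq.respectTransparency false

namespace Groth.SiteCohomology.TorsionFreeH1

variable {C : Type u} [SmallCategory C] {J : GrothendieckTopology C}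

/-- The constant sheaf. -/
noncomputable abbrev cs (J : GrothendieckTopology C) (A : AddCommGrpCat.{u}) :
    Sheaf J AddCommGrpCat.{u} :=
  (constantSheaf J AddCommGrpCat.{u}).obj A

/-- The unit of a constant sheaf. -/
noncomputable abbrev η (J : GrothendieckTopology C) (A : AddCommGrpCat.{u}) :
    (Functor.const Cᵒᵖ).obj A ⟶ (cs J A).obj :=
  toSheafify J _

lemma map_η (A : AddCommGrpCat.{u}) {V W : C} (g : W ⟶ V) (a : A) :
    (cs J A).obj.map g.op ((η J A).app (op V) a) = (η J A).app (op W) a :=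
  (ConcreteCategory.congr_hom ((η J A).naturality g.op) a).symm

lemma bot_mem_of_η_eq_zero (A : AddCommGrpCat.{u}) {W : C} {a : A}
    (h : (η J A).app (op W) a = 0) (ha : a ≠ 0) : (⊥ : Sieve W) ∈ J W := by
  refine J.superset_covering ?_ (Presheaf.equalizerSieve_mem J (η J A)
    (X := op W) a (0 : A) (h.trans (map_zero _).symm))
  intro Y g hg
  exact (ha hg).elim

/-- Sections of a sheaf over an object with empty covering are trivial. -/
lemma eq_of_bot_mem (F : Sheaf J AddCommGrpCat.{u}) {W : C} (h : (⊥ : Sieve W) ∈ J W)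
    (x y : F.obj.obj (op W)) : x = y :=
  (((isSheaf_iff_isSheaf_of_type _ _).1 ((Presheaf.isSheaf_iff_isSheaf_forget J F.obj
    (forget AddCommGrpCat.{u})).1 F.property)) ⊥ h).isSeparatedFor.ext (fun _ _ hf => hf.elim)

lemma ext_of_cover (F : Sheaf J AddCommGrpCat.{u}) {V : C} (T : Sieve V) (hT : T ∈ J V)
    (x y : F.obj.obj (op V))
    (h : ∀ ⦃W : C⦄ (g : W ⟶ V), T g → F.obj.map g.op x = F.obj.map g.op y) : x = y :=
  (((isSheaf_iff_isSheaf_of_type _ _).1 ((Presheaf.isSheaf_iff_isSheaf_forget J F.obj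
    (forget AddCommGrpCat.{u})).1 F.property)) T hT).isSeparatedFor.ext h

/-- Representatives of `A / nA`. -/
noncomputable def rep {A : Type u} [AddCommGroup A] (n : ℤ) (a : A) : A :=
  (QuotientAddGroup.mk a : A ⧸ AddMonoidHom.range (zsmulAddGroupHom n : A →+ A)).out

lemma exists_eq_add_rep {A : Type u} [AddCommGroup A] (n : ℤ) (a : A) : ∃ c, a = n • c + rep n a := by
  obtain ⟨c, hc⟩ := (QuotientAddGroup.eq (s := AddMonoidHom.range (zsmulAddGroupHom n : A →+ A))).1
    (Quotient.out_eq (QuotientAddGroup.mk a : A ⧸ AddMonoidHom.range (zsmulAddGroupHom n : A →+ A)))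
  refine ⟨c, ?_⟩
  change n • c = -rep n a + a at hc
  rw [hc]
  abel

lemma rep_eq_rep_of {A : Type u} [AddCommGroup A] (n : ℤ) {a a' c : A}
    (h : rep n a - rep n a' = n • c) : rep n a = rep n a' := by
  have e : ∀ b : A, (QuotientAddGroup.mk (rep n b) : A ⧸ AddMonoidHom.range (zsmulAddGroupHom n : A →+ A)) =
      QuotientAddGroup.mk b := fun b => Quotient.out_eq _
  have h' : (QuotientAddGroup.mk (rep n a) : A ⧸ AddMonoidHom.range (zsmulAddGroupHom n : A →+ A)) =
      QuotientAddGroup.mk (rep n a') := QuotientAddGroup.eq.2 ⟨-c, by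
    change n • (-c) = _
    rw [smul_neg, ← h]
    abel⟩
  rw [e, e] at h'
  exact congrArg Quotient.out h'

variable (J) in
/-- The unit section. -/
noncomputable def one (W : C) : (cs J (AddCommGrpCat.of (ULift.{u} ℤ))).obj.obj (op W) :=
  (η J (AddCommGrpCat.of (ULift.{u} ℤ))).app (op W) (ULift.up 1)

lemma zsmul_one_eq (W : C) (k : ℤ) :
    k • one J W = (η J (AddCommGrpCat.of (ULift.{u} ℤ))).app (op W) (ULift.up k) := by
  rw [one, ← map_zsmul]
  exact congrArg _ (show k • (ULift.up 1 : ULift.{u} ℤ) = ULift.up k from ULift.ext _ _ (by simp))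

lemma map_one {V W : C} (g : W ⟶ V) :
    (cs J (AddCommGrpCat.of (ULift.{u} ℤ))).obj.map g.op (one J V) = one J W :=
  map_η _ g _

theorem eq_zero_of_smul {A : Type u} [AddCommGroup A]
    (hA : ∀ (m : ℤ) (a : A), m ≠ 0 → m • a = 0 → a = 0)
    (φ : cs J (AddCommGrpCat.of (ULift.{u} ℤ)) ⟶ cs J (AddCommGrpCat.of (ULift.{u} ℤ)))
    {ι : Type u} (U : ι → C) (n : ι → ℤ) (hn : ∀ i, n i ≠ 0)
    (hφ : ∀ (i : ι) (V : C) (_ : V ⟶ U i), φ.hom.app (op V) = n i • 𝟙 _)
    (hcov : ∀ V : C, ∃ R ∈ J V, ∀ ⦃W : C⦄ (g : W ⟶ V), R g → ∃ i, Nonempty (W ⟶ U i))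
    (x : Abelian.Ext (cs J (AddCommGrpCat.of (ULift.{u} ℤ))) (cs J (AddCommGrpCat.of A)) 1)
    (hx : (Abelian.Ext.mk₀ φ).comp x (zero_add 1) = 0) : x = 0 := by
  let Z := cs J (AddCommGrpCat.of (ULift.{u} ℤ))
  let A' := cs J (AddCommGrpCat.of A)
  let S : ShortComplex (Sheaf J AddCommGrpCat.{u}) :=
    ShortComplex.mk (Injective.ι A') (cokernel.π (Injective.ι A')) (cokernel.condition _)
  have hS : S.ShortExact := ShortComplex.ShortExact.mk'
    (ShortComplex.exact_of_g_is_cokernel _ (cokernelIsCokernel _))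
    (inferInstanceAs (Mono (Injective.ι A'))) (inferInstanceAs (Epi (cokernel.π _)))
  have hinjI : Subsingleton (Abelian.Ext Z S.X₂ 1) :=
    subsingleton_of_forall_eq 0 (fun e => Abelian.Ext.eq_zero_of_injective e)
  obtain ⟨q₀, rfl⟩ := Abelian.Ext.covariant_sequence_exact₁ Z hS x
    (Subsingleton.elim (α := Abelian.Ext Z S.X₂ 1) _ _) (zero_add 1)
  obtain ⟨q, rfl⟩ := (Abelian.Ext.mk₀_bijective _ _).2 q₀
  -- a lift of `φ ≫ q`
  rw [← Abelian.Ext.comp_assoc _ _ _ (zero_add 0) (zero_add 1) (show 0 + 0 + 1 = 1 by omega),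
    Abelian.Ext.mk₀_comp_mk₀] at hx
  obtain ⟨ψ₀, hψ₀⟩ := Abelian.Ext.covariant_sequence_exact₃ Z hS _ (zero_add 1) hx
  obtain ⟨ψ, rfl⟩ := (Abelian.Ext.mk₀_bijective _ _).2 ψ₀
  rw [Abelian.Ext.mk₀_comp_mk₀] at hψ₀
  have hψ : ψ ≫ S.g = φ ≫ q := (Abelian.Ext.mk₀_bijective _ _).1 hψ₀
  suffices ∃ l : Z ⟶ S.X₂, l ≫ S.g = q by
    obtain ⟨l, hl⟩ := this
    rw [← hl, ← Abelian.Ext.mk₀_comp_mk₀, Abelian.Ext.comp_assoc_of_second_deg_zero,
      hS.comp_extClass, Abelian.Ext.comp_zero]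
  -- pointwise data
  let t : ∀ V : C, S.X₃.obj.obj (op V) := fun V => q.hom.app (op V) (one J V)
  let e : ∀ V : C, S.X₂.obj.obj (op V) := fun V => ψ.hom.app (op V) (one J V)
  have ht : ∀ {V W : C} (g : W ⟶ V), S.X₃.obj.map g.op (t V) = t W := fun {V W} g =>
    (ConcreteCategory.congr_hom (q.hom.naturality g.op) (one J V)).symm.trans
      (congrArg (q.hom.app (op W)) (map_one g))
  have he : ∀ {V W : C} (g : W ⟶ V), S.X₂.obj.map g.op (e V) = e W := fun {V W} g =>
    (ConcreteCategory.congr_hom (ψ.hom.naturality g.op) (one J V)).symm.trans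
      (congrArg (ψ.hom.app (op W)) (map_one g))
  have hpe : ∀ (i : ι) {W : C} (_ : W ⟶ U i), S.g.hom.app (op W) (e W) = n i • t W := by
    intro i W a
    have h1 := ConcreteCategory.congr_hom (congrArg (fun k => k.hom.app (op W)) hψ) (one J W)
    refine h1.trans ((congrArg (q.hom.app (op W))
      (ConcreteCategory.congr_hom (hφ i W a) (one J W))).trans ?_)
    exact map_zsmul _ _ _
  -- the left exactness on sections
  have hker : ∀ {W : C} (d : S.X₂.obj.obj (op W)), S.g.hom.app (op W) d = 0 →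
      ∃ b, S.f.hom.app (op W) b = d := by
    intro W d hd
    let Γ := sheafToPresheaf J AddCommGrpCat.{u} ⋙ (evaluation Cᵒᵖ AddCommGrpCat.{u}).obj (op W)
    have : PreservesFiniteLimits Γ := inferInstance
    have h' : ∀ T : ShortComplex (Sheaf J AddCommGrpCat.{u}), T.Exact ∧ Mono T.f →
        (T.map Γ).Exact ∧ Mono (Γ.map T.f) :=
      ((Γ.preservesFiniteLimits_tfae).out 3 1).1 this
    exact (ShortComplex.ab_exact_iff _).1 (h' S ⟨hS.exact, hS.mono_f⟩).1 d hd
  let ιη : ∀ (W : C), A →+ S.X₂.obj.obj (op W) := fun W =>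
    ((η J (AddCommGrpCat.of A)).app (op W) ≫ S.f.hom.app (op W)).hom
  have hιη : ∀ {V W : C} (g : W ⟶ V) (a : A), S.X₂.obj.map g.op (ιη V a) = ιη W a := by
    intro V W g a
    exact (ConcreteCategory.congr_hom (S.f.hom.naturality g.op) _).symm.trans
      (congrArg (S.f.hom.app (op W)) (map_η (AddCommGrpCat.of A) g a))
  have hfinj : ∀ W : C, Function.Injective (S.f.hom.app (op W)) := fun W => by
    have := hS.mono_f
    exact (AddCommGrpCat.mono_iff_injective _).1
      (inferInstanceAs (Mono ((sheafToPresheaf J AddCommGrpCat.{u} ⋙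
        (evaluation Cᵒᵖ AddCommGrpCat.{u}).obj (op W)).map S.f)))
  -- the characterisation of the good lift
  let Loc : ∀ (V : C), S.X₂.obj.obj (op V) → Prop := fun V σ =>
    S.g.hom.app (op V) σ = t V ∧ ∃ T ∈ J V, ∀ ⦃W : C⦄ (g : W ⟶ V), T g →
      ∃ (i : ι) (_ : W ⟶ U i) (a : A), e W = n i • S.X₂.obj.map g.op σ + ιη W (rep (n i) a)
  have Loc_map : ∀ {V W : C} (g : W ⟶ V) (σ : S.X₂.obj.obj (op V)),
      Loc V σ → Loc W (S.X₂.obj.map g.op σ) := by
    intro V W g σ ⟨hσ, T, hT, h⟩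
    refine ⟨(ConcreteCategory.congr_hom (S.g.hom.naturality g.op) σ).trans
      ((congrArg (S.X₃.obj.map g.op) hσ).trans (ht g)), T.pullback g, J.pullback_stable g hT, ?_⟩
    intro W' g' hg'
    obtain ⟨i, a, c, hc⟩ := h (g' ≫ g) hg'
    refine ⟨i, a, c, ?_⟩
    rw [← ConcreteCategory.comp_apply, ← S.X₂.obj.map_comp]
    exact hc
  have Loc_unique : ∀ {V : C} (σ σ' : S.X₂.obj.obj (op V)), Loc V σ → Loc V σ' → σ = σ' := by
    intro V σ σ' ⟨hσ, T, hT, h⟩ ⟨hσ', T', hT', h'⟩
    refine ext_of_cover _ (T ⊓ T') (J.intersection_covering hT hT') _ _ fun W g hg => ?_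
    obtain ⟨b, hb⟩ := hker (S.X₂.obj.map g.op σ - S.X₂.obj.map g.op σ') (by
      rw [map_sub, sub_eq_zero]
      exact ((ConcreteCategory.congr_hom (S.g.hom.naturality g.op) σ).trans
        (congrArg (S.X₃.obj.map g.op) (hσ.trans hσ'.symm))).trans
          (ConcreteCategory.congr_hom (S.g.hom.naturality g.op) σ').symm)
    refine ext_of_cover _ _ (Presheaf.imageSieve_mem J (η J (AddCommGrpCat.of A)) (U := op W) b) _ _
      fun W' g' ⟨β, hβ⟩ => ?_
    change A at β
    by_cases hbot : (⊥ : Sieve W') ∈ J W'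
    · exact eq_of_bot_mem _ hbot _ _
    obtain ⟨i, a, c, hc⟩ := h (g' ≫ g) (T.downward_closed hg.1 g')
    obtain ⟨j, a', c', hc'⟩ := h' (g' ≫ g) (T'.downward_closed hg.2 g')
    have hnm : n i = n j := by
      by_contra hne
      have h3 := (ConcreteCategory.congr_hom (hφ i W' a) (one J W')).symm.trans
        (ConcreteCategory.congr_hom (hφ j W' a') (one J W'))
      change n i • one J W' = n j • one J W' at h3
      rw [zsmul_one_eq, zsmul_one_eq, ← sub_eq_zero, ← map_sub] at h3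
      exact hbot (bot_mem_of_η_eq_zero _ h3 (by
        intro h4
        exact hne (sub_eq_zero.1 (congrArg ULift.down h4))))
    rw [← sub_eq_zero, ← map_sub, ← hb]
    have hd : S.X₂.obj.map g'.op (S.f.hom.app (op W) b) = ιη W' β :=
      (ConcreteCategory.congr_hom (S.f.hom.naturality g'.op) b).symm.trans
        (congrArg (S.f.hom.app (op W')) hβ.symm)
    rw [hd]
    have h5 : ιη W' (n i • β + rep (n i) c - rep (n i) c') = 0 := by
      have h6 : S.X₂.obj.map (g' ≫ g).op σ - S.X₂.obj.map (g' ≫ g).op σ' = ιη W' β := by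
        rw [← hd, hb, map_sub, op_comp, Functor.map_comp]
        rfl
      rw [map_sub, map_add, map_zsmul, ← h6, zsmul_sub]
      rw [hnm] at hc ⊢
      have h7 := hc.symm.trans hc'
      rw [← sub_eq_zero] at h7
      rw [← h7]
      abel
    have h8 : n i • β + rep (n i) c - rep (n i) c' = 0 := by
      by_contra hne
      exact hbot (bot_mem_of_η_eq_zero (AddCommGrpCat.of A)
        (hfinj W' (h5.trans (map_zero _).symm)) hne)
    have h9 : rep (n i) c = rep (n i) c' := rep_eq_rep_of (n i) (c := -β) (by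
      rw [smul_neg, eq_neg_iff_add_eq_zero, ← h8]
      abel)
    rw [h9, add_sub_cancel_right] at h8
    rw [hA _ _ (hn i) h8, map_zero]
  have Loc_cover : ∀ V : C, ∃ T ∈ J V, ∀ ⦃W : C⦄ (g : W ⟶ V), T g → ∃ σ, Loc W σ := by
    intro V
    refine ⟨{ arrows := fun W g => ∃ σ, Loc W σ
              downward_closed := fun ⟨σ, hσ⟩ k => ⟨_, Loc_map k σ hσ⟩ }, ?_, fun W g hg => hg⟩
    obtain ⟨R, hR, hR'⟩ := hcov V
    refine J.transitive hR _ fun W g hg => ?_
    obtain ⟨i, ⟨a⟩⟩ := hR' g hg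
    have hepi : Epi S.g := hS.epi_g
    have : Sheaf.IsLocallySurjective S.g := (Sheaf.isLocallySurjective_iff_epi' _ S.g).2 hepi
    refine J.transitive (Presheaf.imageSieve_mem J S.g.hom (U := op W) (t W)) _
      fun W₁ g₁ ⟨σ₀, hσ₀⟩ => ?_
    replace hσ₀ : S.g.hom.app (op W₁) σ₀ = t W₁ := hσ₀.trans (ht g₁)
    obtain ⟨b, hb⟩ := hker (e W₁ - n i • σ₀) (by
      rw [map_sub, map_zsmul, hσ₀, hpe i (g₁ ≫ a), sub_self])
    refine J.superset_covering ?_ (Presheaf.imageSieve_mem J (η J (AddCommGrpCat.of A)) (U := op W₁) b)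
    intro W₂ g₂ ⟨β, hβ⟩
    change A at β
    obtain ⟨c, hc⟩ := exists_eq_add_rep (n i) β
    refine ⟨S.X₂.obj.map g₂.op σ₀ + ιη W₂ c, ?_, ⊤, J.top_mem _, fun W₃ g₃ _ =>
      ⟨i, g₃ ≫ g₂ ≫ g₁ ≫ a, β, ?_⟩⟩
    · have h0 : S.g.hom.app (op W₂) (ιη W₂ c) = 0 :=
        ConcreteCategory.congr_hom (congrArg (fun k => k.hom.app (op W₂)) S.zero) _
      rw [map_add, h0, add_zero]
      exact (ConcreteCategory.congr_hom (S.g.hom.naturality g₂.op) σ₀).trans
        ((congrArg (S.X₃.obj.map g₂.op) hσ₀).trans (ht g₂))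
    · have h1 : ιη W₂ β = e W₂ - n i • S.X₂.obj.map g₂.op σ₀ := by
        refine (congrArg (S.f.hom.app (op W₂)) hβ).trans ?_
        refine (ConcreteCategory.congr_hom (S.f.hom.naturality g₂.op) b).trans ?_
        refine (congrArg (S.X₂.obj.map g₂.op) hb).trans ?_
        rw [map_sub, map_zsmul, he]
      have h2 := congrArg (S.X₂.obj.map g₃.op) h1
      rw [hιη, map_sub, map_zsmul, he] at h2
      rw [map_add, hιη, zsmul_add, ← map_zsmul (ιη W₃), add_assoc, ← map_add, ← hc, h2,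
        add_sub_cancel]
  have Loc_exists : ∀ V : C, ∃ σ, Loc V σ := by
    intro V
    obtain ⟨T, hT, h⟩ := Loc_cover V
    choose s hs using h
    have hsh := ((isSheaf_iff_isSheaf_of_type _ _).1 ((Presheaf.isSheaf_iff_isSheaf_forget J
      S.X₂.obj (forget AddCommGrpCat.{u})).1 S.X₂.property)) T hT
    obtain ⟨σ, hσ, -⟩ := hsh (fun W g hg => s g hg) (by
      intro W₁ W₂ W g₁ g₂ f₁ f₂ h₁ h₂ _
      exact Loc_unique _ _ (Loc_map g₁ _ (hs _ h₁)) (Loc_map g₂ _ (hs _ h₂)))
    have hσ' : ∀ ⦃W : C⦄ (g : W ⟶ V), T g → Loc W (S.X₂.obj.map g.op σ) := fun W g hg => by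
      have : S.X₂.obj.map g.op σ = s g hg := hσ g hg
      rw [this]
      exact hs g hg
    refine ⟨σ, ext_of_cover _ T hT _ _ fun W g hg =>
      ((ConcreteCategory.congr_hom (S.g.hom.naturality g.op) σ).symm.trans (hσ' g hg).1).trans
        (ht g).symm,
      { arrows := fun W g => ∃ (i : ι) (_ : W ⟶ U i) (a : A),
          e W = n i • S.X₂.obj.map g.op σ + ιη W (rep (n i) a)
        downward_closed := by
          rintro W W' g ⟨i, a, c, hc⟩ k
          refine ⟨i, k ≫ a, c, ?_⟩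
          have h2 := congrArg (S.X₂.obj.map k.op) hc
          rw [map_add, map_zsmul, he, hιη] at h2
          rw [op_comp, Functor.map_comp, ConcreteCategory.comp_apply]
          exact h2 }, ?_, fun W g hg => hg⟩
    refine J.transitive hT _ fun W g hg => ?_
    obtain ⟨-, T', hT', h'⟩ := hσ' g hg
    refine J.superset_covering ?_ hT'
    intro W' g' hg'
    obtain ⟨i, a, c, hc⟩ := h' g' hg'
    refine ⟨i, a, c, ?_⟩
    rw [op_comp, Functor.map_comp, ConcreteCategory.comp_apply]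
    exact hc
  choose σ hσ using Loc_exists
  -- the lift
  let L : (Functor.const Cᵒᵖ).obj (AddCommGrpCat.of (ULift.{u} ℤ)) ⟶ S.X₂.obj :=
    { app := fun V => AddCommGrpCat.ofHom
        ((zmultiplesHom _ (σ V.unop)).comp AddEquiv.ulift.toAddMonoidHom)
      naturality := fun V W g => by
        refine AddCommGrpCat.hom_ext (AddMonoidHom.ext fun k => ?_)
        have h1 : S.X₂.obj.map g (σ V.unop) = σ W.unop :=
          Loc_unique _ _ (Loc_map g.unop _ (hσ V.unop)) (hσ W.unop)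
        change k.down • σ W.unop = S.X₂.obj.map g (k.down • σ V.unop)
        rw [map_zsmul, h1] }
  refine ⟨⟨sheafifyLift J L S.X₂.property⟩, Sheaf.hom_ext (sheafify_hom_ext J _ _ S.X₃.property ?_)⟩
  show η J _ ≫ sheafifyLift J L S.X₂.property ≫ S.g.hom = η J _ ≫ q.hom
  rw [← Category.assoc, toSheafify_sheafifyLift]
  refine NatTrans.ext (funext fun V => AddCommGrpCat.hom_ext (AddMonoidHom.ext fun k => ?_))
  change S.g.hom.app V (k.down • σ V.unop) = q.hom.app V ((η J _).app V k)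
  rw [map_zsmul, show (η J _).app V k = k.down • one J V.unop from (zsmul_one_eq _ _).symm, map_zsmul]
  exact congrArg (k.down • ·) (hσ V.unop).1

end Groth.SiteCohomology.TorsionFreeH1
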