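import Mathlib.CategoryTheory.Sites.LocallySurjective
import Mathlib.CategoryTheory.Sites.Limits
import Mathlib.CategoryTheory.Limits.Types.Limits
import Mathlib.CategoryTheory.Functor.OfSequence

/-!
# Sequential limits of epimorphisms with enough weakly contractible objects
-/

universe w v u

open CategoryTheory Limits Opposite

namespace Groth.SiteCohomology

/-- Compatible sections through a sequence of surjections. -/
lemma exists_sections_of_surjective (P : ℕᵒᵖ ⥤ Type w)
    (h : ∀ n : ℕ, Function.Surjective (P.map (homOfLE (Nat.le_succ n)).op))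
    (n : ℕ) (s : P.obj (op n)) : ∃ x : P.sections, x.1 (op n) = s := by
  choose g hg using h
  let up : ∀ k, P.obj (op (n + k)) := fun k => Nat.rec (motive := fun k => P.obj (op (n + k))) s
    (fun k y => g (n + k) y) k
  let f : ∀ m, P.obj (op m) := fun m => P.map (homOfLE (Nat.le_add_left m n)).op (up m)
  have hup : ∀ a b (h : a ≤ b), P.map (homOfLE (Nat.add_le_add_left h n)).op (up b) = up a := by
    intro a b h
    induction b, h using Nat.le_induction with
    | base =>
      change P.map (homOfLE (Nat.le_refl (n + a))).op (up a) = _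
      rw [Subsingleton.elim (homOfLE (Nat.le_refl (n + a))) (𝟙 _), op_id, P.map_id]
      rfl
    | succ b h ih =>
      have e : (homOfLE (Nat.add_le_add_left (Nat.le_succ_of_le h) n)).op =
          (homOfLE (Nat.le_succ (n + b))).op ≫ (homOfLE (Nat.add_le_add_left h n)).op :=
        Quiver.Hom.unop_inj (Subsingleton.elim _ _)
      rw [e, P.map_comp]
      exact (congrArg _ (hg (n + b) (up b))).trans ih
  refine ⟨⟨fun m => f m.unop, ?_⟩, ?_⟩
  · intro a b k
    have hba : b.unop ≤ a.unop := leOfHom k.unop
    change P.map k (P.map (homOfLE (Nat.le_add_left a.unop n)).op (up a.unop)) = f b.unop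
    refine Eq.trans ?_ (congrArg (P.map (homOfLE (Nat.le_add_left b.unop n)).op)
      (hup b.unop a.unop hba))
    have key : ∀ {p q r : ℕᵒᵖ} (i : p ⟶ q) (j : q ⟶ r) (y : P.obj p) (l : p ⟶ r),
        P.map j (P.map i y) = P.map l y := fun i j y l => by
      rw [show l = i ≫ j from Quiver.Hom.unop_inj (Subsingleton.elim _ _), P.map_comp]
      rfl
    exact (key _ _ _ ((homOfLE ((Nat.le_add_left b.unop n).trans
      (Nat.add_le_add_left hba n))).op)).trans (key _ _ _ _).symm
  · change P.map (homOfLE (Nat.le_add_left n n)).op (up n) = s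
    refine Eq.trans (congrArg (fun z => P.map z (up n)) (Quiver.Hom.unop_inj
      (Subsingleton.elim _ (homOfLE (Nat.add_le_add_left (Nat.zero_le n) n))))) ?_
    exact hup 0 n (Nat.zero_le n)

variable {C : Type u} [Category.{v} C] (J : GrothendieckTopology C)

/-- With enough objects on which epimorphisms are surjective on sections, the projections of a
sequential limit with epimorphic transition maps are epimorphisms. -/
theorem epi_limit_projection
    (hwc : ∀ V : C, ∃ S : Sieve V, S ∈ J V ∧ ∀ ⦃W : C⦄ (f : W ⟶ V), S.arrows f →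
      ∃ (U : C) (g : W ⟶ U) (h : U ⟶ V), (∀ (A B : Sheaf J (Type w)) (ψ : A ⟶ B), Epi ψ →
        Function.Surjective (ψ.hom.app (op U))) ∧ g ≫ h = f)
    (F : ℕᵒᵖ ⥤ Sheaf J (Type w))
    (hF : ∀ n : ℕ, Epi (F.map (homOfLE (Nat.le_succ n)).op))
    (c : Cone F) (hc : IsLimit c) (n : ℕ) : Epi (c.π.app (op n)) := by
  have : Sheaf.IsLocallySurjective (c.π.app (op n)) := by
    refine ⟨fun {V} s => ?_⟩
    obtain ⟨S, hS, hU⟩ := hwc V
    refine J.superset_covering (fun W f hf => ?_) hS
    obtain ⟨U, g, h, hsurj, rfl⟩ := hU f hf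
    let P : ℕᵒᵖ ⥤ Type w := F ⋙ sheafToPresheaf J (Type w) ⋙ (evaluation Cᵒᵖ (Type w)).obj (op U)
    obtain ⟨x, hx⟩ := exists_sections_of_surjective P
      (fun m => hsurj _ _ _ (hF m)) n ((F.obj (op n)).obj.map h.op s)
    have hlim := isLimitOfPreserves (sheafToPresheaf J (Type w) ⋙
      (evaluation Cᵒᵖ (Type w)).obj (op U)) hc
    let t := (Types.isLimitEquivSections hlim).symm x
    refine ⟨c.pt.obj.map g.op t, ?_⟩
    refine ((congrArg (fun z => z t) ((c.π.app (op n)).hom.naturality g.op))).trans ?_
    have ht : (c.π.app (op n)).hom.app (op U) t = x.1 (op n) :=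
      Types.isLimitEquivSections_symm_apply hlim x (op n)
    refine (congrArg ((F.obj (op n)).obj.map g.op) (ht.trans hx)).trans ?_
    exact (congrArg (fun z => z s) ((F.obj (op n)).obj.map_comp h.op g.op)).symm
  infer_instance

end Groth.SiteCohomology
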