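import Mathlib.AlgebraicGeometry.Limits
import Mathlib.AlgebraicGeometry.Morphisms.QuasiCompact
import Mathlib.AlgebraicGeometry.Sites.BigZariski
import Mathlib.CategoryTheory.Sites.Canonical
import Mathlib.CategoryTheory.Sites.Over
import Mathlib.CategoryTheory.Limits.Shapes.Pullback.IsPullback.Basic

/-!
# Topologies on schemes generated by a class of quasi-compact morphisms
-/

universe v u

open CategoryTheory Limits AlgebraicGeometry

set_option maxHeartbeats 1000000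

namespace Groth.SiteCohomology.ClassTopology

/-- The base change of a finite family. -/
lemma desc_baseChange (C : MorphismProperty Scheme.{u}) [C.IsStableUnderBaseChange]
    {κ : Type u} [Finite κ] {V : κ → Scheme.{u}} {W W' : Scheme.{u}} (ψ : ∀ j, V j ⟶ W) (h : W' ⟶ W)
    (hψ : C (Sigma.desc ψ)) : C (Sigma.desc fun j => pullback.fst h (ψ j)) := by
  have hau : IsUniversalColimit (Cofan.mk (∐ V) (fun j => Sigma.ι V j)) :=
    FinitaryPreExtensive.isUniversal_finiteCoproducts (coproductIsCoproduct V)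
  have sq := IsUniversalColimit.isPullback_of_isColimit_left hau ψ (Sigma.desc ψ) h
    (fun j => pullback.fst h (ψ j)) (fun j => pullback.snd h (ψ j))
    (fun j => IsPullback.of_hasPullback h (ψ j))
    (coproductIsCoproduct fun j => pullback h (ψ j)) (fun j => Sigma.ι_desc (f := V) ψ j)
  have := C.of_isPullback sq.flip hψ
  have e : Cofan.IsColimit.desc (coproductIsCoproduct fun j => pullback h (ψ j))
      (fun j => pullback.fst h (ψ j)) = Sigma.desc (fun j => pullback.fst h (ψ j)) :=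
    Sigma.hom_ext (f := fun j => pullback h (ψ j)) _ _ fun j => by
      rw [Sigma.ι_desc]
      exact Cofan.IsColimit.fac (coproductIsCoproduct fun j => pullback h (ψ j)) _ j
  exact e ▸ this

/-- Isomorphic families. -/
lemma desc_of_iso (C : MorphismProperty Scheme.{u}) [C.RespectsIso] {κ : Type u} {V V' : κ → Scheme.{u}}
    {W : Scheme.{u}} {ψ : ∀ j, V j ⟶ W} (e : ∀ j, V' j ≅ V j) (hψ : C (Sigma.desc ψ)) :
    C (Sigma.desc fun j => (e j).hom ≫ ψ j) := by
  have : Sigma.desc (fun j => (e j).hom ≫ ψ j) = (Sigma.mapIso e).hom ≫ Sigma.desc ψ :=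
    Sigma.hom_ext _ _ fun j => by
      simp [Sigma.mapIso]
  rw [this]
  exact C.cancel_left_of_respectsIso _ _ |>.2 hψ

/-- Composition of finite families. -/
lemma desc_comp (C : MorphismProperty Scheme.{u}) [C.IsStableUnderComposition] [C.RespectsIso]
    (hcoprod : ∀ (κ : Type u) [Finite κ] (A B : κ → Scheme.{u}) (f : ∀ j, A j ⟶ B j),
      (∀ j, C (f j)) → C (Limits.Sigma.map f))
    {P : Type u} [Finite P] {L : P → Type u} {T : ∀ p, L p → Scheme.{u}} {W : P → Scheme.{u}}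
    {U : Scheme.{u}} (a : ∀ p l, T p l ⟶ W p) (ha : ∀ p, C (Sigma.desc (a p))) (b : ∀ p, W p ⟶ U)
    (hb : C (Sigma.desc b)) :
    C (Sigma.desc fun q : Σ p, L p => a q.1 q.2 ≫ b q.1) := by
  have : Sigma.desc (fun q : Σ p, L p => a q.1 q.2 ≫ b q.1) =
      (sigmaSigmaIso L T).inv ≫ Limits.Sigma.map (fun p => Sigma.desc (a p)) ≫ Sigma.desc b := by
    refine Sigma.hom_ext _ _ fun ⟨p, l⟩ => ?_
    simp [sigmaSigmaIso]
  rw [this]
  exact (C.cancel_left_of_respectsIso _ _).2 (C.comp_mem _ _ (hcoprod P _ _ _ ha) hb)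

variable {S : Scheme.{u}} (C : MorphismProperty Scheme.{u})

/-- Finite `C`-covering data in the sieve `R` over the affine scheme `W`. -/
def DataAt {X : Over S} (R : Sieve X) {W : Scheme.{u}} (g : W ⟶ X.left) : Prop :=
  ∃ (κ : Type u) (_ : Finite κ) (V : κ → Scheme.{u}) (ψ : ∀ j, V j ⟶ W),
    (∀ j, IsAffine (V j)) ∧ C (Sigma.desc ψ) ∧
      ∀ j, R.arrows (Over.homMk (U := Over.mk ((ψ j ≫ g) ≫ X.hom)) (ψ j ≫ g) rfl)

/-- The covering predicate. -/
def Cov {X : Over S} (R : Sieve X) : Prop :=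
  ∃ (ι : Type u) (U : ι → X.left.Opens), (∀ i, IsAffineOpen (U i)) ∧ ⨆ i, U i = ⊤ ∧
    ∀ i, DataAt C R (U i).ι

lemma mem_of_left {X : Over S} (R : Sieve X) {A : Over S} (φ : A ⟶ X) (h : R.arrows φ)
    {A' : Scheme.{u}} (f : A' ⟶ X.left) (k : A' ⟶ A.left) (hk : k ≫ φ.left = f) :
    R.arrows (Over.homMk (U := Over.mk (f ≫ X.hom)) f rfl) := by
  have e : Over.homMk (U := Over.mk (f ≫ X.hom)) f rfl =
      Over.homMk (U := Over.mk (f ≫ X.hom)) (V := A) k (by
        rw [← Over.w φ, ← Category.assoc, hk]; rfl) ≫ φ :=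
    Over.OverMorphism.ext hk.symm
  rw [e]
  exact R.downward_closed h _

theorem cov_iff {X : Over S} (R : Sieve X) :
    Cov C R ↔ ∃ (ι : Type u) (U : ι → X.left.Opens), (∀ i, IsAffineOpen (U i)) ∧ ⨆ i, U i = ⊤ ∧
        ∀ i, ∃ (κ : Type u) (_ : Finite κ) (V : κ → Over S) (φ : ∀ j, V j ⟶ X)
          (ψ : ∀ j, (V j).left ⟶ (U i : Scheme.{u})),
          (∀ j, IsAffine (V j).left) ∧ (∀ j, R.arrows (φ j)) ∧ (∀ j, ψ j ≫ (U i).ι = (φ j).left) ∧
            C (Limits.Sigma.desc ψ) := by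
  refine exists_congr fun ι => exists_congr fun U => and_congr_right fun _ => and_congr_right fun _ =>
    forall_congr' fun i => ⟨?_, ?_⟩
  · rintro ⟨κ, hκ, V, ψ, hV, hC, hR⟩
    exact ⟨κ, hκ, fun j => Over.mk ((ψ j ≫ (U i).ι) ≫ X.hom),
      fun j => Over.homMk (ψ j ≫ (U i).ι) rfl, ψ, hV, hR, fun j => rfl, hC⟩
  · rintro ⟨κ, hκ, V, φ, ψ, hV, hR, hψ, hC⟩
    exact ⟨κ, hκ, fun j => (V j).left, ψ, hV, hC,
      fun j => mem_of_left R (φ j) (hR j) _ (𝟙 _) ((Category.id_comp _).trans (hψ j).symm)⟩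

variable [C.IsStableUnderBaseChange]
  (haff : ∀ (U : Scheme.{u}) [IsAffine U] (κ : Type u) [Finite κ] (V : κ → U.Opens),
      (∀ j, IsAffineOpen (V j)) → ⨆ j, V j = ⊤ → C (Limits.Sigma.desc fun j => (V j).ι))

include haff in
lemma dataAt_of_mem {X : Over S} (R : Sieve X) {W : Scheme.{u}} [IsAffine W] (g : W ⟶ X.left)
    (h : R.arrows (Over.homMk (U := Over.mk (g ≫ X.hom)) g rfl)) : DataAt C R g := by
  refine ⟨PUnit.{u + 1}, inferInstance, fun _ => (⊤ : W.Opens).toScheme, fun _ => (⊤ : W.Opens).ι,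
    fun _ => isAffineOpen_top W, haff W PUnit.{u + 1} (fun _ => ⊤) (fun _ => isAffineOpen_top W)
      (iSup_const), fun _ => mem_of_left R _ h _ (⊤ : W.Opens).ι rfl⟩

lemma dataAt_pullback {X Y : Over S} (f : Y ⟶ X) (R : Sieve X) {W W' : Scheme.{u}} [IsAffine W]
    [IsAffine W'] (g : W ⟶ X.left) (g' : W' ⟶ Y.left) (h : W' ⟶ W) (hg : g' ≫ f.left = h ≫ g)
    (hd : DataAt C R g) : DataAt C (R.pullback f) g' := by
  obtain ⟨κ, hκ, V, ψ, hV, hC, hR⟩ := hd
  refine ⟨κ, hκ, fun j => pullback h (ψ j), fun j => pullback.fst h (ψ j),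
    fun j => by have := hV j; infer_instance, desc_baseChange C ψ h hC, fun j => ?_⟩
  let l : pullback h (ψ j) ⟶ Y.left := pullback.fst h (ψ j) ≫ g'
  have hl : l ≫ f.left = pullback.snd h (ψ j) ≫ ψ j ≫ g := by
    rw [Category.assoc, hg, pullback.condition_assoc]
  show R.arrows (Over.homMk (U := Over.mk (l ≫ Y.hom)) l rfl ≫ f)
  have e : Over.homMk (U := Over.mk (l ≫ Y.hom)) l rfl ≫ f =
      Over.homMk (U := Over.mk (l ≫ Y.hom)) (V := Over.mk ((ψ j ≫ g) ≫ X.hom))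
        (pullback.snd h (ψ j)) (by
          show pullback.snd h (ψ j) ≫ (ψ j ≫ g) ≫ X.hom = l ≫ Y.hom
          rw [← Over.w f, reassoc_of% hl, Category.assoc]) ≫
        Over.homMk (U := Over.mk ((ψ j ≫ g) ≫ X.hom)) (ψ j ≫ g) rfl :=
    Over.OverMorphism.ext hl
  rw [e]
  exact R.downward_closed (hR j) _

variable [C.IsStableUnderComposition]
  (hcoprod : ∀ (κ : Type u) [Finite κ] (A B : κ → Scheme.{u}) (f : ∀ j, A j ⟶ B j),
      (∀ j, C (f j)) → C (Limits.Sigma.map f))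

include hcoprod in
lemma dataAt_comp {X : Over S} (R : Sieve X) {W : Scheme.{u}} (g : W ⟶ X.left) {P : Type u} [Finite P]
    {V : P → Scheme.{u}} (ψ : ∀ p, V p ⟶ W) (hψ : C (Sigma.desc ψ))
    (h : ∀ p, DataAt C R (ψ p ≫ g)) : DataAt C R g := by
  choose L hL T a hT hC hR using h
  refine ⟨Σ p, L p, inferInstance, fun q => T q.1 q.2, fun q => a q.1 q.2 ≫ ψ q.1,
    fun q => hT q.1 q.2, desc_comp C hcoprod a hC ψ hψ, fun q => ?_⟩
  exact mem_of_left R _ (hR q.1 q.2) _ (𝟙 _) (by simp)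

include hcoprod haff in
/-- The topology generated by `C`. -/
theorem exists_topology :
    ∃ J : GrothendieckTopology (Over S), ∀ (X : Over S) (R : Sieve X), R ∈ J X ↔ Cov C R := by
  refine ⟨{ sieves := fun X => {R | Cov C R}, top_mem' := ?_, pullback_stable' := ?_, transitive' := ?_ },
    fun X R => Iff.rfl⟩
  · intro X
    exact ⟨X.left.affineOpens, fun U => U, fun U => U.2, iSup_affineOpens_eq_top X.left,
      fun U => by have : IsAffine (U : X.left.Opens).toScheme := U.2; exact dataAt_of_mem C haff ⊤ _ trivial⟩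
  · rintro X Y R f ⟨ι, U, hU, hcov, hd⟩
    have key : ∀ y : Y.left, ∃ (i : ι) (W : Y.left.Opens),
        IsAffineOpen W ∧ y ∈ W ∧ W ≤ f.left ⁻¹ᵁ U i := by
      intro y
      obtain ⟨i, hi⟩ := TopologicalSpace.Opens.mem_iSup.1
        (show f.left y ∈ ⨆ i, U i by rw [hcov]; trivial)
      obtain ⟨W, hW, hyW, hWle⟩ := exists_isAffineOpen_mem_and_subset (U := f.left ⁻¹ᵁ U i) hi
      exact ⟨i, W, hW, hyW, hWle⟩
    choose i W hW hyW hle using key
    refine ⟨Y.left, W, hW, top_le_iff.1 fun y _ => TopologicalSpace.Opens.mem_iSup.2 ⟨y, hyW y⟩,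
      fun y => ?_⟩
    have : IsAffine (W y).toScheme := hW y
    have : IsAffine (U (i y)).toScheme := hU (i y)
    exact dataAt_pullback C f R (U (i y)).ι (W y).ι (f.left.resLE (U (i y)) (W y) (hle y))
      (Scheme.Hom.resLE_comp_ι _ _).symm (hd (i y))
  · rintro X R ⟨ι, U, hU, hcov, hd⟩ R' hR'
    refine ⟨ι, U, hU, hcov, fun i => ?_⟩
    obtain ⟨κ, hκ, V, ψ, hV, hC, hR⟩ := hd i
    refine dataAt_comp C hcoprod R' _ ψ hC fun j => ?_
    obtain ⟨ι', U', hU', hcov', hd'⟩ := hR' (hR j)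
    have := hV j
    change ι' → (V j).Opens at U'
    obtain ⟨t, ht⟩ := (isCompact_univ (X := (V j : Scheme.{u}))).elim_finite_subcover (fun k => (U' k : Set (V j)))
      (fun k => (U' k).2) (fun x _ => by
        obtain ⟨k, hk⟩ := TopologicalSpace.Opens.mem_iSup.1 (show x ∈ ⨆ k, U' k by rw [hcov']; trivial)
        exact Set.mem_iUnion.2 ⟨k, hk⟩)
    refine dataAt_comp C hcoprod R' _ (fun k : t => (U' k).ι) (haff (V j) t (fun k => U' k)
      (fun k => hU' k) (top_le_iff.1 fun x _ => ?_)) fun k => ?_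
    · obtain ⟨k, hk, hxk⟩ := Set.mem_iUnion₂.1 (ht (Set.mem_univ x))
      exact TopologicalSpace.Opens.mem_iSup.2 ⟨⟨k, hk⟩, hxk⟩
    · obtain ⟨L, hL, T, a, hT, hCa, hRa⟩ := hd' k
      exact ⟨L, hL, T, a, hT, hCa, fun l => mem_of_left R' _ (hRa l) _ (𝟙 _)
        (by simp [Category.assoc])⟩

end Groth.SiteCohomology.ClassTopology
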