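import Groth.Agent.SiteCohomology.ClassTopology

/-!
# Sheaves for the topology generated by a class of quasi-compact morphisms
-/

universe v u

open CategoryTheory Limits AlgebraicGeometry Opposite

set_option maxHeartbeats 1000000

namespace Groth.SiteCohomology.ClassTopology

variable {S : Scheme.{u}}

/-- The zariski covering sieves on the slice contain the sieves with an open cover. -/
lemma mem_zariski_over {X : Over S} (R : Sieve X) (𝒰 : X.left.OpenCover)
    (h : ∀ i, R.arrows (Over.homMk (U := Over.mk (𝒰.f i ≫ X.hom)) (𝒰.f i) rfl)) :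
    R ∈ Scheme.zariskiTopology.over S X := by
  rw [GrothendieckTopology.mem_over_iff]
  refine GrothendieckTopology.superset_covering _ ?_ (Scheme.Cover.mem_grothendieckTopology 𝒰)
  rw [Sieve.ofArrows, Sieve.generate_le_iff]
  rintro Y _ ⟨i⟩
  exact (Sieve.overEquiv_iff _ _).2 (h i)

variable (C : MorphismProperty Scheme.{u}) [C.IsStableUnderBaseChange]
  (haff : ∀ (U : Scheme.{u}) [IsAffine U] (κ : Type u) [Finite κ] (V : κ → U.Opens),
      (∀ j, IsAffineOpen (V j)) → ⨆ j, V j = ⊤ → C (Limits.Sigma.desc fun j => (V j).ι))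

include haff in
lemma cov_of_zariski {X : Over S} (R : Sieve X) (hR : R ∈ Scheme.zariskiTopology.over S X) :
    Cov C R := by
  rw [GrothendieckTopology.mem_over_iff, Scheme.mem_grothendieckTopology_iff] at hR
  obtain ⟨𝒰, hle₀⟩ := hR
  have key : ∀ x : X.left, ∃ (i : 𝒰.I₀) (W : X.left.Opens),
      IsAffineOpen W ∧ x ∈ W ∧ (W : Set X.left) ⊆ Set.range (𝒰.f i) := by
    intro x
    obtain ⟨i, y, hy⟩ := 𝒰.exists_eq x
    obtain ⟨W, hW, hxW, hWle⟩ :=
      exists_isAffineOpen_mem_and_subset (U := (𝒰.f i).opensRange) (x := x) ⟨y, hy⟩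
    exact ⟨i, W, hW, hxW, hWle⟩
  choose i W hW hxW hle using key
  refine ⟨X.left, W, hW, top_le_iff.1 fun x _ => TopologicalSpace.Opens.mem_iSup.2 ⟨x, hxW x⟩,
    fun x => ?_⟩
  have : IsAffine (W x).toScheme := hW x
  refine dataAt_of_mem C haff R _ (mem_of_left R _ ((Sieve.overEquiv_iff _ _).1 (hle₀ _ _ (Presieve.ofArrows.mk (i x)))) _
    (IsOpenImmersion.lift (𝒰.f (i x)) (W x).ι (by rw [Scheme.Opens.range_ι]; exact hle x))
    (IsOpenImmersion.lift_fac _ _ _))

variable (hqc : ∀ {A B : Scheme.{u}} (f : A ⟶ B), C f → QuasiCompact f)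
  (hres : ∀ (W X' : Scheme.{u}) [IsAffine W] (f : X' ⟶ W), C f →
      ∀ (κ : Type u) [Finite κ] (A : κ → X'.Opens), (∀ l, IsAffineOpen (A l)) → ⨆ l, A l = ⊤ →
        C (Limits.Sigma.desc fun l => (A l).ι ≫ f))

include hqc hres in
lemma cov_generate_singleton {X X' : Over S} (f : X' ⟶ X) (hf : C f.left) :
    Cov C (Sieve.generate (Presieve.singleton f)) := by
  refine ⟨X.left.affineOpens, fun U => U, fun U => U.2, iSup_affineOpens_eq_top X.left, fun U => ?_⟩
  have : IsAffine (U : X.left.Opens).toScheme := U.2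
  have hC : C (f.left ∣_ (U : X.left.Opens)) :=
    C.of_isPullback (isPullback_morphismRestrict f.left U).flip hf
  have := hqc _ hC
  have : CompactSpace (f.left ⁻¹ᵁ (U : X.left.Opens)).toScheme :=
    QuasiCompact.compactSpace_of_compactSpace (f.left ∣_ (U : X.left.Opens))
  let P := (f.left ⁻¹ᵁ (U : X.left.Opens)).toScheme
  obtain ⟨t, ht⟩ := (isCompact_univ (X := P)).elim_finite_subcover
    (fun A : P.affineOpens => ((A : P.Opens) : Set P)) (fun A => (A : P.Opens).2) (fun x _ => by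
      obtain ⟨A, hA⟩ := TopologicalSpace.Opens.mem_iSup.1
        (show x ∈ ⨆ A : P.affineOpens, (A : P.Opens) by rw [iSup_affineOpens_eq_top]; trivial)
      exact Set.mem_iUnion.2 ⟨A, hA⟩)
  refine ⟨t, inferInstance, fun A => ((A : P.affineOpens) : P.Opens).toScheme,
    fun A => ((A : P.affineOpens) : P.Opens).ι ≫ f.left ∣_ (U : X.left.Opens),
    fun A => (A : P.affineOpens).2, hres _ P _ hC t (fun A => ((A : P.affineOpens) : P.Opens))
      (fun A => (A : P.affineOpens).2) (top_le_iff.1 fun x _ => ?_), fun A => ?_⟩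
  · obtain ⟨A, hA, hxA⟩ := Set.mem_iUnion₂.1 (ht (Set.mem_univ x))
    exact TopologicalSpace.Opens.mem_iSup.2 ⟨⟨A, hA⟩, hxA⟩
  · refine mem_of_left (Sieve.generate (Presieve.singleton f)) f
      ⟨_, 𝟙 _, f, Presieve.singleton.mk, Category.id_comp f⟩ _
      (((A : P.affineOpens) : P.Opens).ι ≫ (f.left ⁻¹ᵁ (U : X.left.Opens)).ι) ?_
    dsimp only
    exact (Category.assoc _ _ _).trans ((congrArg (((A : P.affineOpens) : P.Opens).ι ≫ ·)
      (morphismRestrict_ι f.left (U : X.left.Opens)).symm).trans (Category.assoc _ _ _).symm)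

/-- Pulling back the sieve of a single morphism. -/
lemma pullback_generate_singleton {A X Y : Over S} (g : A ⟶ X) (f : Y ⟶ X) :
    (Sieve.generate (Presieve.singleton g)).pullback f =
      Sieve.generate (Presieve.singleton
        (Over.homMk (U := Over.mk (pullback.snd g.left f.left ≫ Y.hom)) (pullback.snd g.left f.left) rfl)) := by
  apply le_antisymm
  · rintro Z h ⟨Z', k, m, ⟨⟩, hk⟩
    refine ⟨_, Over.homMk (pullback.lift k.left h.left (by
        exact congrArg CommaMorphism.left hk)) ?_, _, ⟨⟩, ?_⟩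
    · show _ ≫ pullback.snd g.left f.left ≫ _ = Z.hom
      rw [pullback.lift_snd_assoc, Over.w h]
    · exact Over.OverMorphism.ext (pullback.lift_snd _ _ _)
  · rw [Sieve.generate_le_iff]
    rintro Z _ ⟨⟩
    refine ⟨_, Over.homMk (pullback.fst g.left f.left) ?_, g, ⟨⟩, ?_⟩
    · show pullback.fst g.left f.left ≫ A.hom = pullback.snd g.left f.left ≫ _
      rw [← Over.w g, ← Over.w f, pullback.condition_assoc]
    · exact Over.OverMorphism.ext pullback.condition

variable {F : (Over S)ᵒᵖ ⥤ Type v}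

/-- The finest topology for which `F` is a sheaf. -/
theorem isSheaf_iff_class (haff' : ∀ (U : Scheme.{u}) [IsAffine U] (κ : Type u) [Finite κ] (V : κ → U.Opens),
      (∀ j, IsAffineOpen (V j)) → ⨆ j, V j = ⊤ → C (Limits.Sigma.desc fun j => (V j).ι))
    (hqc' : ∀ {A B : Scheme.{u}} (f : A ⟶ B), C f → QuasiCompact f)
    (hres' : ∀ (W X' : Scheme.{u}) [IsAffine W] (f : X' ⟶ W), C f →
      ∀ (κ : Type u) [Finite κ] (A : κ → X'.Opens), (∀ l, IsAffineOpen (A l)) → ⨆ l, A l = ⊤ →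
        C (Limits.Sigma.desc fun l => (A l).ι ≫ f))
    (J : GrothendieckTopology (Over S)) (hJ : ∀ (X : Over S) (R : Sieve X), R ∈ J X ↔ Cov C R) :
    Presieve.IsSheaf J F ↔
      (Presieve.IsSheaf (Scheme.zariskiTopology.over S) F ∧
        ∀ (X X' : Over S) (f : X' ⟶ X), C f.left → Presieve.IsSheafFor F (Presieve.singleton f)) := by
  constructor
  · intro h
    refine ⟨fun X R hR => h R ((hJ X R).2 (cov_of_zariski C haff' R hR)), fun X X' f hf => ?_⟩
    exact (Presieve.isSheafFor_iff_generate _).2 (h _ ((hJ X _).2 (cov_generate_singleton C hqc' hres' f hf)))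
  · rintro ⟨hZ, hs⟩
    let T : GrothendieckTopology (Over S) := Sheaf.finestTopologySingle F
    have hZT : ∀ {X : Over S} (R : Sieve X), R ∈ Scheme.zariskiTopology.over S X → R ∈ T X :=
      fun R hR Y f => hZ _ (GrothendieckTopology.pullback_stable _ f hR)
    have hCT : ∀ {A X : Over S} (g : A ⟶ X), C g.left → Sieve.generate (Presieve.singleton g) ∈ T X := by
      intro A X g hg Y f
      rw [pullback_generate_singleton]
      exact (Presieve.isSheafFor_iff_generate _).1 (hs _ _ _ (C.pullback_snd g.left f.left hg))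
    intro X R hR
    suffices R ∈ T X by
      have := this X (𝟙 X)
      rwa [Sieve.pullback_id] at this
    obtain ⟨ι, U, hU, hcov, hd⟩ := (hJ X R).1 hR
    let 𝒰 : X.left.OpenCover := X.left.openCoverOfIsOpenCover U hcov
    let a : ∀ i, Over.mk ((U i).ι ≫ X.hom) ⟶ X := fun i => Over.homMk (U i).ι rfl
    refine T.transitive (hZT (Sieve.ofArrows _ a)
      (mem_zariski_over _ 𝒰 fun i => Sieve.ofArrows_mk _ a i)) R ?_
    rintro Y _ ⟨_, k, _, ⟨i⟩, rfl⟩
    rw [Sieve.pullback_comp]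
    refine T.pullback_stable k ?_
    obtain ⟨κ, hκ, V, ψ, hV, hC, hRψ⟩ := hd i
    let g : Over.mk (Sigma.desc ψ ≫ (U i).ι ≫ X.hom) ⟶ Over.mk ((U i).ι ≫ X.hom) :=
      Over.homMk (Sigma.desc ψ) rfl
    refine T.transitive (hCT g hC) _ ?_
    rintro Y' _ ⟨_, l, _, ⟨⟩, rfl⟩
    rw [Sieve.pullback_comp]
    refine T.pullback_stable l (hZT _ (mem_zariski_over _ (sigmaOpenCover V) fun j => ?_))
    change (κ : Type u) at j
    refine (?_ : R.arrows ((Over.homMk _ _ ≫ g) ≫ a i))
    have e : ((Over.homMk (U := Over.mk ((sigmaOpenCover V).f j ≫ Sigma.desc ψ ≫ (U i).ι ≫ X.hom))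
        (V := Over.mk (Sigma.desc ψ ≫ (U i).ι ≫ X.hom)) ((sigmaOpenCover V).f j) rfl ≫ g) ≫ a i) =
      Over.homMk (U := Over.mk ((sigmaOpenCover V).f j ≫ Sigma.desc ψ ≫ (U i).ι ≫ X.hom))
        (V := Over.mk ((ψ j ≫ (U i).ι) ≫ X.hom)) (𝟙 _) (by
          show 𝟙 _ ≫ (ψ j ≫ (U i).ι) ≫ X.hom = Sigma.ι V j ≫ Sigma.desc ψ ≫ (U i).ι ≫ X.hom
          simp) ≫ Over.homMk (U := Over.mk ((ψ j ≫ (U i).ι) ≫ X.hom)) (ψ j ≫ (U i).ι) rfl := by
      refine Over.OverMorphism.ext ?_
      show (Sigma.ι V j ≫ Sigma.desc ψ) ≫ (U i).ι = 𝟙 _ ≫ ψ j ≫ (U i).ι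
      simp
    exact e ▸ R.downward_closed (hRψ j) _

end Groth.SiteCohomology.ClassTopology
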