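import Groth.Prelude.Def_SGA4c
import Mathlib.CategoryTheory.Sites.IsSheafFor
import Mathlib.CategoryTheory.Sites.Sheaf
import Mathlib.CategoryTheory.Limits.Types.Filtered
import Mathlib.CategoryTheory.Limits.FunctorCategory.Basic
import Mathlib.CategoryTheory.Limits.Preserves.Basic

/-!
# Filtered colimits of sheaves on a quasi-compact site are objectwise
-/

universe u

open CategoryTheory Limits Opposite

set_option linter.unusedSectionVars false

namespace Groth.SiteCohomology.FilteredColimQC

variable {C : Type u} [SmallCategory C] [HasPullbacks C] {J : GrothendieckTopology C}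
  (hJ : ∀ U : C, ToposFin.IsQCSite J U) {I : Type u} [SmallCategory I] [IsFiltered I]
  (D : I ⥤ Sheaf J (Type u)) {E : Cocone (D ⋙ sheafToPresheaf J (Type u))} (hE : IsColimit E)

/-- The colimit at an object. -/
noncomputable def hEval (W : C) :
    IsColimit (((evaluation Cᵒᵖ (Type u)).obj (op W)).mapCocone E) :=
  isColimitOfPreserves ((evaluation Cᵒᵖ (Type u)).obj (op W)) hE

include hE in
lemma exists_rep {W : C} (x : E.pt.obj (op W)) :
    ∃ (i : I) (y : (D.obj i).obj.obj (op W)), (E.ι.app i).app (op W) y = x :=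
  Types.jointly_surjective _ (hEval D hE W) x

include hE in
lemma exists_eq {W : C} {i : I} (y y' : (D.obj i).obj.obj (op W))
    (h : (E.ι.app i).app (op W) y = (E.ι.app i).app (op W) y') :
    ∃ (j : I) (a : i ⟶ j), (D.map a).hom.app (op W) y = (D.map a).hom.app (op W) y' := by
  obtain ⟨j, a, b, hab⟩ := (Types.FilteredColimit.isColimit_eq_iff _ (hEval D hE W)).1 h
  refine ⟨IsFiltered.coeq a b, a ≫ IsFiltered.coeqHom a b, ?_⟩
  conv_rhs => rw [IsFiltered.coeq_condition a b]
  rw [D.map_comp, D.map_comp]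
  exact congrArg ((D.map (IsFiltered.coeqHom a b)).hom.app (op W)) hab

lemma ι_map {W : C} {i j : I} (a : i ⟶ j) (y : (D.obj i).obj.obj (op W)) :
    (E.ι.app j).app (op W) ((D.map a).hom.app (op W) y) = (E.ι.app i).app (op W) y :=
  ConcreteCategory.congr_hom (congrArg (fun t : (D.obj i).obj ⟶ E.pt => t.app (op W)) (E.w a)) y

lemma ι_res {V W : C} (g : W ⟶ V) {i : I} (y : (D.obj i).obj.obj (op V)) :
    E.pt.map g.op ((E.ι.app i).app (op V) y) = (E.ι.app i).app (op W) ((D.obj i).obj.map g.op y) :=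
  (ConcreteCategory.congr_hom ((E.ι.app i).naturality g.op) y).symm

include hE in
/-- Finitely many equalities hold at a stage. -/
lemma exists_stage {κ : Type} [Finite κ] (W : κ → C) {i : I}
    (y y' : ∀ k, (D.obj i).obj.obj (op (W k)))
    (h : ∀ k, (E.ι.app i).app (op (W k)) (y k) = (E.ι.app i).app (op (W k)) (y' k)) :
    ∃ (j : I) (a : i ⟶ j), ∀ k,
      (D.map a).hom.app (op (W k)) (y k) = (D.map a).hom.app (op (W k)) (y' k) := by
  classical
  cases nonempty_fintype κ
  suffices ∀ s : Finset κ, ∃ (j : I) (a : i ⟶ j), ∀ k ∈ s,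
      (D.map a).hom.app (op (W k)) (y k) = (D.map a).hom.app (op (W k)) (y' k) by
    obtain ⟨j, a, ha⟩ := this Finset.univ
    exact ⟨j, a, fun k => ha k (Finset.mem_univ k)⟩
  intro s
  induction s using Finset.induction_on with
  | empty => exact ⟨i, 𝟙 i, by simp⟩
  | @insert k s hk ih =>
    obtain ⟨j, a, ha⟩ := ih
    have h' : (E.ι.app j).app (op (W k)) ((D.map a).hom.app (op (W k)) (y k)) =
        (E.ι.app j).app (op (W k)) ((D.map a).hom.app (op (W k)) (y' k)) := by
      rw [ι_map, ι_map, h k]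
    obtain ⟨j', b, hb⟩ := exists_eq D hE _ _ h'
    refine ⟨j', a ≫ b, fun l hl => ?_⟩
    rw [D.map_comp]
    rcases Finset.mem_insert.1 hl with rfl | hl
    · exact hb
    · exact congrArg ((D.map b).hom.app (op (W l))) (ha l hl)

include hE in
lemma isSeparatedFor_fin {U : C} {n : ℕ} (V : Fin n → C) (g : ∀ k, V k ⟶ U)
    (hc : Sieve.ofArrows V g ∈ J U) (t t' : E.pt.obj (op U))
    (h : ∀ k, E.pt.map (g k).op t = E.pt.map (g k).op t') : t = t' := by
  obtain ⟨i, y, rfl⟩ := exists_rep D hE t
  obtain ⟨i', y', rfl⟩ := exists_rep D hE t'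
  obtain ⟨j, a, a', -⟩ := IsFilteredOrEmpty.cocone_objs i i'
  rw [← ι_map D a y, ← ι_map D a' y']
  rw [← ι_map D a y, ← ι_map D a' y'] at h
  simp only [ι_res] at h
  obtain ⟨j', b, hb⟩ := exists_stage D hE V (fun k => (D.obj j).obj.map (g k).op ((D.map a).hom.app _ y))
    (fun k => (D.obj j).obj.map (g k).op ((D.map a').hom.app _ y')) h
  rw [← ι_map D b, ← ι_map D b ((D.map a').hom.app _ y')]
  refine congrArg ((E.ι.app j').app (op U)) ?_
  have hs := ((isSheaf_iff_isSheaf_of_type _ _).1 (D.obj j').property) _ hc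
  refine hs.isSeparatedFor.ext fun Z f hf => ?_
  obtain ⟨k, q, rfl⟩ := (Sieve.mem_ofArrows_iff _ _ _).1 hf
  rw [op_comp, Functor.map_comp, ConcreteCategory.comp_apply, ConcreteCategory.comp_apply]
  refine congrArg ((D.obj j').obj.map q.op) ?_
  refine (ConcreteCategory.congr_hom ((D.map b).hom.naturality (g k).op) _).symm.trans ?_
  exact (hb k).trans (ConcreteCategory.congr_hom ((D.map b).hom.naturality (g k).op) _)

include hE in
lemma exists_amalgamation_fin {U : C} {n : ℕ} (V : Fin n → C) (g : ∀ k, V k ⟶ U)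
    (hc : Sieve.ofArrows V g ∈ J U) (x : ∀ k, E.pt.obj (op (V k)))
    (hx : ∀ k l, E.pt.map (pullback.fst (g k) (g l)).op (x k) = E.pt.map (pullback.snd (g k) (g l)).op (x l)) :
    ∃ t, ∀ k, E.pt.map (g k).op t = x k := by
  classical
  choose i y hy using fun k => exists_rep D hE (x k)
  obtain ⟨j, hj⟩ := IsFiltered.sup_objs_exists (Finset.univ.image i)
  let a' : ∀ k, i k ⟶ j := fun k => (hj (Finset.mem_image_of_mem i (Finset.mem_univ k))).some
  let z : ∀ k, (D.obj j).obj.obj (op (V k)) := fun k => (D.map (a' k)).hom.app _ (y k)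
  have hz : ∀ k, (E.ι.app j).app _ (z k) = x k := fun k => (ι_map D (a' k) (y k)).trans (hy k)
  obtain ⟨j', b, hb⟩ := exists_stage D hE (κ := Fin n × Fin n) (fun p => pullback (g p.1) (g p.2))
    (fun p => (D.obj j).obj.map (pullback.fst (g p.1) (g p.2)).op (z p.1))
    (fun p => (D.obj j).obj.map (pullback.snd (g p.1) (g p.2)).op (z p.2))
    (fun p => by
      rw [← ι_res, ← ι_res, hz, hz]
      exact hx p.1 p.2)
  have hs := ((isSheaf_iff_isSheaf_of_type _ _).1 (D.obj j').property) _ hc
  rw [Sieve.ofArrows, ← Presieve.isSheafFor_iff_generate, Presieve.isSheafFor_arrows_iff_pullbacks] at hs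
  obtain ⟨t, ht, -⟩ := hs (fun k => (D.map b).hom.app _ (z k)) (fun k l => by
    refine (ConcreteCategory.congr_hom ((D.map b).hom.naturality _) _).symm.trans ?_
    exact (hb (k, l)).trans (ConcreteCategory.congr_hom ((D.map b).hom.naturality _) _))
  refine ⟨(E.ι.app j').app _ t, fun k => ?_⟩
  rw [ι_res, ht k, ι_map, hz]

include hJ hE in
theorem isSheaf_pt : Presieve.IsSheaf J E.pt := by
  have hsep : ∀ {U : C} (S : Sieve U), S ∈ J U → ∀ t t' : E.pt.obj (op U),
      (∀ ⦃Z : C⦄ (f : Z ⟶ U), S f → E.pt.map f.op t = E.pt.map f.op t') → t = t' := by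
    intro U S hS t t' h
    obtain ⟨n, V, g, hg, hc⟩ := hJ U S hS
    exact isSeparatedFor_fin D hE V g hc t t' fun k => h _ (hg k)
  intro U S hS x hx
  obtain ⟨n, V, g, hg, hc⟩ := hJ U S hS
  obtain ⟨t, ht⟩ := exists_amalgamation_fin D hE V g hc (fun k => x (g k) (hg k))
    (fun k l => hx _ _ _ _ pullback.condition)
  refine ⟨t, fun Z f hf => ?_, fun t' ht' => hsep S hS t' t fun Z f hf => (ht' f hf).trans ?_⟩
  all_goals
    have key : E.pt.map f.op t = x f hf := by
      refine hsep _ (J.pullback_stable f hc) _ _ fun W q hq => ?_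
      obtain ⟨k, r, hr⟩ := (Sieve.mem_ofArrows_iff _ _ _).1 hq
      rw [← ConcreteCategory.comp_apply, ← Functor.map_comp, ← op_comp, hr, op_comp, Functor.map_comp,
        ConcreteCategory.comp_apply, ht k]
      exact hx r q (hg k) hf hr.symm
  · exact key
  · exact key.symm

include hJ in
theorem preservesColimitsOfShape : PreservesColimitsOfShape I (sheafToPresheaf J (Type u)) := by
  refine ⟨fun {D} => ?_⟩
  let E := colimit.cocone (D ⋙ sheafToPresheaf J (Type u))
  have hE : IsColimit E := colimit.isColimit _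
  let P : Sheaf J (Type u) := ⟨E.pt, (isSheaf_iff_isSheaf_of_type _ _).2 (isSheaf_pt hJ D hE)⟩
  let c : Cocone D :=
    { pt := P
      ι := { app := fun i => ⟨E.ι.app i⟩
             naturality := fun i j a => (sheafToPresheaf J (Type u)).map_injective (E.ι.naturality a) } }
  have hc : IsColimit ((sheafToPresheaf J (Type u)).mapCocone c) := hE.ofIsoColimit (Cocone.ext (Iso.refl _))
  exact preservesColimit_of_preserves_colimit_cocone (isColimitOfReflects (sheafToPresheaf J (Type u)) hc) hc

end Groth.SiteCohomology.FilteredColimQC
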