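import Mathlib.Topology.Sheaves.LocallySurjective
import Mathlib.Topology.Sheaves.SheafCondition.UniqueGluing
import Mathlib.Topology.Sheaves.Functors
import Mathlib.CategoryTheory.Sites.EpiMono

/-!
# Direct image along maps with finite separated fibres preserves epimorphisms
-/

universe u

open CategoryTheory Limits Opposite TopologicalSpace

set_option maxHeartbeats 1000000

namespace Groth.SiteCohomology

theorem preservesEpimorphisms_pushforward {X Y : TopCat.{u}} (π : X ⟶ Y)
    (h1 : ∀ (y : Y) (U : Set X), IsOpen U → π ⁻¹' {y} ⊆ U →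
      ∃ V : Set Y, IsOpen V ∧ y ∈ V ∧ π ⁻¹' V ⊆ U)
    (h2 : ∀ y : Y, (π ⁻¹' {y}).Finite ∧ ∃ U : X → Set X,
      (∀ x ∈ π ⁻¹' {y}, IsOpen (U x) ∧ x ∈ U x) ∧ (π ⁻¹' {y}).PairwiseDisjoint U) :
    (TopCat.Sheaf.pushforward (Type u) π).PreservesEpimorphisms := by
  refine ⟨fun {F G} φ hφ => ?_⟩
  have hloc : Sheaf.IsLocallySurjective φ := (Sheaf.isLocallySurjective_iff_epi φ).2 hφ
  have : Sheaf.IsLocallySurjective ((TopCat.Sheaf.pushforward (Type u) π).map φ) := by
    refine ⟨fun {V} s y hy => ?_⟩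
    obtain ⟨-, U, hU, hdis⟩ := h2 y
    let Vp : Opens X := (Opens.map π).obj V
    have hmem : ∀ x : {x : X // π x = y}, x.1 ∈ Vp := fun x => by
      show π x.1 ∈ V
      rw [x.2]
      exact hy
    have hloc' : ∀ x : {x : X // π x = y}, ∃ (W : Opens X) (_ : W ≤ Vp) (t : F.obj.obj (op W)),
        x.1 ∈ W ∧ (W : Set X) ⊆ U x.1 ∧ ∀ (i : W ⟶ Vp), φ.hom.app (op W) t = G.obj.map i.op s := by
      intro x
      obtain ⟨W, i, ⟨t, ht⟩, hxW⟩ := Presheaf.imageSieve_mem (Opens.grothendieckTopology X) φ.hom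
        (U := op Vp) s x.1 (hmem x)
      let W' : Opens X := W ⊓ ⟨U x.1, (hU x.1 x.2).1⟩
      refine ⟨W', inf_le_left.trans i.le, F.obj.map (homOfLE inf_le_left).op t,
        ⟨hxW, (hU x.1 x.2).2⟩, fun z hz => hz.2, fun j => ?_⟩
      refine (congrArg (fun k => k t) (φ.hom.naturality (homOfLE inf_le_left : W' ⟶ W).op)).trans ?_
      refine (congrArg (G.obj.map (homOfLE inf_le_left : W' ⟶ W).op) ht).trans ?_
      refine (congrArg (fun k => k s) (G.obj.map_comp i.op (homOfLE inf_le_left : W' ⟶ W).op)).symm.trans ?_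
      exact congrArg (fun k => G.obj.map k s) (Quiver.Hom.unop_inj (Subsingleton.elim _ _))
    choose W hW t hxW hWU ht using hloc'
    obtain ⟨V', hV'o, hyV', hV'sub⟩ := h1 y (⋃ x, (W x : Set X))
      (isOpen_iUnion fun x => (W x).2) (fun x hx => Set.mem_iUnion.2 ⟨⟨x, hx⟩, hxW _⟩)
    let V'' : Opens Y := ⟨V', hV'o⟩ ⊓ V
    let P : Opens X := (Opens.map π).obj V''
    let Z : {x : X // π x = y} → Opens X := fun x => P ⊓ W x
    let st : ∀ x, F.obj.obj (op (Z x)) := fun x => F.obj.map (homOfLE inf_le_right).op (t x)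
    have hc : TopCat.Presheaf.IsCompatible F.obj Z st := by
      intro a b
      by_cases hab : a = b
      · subst hab; rfl
      · have hbot : Z a ⊓ Z b ≤ ⊥ := fun z hz => by
          have hd := hdis a.2 b.2 (fun e => hab (Subtype.ext e))
          exact absurd (Set.mem_inter (hWU a hz.1.2) (hWU b hz.2.2))
            (Set.eq_empty_iff_forall_notMem.1 (Set.disjoint_iff_inter_eq_empty.1 hd) z)
        have hsub : Subsingleton (F.obj.obj (op (Z a ⊓ Z b))) :=
          (Types.isTerminalEquivUnique _ (IsTerminal.ofIso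
            (TopCat.Sheaf.isTerminalOfEmpty (C := Type u) F)
            (eqToIso (congrArg (fun B => F.obj.obj (op B)) (le_bot_iff.1 hbot).symm)))).instSubsingleton
        exact @Subsingleton.elim _ hsub _ _
    obtain ⟨g, hg, -⟩ := TopCat.Sheaf.existsUnique_gluing' (C := Type u) F Z P
      (fun x => homOfLE inf_le_left) (fun z hz => by
        obtain ⟨x, hx⟩ := Set.mem_iUnion.1 (hV'sub hz.1)
        exact Opens.mem_iSup.2 ⟨x, hz, hx⟩) st hc
    refine ⟨V'', homOfLE inf_le_right, ⟨g, ?_⟩, hyV', hy⟩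
    refine TopCat.Sheaf.eq_of_locally_eq' (C := Type u) G Z P (fun x => homOfLE inf_le_left)
      (fun z hz => by
        obtain ⟨x, hx⟩ := Set.mem_iUnion.1 (hV'sub hz.1)
        exact Opens.mem_iSup.2 ⟨x, hz, hx⟩) _ _ fun x => ?_
    refine (congrArg (fun k => k g) (φ.hom.naturality (homOfLE inf_le_left : Z x ⟶ P).op)).symm.trans ?_
    refine (congrArg (φ.hom.app (op (Z x))) (hg x)).trans ?_
    refine (congrArg (fun k => k (t x)) (φ.hom.naturality (homOfLE inf_le_right : Z x ⟶ W x).op)).trans ?_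
    refine (congrArg (G.obj.map (homOfLE inf_le_right : Z x ⟶ W x).op) (ht x (homOfLE (hW x)))).trans ?_
    have key : ∀ {p q r : (Opens X)ᵒᵖ} (i : p ⟶ q) (j : q ⟶ r) (y : G.obj.obj p) (l : p ⟶ r),
        G.obj.map j (G.obj.map i y) = G.obj.map l y := fun i j y l => by
      rw [show l = i ≫ j from Quiver.Hom.unop_inj (Subsingleton.elim _ _), G.obj.map_comp]
      rfl
    exact (key _ _ s ((homOfLE (inf_le_right.trans (hW x) : Z x ≤ Vp)).op)).trans
      (key _ _ _ _).symm
  exact (Sheaf.isLocallySurjective_iff_epi _).1 this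

end Groth.SiteCohomology
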