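import Groth.Agent.SiteCohomology.CechEdgeTheory

/-!
# Existence of the comparison maps from Čech cohomology
-/

universe u

open CategoryTheory Limits Opposite

set_option synthInstance.maxHeartbeats 400000
set_option maxHeartbeats 1000000

namespace Groth.SiteCohomology

open Abelian CechEdge

section MorphismSES

variable {A : Type*} [Category A] [Abelian A] [EnoughInjectives A]

/-- The map of chosen short exact sequences extending a morphism. -/
noncomputable def injSESMap {P Q : A} (φ : P ⟶ Q) : injSES P ⟶ injSES Q :=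
  ShortComplex.homMk φ (Injective.factorThru (φ ≫ Injective.ι Q) (Injective.ι P))
    (cokernel.map _ _ φ (Injective.factorThru (φ ≫ Injective.ι Q) (Injective.ι P))
      (Injective.comp_factorThru _ _))
    (Injective.comp_factorThru _ _).symm (cokernel.π_desc _ _ _).symm

/-- Any short exact sequence maps to the chosen one. -/
theorem exists_hom_injSES {S : ShortComplex A} (hS : S.ShortExact) :
    ∃ χ : S ⟶ injSES S.X₁, χ.τ₁ = 𝟙 _ := by
  have := hS.mono_f
  have := hS.epi_g
  let t : S.X₂ ⟶ Injective.under S.X₁ := Injective.factorThru (Injective.ι S.X₁) S.f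
  have ht : S.f ≫ t = Injective.ι S.X₁ := Injective.comp_factorThru _ _
  have hw : S.f ≫ t ≫ cokernel.π (Injective.ι S.X₁) = 0 := by
    rw [← Category.assoc, ht, cokernel.condition]
  exact ⟨ShortComplex.homMk (𝟙 _) t (hS.exact.desc _ hw)
    ((Category.id_comp _).trans ht.symm) (hS.exact.g_desc _ hw).symm, rfl⟩

end MorphismSES

variable {C : Type u} [SmallCategory C] [HasPullbacks C] {J : GrothendieckTopology C} {U : C}
  {ι : Type u} {Y : ι → Over U}

lemma sectH0_natural {F G : Sheaf J AddCommGrpCat.{u}} (ψ : F ⟶ G) (s : F.obj.obj (op U)) :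
    HUmap ψ 0 U (sectH0 J U F s) = sectH0 J U G (ψ.hom.app (op U) s) := by
  rw [HUmap_apply]
  change (Ext.mk₀ (CohFree.ofSect J U F s)).comp (Ext.mk₀ ψ) _ = Ext.mk₀ (CohFree.ofSect J U G _)
  rw [Ext.mk₀_comp_mk₀, ofSect_comp]

/-- The class of the sheafified section. -/
noncomputable def sheafClass (P : Cᵒᵖ ⥤ AddCommGrpCat.{u}) :
    P.obj (op U) →+ CohSite.HU (shf J P) 0 U :=
  (sectH0 J U (shf J P)).toAddMonoidHom.comp ((toSheafify J P).app (op U)).hom

lemma sheafClass_natural {P Q : Cᵒᵖ ⥤ AddCommGrpCat.{u}} (φ : P ⟶ Q) (s : P.obj (op U)) :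
    sheafClass (J := J) Q (φ.app (op U) s) = HUmap (shfMap J φ) 0 U (sheafClass P s) := by
  refine Eq.trans ?_ (sectH0_natural (shfMap J φ) ((toSheafify J P).app (op U) s)).symm
  exact congrArg (sectH0 J U (shf J Q))
    (ConcreteCategory.congr_hom (NatTrans.congr_app (toSheafify_naturality J φ) (op U)) s)

variable (hY : famSieve Y ∈ J U)

/-- The comparison map in degree zero. -/
noncomputable def edgeZero (P : Cᵒᵖ ⥤ AddCommGrpCat.{u}) :
    CohCx.cechH P Y 0 →+ CohSite.HU (shf J P) 0 U :=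
  ((AddEquiv.ofBijective _ (HUmap_bijective (U := U) (shfMap J (toSheafify J P)) 0)).symm.toAddMonoidHom.comp
    (sheafClass (shf J P).obj)).comp
      ((AddEquiv.ofBijective _ (bijective_toCech_of_cover hY (shf J P))).symm.toAddMonoidHom.comp
        (cechHMap Y (toSheafify J P) 0))

lemma edgeZero_spec (P : Cᵒᵖ ⥤ AddCommGrpCat.{u}) (x : CohCx.cechH P Y 0)
    (t : (shf J P).obj.obj (op U)) (ht : toCech Y (shf J P).obj t = cechHMap Y (toSheafify J P) 0 x) :
    HUmap (shfMap J (toSheafify J P)) 0 U (edgeZero hY P x) = sheafClass (shf J P).obj t := by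
  refine Eq.trans ((AddEquiv.ofBijective _ (HUmap_bijective (U := U) (shfMap J (toSheafify J P)) 0)).apply_symm_apply _) ?_
  refine congrArg (sheafClass (shf J P).obj) ((bijective_toCech_of_cover hY (shf J P)).1 ?_)
  rw [ht]
  exact (AddEquiv.ofBijective _ (bijective_toCech_of_cover hY (shf J P))).apply_symm_apply _

lemma edgeZero_toCech (P : Cᵒᵖ ⥤ AddCommGrpCat.{u}) (s : P.obj (op U)) :
    edgeZero hY P (toCech Y P s) = sheafClass P s := by
  refine (HUmap_bijective (shfMap J (toSheafify J P)) 0).1 ?_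
  rw [edgeZero_spec hY P _ ((toSheafify J P).app (op U) s) (toCech_natural Y _ s).symm,
    ← sheafClass_natural]

lemma edgeZero_natural {P Q : Cᵒᵖ ⥤ AddCommGrpCat.{u}} (φ : P ⟶ Q) (x : CohCx.cechH P Y 0) :
    edgeZero hY Q (cechHMap Y φ 0 x) = HUmap (shfMap J φ) 0 U (edgeZero hY P x) := by
  obtain ⟨t, ht⟩ := (bijective_toCech_of_cover hY (shf J P)).2 (cechHMap Y (toSheafify J P) 0 x)
  refine (HUmap_bijective (shfMap J (toSheafify J Q)) 0).1 ?_
  rw [edgeZero_spec hY Q _ ((shfMap J φ).hom.app (op U) t) (by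
      rw [← toCech_natural, ht, ← cechHMap_comp_apply, ← cechHMap_comp_apply]
      exact congrArg (fun k => cechHMap Y k 0 x) (toSheafify_naturality J φ).symm),
    ← HUmap_comp_apply]
  rw [show shfMap J φ ≫ shfMap J (toSheafify J Q) = shfMap J (toSheafify J P) ≫ shfMap J (shfMap J φ).hom by
    rw [← Functor.map_comp, ← Functor.map_comp]
    exact congrArg _ (toSheafify_naturality J φ)]
  rw [HUmap_comp_apply, edgeZero_spec hY P x t ht, ← sheafClass_natural]

/-- A natural family in one degree. -/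
def DegFam (J : GrothendieckTopology C) (Y : ι → Over U) (p : ℕ) : Type (u + 1) :=
  {e : ∀ P : Cᵒᵖ ⥤ AddCommGrpCat.{u}, CohCx.cechH P Y p →+ CohSite.HU (shf J P) p U //
    ∀ (P Q : Cᵒᵖ ⥤ AddCommGrpCat.{u}) (φ : P ⟶ Q) (x : CohCx.cechH P Y p),
      e Q (cechHMap Y φ p x) = HUmap (shfMap J φ) p U (e P x)}

variable {p : ℕ} (e : DegFam J Y p)

/-- The composite with the connecting map of the chosen sequence. -/
noncomputable def preNext (P : Cᵒᵖ ⥤ AddCommGrpCat.{u}) :
    CohCx.cechH (injSES P).X₃ Y p →+ CohSite.HU (shf J P) (p + 1) U :=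
  (extδ ((injSES_shortExact P).map_of_exact (presheafToSheaf J AddCommGrpCat.{u})) U p).comp
    (e.1 (injSES P).X₃)

lemma preNext_eq_zero (P : Cᵒᵖ ⥤ AddCommGrpCat.{u}) (y : CohCx.cechH (injSES P).X₃ Y p)
    (hy : cechδ Y (injSES_shortExact P) p y = 0) : preNext e P y = 0 := by
  have hex := (shortExact_map_cxFunctor Y (injSES P) (injSES_shortExact P)).homology_exact₃ p (p + 1) rfl
  obtain ⟨z, hz⟩ := (ShortComplex.ab_exact_iff _).1 hex y hy
  subst hz
  refine Eq.trans (congrArg
    (extδ ((injSES_shortExact P).map_of_exact (presheafToSheaf J AddCommGrpCat.{u})) U p)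
    (e.2 _ _ (injSES P).g z)) ?_
  exact extδ_comp_g ((injSES_shortExact P).map_of_exact (presheafToSheaf J AddCommGrpCat.{u})) p _

lemma surjective_cechδ_injSES (P : Cᵒᵖ ⥤ AddCommGrpCat.{u}) :
    Function.Surjective (cechδ Y (injSES_shortExact P) p) :=
  have : Injective (injSES P).X₂ := inferInstanceAs (Injective (Injective.under P))
  cechδ_surjective Y (injSES_shortExact P) p (isZero_cechH_injective Y (injSES P).X₂ p)

/-- The family in the next degree. -/
noncomputable def nextHom (P : Cᵒᵖ ⥤ AddCommGrpCat.{u}) :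
    CohCx.cechH P Y (p + 1) →+ CohSite.HU (shf J P) (p + 1) U :=
  (cechδ Y (injSES_shortExact P) p).liftOfSurjective (surjective_cechδ_injSES P)
    ⟨preNext e P, preNext_eq_zero e P⟩

lemma nextHom_δ (P : Cᵒᵖ ⥤ AddCommGrpCat.{u}) (y : CohCx.cechH (injSES P).X₃ Y p) :
    nextHom e P (cechδ Y (injSES_shortExact P) p y) = preNext e P y :=
  AddMonoidHom.liftOfRightInverse_comp_apply _ _ _ _ y

lemma nextHom_natural {P Q : Cᵒᵖ ⥤ AddCommGrpCat.{u}} (φ : P ⟶ Q) (x : CohCx.cechH P Y (p + 1)) :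
    nextHom e Q (cechHMap Y φ (p + 1) x) = HUmap (shfMap J φ) (p + 1) U (nextHom e P x) := by
  obtain ⟨y, rfl⟩ := surjective_cechδ_injSES (Y := Y) P x
  rw [nextHom_δ]
  refine Eq.trans (congrArg (nextHom e Q) (cechδ_natural Y (injSES_shortExact P) (injSES_shortExact Q)
    (injSESMap φ) p y)) ?_
  rw [nextHom_δ]
  refine Eq.trans (congrArg (extδ ((injSES_shortExact Q).map_of_exact
    (presheafToSheaf J AddCommGrpCat.{u})) U p) (e.2 _ _ (injSESMap φ).τ₃ y)) ?_
  exact (extδ_natural ((injSES_shortExact P).map_of_exact (presheafToSheaf J AddCommGrpCat.{u}))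
    ((injSES_shortExact Q).map_of_exact (presheafToSheaf J AddCommGrpCat.{u}))
    ((presheafToSheaf J AddCommGrpCat.{u}).mapShortComplex.map (injSESMap φ)) p _).symm

/-- The comparison family, degree by degree. -/
noncomputable def edgeFam : ∀ p : ℕ, DegFam J Y p
  | 0 => ⟨edgeZero hY, fun _ _ φ x => edgeZero_natural hY φ x⟩
  | p + 1 => ⟨nextHom (edgeFam p), fun _ _ φ x => nextHom_natural (edgeFam p) φ x⟩

include hY in
/-- Every covering family has an edge family. -/
theorem exists_isEdge :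
    ∃ e : ∀ (P : Cᵒᵖ ⥤ AddCommGrpCat.{u}) (p : ℕ), CohCx.cechH P Y p →+ CohSite.HU (shf J P) p U,
      IsEdge J Y e := by
  refine ⟨fun P p => (edgeFam hY p).1 P, hY, fun P s => edgeZero_toCech hY P s,
    fun P Q φ p x => (edgeFam hY p).2 P Q φ x, fun S hS hC p x => ?_⟩
  obtain ⟨χ, hχ⟩ := exists_hom_injSES hS
  have hδ : cechδ Y hS p x = cechδ Y (injSES_shortExact S.X₁) p (cechHMap Y χ.τ₃ p x) := by
    have h := cechδ_natural Y hS (injSES_shortExact S.X₁) χ p x
    rw [hχ] at h
    refine Eq.trans ?_ h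
    have e1 : HomologicalComplex.homologyMap ((cxFunctor Y).map (𝟙 S.X₁)) (p + 1) = 𝟙 _ := by
      rw [CategoryTheory.Functor.map_id, HomologicalComplex.homologyMap_id]
    exact (ConcreteCategory.congr_hom e1 _).symm
  refine Eq.trans (congrArg ((edgeFam hY (p + 1)).1 S.X₁) hδ) ?_
  refine (nextHom_δ (edgeFam hY p) S.X₁ _).trans ?_
  refine Eq.trans (congrArg (extδ ((injSES_shortExact S.X₁).map_of_exact
    (presheafToSheaf J AddCommGrpCat.{u})) U p) ((edgeFam hY p).2 _ _ χ.τ₃ x)) ?_
  have h := extδ_natural (hS.map_of_exact (presheafToSheaf J AddCommGrpCat.{u}))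
    ((injSES_shortExact S.X₁).map_of_exact (presheafToSheaf J AddCommGrpCat.{u}))
    ((presheafToSheaf J AddCommGrpCat.{u}).mapShortComplex.map χ) p ((edgeFam hY p).1 S.X₃ x)
  refine h.symm.trans ?_
  have e2 : ((presheafToSheaf J AddCommGrpCat.{u}).mapShortComplex.map χ).τ₁ = 𝟙 _ :=
    (congrArg (presheafToSheaf J AddCommGrpCat.{u}).map hχ).trans (CategoryTheory.Functor.map_id _ _)
  rw [e2]
  exact HUmap_id_apply _ _

end Groth.SiteCohomology
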