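import Groth.Agent.SiteCohomology.CechSheafZero
import Mathlib.CategoryTheory.Abelian.GrothendieckAxioms.FunctorCategory
import Mathlib.Algebra.Homology.HomologySequenceLemmas

/-!
# The comparison maps from Čech cohomology: uniqueness and basic properties
-/

universe u

open CategoryTheory Limits Opposite

set_option synthInstance.maxHeartbeats 400000
set_option maxHeartbeats 1000000

namespace Groth.SiteCohomology

open Abelian CechEdge

variable {C : Type u} [SmallCategory C] [HasPullbacks C] {J : GrothendieckTopology C} {U : C}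
  {ι : Type u} {Y : ι → Over U}

omit [HasPullbacks C] in
instance enoughInjectives_presheaf : EnoughInjectives (Cᵒᵖ ⥤ AddCommGrpCat.{u}) := by
  refine ⟨fun P => ⟨?_⟩⟩
  let M : Sheaf (⊥ : GrothendieckTopology C) AddCommGrpCat.{u} := ⟨P, Presheaf.isSheaf_bot _⟩
  let E := sheafBotEquivalence (C := C) AddCommGrpCat.{u}
  exact { J := E.functor.obj (Injective.under M)
          injective := Injective.injective_of_adjoint E.symm.toAdjunction (Injective.under M)
          f := E.functor.map (Injective.ι M)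
          mono := inferInstanceAs (Mono (E.functor.map (Injective.ι M))) }

lemma HUmap_apply {F G : Sheaf J AddCommGrpCat.{u}} (ψ : F ⟶ G) (p : ℕ) (x : CohSite.HU F p U) :
    HUmap ψ p U x = (show Ext (CohCx.freeSheaf J U) F p from x).comp (Ext.mk₀ ψ) (add_zero p) := rfl

lemma HUmap_id_apply {F : Sheaf J AddCommGrpCat.{u}} (p : ℕ) (x : CohSite.HU F p U) :
    HUmap (𝟙 F) p U x = x := by
  rw [HUmap_apply]; exact Ext.comp_mk₀_id _

lemma HUmap_comp_apply {F G H : Sheaf J AddCommGrpCat.{u}} (ψ : F ⟶ G) (χ : G ⟶ H) (p : ℕ)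
    (x : CohSite.HU F p U) : HUmap (ψ ≫ χ) p U x = HUmap χ p U (HUmap ψ p U x) := by
  rw [HUmap_apply, HUmap_apply, HUmap_apply, Ext.comp_assoc_of_third_deg_zero, Ext.mk₀_comp_mk₀]

lemma HUmap_bijective {F G : Sheaf J AddCommGrpCat.{u}} (ψ : F ⟶ G) [IsIso ψ] (p : ℕ) :
    Function.Bijective (HUmap ψ p U) :=
  ⟨fun a b h => by
    have := congrArg (HUmap (inv ψ) p U) h
    rwa [← HUmap_comp_apply, ← HUmap_comp_apply, IsIso.hom_inv_id, HUmap_id_apply,
      HUmap_id_apply] at this,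
   fun b => ⟨HUmap (inv ψ) p U b, by rw [← HUmap_comp_apply, IsIso.inv_hom_id, HUmap_id_apply]⟩⟩

lemma extδ_natural {S S' : ShortComplex (Sheaf J AddCommGrpCat.{u})} (hS : S.ShortExact)
    (hS' : S'.ShortExact) (φ : S ⟶ S') (p : ℕ) (x : CohSite.HU S.X₃ p U) :
    HUmap φ.τ₁ (p + 1) U (extδ hS U p x) = extδ hS' U p (HUmap φ.τ₃ p U x) := by
  rw [HUmap_apply, HUmap_apply]
  change ((show Ext (CohCx.freeSheaf J U) S.X₃ p from x).comp hS.extClass rfl).comp _ _ =
    (((show Ext (CohCx.freeSheaf J U) S.X₃ p from x).comp (Ext.mk₀ φ.τ₃) (add_zero p))).comp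
      hS'.extClass rfl
  rw [Ext.comp_assoc _ _ _ rfl (add_zero 1) (by omega),
    Ext.comp_assoc _ _ _ (add_zero p) (zero_add 1) (by omega),
    ShortComplex.ShortExact.extClass_naturality hS hS' φ]

lemma extδ_comp_g {S : ShortComplex (Sheaf J AddCommGrpCat.{u})} (hS : S.ShortExact) (p : ℕ)
    (x : CohSite.HU S.X₂ p U) : extδ hS U p (HUmap S.g p U x) = 0 := by
  change ((show Ext (CohCx.freeSheaf J U) S.X₂ p from x).comp (Ext.mk₀ S.g) (add_zero p)).comp
    hS.extClass rfl = 0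
  rw [Ext.comp_assoc _ _ _ (add_zero p) (zero_add 1) (by omega), hS.comp_extClass, Ext.comp_zero]

variable (Y) in
/-- The connecting map of Čech cohomology. -/
noncomputable def cechδ {S : ShortComplex (Cᵒᵖ ⥤ AddCommGrpCat.{u})} (hS : S.ShortExact) (p : ℕ) :
    CohCx.cechH S.X₃ Y p →+ CohCx.cechH S.X₁ Y (p + 1) :=
  ((shortExact_map_cxFunctor Y S hS).δ p (p + 1) rfl).hom

variable (Y) in
lemma cechδ_natural {S S' : ShortComplex (Cᵒᵖ ⥤ AddCommGrpCat.{u})} (hS : S.ShortExact)
    (hS' : S'.ShortExact) (φ : S ⟶ S') (p : ℕ) (x : CohCx.cechH S.X₃ Y p) :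
    cechHMap Y φ.τ₁ (p + 1) (cechδ Y hS p x) = cechδ Y hS' p (cechHMap Y φ.τ₃ p x) :=
  ConcreteCategory.congr_hom (HomologicalComplex.HomologySequence.δ_naturality
    ((cxFunctor Y).mapShortComplex.map φ) (shortExact_map_cxFunctor Y S hS)
    (shortExact_map_cxFunctor Y S' hS') p (p + 1) rfl) x

variable (Y) in
lemma cechδ_surjective {S : ShortComplex (Cᵒᵖ ⥤ AddCommGrpCat.{u})} (hS : S.ShortExact) (p : ℕ)
    (h : IsZero (CohCx.cechH S.X₂ Y (p + 1))) : Function.Surjective (cechδ Y hS p) := fun x => by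
  have hex := (shortExact_map_cxFunctor Y S hS).homology_exact₁ p (p + 1) rfl
  have := AddCommGrpCat.subsingleton_of_isZero h
  exact (ShortComplex.ab_exact_iff _).1 hex x (Subsingleton.elim (α := CohCx.cechH S.X₂ Y (p + 1)) _ _)

variable (Y) in
lemma cechHMap_comp_apply {P Q R : Cᵒᵖ ⥤ AddCommGrpCat.{u}} (φ : P ⟶ Q) (ψ : Q ⟶ R) (p : ℕ)
    (x : CohCx.cechH P Y p) :
    cechHMap Y (φ ≫ ψ) p x = cechHMap Y ψ p (cechHMap Y φ p x) := by
  have e : HomologicalComplex.homologyMap ((cxFunctor Y).map (φ ≫ ψ)) p =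
      HomologicalComplex.homologyMap ((cxFunctor Y).map φ) p ≫
        HomologicalComplex.homologyMap ((cxFunctor Y).map ψ) p := by
    rw [Functor.map_comp, HomologicalComplex.homologyMap_comp]
  exact ConcreteCategory.congr_hom e x

lemma coord_map_f {P Q : Cᵒᵖ ⥤ AddCommGrpCat.{u}} (φ : P ⟶ Q) (i : ι) (c : (cx P Y).X 0) :
    coord Y Q i (((cxFunctor Y).map φ).f 0 c) = φ.app (op (Y i).left) (coord Y P i c) := by
  have e1 : ((cxFunctor Y).map φ).f 0 ≫ Pi.π (fun a : Fin 1 → ι => Q.obj (op (∏ᶜ (Y ∘ a)).left))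
      (fun _ => i) = Pi.π (fun a : Fin 1 → ι => P.obj (op (∏ᶜ (Y ∘ a)).left)) (fun _ => i) ≫
        φ.app (op (∏ᶜ (Y ∘ fun _ : Fin 1 => i)).left) :=
    limMap_π (Discrete.natTrans _) ⟨fun _ => i⟩
  exact ((congrArg (Q.map _) (ConcreteCategory.congr_hom e1 c))).trans
    (NatTrans.naturality_apply φ _ _).symm

variable (Y) in
lemma toCech_natural {P Q : Cᵒᵖ ⥤ AddCommGrpCat.{u}} (φ : P ⟶ Q) (s : P.obj (op U)) :
    cechHMap Y φ 0 (toCech Y P s) = toCech Y Q (φ.app (op U) s) := by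
  change HomologicalComplex.homologyMap ((cxFunctor Y).map φ) 0
    ((cx P Y).homologyπ 0 (toCycles P Y s)) = (cx Q Y).homologyπ 0 (toCycles Q Y (φ.app (op U) s))
  refine (ConcreteCategory.congr_hom
    (HomologicalComplex.homologyπ_naturality ((cxFunctor Y).map φ) 0) (toCycles P Y s)).trans ?_
  refine congrArg ((cx Q Y).homologyπ 0) ((AddCommGrpCat.mono_iff_injective ((cx Q Y).iCycles 0)).1
    inferInstance (coord_ext Y fun i => ?_))
  refine (congrArg (coord Y Q i) (ConcreteCategory.congr_hom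
    (HomologicalComplex.cyclesMap_i ((cxFunctor Y).map φ) 0) (toCycles P Y s))).trans ?_
  refine Eq.trans ?_ ((congrArg (coord Y Q i) (ConcreteCategory.congr_hom (toCycles_i Q Y) _)).trans
    (coord_toCech₀ Y Q (φ.app (op U) s) i)).symm
  refine (coord_map_f φ i _).trans ?_
  exact (congrArg (φ.app _) ((congrArg (coord Y P i) (ConcreteCategory.congr_hom (toCycles_i P Y) s)).trans
    (coord_toCech₀ Y P s i))).trans (NatTrans.naturality_apply φ (Y i).hom.op s)

lemma bijective_toCech_of_cover (hY : famSieve Y ∈ J U) (F : Sheaf J AddCommGrpCat.{u}) :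
    Function.Bijective (toCech Y F.obj) :=
  (isSheaf_iff_toCech_bijective J F.obj).1 F.property U ι Y hY

instance isIso_shfMap_toSheafify (P : Cᵒᵖ ⥤ AddCommGrpCat.{u}) :
    IsIso (shfMap J (toSheafify J P)) :=
  (GrothendieckTopology.W_iff _ _).1 (J.W_toSheafify P)

variable {e e' : ∀ (P : Cᵒᵖ ⥤ AddCommGrpCat.{u}) (p : ℕ), CohCx.cechH P Y p →+ CohSite.HU (shf J P) p U}

theorem IsEdge.delta' (he : IsEdge J Y e) {S : ShortComplex (Cᵒᵖ ⥤ AddCommGrpCat.{u})}
    (hS : S.ShortExact) (p : ℕ) (x : CohCx.cechH S.X₃ Y p) :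
    e S.X₁ (p + 1) (cechδ Y hS p x) =
      extδ (hS.map_of_exact (presheafToSheaf J AddCommGrpCat.{u})) U p (e S.X₃ p x) :=
  he.delta S hS (shortExact_map_cxFunctor Y S hS) p x

theorem isEdge_zero_eq (he : IsEdge J Y e) (he' : IsEdge J Y e') (P : Cᵒᵖ ⥤ AddCommGrpCat.{u})
    (x : CohCx.cechH P Y 0) : e P 0 x = e' P 0 x := by
  refine (HUmap_bijective (shfMap J (toSheafify J P)) 0).1 ?_
  rw [← he.natural, ← he'.natural]
  obtain ⟨s, hs⟩ := (bijective_toCech_of_cover he.cover (shf J P)).2 (cechHMap Y (toSheafify J P) 0 x)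
  rw [← hs]
  exact (he.zero _ s).trans (he'.zero _ s).symm

/-- Edge families are unique. -/
theorem isEdge_unique (he : IsEdge J Y e) (he' : IsEdge J Y e') : e = e' := by
  funext P p
  induction p generalizing P with
  | zero => exact AddMonoidHom.ext (isEdge_zero_eq he he' P)
  | succ p ih =>
    refine AddMonoidHom.ext fun x => ?_
    have hI : Injective (injSES P).X₂ := inferInstanceAs (Injective (Injective.under P))
    obtain ⟨y, rfl⟩ := cechδ_surjective Y (injSES_shortExact P) p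
      (isZero_cechH_injective Y (injSES P).X₂ p) x
    rw [IsEdge.delta' he (injSES_shortExact P), IsEdge.delta' he' (injSES_shortExact P), ih]

end Groth.SiteCohomology
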