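import Groth.Agent.SiteCohomology.CechPresheaf

/-!
# Sheaves and Čech cohomology in degree zero
-/

universe u

open CategoryTheory Limits Opposite

set_option synthInstance.maxHeartbeats 400000
set_option maxHeartbeats 1000000

namespace Groth.SiteCohomology

variable {C : Type u} [SmallCategory C] [HasPullbacks C] {U : C} {ι : Type u} (Y : ι → Over U)

lemma prev_up_nat_zero : (ComplexShape.up ℕ).prev 0 = 0 :=
  (ComplexShape.up ℕ).prev_eq_self 0 (by simp)

lemma homologyπ_zero_bijective (P : Cᵒᵖ ⥤ AddCommGrpCat.{u}) :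
    Function.Bijective ((CechEdge.cx P Y).homologyπ 0) := by
  have : IsIso ((CechEdge.cx P Y).homologyπ 0) :=
    (CechEdge.cx P Y).isIso_homologyπ 0 0 prev_up_nat_zero ((CechEdge.cx P Y).shape 0 0 (by simp))
  exact ConcreteCategory.bijective_of_isIso _

lemma exists_cycle_zero {P : Cᵒᵖ ⥤ AddCommGrpCat.{u}} (x : (CechEdge.cx P Y).X 0)
    (hx : (CechEdge.cx P Y).d 0 1 x = 0) : ∃ z, (CechEdge.cx P Y).iCycles 0 z = x := by
  have hex : (ShortComplex.mk ((CechEdge.cx P Y).iCycles 0) ((CechEdge.cx P Y).d 0 1)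
      ((CechEdge.cx P Y).iCycles_d 0 1)).Exact :=
    ShortComplex.exact_of_f_is_kernel _
      ((CechEdge.cx P Y).cyclesIsKernel 0 1 (CochainComplex.next ℕ 0))
  exact (ShortComplex.ab_exact_iff _).1 hex x hx

/-- `P(U) → Ȟ⁰` is bijective iff compatible families amalgamate uniquely. -/
theorem bijective_toCech_iff (P : Cᵒᵖ ⥤ AddCommGrpCat.{u}) :
    Function.Bijective (CechEdge.toCech Y P) ↔
      ∀ w : ∀ i, P.obj (op (Y i).left), Compat Y P w → ∃! s, ∀ i, P.map (Y i).hom.op s = w i := by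
  have hπ := homologyπ_zero_bijective Y P
  have hi : Function.Injective ((CechEdge.cx P Y).iCycles 0) :=
    (AddCommGrpCat.mono_iff_injective _).1 inferInstance
  have hv : ∀ s i, coord Y P i ((CechEdge.cx P Y).iCycles 0 (CechEdge.toCycles P Y s)) =
      P.map (Y i).hom.op s := fun s i =>
    (congrArg (coord Y P i) (ConcreteCategory.congr_hom (CechEdge.toCycles_i P Y) s)).trans
      (coord_toCech₀ Y P s i)
  constructor
  · intro h w hw
    obtain ⟨x, hx⟩ := exists_coord Y P w
    have hw' : (fun i => coord Y P i x) = w := funext hx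
    obtain ⟨z, hz⟩ := exists_cycle_zero Y x ((d_eq_zero_iff Y P x).2 (hw'.symm ▸ hw))
    obtain ⟨s, hs⟩ := h.2 ((CechEdge.cx P Y).homologyπ 0 z)
    refine ⟨s, fun i => ?_, fun s' hs' => h.1 ?_⟩
    · have e : CechEdge.toCycles P Y s = z := hπ.1 hs
      rw [← hv, e, hz, hx]
    · refine congrArg ((CechEdge.cx P Y).homologyπ 0) (hi (coord_ext Y fun i => ?_))
      refine (hv s' i).trans ((hs' i).trans ?_)
      have e : CechEdge.toCycles P Y s = z := hπ.1 hs
      exact ((hx i).symm.trans ((congrArg (coord Y P i) hz).symm.trans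
        (congrArg (fun k => coord Y P i ((CechEdge.cx P Y).iCycles 0 k)) e.symm)))
  · intro h
    refine ⟨fun s s' e => ?_, fun c => ?_⟩
    · have e' : CechEdge.toCycles P Y s = CechEdge.toCycles P Y s' := hπ.1 e
      obtain ⟨t, -, ht⟩ := h (fun i => P.map (Y i).hom.op s) (fun b => by
        rw [← ConcreteCategory.comp_apply, ← ConcreteCategory.comp_apply, ← P.map_comp, ← P.map_comp,
          ← op_comp, ← op_comp]
        exact congrArg (fun k => P.map (Quiver.Hom.op k) s) ((Over.w (Pi.π (Y ∘ b) 0)).trans (Over.w (Pi.π (Y ∘ b) 1)).symm))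
      exact (ht s fun i => rfl).trans (ht s' fun i => by rw [← hv, ← hv, e']).symm
    · obtain ⟨z, rfl⟩ := hπ.2 c
      have hw := (d_eq_zero_iff Y P ((CechEdge.cx P Y).iCycles 0 z)).1
        (ConcreteCategory.congr_hom ((CechEdge.cx P Y).iCycles_d 0 1) z)
      obtain ⟨s, hs, -⟩ := h _ hw
      exact ⟨s, congrArg ((CechEdge.cx P Y).homologyπ 0)
        (hi (coord_ext Y fun i => (hv s i).trans (hs i)))⟩

lemma compat_iff (P : Cᵒᵖ ⥤ AddCommGrpCat.{u}) (w : ∀ i, P.obj (op (Y i).left)) :
    Compat Y P w ↔ Presieve.Arrows.Compatible (P ⋙ forget AddCommGrpCat.{u})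
      (fun i => (Y i).hom) (fun i => w i) := by
  constructor
  · intro h i j Z gi gj hij
    let b : Fin 2 → ι := fun k => if k = 0 then i else j
    obtain ⟨g, hg, -⟩ := (cechDataOver Y).hlift 1 b Z
      (fun k => if hk : k = 0 then gi ≫ eqToHom (by subst hk; rfl) else
        gj ≫ eqToHom (by simp [b, hk]))
      (fun k l => by fin_cases k <;> fin_cases l <;> simp [cechDataOver, b, hij])
    have h0 : g ≫ (Pi.π (Y ∘ b) 0).left = gi := by simpa [b] using hg 0
    have h1 : g ≫ (Pi.π (Y ∘ b) 1).left = gj := by simpa [b] using hg 1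
    have h' := congrArg (P.map g.op) (h b)
    change P.map gi.op (w i) = P.map gj.op (w j)
    rw [← h0, ← h1, op_comp, op_comp, P.map_comp, P.map_comp]
    exact h'
  · intro h b
    exact h (b 0) (b 1) _ _ _ ((Over.w (Pi.π (Y ∘ b) 0)).trans (Over.w (Pi.π (Y ∘ b) 1)).symm)

/-- The sheaf condition for a family is bijectivity onto `Ȟ⁰`. -/
theorem bijective_toCech_iff_isSheafFor (P : Cᵒᵖ ⥤ AddCommGrpCat.{u}) :
    Function.Bijective (CechEdge.toCech Y P) ↔
      Presieve.IsSheafFor (P ⋙ forget AddCommGrpCat.{u}) (famSieve Y).arrows := by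
  rw [bijective_toCech_iff]
  change _ ↔ Presieve.IsSheafFor _ (Sieve.generate (Presieve.ofArrows _ fun i => (Y i).hom)).arrows
  rw [← Presieve.isSheafFor_iff_generate,
    Presieve.isSheafFor_arrows_iff]
  exact forall_congr' fun w => imp_congr (compat_iff Y P w) Iff.rfl

/-- A presheaf is a sheaf iff `P(U) → Ȟ⁰` is bijective for covering families. -/
theorem isSheaf_iff_toCech_bijective (J : GrothendieckTopology C) (P : Cᵒᵖ ⥤ AddCommGrpCat.{u}) :
    Presheaf.IsSheaf J P ↔ ∀ (U : C) (ι : Type u) (Y : ι → Over U),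
      Sieve.ofArrows (fun i => (Y i).left) (fun i => (Y i).hom) ∈ J U →
        Function.Bijective (CechEdge.toCech Y P) := by
  rw [Presheaf.isSheaf_iff_isSheaf_forget J P (forget AddCommGrpCat.{u}), isSheaf_iff_isSheaf_of_type]
  constructor
  · intro h U ι Y hY
    exact (bijective_toCech_iff_isSheafFor Y P).2 (h _ hY)
  · intro h U S hS
    let Y : (Σ V : C, {f : V ⟶ U // S.arrows f}) → Over U := fun i => Over.mk i.2.1
    have e : famSieve Y = S := by
      refine le_antisymm ?_ fun V f hf => (Sieve.mem_ofArrows_iff _ _ _).2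
        ⟨⟨V, f, hf⟩, 𝟙 V, (Category.id_comp _).symm⟩
      intro V f hf
      obtain ⟨i, q, rfl⟩ := (Sieve.mem_ofArrows_iff _ _ _).1 hf
      exact S.downward_closed i.2.2 q
    rw [← e]
    exact (bijective_toCech_iff_isSheafFor Y P).1 (h U _ Y (show famSieve Y ∈ J U from e.symm ▸ hS))

end Groth.SiteCohomology
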