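import Groth.Agent.SiteCohomology.CechEdgeTheory

/-!
# The comparison maps for sheaves: degree one and acyclic coverings
-/

universe u

open CategoryTheory Limits Opposite Simplicial

set_option synthInstance.maxHeartbeats 400000
set_option maxHeartbeats 1000000

namespace Groth.SiteCohomology

open Abelian CechEdge

variable {C : Type u} [SmallCategory C] [HasPullbacks C] {J : GrothendieckTopology C} {U : C}
  {ι : Type u} {Y : ι → Over U}
  {e : ∀ (P : Cᵒᵖ ⥤ AddCommGrpCat.{u}) (p : ℕ), CohCx.cechH P Y p →+ CohSite.HU (shf J P) p U}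
  (he : IsEdge J Y e)

include he in
lemma edgeSh_natural {F G : Sheaf J AddCommGrpCat.{u}} (ψ : F ⟶ G) (p : ℕ)
    (x : CohCx.cechH F.obj Y p) :
    edgeSh e G p (cechHMap Y ψ.hom p x) = HUmap ψ p U (edgeSh e F p x) := by
  change HUmap _ p U (e G.obj p _) = HUmap ψ p U (HUmap _ p U (e F.obj p x))
  rw [he.natural, ← HUmap_comp_apply, ← HUmap_comp_apply]
  exact congrArg (fun k => HUmap k p U (e F.obj p x))
    ((sheafificationAdjunction J AddCommGrpCat.{u}).counit.naturality ψ)

include he in
lemma edgeSh_toCech (F : Sheaf J AddCommGrpCat.{u}) (s : F.obj.obj (op U)) :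
    edgeSh e F 0 (toCech Y F.obj s) = sectH0 J U F s := by
  change HUmap ((sheafificationAdjunction J AddCommGrpCat.{u}).counit.app F) 0 U
    (e F.obj 0 (toCech Y F.obj s)) = _
  rw [he.zero]
  have h : toSheafify J F.obj ≫ ((sheafificationAdjunction J AddCommGrpCat.{u}).counit.app F).hom = 𝟙 _ :=
    (sheafificationAdjunction J AddCommGrpCat.{u}).right_triangle_components F
  rw [HUmap_apply]
  change (Ext.mk₀ (CohFree.ofSect J U _ _)).comp (Ext.mk₀ _) _ = Ext.mk₀ (CohFree.ofSect J U F s)
  rw [Ext.mk₀_comp_mk₀, ofSect_comp]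
  exact congrArg (fun k => Ext.mk₀ (CohFree.ofSect J U F k))
    (ConcreteCategory.congr_hom (NatTrans.congr_app h (op U)) s)

include he in
lemma edgeSh_zero_bijective (F : Sheaf J AddCommGrpCat.{u}) :
    Function.Bijective (edgeSh e F 0) := by
  refine (Function.Bijective.of_comp_iff _ (bijective_toCech_of_cover he.cover F)).1 ?_
  rw [show edgeSh e F 0 ∘ toCech Y F.obj = sectH0 J U F from funext (edgeSh_toCech he F)]
  exact (sectH0 J U F).bijective

section Chosen

variable (F : Sheaf J AddCommGrpCat.{u})

/-- The presheaf sequence under the chosen resolution step of a sheaf. -/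
noncomputable abbrev preSES : ShortComplex (Cᵒᵖ ⥤ AddCommGrpCat.{u}) :=
  ShortComplex.mk (injSES F).f.hom (cokernel.π (injSES F).f.hom) (cokernel.condition _)

omit [HasPullbacks C] in
lemma preSES_shortExact : (preSES F).ShortExact :=
  have : Mono (injSES F).f.hom :=
    have := (injSES_shortExact F).mono_f
    inferInstanceAs (Mono ((sheafToPresheaf J AddCommGrpCat.{u}).map (injSES F).f))
  ShortComplex.ShortExact.mk' (ShortComplex.exact_of_g_is_cokernel _ (cokernelIsCokernel _))
    this inferInstance

/-- The presheaf quotient inside the sheaf quotient. -/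
noncomputable def quotMap : (preSES F).X₃ ⟶ (injSES F).X₃.obj :=
  cokernel.desc _ (injSES F).g.hom (congrArg (fun k => k.hom) (injSES F).zero)

omit [HasPullbacks C] in
lemma π_quotMap : (preSES F).g ≫ quotMap F = (injSES F).g.hom := cokernel.π_desc _ _ _

omit [HasPullbacks C] in
lemma injective_quotMap_app (X : Cᵒᵖ) : Function.Injective ((quotMap F).app X) := by
  refine (injective_iff_map_eq_zero _).2 fun c hc => ?_
  have hg : Function.Surjective ((preSES F).g.app X) :=
    (AddCommGrpCat.epi_iff_surjective _).1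
      ((preSES_shortExact F).map_of_exact ((evaluation _ _).obj X)).epi_g
  obtain ⟨b, rfl⟩ := hg c
  have hb : (injSES F).g.hom.app X b = 0 :=
    (ConcreteCategory.congr_hom (NatTrans.congr_app (π_quotMap F) X) b).symm.trans hc
  have hex : ((injSES F).map (sheafToPresheaf J AddCommGrpCat.{u} ⋙ (evaluation _ _).obj X)).Exact := by
    have : PreservesFiniteLimits (sheafToPresheaf J AddCommGrpCat.{u}) :=
      (sheafificationAdjunction J AddCommGrpCat.{u}).rightAdjoint_preservesLimits.{0, 0}.preservesFiniteLimits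
    exact (injSES_shortExact F).exact.map_of_mono_of_preservesKernel _
      (injSES_shortExact F).mono_f inferInstance
  obtain ⟨a, rfl⟩ := (ShortComplex.ab_exact_iff _).1 hex b hb
  exact ConcreteCategory.congr_hom (NatTrans.congr_app (preSES F).zero X) a

include he in
lemma edgeSh_δ (p : ℕ) (y : CohCx.cechH (preSES F).X₃ Y p) :
    edgeSh e F (p + 1) (cechδ Y (preSES_shortExact F) p y) =
      extδ (injSES_shortExact F) U p (edgeSh e (injSES F).X₃ p (cechHMap Y (quotMap F) p y)) := by
  let a := presheafToSheaf J AddCommGrpCat.{u}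
  let ε := (sheafificationAdjunction J AddCommGrpCat.{u}).counit
  let Φ : (preSES F).map a ⟶ injSES F := ShortComplex.homMk (ε.app F) (ε.app (injSES F).X₂)
    (a.map (quotMap F) ≫ ε.app (injSES F).X₃)
    (ε.naturality (injSES F).f).symm
    (by
      refine (ε.naturality (injSES F).g).symm.trans ?_
      change a.map (injSES F).g.hom ≫ _ = a.map (preSES F).g ≫ a.map (quotMap F) ≫ _
      rw [← Category.assoc, ← Functor.map_comp, π_quotMap])
  change HUmap (ε.app F) (p + 1) U (e F.obj (p + 1) _) =
    extδ (injSES_shortExact F) U p (HUmap (ε.app (injSES F).X₃) p U (e (injSES F).X₃.obj p _))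
  rw [IsEdge.delta' he (preSES_shortExact F), he.natural, ← HUmap_comp_apply]
  exact extδ_natural ((preSES_shortExact F).map_of_exact a) (injSES_shortExact F) Φ p _

include he in
lemma surjective_edgeSh_injective (I : Sheaf J AddCommGrpCat.{u}) [Injective I] (p : ℕ) :
    Function.Surjective (edgeSh e I p) := by
  cases p with
  | zero => exact (edgeSh_zero_bijective he I).2
  | succ p =>
    have : Subsingleton (CohSite.HU I (p + 1) U) :=
      Ext.subsingleton_of_injective (CohCx.freeSheaf J U) I p
    exact fun c => ⟨0, @Subsingleton.elim _ this _ _⟩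

include he in
lemma injective_edgeSh_succ (p : ℕ)
    (hG : Function.Injective (edgeSh e (injSES F).X₃ p))
    (hq : Function.Injective (cechHMap Y (quotMap F) p)) :
    Function.Injective (edgeSh e F (p + 1)) := by
  have hI : Injective (injSES F).X₂ := inferInstanceAs (Injective (Injective.under F))
  refine (injective_iff_map_eq_zero _).2 fun x hx => ?_
  obtain ⟨y, rfl⟩ := cechδ_surjective Y (preSES_shortExact F) p
    (isZero_cechH_injective_sheaf Y (injSES F).X₂ p) x
  rw [edgeSh_δ he] at hx
  obtain ⟨v, hv⟩ := Ext.covariant_sequence_exact₃ (CohCx.freeSheaf J U) (injSES_shortExact F)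
    (edgeSh e (injSES F).X₃ p (cechHMap Y (quotMap F) p y)) rfl hx
  obtain ⟨z, rfl⟩ := surjective_edgeSh_injective he (injSES F).X₂ p v
  have h1 : cechHMap Y (preSES F).g p z = y := by
    refine hq (hG ?_)
    refine Eq.trans ?_ hv
    refine Eq.trans (congrArg (edgeSh e (injSES F).X₃ p) ?_) (edgeSh_natural he (injSES F).g p z)
    rw [← cechHMap_comp_apply]
    exact congrArg (fun k => cechHMap Y k p z) (π_quotMap F)
  subst h1
  have hcd := (shortExact_map_cxFunctor Y (preSES F) (preSES_shortExact F)).comp_δ p (p + 1) rfl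
  exact ConcreteCategory.congr_hom hcd z

include he in
lemma surjective_edgeSh_succ (p : ℕ)
    (hG : Function.Surjective (edgeSh e (injSES F).X₃ p))
    (hq : Function.Surjective (cechHMap Y (quotMap F) p)) :
    Function.Surjective (edgeSh e F (p + 1)) := by
  intro c
  have : Subsingleton (Ext (CohCx.freeSheaf J U) (injSES F).X₂ (p + 1)) := by
    have hI : Injective (injSES F).X₂ := inferInstanceAs (Injective (Injective.under F))
    exact Ext.subsingleton_of_injective _ _ p
  obtain ⟨w, rfl⟩ := ext_surjective_postcomp_extClass (injSES_shortExact F) (CohCx.freeSheaf J U) p c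
  obtain ⟨v, rfl⟩ := hG w
  obtain ⟨y, rfl⟩ := hq v
  exact ⟨cechδ Y (preSES_shortExact F) p y, edgeSh_δ he F p y⟩

end Chosen

lemma cechHMap_zero_injective {P Q : Cᵒᵖ ⥤ AddCommGrpCat.{u}} (φ : P ⟶ Q)
    (h : ∀ X, Function.Injective (φ.app X)) : Function.Injective (cechHMap Y φ 0) := by
  intro a b hab
  obtain ⟨z, rfl⟩ := (homologyπ_zero_bijective Y P).2 a
  obtain ⟨z', rfl⟩ := (homologyπ_zero_bijective Y P).2 b
  have hn := fun z => ConcreteCategory.congr_hom
    (HomologicalComplex.homologyπ_naturality ((cxFunctor Y).map φ) 0) z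
  have h' := (homologyπ_zero_bijective Y Q).1 (((hn z).symm.trans hab).trans (hn z'))
  refine congrArg ((cx P Y).homologyπ 0) ((AddCommGrpCat.mono_iff_injective ((cx P Y).iCycles 0)).1
    inferInstance (coord_ext Y fun i => h (op (Y i).left) ?_))
  have h2 := congrArg (fun k => coord Y Q i ((cx Q Y).iCycles 0 k)) h'
  have hc := fun z => congrArg (coord Y Q i) (ConcreteCategory.congr_hom
    (HomologicalComplex.cyclesMap_i ((cxFunctor Y).map φ) 0) z)
  exact ((coord_map_f φ i _).symm.trans (hc z).symm).trans
    (h2.trans ((hc z').trans (coord_map_f φ i _)))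

include he in
/-- The degree-one comparison map is injective. -/
theorem injective_edgeSh_one (F : Sheaf J AddCommGrpCat.{u}) :
    Function.Injective (edgeSh e F 1) :=
  injective_edgeSh_succ he F 0 (edgeSh_zero_bijective he _).1
    (cechHMap_zero_injective _ (injective_quotMap_app F))

lemma cechHMap_bijective {P Q : Cᵒᵖ ⥤ AddCommGrpCat.{u}} (φ : P ⟶ Q)
    (h : ∀ (n : ℕ) (a : Fin (n + 1) → ι), Function.Bijective (φ.app (op (∏ᶜ (Y ∘ a)).left)))
    (p : ℕ) : Function.Bijective (cechHMap Y φ p) := by
  have : ∀ n, IsIso (((cxFunctor Y).map φ).f n) := fun n => by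
    have : ∀ a : Discrete (Fin (n + 1) → ι), IsIso ((Discrete.natTrans
        (fun a : Discrete (Fin (n + 1) → ι) => φ.app (op (∏ᶜ (Y ∘ a.as)).left)) :
          Discrete.functor (fun a : Fin (n + 1) → ι => P.obj (op (∏ᶜ (Y ∘ a)).left)) ⟶
          Discrete.functor (fun a : Fin (n + 1) → ι => Q.obj (op (∏ᶜ (Y ∘ a)).left))).app a) :=
      fun a => (ConcreteCategory.isIso_iff_bijective _).2 (h n a.as)
    let κ : Discrete.functor (fun a : Fin (n + 1) → ι => P.obj (op (∏ᶜ (Y ∘ a)).left)) ⟶
        Discrete.functor (fun a : Fin (n + 1) → ι => Q.obj (op (∏ᶜ (Y ∘ a)).left)) :=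
      Discrete.natTrans fun a => φ.app (op (∏ᶜ (Y ∘ a.as)).left)
    have hκ : IsIso κ := NatIso.isIso_of_isIso_app _
    exact inferInstanceAs (IsIso (lim.map κ))
  have : IsIso ((cxFunctor Y).map φ) := HomologicalComplex.Hom.isIso_of_components _
  exact ConcreteCategory.bijective_of_isIso _

include he in
/-- For an acyclic covering family the comparison maps are bijective. -/
theorem bijective_edgeSh_of_acyclic : ∀ (p : ℕ) (F : Sheaf J AddCommGrpCat.{u}),
    (∀ (n : ℕ) (a : Fin (n + 1) → ι) (q : ℕ),
      Subsingleton (CohSite.HU F (q + 1) (∏ᶜ fun k => Y (a k)).left)) →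
      Function.Bijective (edgeSh e F p)
  | 0, F, _ => edgeSh_zero_bijective he F
  | p + 1, F, h => by
    have hI : Injective (injSES F).X₂ := inferInstanceAs (Injective (Injective.under F))
    have hQ : ∀ (n : ℕ) (a : Fin (n + 1) → ι),
        Function.Bijective ((quotMap F).app (op (∏ᶜ (Y ∘ a)).left)) := fun n a => by
      refine ⟨injective_quotMap_app F _, fun c => ?_⟩
      have := h n a 0
      obtain ⟨b, hb⟩ := @surjective_sections_of_subsingleton_HU _ _ _ _ (injSES_shortExact F)
        (∏ᶜ fun k => Y (a k)).left this c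
      exact ⟨(preSES F).g.app _ b,
        (ConcreteCategory.congr_hom (NatTrans.congr_app (π_quotMap F) _) b).trans hb⟩
    have hG := bijective_edgeSh_of_acyclic p (injSES F).X₃ fun n a q =>
      @subsingleton_ext_right _ _ _ _ _ (injSES_shortExact F) _ (q + 1)
        (Ext.subsingleton_of_injective _ _ q) (h n a (q + 1))
    exact ⟨injective_edgeSh_succ he F p hG.1 (cechHMap_bijective _ hQ p).1,
      surjective_edgeSh_succ he F p hG.2 (cechHMap_bijective _ hQ p).2⟩

end Groth.SiteCohomology
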