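import Groth.Agent.SiteCohomology.CechEdgeTheory

/-!
# Comparison maps and refinements
-/

universe u

open CategoryTheory Limits Opposite Simplicial

set_option synthInstance.maxHeartbeats 400000
set_option maxHeartbeats 1000000

namespace Groth.SiteCohomology

open CechEdge

variable {C : Type u} [SmallCategory C] [HasPullbacks C] {J : GrothendieckTopology C} {U : C}
  {ι κ : Type u} {Y : ι → Over U} {Y' : κ → Over U}
  (f : FormalCoproduct.mk ι Y ⟶ FormalCoproduct.mk κ Y')

/-- The refinement map as a natural transformation of Čech complex functors. -/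
noncomputable def refineNat : cxFunctor Y' ⟶ cxFunctor Y where
  app P := CohCx.cechRefine P f
  naturality P Q φ := by
    change (AlgebraicTopology.alternatingCofaceMapComplex _).map _ ≫
      (AlgebraicTopology.alternatingCofaceMapComplex _).map _ =
        (AlgebraicTopology.alternatingCofaceMapComplex _).map _ ≫
      (AlgebraicTopology.alternatingCofaceMapComplex _).map _
    rw [← Functor.map_comp, ← Functor.map_comp]
    exact congrArg _ (((Functor.whiskeringLeft _ _ _).map
      (NatTrans.rightOp (FormalCoproduct.cechFunctor.map f))).naturality _)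

lemma toCech₀_refine (P : Cᵒᵖ ⥤ AddCommGrpCat.{u}) :
    toCech₀ P Y' ≫ (CohCx.cechRefine P f).f 0 = toCech₀ P Y := by
  refine Pi.hom_ext _ _ fun a => ?_
  change (Pi.lift _ ≫ ((FormalCoproduct.evalOp.{u} (Over U) AddCommGrpCat.{u}).obj
    ((Over.forget U).op ⋙ P)).map ((FormalCoproduct.cechFunctor.map f).app (op ⦋0⦌)).op) ≫ _ = _
  rw [FormalCoproduct.evalOp_obj_map]
  erw [Category.assoc, Pi.lift_π, Pi.lift_π, Pi.lift_π_assoc]
  change P.map _ ≫ P.map _ = P.map _
  rw [← P.map_comp]
  congr 1
  exact congrArg Quiver.Hom.op (Over.w (((FormalCoproduct.cechFunctor.map f).app (op ⦋0⦌)).φ a))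

lemma toCech_refine (P : Cᵒᵖ ⥤ AddCommGrpCat.{u}) (s : P.obj (op U)) :
    HomologicalComplex.homologyMap (CohCx.cechRefine P f) 0 (toCech Y' P s) = toCech Y P s := by
  have h : toCycles P Y' ≫ HomologicalComplex.cyclesMap (CohCx.cechRefine P f) 0 = toCycles P Y := by
    refine (cancel_mono ((cx P Y).iCycles 0)).1 ((Category.assoc _ _ _).trans ?_)
    exact (congrArg (_ ≫ ·) (HomologicalComplex.cyclesMap_i (CohCx.cechRefine P f) 0)).trans
      ((Category.assoc _ _ _).symm.trans ((congrArg (· ≫ _) (toCycles_i P Y')).trans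
        ((toCech₀_refine f P).trans (toCycles_i P Y).symm)))
  refine (ConcreteCategory.congr_hom (HomologicalComplex.homologyπ_naturality
    (CohCx.cechRefine P f) 0) (toCycles P Y' s)).trans ?_
  exact congrArg ((cx P Y).homologyπ 0) (ConcreteCategory.congr_hom h s)

/-- Composing an edge family with a refinement gives an edge family. -/
theorem isEdge_refine
    {e : ∀ (P : Cᵒᵖ ⥤ AddCommGrpCat.{u}) (p : ℕ), CohCx.cechH P Y p →+ CohSite.HU (shf J P) p U}
    (he : IsEdge J Y e) (hY' : famSieve Y' ∈ J U) :
    IsEdge J Y' (fun P p => (e P p).comp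
      (HomologicalComplex.homologyMap (CohCx.cechRefine P f) p).hom) where
  cover := hY'
  zero P s := (congrArg (e P 0) (toCech_refine f P s)).trans (he.zero P s)
  natural P Q φ p x := by
    refine Eq.trans (congrArg (e Q p) ?_) (he.natural P Q φ p _)
    have h : HomologicalComplex.homologyMap ((cxFunctor Y').map φ) p ≫
        HomologicalComplex.homologyMap (CohCx.cechRefine Q f) p =
          HomologicalComplex.homologyMap (CohCx.cechRefine P f) p ≫
            HomologicalComplex.homologyMap ((cxFunctor Y).map φ) p := by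
      exact ((HomologicalComplex.homologyMap_comp ((cxFunctor Y').map φ) ((refineNat f).app Q) p).symm.trans
        (congrArg (fun k => HomologicalComplex.homologyMap k p) ((refineNat f).naturality φ))).trans
          (HomologicalComplex.homologyMap_comp ((refineNat f).app P) ((cxFunctor Y).map φ) p)
    exact ConcreteCategory.congr_hom h x
  delta S hS hC p x := by
    refine Eq.trans (congrArg (e S.X₁ (p + 1)) ?_)
      (he.delta S hS (shortExact_map_cxFunctor Y S hS) p _)
    exact ConcreteCategory.congr_hom (HomologicalComplex.HomologySequence.δ_naturality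
      (S.mapNatTrans (refineNat f)) hC (shortExact_map_cxFunctor Y S hS) p (p + 1) rfl) x

/-- The comparison maps are compatible with refinements. -/
theorem edgeSh_refine
    {e : ∀ (P : Cᵒᵖ ⥤ AddCommGrpCat.{u}) (p : ℕ), CohCx.cechH P Y p →+ CohSite.HU (shf J P) p U}
    {e' : ∀ (P : Cᵒᵖ ⥤ AddCommGrpCat.{u}) (p : ℕ), CohCx.cechH P Y' p →+ CohSite.HU (shf J P) p U}
    (he : IsEdge J Y e) (he' : IsEdge J Y' e') (F : Sheaf J AddCommGrpCat.{u}) (p : ℕ)
    (x : CohCx.cechH F.obj Y' p) :
    edgeSh e F p ((HomologicalComplex.homologyMap (CohCx.cechRefine F.obj f) p).hom x) =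
      edgeSh e' F p x := by
  have := congrFun (congrFun (isEdge_unique (isEdge_refine f he he'.cover) he') F.obj) p
  exact congrArg (HUmap ((sheafificationAdjunction J AddCommGrpCat.{u}).counit.app F) p U)
    (DFunLike.congr_fun this x)

end Groth.SiteCohomology
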