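import Groth.Prelude.Def_W4c6blochformula0cycCech
import Mathlib.Algebra.BigOperators.Fin
import Mathlib.Algebra.BigOperators.GroupWithZero.Action

/-!
# Čech complexes with a partition of unity
-/

universe u

open CategoryTheory TopologicalSpace Opposite W4c6blochformula0cyc

set_option maxHeartbeats 1000000

namespace Groth.SiteCohomology

variable {X : Type u} [TopologicalSpace X] {ι : Type u}

lemma presheaf_res_res (F : (Opens X)ᵒᵖ ⥤ AddCommGrpCat.{u}) {A B C : Opens X} (h : B ≤ A) (h' : C ≤ B)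
    (x : F.obj (op A)) : res F h' (res F h x) = res F (h'.trans h) x := by
  have e : (homOfLE (h'.trans h)).op = (homOfLE h).op ≫ (homOfLE h').op :=
    Quiver.Hom.unop_inj (Subsingleton.elim _ _)
  change (F.map (homOfLE h).op ≫ F.map (homOfLE h').op) x = F.map (homOfLE (h'.trans h)).op x
  rw [e, F.map_comp]

lemma res_congr_index {F : (Opens X)ᵒᵖ ⥤ AddCommGrpCat.{u}} {U : ι → Opens X} {n : ℕ}
    (f : Cochain F U n) {s s' : Fin n → ι} (e : s = s') {V : Opens X}
    (h : V ≤ cechOpen U s) (h' : V ≤ cechOpen U s') : res F h (f s) = res F h' (f s') := by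
  subst e; rfl

theorem homotopy_delta_add_delta_homotopy [Fintype ι] (F : (Opens X)ᵒᵖ ⥤ AddCommGrpCat.{u})
    (U : ι → Opens X) (E : ∀ (V : Opens X) (α : ι), F.obj (op (V ⊓ U α)) →+ F.obj (op V))
    (h2 : ∀ (m : ℕ) (t : Fin (m + 1) → ι) (f : F.obj (op (cechOpen U t))),
      ∑ α, E (cechOpen U t) α (res F inf_le_left f) = f)
    (h3 : ∀ (m : ℕ) (t : Fin (m + 1) → ι) (α β : ι) (g : F.obj (op (cechOpen U t ⊓ U α))),
      res F inf_le_left (E (cechOpen U t) α g) =
        E (cechOpen U t ⊓ U β) α (res F (inf_le_inf_right (U α) inf_le_left) g))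
    (n : ℕ) (f : Cochain F U (n + 2)) :
    homotopy F U E (n + 2) (delta F U (n + 2) f) + delta F U (n + 1) (homotopy F U E (n + 1) f) =
      f := by
  funext t
  have move : ∀ (k : Fin (n + 2)) (α : ι)
      (g : F.obj (op (cechOpen U (t ∘ k.succAbove) ⊓ U α))),
      res F (cechOpen_le_comp U t k) (E (cechOpen U (t ∘ k.succAbove)) α g) =
        E (cechOpen U t) α (res F (inf_le_inf_right (U α) (cechOpen_le_comp U t k)) g) := by
    intro k α g
    have e : cechOpen U (t ∘ k.succAbove) ⊓ U (t k) = cechOpen U t := by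
      refine le_antisymm (le_iInf fun j => ?_) (le_inf (cechOpen_le_comp U t k) (iInf_le (fun j => U (t j)) k))
      by_cases hj : j = k
      · exact hj ▸ inf_le_right
      · obtain ⟨i, rfl⟩ := Fin.exists_succAbove_eq hj
        exact inf_le_left.trans (iInf_le (fun i => U ((t ∘ k.succAbove) i)) i)
    have key : ∀ (W : Opens X), W = cechOpen U (t ∘ k.succAbove) ⊓ U (t k) →
        ∀ h : W ≤ cechOpen U (t ∘ k.succAbove),
          res F h (E (cechOpen U (t ∘ k.succAbove)) α g) = E W α (res F (inf_le_inf_right (U α) h) g) := by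
      intro W hW h
      subst hW
      exact h3 n _ α (t k) g
    exact key _ e.symm _
  let a : Fin (n + 2) → F.obj (op (cechOpen U t)) := fun k => ∑ α, E (cechOpen U t) α
    (res F (inf_le_inf_right (U α) (cechOpen_le_comp U t k))
      (res F (inf_le_cechOpen_cons U (t ∘ k.succAbove) α) (f (Fin.cons α (t ∘ k.succAbove)))))
  have h₁ : delta F U (n + 1) (homotopy F U E (n + 1) f) t =
      ∑ k : Fin (n + 2), ((-1 : ℤ) ^ (k : ℕ)) • a k := by
    change ∑ k : Fin (n + 2), ((-1 : ℤ) ^ (k : ℕ)) • res F (cechOpen_le_comp U t k)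
      (∑ α, E _ α (res F (inf_le_cechOpen_cons U _ α) (f (Fin.cons α (t ∘ k.succAbove))))) = _
    refine Finset.sum_congr rfl fun k _ => congrArg _ ?_
    rw [map_sum]
    exact Finset.sum_congr rfl fun α _ => move k α _
  have h₂ : homotopy F U E (n + 2) (delta F U (n + 2) f) t =
      f t + ∑ k : Fin (n + 2), ((-1 : ℤ) ^ ((k : ℕ) + 1)) • a k := by
    change ∑ α, E (cechOpen U t) α (res F (inf_le_cechOpen_cons U t α)
      (∑ j : Fin (n + 3), ((-1 : ℤ) ^ (j : ℕ)) •
        res F (cechOpen_le_comp U _ j) (f ((Fin.cons α t : Fin (n + 3) → ι) ∘ j.succAbove)))) = _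
    simp only [map_sum, map_zsmul, presheaf_res_res]
    simp only [Fin.sum_univ_succ (n := n + 2), Fin.val_zero, pow_zero, one_smul,
      Finset.sum_add_distrib, Fin.val_succ]
    refine congrArg₂ (· + ·) (Eq.trans ?_ (h2 (n + 1) t (f t))) ?_
    · refine Finset.sum_congr rfl fun α _ => congrArg _ (res_congr_index f ?_ _ _)
      funext i
      simp
    · rw [Finset.sum_comm]
      refine Finset.sum_congr rfl fun k _ => ?_
      rw [← Finset.smul_sum]
      refine congrArg _ (Finset.sum_congr rfl fun α _ => congrArg _ ?_)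
      rw [presheaf_res_res]
      refine res_congr_index f ?_ _ _
      funext i
      cases i using Fin.cases with
      | zero => simp
      | succ i => simp
  rw [Pi.add_apply, h₁, h₂, add_assoc, ← Finset.sum_add_distrib]
  simp [pow_succ]

theorem switchExt_spec [Fintype ι] (A : X → AddCommGrpCat.{u}) (U : ι → Opens X) (S : ι → Set X)
    (hSU : ∀ α, S α ⊆ (U α : Set X)) (hS : ∀ x : X, ∃! α, x ∈ S α) :
    (∀ (V : Opens X) (f : (prodPresheaf A).obj (op V)),
        ∑ α, switchExt A U S V α (res (prodPresheaf A) inf_le_left f) = f) ∧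
      ∀ (V : Opens X) (α β : ι) (g : (prodPresheaf A).obj (op (V ⊓ U α))),
        res (prodPresheaf A) inf_le_left (switchExt A U S V α g) =
          switchExt A U S (V ⊓ U β) α
            (res (prodPresheaf A) (inf_le_inf_right (U α) inf_le_left) g) := by
  classical
  have hpos : ∀ (V : Opens X) (α : ι) (g : (prodPresheaf A).obj (op (V ⊓ U α))) (y : V)
      (h : y.1 ∈ U α ∧ y.1 ∈ S α), switchExt A U S V α g y = g ⟨y.1, y.2, h.1⟩ := fun V α g y h => by
    change (dite (y.1 ∈ U α ∧ y.1 ∈ S α) _ _ : _ →+ A y.1) g = _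
    exact (DFunLike.congr_fun (dif_pos h) g).trans rfl
  have hneg : ∀ (V : Opens X) (α : ι) (g : (prodPresheaf A).obj (op (V ⊓ U α))) (y : V)
      (_ : ¬(y.1 ∈ U α ∧ y.1 ∈ S α)), switchExt A U S V α g y = 0 := fun V α g y h => by
    change (dite (y.1 ∈ U α ∧ y.1 ∈ S α) _ _ : _ →+ A y.1) g = _
    exact (DFunLike.congr_fun (dif_neg h) g).trans rfl
  constructor
  · intro V f
    funext y
    obtain ⟨α₀, hα₀, huniq⟩ := hS y.1
    refine (Finset.sum_apply y _ _).trans ?_
    refine (Finset.sum_eq_single α₀ (fun α _ hne => hneg _ _ _ _ fun h => hne (huniq α h.2))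
      (by simp)).trans ?_
    exact (hpos _ _ _ _ ⟨hSU α₀ hα₀, hα₀⟩).trans rfl
  · intro V α β g
    funext y
    by_cases h : y.1 ∈ U α ∧ y.1 ∈ S α
    · exact (hpos V α g ⟨y.1, y.2.1⟩ h).trans
        (hpos (V ⊓ U β) α (res (prodPresheaf A) (inf_le_inf_right (U α) inf_le_left) g) y h).symm
    · exact (hneg V α g ⟨y.1, y.2.1⟩ h).trans
        (hneg (V ⊓ U β) α (res (prodPresheaf A) (inf_le_inf_right (U α) inf_le_left) g) y h).symm

end Groth.SiteCohomology
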