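import Groth.Agent.SiteCohomology.CechEdgeRefine
import Mathlib.CategoryTheory.Abelian.FunctorCategory

/-!
# Two refinement maps agree on Čech cohomology
-/

universe u

open CategoryTheory Limits Opposite Simplicial

set_option synthInstance.maxHeartbeats 400000
set_option maxHeartbeats 1000000

namespace Groth.SiteCohomology

open CechEdge

variable {C : Type u} [SmallCategory C] [HasPullbacks C] {U : C}
  {ι κ : Type u} {Y : ι → Over U} {Y' : κ → Over U}
  (f g : FormalCoproduct.mk ι Y ⟶ FormalCoproduct.mk κ Y')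

lemma refine_f_zero_π (P : Cᵒᵖ ⥤ AddCommGrpCat.{u}) (a : Fin 1 → ι) :
    (CohCx.cechRefine P f).f 0 ≫ Pi.π (fun a : Fin 1 → ι => P.obj (op (∏ᶜ (Y ∘ a)).left)) a =
      Pi.π (fun a : Fin 1 → κ => P.obj (op (∏ᶜ (Y' ∘ a)).left)) (f.f ∘ a) ≫
        P.map (Limits.Pi.map (f := Y ∘ a) (g := Y' ∘ f.f ∘ a) fun k => f.φ (a k)).left.op := by
  change ((FormalCoproduct.evalOp.{u} (Over U) AddCommGrpCat.{u}).obj
    ((Over.forget U).op ⋙ P)).map ((FormalCoproduct.cechFunctor.map f).app (op ⦋0⦌)).op ≫ _ = _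
  rw [FormalCoproduct.evalOp_obj_map]
  exact Pi.lift_π _ a

lemma coord_refine (P : Cᵒᵖ ⥤ AddCommGrpCat.{u}) (x : (CechEdge.cx P Y').X 0) (i : ι) :
    coord Y P i ((CohCx.cechRefine P f).f 0 x) = P.map (f.φ i).left.op (coord Y' P (f.f i) x) := by
  have h1 := ConcreteCategory.congr_hom (refine_f_zero_π f P fun _ => i) x
  refine (congrArg (P.map (Pi.lift (f := Y ∘ fun _ : Fin 1 => i) fun _ => 𝟙 (Y i)).left.op) h1).trans ?_
  have h2 := ConcreteCategory.congr_hom (coord_map Y' P (f.f i)) x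
  refine (congrArg (fun z => P.map (Pi.lift (f := Y ∘ fun _ : Fin 1 => i) fun _ => 𝟙 (Y i)).left.op
    (P.map (Limits.Pi.map (f := Y ∘ fun _ : Fin 1 => i) (g := Y' ∘ fun _ : Fin 1 => f.f i)
      fun _ => f.φ i).left.op z)) h2.symm).trans ?_
  rw [← ConcreteCategory.comp_apply, ← ConcreteCategory.comp_apply, ← ConcreteCategory.comp_apply]
  refine ConcreteCategory.congr_hom ((Category.assoc _ _ _).trans ?_) x
  refine congrArg (coord Y' P (f.f i) ≫ ·) ?_
  refine (congrArg (_ ≫ ·) (P.map_comp _ _).symm).trans ((P.map_comp _ _).symm.trans ?_)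
  refine congrArg (fun k : Y i ⟶ Y' (f.f i) => P.map k.left.op) (?_ : (_ ≫ _) ≫ _ = f.φ i)
  rw [Category.assoc]
  erw [Limits.Pi.map_π, Pi.lift_π_assoc, Category.id_comp]

lemma map_left_comp_apply {A B D : Over U} (l : A ⟶ B) (m : B ⟶ D) (P : Cᵒᵖ ⥤ AddCommGrpCat.{u})
    (y : P.obj (op D.left)) : P.map (l ≫ m).left.op y = P.map l.left.op (P.map m.left.op y) := by
  rw [Over.comp_left, op_comp, P.map_comp]
  rfl

lemma homologyMap_refine_zero_eq (P : Cᵒᵖ ⥤ AddCommGrpCat.{u}) (c : (CechEdge.cx P Y').homology 0) :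
    HomologicalComplex.homologyMap (CohCx.cechRefine P f) 0 c =
      HomologicalComplex.homologyMap (CohCx.cechRefine P g) 0 c := by
  obtain ⟨z, rfl⟩ := (AddCommGrpCat.epi_iff_surjective ((CechEdge.cx P Y').homologyπ 0)).1 inferInstance c
  refine (ConcreteCategory.congr_hom (HomologicalComplex.homologyπ_naturality (CohCx.cechRefine P f) 0) z).trans
    (Eq.trans ?_ (ConcreteCategory.congr_hom
      (HomologicalComplex.homologyπ_naturality (CohCx.cechRefine P g) 0) z).symm)
  refine congrArg ((CechEdge.cx P Y).homologyπ 0)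
    ((AddCommGrpCat.mono_iff_injective ((CechEdge.cx P Y).iCycles 0)).1 inferInstance ?_)
  refine (ConcreteCategory.congr_hom (HomologicalComplex.cyclesMap_i (CohCx.cechRefine P f) 0) z).trans
    (Eq.trans ?_ (ConcreteCategory.congr_hom (HomologicalComplex.cyclesMap_i (CohCx.cechRefine P g) 0) z).symm)
  have hw := (d_eq_zero_iff Y' P ((CechEdge.cx P Y').iCycles 0 z)).1
    (ConcreteCategory.congr_hom ((CechEdge.cx P Y').iCycles_d 0 1) z)
  refine coord_ext Y fun i => ?_
  refine (coord_refine f P _ i).trans (Eq.trans ?_ (coord_refine g P _ i).symm)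
  let b : Fin 2 → κ := ![f.f i, g.f i]
  let l : Y i ⟶ ∏ᶜ (Y' ∘ b) := Pi.lift (f := Y' ∘ b) fun k =>
    Fin.cases (motive := fun k => Y i ⟶ Y' (b k)) (f.φ i)
      (fun j => Fin.cases (motive := fun j => Y i ⟶ Y' (b j.succ)) (g.φ i) (fun j' => j'.elim0) j) k
  have h0 : l ≫ Pi.π (Y' ∘ b) 0 = f.φ i := Pi.lift_π _ _
  have h1 : l ≫ Pi.π (Y' ∘ b) 1 = g.φ i := Pi.lift_π _ _
  have h := congrArg (P.map l.left.op) (hw b)
  change P.map (f.φ i).left.op _ = P.map (g.φ i).left.op _
  rw [← h0, ← h1]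
  exact (map_left_comp_apply l (Pi.π (Y' ∘ b) 0) P _).trans
    (h.trans (map_left_comp_apply l (Pi.π (Y' ∘ b) 1) P _).symm)

/-- Two refinement morphisms induce the same maps. -/
theorem homologyMap_refine_eq : ∀ (q : ℕ) (P : Cᵒᵖ ⥤ AddCommGrpCat.{u}),
    HomologicalComplex.homologyMap (CohCx.cechRefine P f) q =
      HomologicalComplex.homologyMap (CohCx.cechRefine P g) q
  | 0, P => AddCommGrpCat.hom_ext (AddMonoidHom.ext (homologyMap_refine_zero_eq f g P))
  | q + 1, P => by
    let S : ShortComplex (Cᵒᵖ ⥤ AddCommGrpCat.{u}) :=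
      ShortComplex.mk (Injective.ι P) (cokernel.π (Injective.ι P)) (cokernel.condition _)
    have hS : S.ShortExact := ShortComplex.ShortExact.mk'
      (ShortComplex.exact_of_g_is_cokernel _ (cokernelIsCokernel _))
      (inferInstanceAs (Mono (Injective.ι P))) (inferInstanceAs (Epi (cokernel.π _)))
    have h' := shortExact_map_cxFunctor Y' S hS
    have h := shortExact_map_cxFunctor Y S hS
    have hδ : Epi (h'.δ q (q + 1) rfl) :=
      (h'.homology_exact₁ q (q + 1) rfl).epi_f
        ((isZero_cechH_injective Y' (Injective.under P) q).eq_of_tgt _ _)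
    refine (cancel_epi (h'.δ q (q + 1) rfl)).1 ?_
    refine (HomologicalComplex.HomologySequence.δ_naturality
      (S.mapNatTrans (refineNat f)) h' h q (q + 1) rfl).trans ?_
    refine Eq.trans ?_ (HomologicalComplex.HomologySequence.δ_naturality
      (S.mapNatTrans (refineNat g)) h' h q (q + 1) rfl).symm
    exact congrArg (· ≫ _) (homologyMap_refine_eq q S.X₃)

end Groth.SiteCohomology
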