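import Mathlib.Algebra.Homology.HomologicalComplex
import Mathlib.Algebra.Homology.ShortComplex.HomologicalComplex
import Mathlib.Algebra.Homology.ShortComplex.PreservesHomology
import Mathlib.CategoryTheory.Abelian.Basic
import Mathlib.CategoryTheory.Preadditive.Injective.Basic

/-!
# A left exact functor on the first homology of a complex of injectives

If a complex of injectives in degrees `≥ 0` is exact below degree `m`, its differentials up to
degree `m` split, hence a left exact functor commutes with the homology in degree `m`.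
-/

set_option autoImplicit false
set_option backward.isDefEq.respectTransparency.types false

universe v v' u u'

open CategoryTheory CategoryTheory.Limits

namespace Groth.SiteCohomology.LeftExactEdge

variable {A : Type u} [Category.{v} A] [Abelian A]

/-- An exact-at-the-source split morphism. -/
theorem exists_split_of_exact {K Z : A} {N : A} (ι : N ⟶ K) [Injective N] [Mono ι] [Injective K]
    (d : K ⟶ Z) (h0 : ι ≫ d = 0) (hex : (ShortComplex.mk ι d h0).Exact) :
    ∃ t : Z ⟶ K, d ≫ t ≫ d = d := by
  obtain ⟨r, hr⟩ : ∃ r : K ⟶ N, ι ≫ r = 𝟙 N := ⟨Injective.factorThru (𝟙 N) ι, Injective.comp_factorThru _ _⟩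
  let e : K ⟶ K := 𝟙 K - r ≫ ι
  have he : ι ≫ e = 0 := by
    rw [Preadditive.comp_sub, Category.comp_id, reassoc_of% hr, sub_self]
  let s : cokernel ι ⟶ K := cokernel.desc ι e he
  have hs : s ≫ cokernel.π ι = 𝟙 _ := by
    refine (cancel_epi (cokernel.π ι)).1 ?_
    rw [cokernel.π_desc_assoc, Preadditive.sub_comp, Category.assoc, cokernel.condition, comp_zero,
      sub_zero, Category.id_comp, Category.comp_id]
  have : Injective (cokernel ι) := Retract.injective (Y := K) ⟨s, cokernel.π ι, hs⟩
  let m : cokernel ι ⟶ Z := cokernel.desc ι d h0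
  have : Mono m := hex.mono_cokernelDesc
  refine ⟨Injective.factorThru (𝟙 _) m ≫ s, ?_⟩
  have hd : d = cokernel.π ι ≫ m := (cokernel.π_desc ι d h0).symm
  rw [hd, Category.assoc, Category.assoc, ← Category.assoc m (Injective.factorThru (𝟙 _) m),
    Injective.comp_factorThru, Category.id_comp, reassoc_of% hs]

variable (K : CochainComplex A ℕ)

lemma iCycles_toCycles (p : ℕ) : K.iCycles p ≫ K.toCycles p (p + 1) = 0 := by
  refine (cancel_mono (K.iCycles (p + 1))).1 ?_
  rw [Category.assoc, HomologicalComplex.toCycles_i, zero_comp]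
  exact K.iCycles_d p (p + 1)

lemma exact_iCycles_toCycles (p : ℕ) :
    (ShortComplex.mk _ _ (iCycles_toCycles K p)).Exact := by
  refine ShortComplex.exact_of_f_is_kernel _ (KernelFork.IsLimit.ofι' _ _ fun {W} k hk => ?_)
  refine ⟨K.liftCycles k (p + 1) (CochainComplex.next ℕ p) ?_,
    K.liftCycles_i k (p + 1) (CochainComplex.next ℕ p) _⟩
  change k ≫ K.toCycles p (p + 1) = 0 at hk
  rw [← K.toCycles_i p (p + 1), reassoc_of% hk, zero_comp]

variable [∀ n, Injective (K.X n)]

/-- Cycles are injective below the first nonvanishing degree. -/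
theorem injective_cycles : ∀ (p : ℕ), (∀ q ≤ p, K.ExactAt q) → Injective (K.cycles p) := by
  intro p
  induction p with
  | zero =>
    intro h
    have h0 : (K.sc 0).Exact := h 0 le_rfl
    have hf : (K.sc 0).f = 0 := K.shape _ _ (by simp)
    have : Mono (K.sc 0).g := h0.mono_g hf
    have : IsZero (K.sc 0).cycles := by
      rw [IsZero.iff_id_eq_zero, ← cancel_mono (K.sc 0).iCycles, zero_comp, Category.id_comp,
        ← cancel_mono (K.sc 0).g, ShortComplex.iCycles_g, zero_comp]
    exact this.injective
  | succ p ih =>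
    intro h
    have : Injective (K.cycles p) := ih fun q hq => h q (hq.trans (Nat.le_succ p))
    have hp : (ComplexShape.up ℕ).prev (p + 1) = p := CochainComplex.prev_nat_succ p
    have he : (K.sc (p + 1)).Exact := h (p + 1) le_rfl
    have : Epi (K.toCycles p (p + 1)) := by
      have : Epi (K.toCycles ((ComplexShape.up ℕ).prev (p + 1)) (p + 1)) := he.epi_toCycles
      rwa [hp] at this
    let r : K.X p ⟶ K.cycles p := Injective.factorThru (𝟙 _) (K.iCycles p)
    have hr : K.iCycles p ≫ r = 𝟙 _ := Injective.comp_factorThru _ _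
    let sp := ShortComplex.Splitting.ofExactOfRetraction _ (exact_iCycles_toCycles K p) r hr ‹_›
    exact Retract.injective (Y := K.X p) ⟨sp.s, K.toCycles p (p + 1), sp.s_g⟩

/-- The differential into the first possibly nonexact degree splits. -/
theorem exists_split (m : ℕ) (h : ∀ q < m, K.ExactAt q) :
    ∃ t : (K.sc m).cycles ⟶ (K.sc m).X₁, (K.sc m).toCycles ≫ t ≫ (K.sc m).toCycles = (K.sc m).toCycles := by
  cases m with
  | zero =>
    refine ⟨0, ?_⟩
    rw [zero_comp, comp_zero, ← cancel_mono (K.sc 0).iCycles, zero_comp, ShortComplex.toCycles_i]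
    exact (K.shape _ _ (by simp)).symm
  | succ p =>
    have : Injective (K.cycles p) := injective_cycles K p fun q hq => h q (Nat.lt_succ_of_le hq)
    have hp : (ComplexShape.up ℕ).prev (p + 1) = p := CochainComplex.prev_nat_succ p
    obtain ⟨t, ht⟩ := exists_split_of_exact (K.iCycles p) (K.toCycles p (p + 1))
      (iCycles_toCycles K p) (exact_iCycles_toCycles K p)
    have key : ∀ i, i = p → ∃ t : K.cycles (p + 1) ⟶ K.X i,
        K.toCycles i (p + 1) ≫ t ≫ K.toCycles i (p + 1) = K.toCycles i (p + 1) := by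
      rintro i rfl
      exact ⟨t, ht⟩
    exact key _ hp

variable {B : Type u'} [Category.{v'} B] [Abelian B] (G : A ⥤ B) [G.Additive] [PreservesFiniteLimits G]

/-- A left exact functor commutes with the first possibly nonzero homology. -/
theorem nonempty_homology_iso (m : ℕ) (h : ∀ q < m, K.ExactAt q) :
    Nonempty (((G.mapHomologicalComplex (ComplexShape.up ℕ)).obj K).homology m ≅ G.obj (K.homology m)) := by
  obtain ⟨t, ht⟩ := exists_split K m h
  let S := K.sc m
  let D := S.leftHomologyData
  have hf' : D.f' = S.toCycles := rfl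
  let t' : D.K ⟶ S.X₁ := t
  have ht' : D.f' ≫ t' ≫ D.f' = D.f' := ht
  obtain ⟨σ, hσ⟩ : ∃ σ : D.H ⟶ D.K, σ ≫ D.π = 𝟙 _ ∧ D.π ≫ σ = 𝟙 D.K - t' ≫ D.f' := by
    have h0 : D.f' ≫ (𝟙 D.K - t' ≫ D.f') = 0 := by
      rw [Preadditive.comp_sub, Category.comp_id, ht', sub_self]
    refine ⟨D.descH (𝟙 D.K - t' ≫ D.f') h0, ?_, D.π_descH _ _⟩
    rw [← cancel_epi D.π, D.π_descH_assoc, Preadditive.sub_comp, Category.id_comp, Category.comp_id,
      Category.assoc, D.f'_π, comp_zero, sub_zero]
  have hK : D.IsPreservedBy G := by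
    refine ⟨inferInstance, preservesColimit_of_preserves_colimit_cocone D.hπ ?_⟩
    refine (isColimitMapCoconeCoforkEquiv G _).symm ?_
    refine Cofork.IsColimit.mk _ (fun s => G.map σ ≫ s.π) (fun s => ?_) fun s m hm => ?_
    · have hz : G.map D.f' ≫ s.π = 0 :=
        s.condition.trans ((congrArg (· ≫ s.π) (G.map_zero _ _)).trans zero_comp)
      change G.map D.π ≫ G.map σ ≫ s.π = s.π
      rw [← G.map_comp_assoc, hσ.2, G.map_sub, G.map_id, G.map_comp, Preadditive.sub_comp, Category.id_comp,
        Category.assoc, hz, comp_zero, sub_zero]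
    · rw [← hm]
      change m = G.map σ ≫ G.map D.π ≫ m
      rw [← G.map_comp_assoc, hσ.1, G.map_id, Category.id_comp]
  exact ⟨(D.map G).homologyIso ≪≫ G.mapIso D.homologyIso.symm⟩

end Groth.SiteCohomology.LeftExactEdge
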