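import Groth.Prelude.Def_SixF1
import Groth.Agent.KTheory.RPlusBase

/-!
The composition morphism `R⁺H ⟶ R⁺F ⋙ R⁺G` is invertible when `θ` is and `F` preserves injectives.
-/

set_option autoImplicit false
set_option backward.isDefEq.respectTransparency false
set_option synthInstance.maxHeartbeats 400000

universe w w' w'' v v' v'' u u' u''

open CategoryTheory CategoryTheory.Limits

namespace Groth.SiteCohomology.RPlusComp

variable {A : Type u} [Category.{v} A] [Abelian A] [HasDerivedCategory.{w} A] [EnoughInjectives A]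
  {B : Type u'} [Category.{v'} B] [Abelian B] [HasDerivedCategory.{w'} B] [EnoughInjectives B]
  {C : Type u''} [Category.{v''} C] [Abelian C] [HasDerivedCategory.{w''} C]
  {F : A ⥤ B} {G : B ⥤ C} {H : A ⥤ C} [F.Additive] [G.Additive] [H.Additive]

theorem isIso_rPlusDesc₂ (θ : H ⟶ F ⋙ G) [IsIso θ] (hF : ∀ I : A, Injective I → Injective (F.obj I)) :
    IsIso (EtSix.rPlusDesc₂ θ) := by
  suffices ∀ K, IsIso ((EtSix.rPlusDesc₂ θ).app K) from NatIso.isIso_of_isIso_app _
  intro K
  obtain ⟨a, ha⟩ : ∃ a, K.IsGE a := by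
    obtain ⟨a, ha⟩ := K.property
    exact ⟨a, (DerivedCategory.Plus.isGE_ι_obj_iff K a).1 ha⟩
  obtain ⟨L, hL, ⟨e⟩⟩ := DerivedCategory.Plus.exists_injective_nonempty_iso K a
  let I := (InjectiveObject.ι A).mapCochainComplexPlus.obj L
  have hI : ∀ n, Injective (I.obj.X n) := fun n => (L.obj.X n).property
  have h1 := Groth.Agent.RPlusBase.isIso_unit_of_injective F I hI
  have h2 : IsIso (G.rightDerivedFunctorPlusUnit.app
      (F.mapHomotopyCategoryPlus.obj ((HomotopyCategory.Plus.quotient A).obj I))) :=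
    Groth.Agent.RPlusBase.isIso_unit_of_injective G (F.mapCochainComplexPlus.obj I) fun n => hF _ (hI n)
  have h3 := Groth.Agent.RPlusBase.isIso_unit_of_injective H I hI
  have h4 : IsIso (EtSix.plusNatTrans θ) := by
    have hid : ∀ (P : A ⥤ C) [P.Additive], EtSix.plusNatTrans (𝟙 P) = 𝟙 P.mapHomotopyCategoryPlus := fun P _ => by
      apply (((HomotopyCategory.plus C).fullyFaithfulι.whiskeringRight (HomotopyCategory.Plus A))).map_injective
      rw [EtSix.plusNatTrans, Functor.FullyFaithful.map_preimage]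
      rw [NatTrans.mapHomotopyCategory_id]
      ext X
      simp
      rfl
    have hcomp : ∀ {P Q R : A ⥤ C} [P.Additive] [Q.Additive] [R.Additive] (α : P ⟶ Q) (β : Q ⟶ R),
        EtSix.plusNatTrans (α ≫ β) = EtSix.plusNatTrans α ≫ EtSix.plusNatTrans β := fun {P Q R} _ _ _ α β => by
      apply (((HomotopyCategory.plus C).fullyFaithfulι.whiskeringRight (HomotopyCategory.Plus A))).map_injective
      rw [Functor.map_comp]
      simp only [EtSix.plusNatTrans, Functor.FullyFaithful.map_preimage, NatTrans.mapHomotopyCategory_comp]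
      ext X
      simp
    exact ⟨EtSix.plusNatTrans (inv θ), by rw [← hcomp, IsIso.hom_inv_id, hid],
      by rw [← hcomp, IsIso.inv_hom_id, hid]⟩
  have h5 : IsIso ((EtSix.rPlusUnit₂ θ).app ((HomotopyCategory.Plus.quotient A).obj I)) := by
    simp only [EtSix.rPlusUnit₂, NatTrans.comp_app, Functor.whiskerLeft_app, Functor.whiskerRight_app,
      Functor.associator_hom_app, Functor.associator_inv_app]
    infer_instance
  have h6 : IsIso ((EtSix.rPlusDesc₂ θ).app (DerivedCategory.Plus.Qh.obj ((HomotopyCategory.Plus.quotient A).obj I))) :=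
    IsIso.of_isIso_fac_left (H.rightDerivedFunctorPlus.rightDerived_fac_app H.rightDerivedFunctorPlusUnit
      (HomotopyCategory.Plus.quasiIso A) (F.rightDerivedFunctorPlus ⋙ G.rightDerivedFunctorPlus)
      (EtSix.rPlusUnit₂ θ) ((HomotopyCategory.Plus.quotient A).obj I))
  exact (NatTrans.isIso_app_iff_of_iso (EtSix.rPlusDesc₂ θ) e).1 h6

end Groth.SiteCohomology.RPlusComp
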