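import Groth.Agent.SiteCohomology.CechResolution
import Mathlib.CategoryTheory.Limits.Types.Limits
import Mathlib.CategoryTheory.Limits.Preserves.Basic
import Mathlib.CategoryTheory.Sites.PreservesSheafification

/-!
# The Čech nerve of an epimorphism of sheaves of sets
-/

universe u v' u'

open CategoryTheory Limits Opposite Simplicial AlgebraicTopology

set_option synthInstance.maxHeartbeats 400000
set_option maxHeartbeats 1000000

namespace Groth.SiteCohomology

section Types

variable {D : Type u'} [Category.{v'} D] (f : Arrow D)
  [∀ n : ℕ, HasWidePullback f.right (fun _ : Fin (n + 1) => f.left) fun _ => f.hom]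
  (H : D ⥤ Type u) [∀ n : ℕ, PreservesLimit (WidePullbackShape.wideCospan f.right
    (fun _ : Fin (n + 1) => f.left) fun _ => f.hom) H]

/-- A functor to sets preserving wide pullbacks turns Čech nerves into simplicial sets of Čech
type. -/
theorem isCechType_map :
    IsCechType (((SimplicialObject.Augmented.whiskering _ _).obj H).obj f.augmentedCechNerve) := by
  let W : ℕ → Type u := fun n => H.obj (f.cechNerve _⦋n⦌)
  have hv : ∀ (n : ℕ) (i : Fin (n + 1)),
      vert f.cechNerve i ≫ WidePullback.π (fun _ : Fin 1 => f.hom) 0 =
        WidePullback.π (fun _ : Fin (n + 1) => f.hom) i := fun n i => by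
    exact (WidePullback.lift_π ..).trans rfl
  have hv' : ∀ (n : ℕ) (i : Fin (n + 1)) (x : W n),
      H.map (WidePullback.π (fun _ : Fin 1 => f.hom) 0) (H.map (vert f.cechNerve i) x) =
        H.map (WidePullback.π (fun _ : Fin (n + 1) => f.hom) i) x := fun n i x => by
    refine Eq.trans ?_ (congrArg (fun g => H.map g x) (hv n i))
    simp only [H.map_comp]
    rfl
  have hbase : ∀ (n : ℕ) (i : Fin (n + 1)) (x : W n),
      H.map (WidePullback.base (fun _ : Fin (n + 1) => f.hom)) x =
        H.map f.hom (H.map (WidePullback.π (fun _ : Fin (n + 1) => f.hom) i) x) := fun n i x => by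
    rw [← WidePullback.π_arrow (fun _ : Fin (n + 1) => f.hom) i, H.map_comp]
    rfl
  have hlim : ∀ n : ℕ, IsLimit (H.mapCone (limit.cone (WidePullbackShape.wideCospan f.right
      (fun _ : Fin (n + 1) => f.left) fun _ => f.hom))) :=
    fun n => isLimitOfPreserves H (limit.isLimit _)
  have hhom : ∀ x : W 0,
      (((SimplicialObject.Augmented.whiskering _ _).obj H).obj f.augmentedCechNerve).hom.app
        (op ⦋0⦌) x = H.map (WidePullback.base (fun _ : Fin 1 => f.hom)) x :=
    fun x => rfl
  refine { ext := fun n x y h => ?_, lift := fun n t ht => ?_ }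
  · have hπ : ∀ i, H.map (WidePullback.π (fun _ : Fin (n + 1) => f.hom) i) x =
        H.map (WidePullback.π (fun _ : Fin (n + 1) => f.hom) i) y := fun i => by
      rw [← hv' n i x, ← hv' n i y]
      exact congrArg _ (h i)
    refine Concrete.isLimit_ext _ (hlim n) x y fun j => ?_
    cases j with
    | none =>
      refine (hbase n 0 x).trans (Eq.trans ?_ (hbase n 0 y).symm)
      rw [hπ]
    | some i => exact hπ i
  · have hb : ∀ i, H.map f.hom (H.map (WidePullback.π (fun _ : Fin 1 => f.hom) 0) (t i)) =
        H.map f.hom (H.map (WidePullback.π (fun _ : Fin 1 => f.hom) 0) (t 0)) := fun i => by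
      exact ((hbase 0 0 (t i)).symm.trans ((hhom (t i)).symm.trans (ht i 0))).trans
        ((hhom (t 0)).trans (hbase 0 0 (t 0)))
    let s : (WidePullbackShape.wideCospan f.right (fun _ : Fin (n + 1) => f.left)
        (fun _ => f.hom) ⋙ H).sections :=
      ⟨fun j => match j with
        | none => H.map f.hom (H.map (WidePullback.π (fun _ : Fin 1 => f.hom) 0) (t 0))
        | some i => H.map (WidePullback.π (fun _ : Fin 1 => f.hom) 0) (t i), by
        intro j j' g
        cases g with
        | id j =>
          change H.map ((WidePullbackShape.wideCospan _ _ _).map (𝟙 j)) _ = _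
          simp only [CategoryTheory.Functor.map_id]
          rfl
        | term i => exact hb i⟩
    refine ⟨(Types.isLimitEquivSections (hlim n)).symm s, fun i => ?_⟩
    refine Concrete.isLimit_ext _ (hlim 0) _ _ fun j => ?_
    have hi : ∀ (k : Fin 1),
        H.map (WidePullback.π (fun _ : Fin 1 => f.hom) k)
          (H.map (vert f.cechNerve i) ((Types.isLimitEquivSections (hlim n)).symm s)) =
        H.map (WidePullback.π (fun _ : Fin 1 => f.hom) k) (t i) := fun k => by
      obtain rfl : k = 0 := Subsingleton.elim _ _
      rw [hv']
      exact Types.isLimitEquivSections_symm_apply (hlim n) s (some i)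
    cases j with
    | none =>
      refine (hbase 0 0 _).trans (Eq.trans ?_ (hbase 0 0 _).symm)
      exact congrArg _ (hi 0)
    | some k => exact hi k

end Types

variable {C : Type u} [SmallCategory C] (J : GrothendieckTopology C)

/-- The augmentation of a Čech nerve in degree zero is the arrow, up to isomorphism. -/
lemma isLocallySurjective_cechNerve_hom {K' K : Sheaf J (Type u)} (f : K' ⟶ K) [Epi f] :
    Presheaf.IsLocallySurjective J
      ((((SimplicialObject.Augmented.whiskering _ _).obj (sheafToPresheaf J (Type u))).obj
        (Arrow.mk f).augmentedCechNerve).hom.app (op ⦋0⦌)) := by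
  let p := WidePullback.π (fun _ : Fin 1 => (Arrow.mk f).hom) 0
  let q : K' ⟶ widePullback.{0} K (fun _ : Fin 1 => K') (fun _ => f) :=
    WidePullback.lift f (fun _ => 𝟙 _) (fun _ => Category.id_comp _)
  have hq : q ≫ WidePullback.base (fun _ : Fin 1 => f) = f := WidePullback.lift_base ..
  have : Epi (WidePullback.base (fun _ : Fin 1 => f)) := epi_of_epi_fac hq
  have h2 : Sheaf.IsLocallySurjective (WidePullback.base (fun _ : Fin 1 => f)) :=
    (Sheaf.isLocallySurjective_iff_epi _).2 inferInstance
  exact h2

/-- The Čech nerve of an epimorphism of sheaves of sets gives a resolution of the free abelian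
sheaf on the target. -/
theorem isAugResolution_cechNerve {K' K : Sheaf J (Type u)} (f : K' ⟶ K) [Epi f] :
    IsAugResolution (((SimplicialObject.Augmented.whiskering _ _).obj
      (Sheaf.composeAndSheafify J AddCommGrpCat.free.{u})).obj (Arrow.mk f).augmentedCechNerve) := by
  have := isLocallySurjective_cechNerve_hom J f
  have h := isAugResolution_freeSh J
    (((SimplicialObject.Augmented.whiskering _ _).obj (sheafToPresheaf J (Type u))).obj
      (Arrow.mk f).augmentedCechNerve) fun c => ?_
  · let e : ((SimplicialObject.Augmented.whiskering _ _).obj (freeSh J)).obj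
        (((SimplicialObject.Augmented.whiskering _ _).obj (sheafToPresheaf J (Type u))).obj
          (Arrow.mk f).augmentedCechNerve) ⟶ ((SimplicialObject.Augmented.whiskering _ _).obj
        (Sheaf.composeAndSheafify J AddCommGrpCat.free.{u})).obj (Arrow.mk f).augmentedCechNerve :=
      { left := 𝟙 _
        right := 𝟙 _
        w := by
          apply NatTrans.ext
          funext n
          refine (Category.id_comp _).trans (Eq.trans ?_ (Category.comp_id _).symm)
          refine (Category.comp_id _).trans (Eq.trans ?_ (Category.comp_id _).symm)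
          exact congrArg (freeSh J).map (Category.comp_id _).symm }
    have h1 : IsIso e.left := inferInstanceAs (IsIso
      (𝟙 ((Arrow.mk f).cechNerve ⋙ Sheaf.composeAndSheafify J AddCommGrpCat.free.{u})))
    have h2 : IsIso e.right := inferInstanceAs (IsIso
      (𝟙 ((Sheaf.composeAndSheafify J AddCommGrpCat.free.{u}).obj K)))
    exact @IsAugResolution.congr_point _ _ _ _ _ h e h1 h2
  · exact isCechType_map (Arrow.mk f) (sheafToPresheaf J (Type u) ⋙ (evaluation _ _).obj c)

end Groth.SiteCohomology
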