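import Groth.Agent.SiteCohomology.CechResolution
import Groth.Prelude.Def_CohCx

/-!
# Acyclic sheaves and `Ext` in presheaves out of covering sieves
-/

universe u

open CategoryTheory Limits Opposite

set_option synthInstance.maxHeartbeats 400000
set_option maxHeartbeats 1000000

namespace Groth.SiteCohomology

open Abelian

variable {C : Type u} [SmallCategory C] (J : GrothendieckTopology C)

/-- Presheaves of abelian groups, as sheaves for the trivial topology. -/
abbrev PreAb (C : Type u) [SmallCategory C] : Type (u + 1) :=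
  Sheaf (⊥ : GrothendieckTopology C) AddCommGrpCat.{u}

/-- A sheaf seen as a sheaf for the trivial topology. -/
noncomputable abbrev toBot : Sheaf J AddCommGrpCat.{u} ⥤ PreAb C :=
  sheafToPresheaf J AddCommGrpCat.{u} ⋙ (sheafBotEquivalence AddCommGrpCat.{u}).inverse

/-- Sheafification from the trivial topology. -/
noncomputable abbrev fromBot : PreAb C ⥤ Sheaf J AddCommGrpCat.{u} :=
  (sheafBotEquivalence AddCommGrpCat.{u}).functor ⋙ presheafToSheaf J AddCommGrpCat.{u}

/-- The adjunction `fromBot ⊣ toBot`. -/
noncomputable def botAdj : fromBot J ⊣ toBot J :=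
  (sheafBotEquivalence AddCommGrpCat.{u}).toAdjunction.comp
    (sheafificationAdjunction J AddCommGrpCat.{u})

lemma injective_toBot_obj (I : Sheaf J AddCommGrpCat.{u}) [Injective I] :
    Injective ((toBot J).obj I) :=
  Injective.injective_of_adjoint (botAdj J) I

/-- Sheaves acyclic on every object. -/
def IsObjAcyclic (F : Sheaf J AddCommGrpCat.{u}) : Prop :=
  ∀ (X : C) (q : ℕ), Subsingleton (CohSite.HU F (q + 1) X)

variable {J}

lemma isObjAcyclic_cokernel (F : Sheaf J AddCommGrpCat.{u}) (hF : IsObjAcyclic J F) :
    IsObjAcyclic J (injSES F).X₃ := fun X q => by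
  have : Injective (injSES F).X₂ := inferInstanceAs (Injective (Injective.under F))
  exact @subsingleton_ext_right _ _ _ _ _ (injSES_shortExact F) (CohCx.freeSheaf J X) (q + 1)
    (Ext.subsingleton_of_injective _ _ q) (hF X (q + 1))

lemma shortExact_toBot {S : ShortComplex (Sheaf J AddCommGrpCat.{u})} (hS : S.ShortExact)
    (h : ∀ X : C, Subsingleton (CohSite.HU S.X₁ 1 X)) :
    (S.map (toBot J)).ShortExact := by
  have := hS.mono_f
  have hr : PreservesFiniteLimits (toBot J) :=
    (botAdj J).rightAdjoint_preservesLimits.{0, 0}.preservesFiniteLimits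
  refine ShortComplex.ShortExact.mk' (hS.exact.map_of_mono_of_preservesKernel _ hS.mono_f
    inferInstance) (inferInstanceAs (Mono ((toBot J).map S.f))) ?_
  have : Epi ((sheafToPresheaf J AddCommGrpCat.{u}).map S.g) := by
    have : ∀ c, Epi (((sheafToPresheaf J AddCommGrpCat.{u}).map S.g).app c) := fun c => by
      rw [AddCommGrpCat.epi_iff_surjective]
      have := h c.unop
      exact surjective_sections_of_subsingleton_HU hS c.unop
    exact NatTrans.epi_of_epi_app _
  exact inferInstanceAs (Epi ((sheafBotEquivalence AddCommGrpCat.{u}).inverse.map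
    ((sheafToPresheaf J AddCommGrpCat.{u}).map S.g)))

/-- `Ext` in presheaves into an acyclic sheaf vanishes if `Ext` in sheaves does. -/
theorem subsingleton_ext_toBot : ∀ (n : ℕ) (F : Sheaf J AddCommGrpCat.{u}), IsObjAcyclic J F →
    ∀ P : PreAb C, Subsingleton (Ext ((fromBot J).obj P) F (n + 1)) →
      Subsingleton (Ext P ((toBot J).obj F) (n + 1))
  | 0, F, hF, P, hP => by
    have : Injective (injSES F).X₂ := inferInstanceAs (Injective (Injective.under F))
    have hS := shortExact_toBot (injSES_shortExact F) fun X => hF X 0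
    have := injective_toBot_obj J (injSES F).X₂
    have : Subsingleton (Ext P ((injSES F).map (toBot J)).X₂ 1) :=
      Ext.subsingleton_of_injective P ((toBot J).obj (injSES F).X₂) 0
    refine subsingleton_ext_one_left hS P fun f => ?_
    have : Subsingleton (Ext ((fromBot J).obj P) (injSES F).X₁ 1) := hP
    obtain ⟨g, hg⟩ := exists_lift_of_subsingleton_ext_one (injSES_shortExact F) _
      (((botAdj J).homEquiv _ _).symm f)
    refine ⟨(botAdj J).homEquiv _ _ g, ?_⟩
    refine ((botAdj J).homEquiv_naturality_right g (injSES F).g).symm.trans ?_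
    exact (congrArg _ hg).trans (Equiv.apply_symm_apply _ f)
  | n + 1, F, hF, P, hP => by
    have : Injective (injSES F).X₂ := inferInstanceAs (Injective (Injective.under F))
    have hS := shortExact_toBot (injSES_shortExact F) fun X => hF X 0
    have := injective_toBot_obj J (injSES F).X₂
    have : Subsingleton (Ext P ((injSES F).map (toBot J)).X₂ (n + 1 + 1)) :=
      Ext.subsingleton_of_injective P ((toBot J).obj (injSES F).X₂) (n + 1)
    have : Subsingleton (Ext ((fromBot J).obj P) (injSES F).X₂ (n + 1)) :=
      Ext.subsingleton_of_injective _ _ n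
    have : Subsingleton (Ext ((fromBot J).obj P) (injSES F).X₁ (n + 1 + 1)) := hP
    have : Subsingleton (Ext P ((injSES F).map (toBot J)).X₃ (n + 1)) :=
      subsingleton_ext_toBot n _ (isObjAcyclic_cokernel F hF) P
        (subsingleton_ext_right (injSES_shortExact F) _ (n + 1))
    exact subsingleton_ext_left hS P (n + 1)

variable (J) in
/-- The free presheaf on a sieve. -/
noncomputable abbrev freeSieve {X : C} (R : Sieve X) : PreAb C :=
  (presheafToSheaf (⊥ : GrothendieckTopology C) AddCommGrpCat.{u}).obj
    (R.functor ⋙ AddCommGrpCat.free.{u})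

/-- Morphisms from the free presheaf on a sieve into a sheaf. -/
noncomputable def freeSieveAdjEquiv {X : C} (R : Sieve X) (G : Sheaf J AddCommGrpCat.{u}) :
    (freeSieve R ⟶ (toBot J).obj G) ≃
      (R.functor ⋙ AddCommGrpCat.free.{u} ⟶ G.obj) :=
  (sheafificationAdjunction (⊥ : GrothendieckTopology C) AddCommGrpCat.{u}).homEquiv _ _

variable (J) in
lemma isIso_freeSh_functorInclusion {X : C} (R : Sieve X) (hR : R ∈ J X) :
    IsIso ((freeSh J).map R.functorInclusion) := by
  refine isIso_freeSh_map_of_W J _ ?_
  have : Presheaf.IsLocallyInjective J R.functorInclusion :=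
    Presheaf.isLocallyInjective_of_injective J _ fun _ => Subtype.val_injective
  have : Presheaf.IsLocallySurjective J R.functorInclusion :=
    ⟨fun {V} s => J.superset_covering (fun W g hg => ⟨⟨g ≫ s, hg⟩, rfl⟩)
      (J.pullback_stable s hR)⟩
  exact J.W_of_isLocallyBijective _

variable (J) in
/-- The sheaf associated to the free presheaf on a covering sieve is `ℤ_X`. -/
noncomputable def fromBotFreeSieveIso {X : C} (R : Sieve X) (hR : R ∈ J X) :
    (fromBot J).obj (freeSieve R) ≅ CohCx.freeSheaf J X :=
  haveI := isIso_freeSh_functorInclusion J R hR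
  (((sheafificationAdjunction (⊥ : GrothendieckTopology C) AddCommGrpCat.{u}).comp
      (botAdj J)).leftAdjointUniq
      ((sheafificationAdjunction J AddCommGrpCat.{u}).ofNatIsoRight (Iso.refl _))).app
        (R.functor ⋙ AddCommGrpCat.free.{u}) ≪≫
    asIso ((freeSh J).map R.functorInclusion)

/-- Acyclic on objects implies acyclic on covering sieves in presheaves. -/
theorem subsingleton_ext_freeSieve (F : Sheaf J AddCommGrpCat.{u}) (hF : IsObjAcyclic J F)
    {X : C} (R : Sieve X) (hR : R ∈ J X) (q : ℕ) :
    Subsingleton (Ext (freeSieve R) ((toBot J).obj F) (q + 1)) :=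
  subsingleton_ext_toBot q F hF _
    (@Equiv.subsingleton _ _ (extIsoLeft (fromBotFreeSieveIso J R hR) F (q + 1)).symm.toEquiv
      (hF X q))

/-- Acyclicity on covering sieves in presheaves. -/
def IsSieveAcyclic (F : Sheaf J AddCommGrpCat.{u}) : Prop :=
  ∀ (X : C) (R : Sieve X), R ∈ J X → ∀ q : ℕ,
    Subsingleton (Ext (freeSieve R) ((toBot J).obj F) (q + 1))

/-- Acyclicity on covering sieves in presheaves gives `H^1 = 0`. -/
theorem subsingleton_HU_one_of_isSieveAcyclic (F : Sheaf J AddCommGrpCat.{u})
    (hF : IsSieveAcyclic F) (X : C) : Subsingleton (CohSite.HU F 1 X) := by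
  let S := injSES F
  have hS : S.ShortExact := injSES_shortExact F
  have : Injective S.X₂ := inferInstanceAs (Injective (Injective.under F))
  refine @subsingleton_ext_one_left _ _ _ _ _ hS (CohCx.freeSheaf J X)
    (Ext.subsingleton_of_injective _ _ 0) fun f => ?_
  have : Epi S.g := hS.epi_g
  have : Sheaf.IsLocallySurjective S.g :=
    (Sheaf.isLocallySurjective_iff_epi' AddCommGrpCat.{u} S.g).2 inferInstance
  let s := CohFree.evalGen J X S.X₃ f
  let R : Sieve X := Presheaf.imageSieve (U := X) S.g.hom s
  have hR : R ∈ J X := Presheaf.imageSieve_mem J S.g.hom (U := op X) s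
  let T := toBot J
  have := (injective_toBot_obj J S.X₂)
  let π : T.obj S.X₂ ⟶ cokernel (T.map S.f) := cokernel.π _
  have : Mono (T.map S.f) :=
    haveI := (botAdj J).rightAdjoint_preservesLimits.{0, 0}.preservesFiniteLimits (F := T)
    haveI := hS.mono_f
    inferInstance
  have hQ : (ShortComplex.mk (T.map S.f) π (cokernel.condition _)).ShortExact :=
    ShortComplex.ShortExact.mk' (ShortComplex.exact_of_g_is_cokernel _ (cokernelIsCokernel _))
      inferInstance inferInstance
  let m : cokernel (T.map S.f) ⟶ T.obj S.X₃ :=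
    cokernel.desc _ (T.map S.g) (by rw [← T.map_comp, S.zero, T.map_zero])
  have hm : π ≫ m = T.map S.g := cokernel.π_desc _ _ _
  have hmono : Mono m := by
    refine ((ShortComplex.mk (T.map S.f) (T.map S.g) (by
      rw [← T.map_comp, S.zero, T.map_zero])).exact_iff_mono_cokernel_desc).1 ?_
    haveI := (botAdj J).rightAdjoint_preservesLimits.{0, 0}.preservesFiniteLimits (F := T)
    exact hS.exact.map_of_mono_of_preservesKernel T hS.mono_f inferInstance
  -- the section `s` on the sieve lies in the image presheaf
  let φ : freeSieve R ⟶ T.obj S.X₃ :=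
    (freeSieveAdjEquiv R S.X₃).symm (Functor.whiskerRight R.functorInclusion _ ≫
      CohFree.liftPre J X S.X₃ s)
  have hφ : ∃ φ' : freeSieve R ⟶ cokernel (T.map S.f), φ' ≫ m = φ := by
    let mo := ((sheafBotEquivalence AddCommGrpCat.{u}).functor.map m)
    have : Mono mo := inferInstance
    have hmo : ∀ c, Function.Injective (mo.app c) := fun c =>
      (AddCommGrpCat.mono_iff_injective _).1 inferInstance
    have hex : ∀ (c : Cᵒᵖ) (g : R.functor.obj c), ∃ y, mo.app c y = S.X₃.obj.map g.1.op s := by
      rintro c ⟨g, hgR⟩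
      obtain ⟨t, ht⟩ := (show Presheaf.imageSieve (U := X) S.g.hom s g from hgR)
      refine ⟨((sheafBotEquivalence AddCommGrpCat.{u}).functor.map π).app c t, ?_⟩
      refine Eq.trans ?_ ht
      exact congrArg (fun k => k.hom.app c t) hm
    choose y hy using hex
    let β : R.functor ⋙ AddCommGrpCat.free.{u} ⟶ (cokernel (T.map S.f)).obj :=
      { app := fun c => AddCommGrpCat.ofHom (FreeAbelianGroup.lift (y c))
        naturality := fun c c' k => by
          apply AddCommGrpCat.hom_ext
          apply FreeAbelianGroup.lift_ext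
          intro g
          apply hmo c'
          change mo.app c' (FreeAbelianGroup.lift (y c') (FreeAbelianGroup.map _ (FreeAbelianGroup.of g))) = mo.app c' ((cokernel (T.map S.f)).obj.map k (FreeAbelianGroup.lift (y c) (FreeAbelianGroup.of g)))
          rw [FreeAbelianGroup.map_of_apply, FreeAbelianGroup.lift_apply_of,
            FreeAbelianGroup.lift_apply_of, hy]
          refine Eq.trans ?_ (congrArg (fun z => z (y c g)) (mo.naturality k)).symm
          refine Eq.trans ?_ (congrArg (S.X₃.obj.map k) (hy c g)).symm
          exact congrArg (fun z => z s) (S.X₃.obj.map_comp g.1.op k) }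
    refine ⟨((sheafificationAdjunction (⊥ : GrothendieckTopology C) AddCommGrpCat.{u}).homEquiv
      _ _).symm β, ?_⟩
    refine ((sheafificationAdjunction (⊥ : GrothendieckTopology C)
      AddCommGrpCat.{u}).homEquiv_naturality_right_symm β m).symm.trans (congrArg _ ?_)
    refine NatTrans.ext (funext fun c => AddCommGrpCat.hom_ext ?_)
    apply FreeAbelianGroup.lift_ext
    intro g
    change mo.app c (FreeAbelianGroup.lift (y c) (FreeAbelianGroup.of g)) =
      FreeAbelianGroup.lift (fun f' : (unop c ⟶ X) => (S.X₃.obj.map f'.op).hom s)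
        (FreeAbelianGroup.map _ (FreeAbelianGroup.of g))
    rw [FreeAbelianGroup.map_of_apply, FreeAbelianGroup.lift_apply_of,
      FreeAbelianGroup.lift_apply_of]
    exact hy c g
  obtain ⟨φ', hφ'⟩ := hφ
  have : Subsingleton (Ext (freeSieve R) (ShortComplex.mk (T.map S.f) π (cokernel.condition _)).X₁ 1) :=
    hF X R hR 0
  obtain ⟨g, hg⟩ := exists_lift_of_subsingleton_ext_one hQ _ φ'
  have hg' : g ≫ T.map S.g = φ := by
    rw [← hm, ← Category.assoc]
    exact (congrArg (· ≫ m) hg).trans hφ'
  let g₁ := freeSieveAdjEquiv R S.X₂ g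
  have hg₁ : g₁ ≫ S.g.hom = Functor.whiskerRight R.functorInclusion _ ≫
      CohFree.liftPre J X S.X₃ s := by
    refine ((sheafificationAdjunction (⊥ : GrothendieckTopology C)
      AddCommGrpCat.{u}).homEquiv_naturality_right g (T.map S.g)).symm.trans ?_
    exact (congrArg (freeSieveAdjEquiv R S.X₃) hg').trans (Equiv.apply_symm_apply _ _)
  let adj := sheafificationAdjunction J AddCommGrpCat.{u}
  let ψ := (adj.homEquiv _ S.X₂).symm g₁
  have := isIso_freeSh_functorInclusion J R hR
  refine ⟨inv ((freeSh J).map R.functorInclusion) ≫ ψ, ?_⟩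
  rw [Category.assoc, IsIso.inv_comp_eq]
  refine (adj.homEquiv_naturality_right_symm g₁ S.g).symm.trans ?_
  refine (congrArg (adj.homEquiv _ S.X₃).symm hg₁).trans ?_
  refine (adj.homEquiv_naturality_left_symm _ _).trans ?_
  exact congrArg _ (CohFree.ofSect_evalGen J X S.X₃ f)

/-- Acyclicity on covering sieves in presheaves implies acyclicity on objects. -/
theorem isObjAcyclic_of_isSieveAcyclic : ∀ (q : ℕ) (F : Sheaf J AddCommGrpCat.{u}),
    IsSieveAcyclic F → ∀ X : C, Subsingleton (CohSite.HU F (q + 1) X)
  | 0, F, hF, X => subsingleton_HU_one_of_isSieveAcyclic F hF X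
  | q + 1, F, hF, X => by
    have : Injective (injSES F).X₂ := inferInstanceAs (Injective (Injective.under F))
    have hS := shortExact_toBot (injSES_shortExact F)
      fun X => subsingleton_HU_one_of_isSieveAcyclic F hF X
    have hQ : IsSieveAcyclic (injSES F).X₃ := fun Y R hR n => by
      have := injective_toBot_obj J (injSES F).X₂
      have : Subsingleton (Ext (freeSieve R) ((injSES F).map (toBot J)).X₂ (n + 1)) :=
        Ext.subsingleton_of_injective _ ((toBot J).obj (injSES F).X₂) n
      have : Subsingleton (Ext (freeSieve R) ((injSES F).map (toBot J)).X₁ (n + 1 + 1)) :=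
        hF Y R hR (n + 1)
      exact subsingleton_ext_right hS _ (n + 1)
    exact @subsingleton_ext_left _ _ _ _ _ (injSES_shortExact F) (CohCx.freeSheaf J X) (q + 1)
      (Ext.subsingleton_of_injective _ _ _) (isObjAcyclic_of_isSieveAcyclic q _ hQ X)

end Groth.SiteCohomology
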