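import Groth.Agent.SiteCohomology.CechCovers
import Groth.Agent.SiteCohomology.SieveExt
import Groth.Prelude.Def_CechEdge
import Mathlib.CategoryTheory.Sites.IsSheafFor
import Mathlib.Algebra.Category.Grp.AB
import Mathlib.CategoryTheory.Abelian.GrothendieckCategory.EnoughInjectives

/-!
# Čech cohomology of presheaves
-/

universe u

open CategoryTheory Limits Opposite Simplicial

set_option synthInstance.maxHeartbeats 400000
set_option maxHeartbeats 1000000

namespace Groth.SiteCohomology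

open Abelian

/-- For the trivial topology, objects are acyclic. -/
theorem subsingleton_HU_bot {C : Type u} [SmallCategory C]
    (F : Sheaf (⊥ : GrothendieckTopology C) AddCommGrpCat.{u}) (U : C) (n : ℕ) :
    Subsingleton (CohSite.HU F (n + 1) U) :=
  subsingleton_ext_succ_of_class _ (fun _ => True)
    (fun F S hS _ _ _ => (surjective_sections_iff_lift S.g).1 (by
      have := hS.epi_g
      have : Epi ((sheafBotEquivalence AddCommGrpCat.{u}).functor.map S.g) := inferInstance
      have h : Epi (((sheafToPresheaf _ _).map S.g).app (op U)) :=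
        inferInstanceAs (Epi (((evaluation Cᵒᵖ AddCommGrpCat.{u}).obj (op U)).map
          ((sheafBotEquivalence AddCommGrpCat.{u}).functor.map S.g)))
      exact (AddCommGrpCat.epi_iff_surjective _).1 h))
    (fun _ _ _ _ _ _ => trivial) n F trivial

variable {C : Type u} [SmallCategory C] [HasPullbacks C] {U : C} {ι : Type u} (Y : ι → Over U)

/-- The sieve of a family. -/
abbrev famSieve : Sieve U := Sieve.ofArrows (fun i => (Y i).left) (fun i => (Y i).hom)

/-- The nerve of a family, augmented to its sieve. -/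
noncomputable def sieveAug : SimplicialObject.Augmented (Cᵒᵖ ⥤ Type u) where
  left := (cechDataOver Y).aug.left
  right := (famSieve Y).functor
  hom :=
    { app := fun n =>
        { app := fun c => TypeCat.ofHom fun x => ⟨((cechDataOver Y).aug.hom.app n).app c x,
            (Sieve.mem_ofArrows_iff _ _ _).2 ⟨x.1 0,
              x.2 ≫ (Over.forget U).map (Pi.π (Y ∘ x.1) 0), (Category.assoc _ _ _).symm⟩⟩
          naturality := fun c c' g => by
            ext x
            exact Subtype.ext (congrArg (fun k => k x) (((cechDataOver Y).aug.hom.app n).naturality g)) }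
      naturality := fun m n f => by
        ext c x
        exact Subtype.ext (congrArg (fun k => k.app c x) ((cechDataOver Y).aug.hom.naturality f)) }

lemma isCechTypePresheaf_sieveAug : IsCechTypePresheaf (sieveAug Y) := fun c =>
  have h := (cechDataOver Y).isCechTypePresheaf_aug c
  { ext := h.ext
    lift := fun n t ht => h.lift n t fun i j => congrArg Subtype.val (ht i j) }

lemma isLocallySurjective_sieveAug :
    Presheaf.IsLocallySurjective (⊥ : GrothendieckTopology C) ((sieveAug Y).hom.app (op ⦋0⦌)) where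
  imageSieve_mem {c} s := by
    rw [GrothendieckTopology.bot_covering, eq_top_iff]
    rintro V g -
    obtain ⟨i, q, hq⟩ := (Sieve.mem_ofArrows_iff _ _ _).1 s.2
    obtain ⟨w, hw, -⟩ := (cechDataOver Y).hlift 0 (fun _ => i) V (fun _ => g ≫ q) (fun _ _ => rfl)
    refine ⟨⟨fun _ => i, w⟩, Subtype.ext ?_⟩
    refine ((cechDataOver Y).aug_hom_apply (n := 0) (op V) (fun _ => i) w 0).trans ?_
    rw [← Category.assoc, hw]
    change (g ≫ q) ≫ (Y i).hom = g ≫ s.1
    rw [hq, Category.assoc]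

/-- Čech cohomology is `Ext` in presheaves out of the free presheaf on the sieve. -/
theorem nonempty_cechH_equiv_sieve (M : Sheaf (⊥ : GrothendieckTopology C) AddCommGrpCat.{u}) (q : ℕ) :
    Nonempty (CohCx.cechH M.obj Y q ≃+
      Ext ((freeSh (⊥ : GrothendieckTopology C)).obj (famSieve Y).functor) M q) := by
  have := isLocallySurjective_sieveAug Y
  obtain ⟨e⟩ := nonempty_yonedaCofaceCx_homology_equiv (T := freeSh (⊥ : GrothendieckTopology C))
    (X := sieveAug Y) M (isAugResolution_freeSh ⊥ _ (isCechTypePresheaf_sieveAug Y)) q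
    (fun n k _ => @subsingleton_ext_freeCoprod _ _ _ _ (Over.forget U) ⊥ M
      ((FormalCoproduct.mk _ Y).cech _⦋n⦌) (k + 1) fun a => subsingleton_HU_bot M _ k)
  exact ⟨((HomologicalComplex.homologyFunctor _ _ q).mapIso
    ((cechDataOver Y).cxIso ⊥ M)).symm.addCommGroupIsoToAddEquiv.trans e⟩

/-- Injective presheaves have no higher Čech cohomology. -/
theorem isZero_cechH_injective (P : Cᵒᵖ ⥤ AddCommGrpCat.{u}) [hP : Injective P] (p : ℕ) :
    IsZero (CohCx.cechH P Y (p + 1)) := by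
  let M : Sheaf (⊥ : GrothendieckTopology C) AddCommGrpCat.{u} := ⟨P, Presheaf.isSheaf_bot _⟩
  have : Injective M := @Injective.injective_of_adjoint _ _ _ _ _ _ _
    (sheafBotEquivalence AddCommGrpCat.{u}).toAdjunction P hP
  obtain ⟨e⟩ := nonempty_cechH_equiv_sieve Y M (p + 1)
  have := @Equiv.subsingleton _ _ e.toEquiv (Ext.subsingleton_of_injective _ M p)
  exact AddCommGrpCat.isZero_of_subsingleton _

/-- Injective abelian sheaves have no higher Čech cohomology. -/
theorem isZero_cechH_injective_sheaf {J : GrothendieckTopology C} (I : Sheaf J AddCommGrpCat.{u})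
    [Injective I] (p : ℕ) : IsZero (CohCx.cechH I.obj Y (p + 1)) :=
  haveI : Injective I.obj := Injective.injective_of_adjoint (sheafificationAdjunction J AddCommGrpCat.{u}) I
  isZero_cechH_injective Y I.obj p

/-- Čech complexes of a short exact sequence of presheaves. -/
theorem shortExact_map_cxFunctor (S : ShortComplex (Cᵒᵖ ⥤ AddCommGrpCat.{u})) (hS : S.ShortExact) :
    (S.map (CechEdge.cxFunctor Y)).ShortExact := by
  refine HomologicalComplex.shortExact_of_degreewise_shortExact _ fun n => ?_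
  have := hS.mono_f
  have := hS.epi_g
  have hc : ∀ X : Cᵒᵖ, (S.map ((evaluation _ _).obj X)).ShortExact := fun X =>
    hS.map_of_exact _
  have hf : ∀ X, Function.Injective (S.f.app X) := fun X =>
    (AddCommGrpCat.mono_iff_injective _).1 (hc X).mono_f
  have hg : ∀ X, Function.Surjective (S.g.app X) := fun X =>
    (AddCommGrpCat.epi_iff_surjective _).1 (hc X).epi_g
  let ob : ((FormalCoproduct.mk _ Y).cech _⦋n⦌).I → Cᵒᵖ := fun a =>
    op (((FormalCoproduct.mk _ Y).cech _⦋n⦌).obj a).left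
  let eq : ∀ P : Cᵒᵖ ⥤ AddCommGrpCat.{u}, ((CechEdge.cx P Y).X n) ≃ ∀ a, P.obj (ob a) := fun P =>
    Concrete.productEquiv fun a => P.obj (ob a)
  have key : ∀ {P Q : Cᵒᵖ ⥤ AddCommGrpCat.{u}} (φ : P ⟶ Q) x a,
      eq Q (((CechEdge.cxFunctor Y).map φ).f n x) a = φ.app (ob a) (eq P x a) := by
    intro P Q φ x a
    refine (Concrete.productEquiv_apply_apply _ _ _).trans ?_
    refine Eq.trans ?_ (congrArg (φ.app (ob a)) (Concrete.productEquiv_apply_apply _ x a)).symm
    exact ConcreteCategory.congr_hom (limMap_π (Discrete.natTrans _) ⟨a⟩) x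
  refine ShortComplex.ShortExact.mk' ((ShortComplex.ab_exact_iff _).2 fun x hx => ?_)
    ((AddCommGrpCat.mono_iff_injective _).2 fun x y h => (eq S.X₁).injective (funext fun a => hf _ ?_))
    ((AddCommGrpCat.epi_iff_surjective _).2 fun z => ?_)
  · have hz : ∀ a, ∃ w, S.f.app (ob a) w = eq S.X₂ x a := fun a => by
      refine (ShortComplex.ab_exact_iff _).1 (hc (ob a)).exact _ ?_
      refine (key S.g x a).symm.trans ?_
      rw [show ((CechEdge.cxFunctor Y).map S.g).f n x = 0 from hx]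
      exact (Concrete.productEquiv_apply_apply _ _ _).trans (map_zero _)
    choose w hw using hz
    refine ⟨(eq S.X₁).symm w, (eq S.X₂).injective (funext fun a => ?_)⟩
    exact ((key S.f _ a).trans (by rw [Equiv.apply_symm_apply])).trans (hw a)
  · rw [← key S.f x a, ← key S.f y a]
    exact congrArg (fun k => eq S.X₂ k a) h
  · choose w hw using fun a => hg (ob a) (eq S.X₃ z a)
    refine ⟨(eq S.X₂).symm w, (eq S.X₃).injective (funext fun a => ?_)⟩
    exact ((key S.g _ a).trans (by rw [Equiv.apply_symm_apply])).trans (hw a)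

section Zero

lemma pi_ext {α : Type u} (F : α → AddCommGrpCat.{u}) (u v : (∏ᶜ F : AddCommGrpCat.{u}))
    (h : ∀ a, Pi.π F a u = Pi.π F a v) : u = v :=
  (Concrete.productEquiv F).injective (funext fun a => (Concrete.productEquiv_apply_apply F u a).trans
    ((h a).trans (Concrete.productEquiv_apply_apply F v a).symm))

/-- The member of a `0`-cochain at an index. -/
noncomputable def coord (P : Cᵒᵖ ⥤ AddCommGrpCat.{u}) (i : ι) :
    (CechEdge.cx P Y).X 0 ⟶ P.obj (op (Y i).left) :=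
  Pi.π (fun a : Fin 1 → ι => P.obj (op (∏ᶜ (Y ∘ a)).left)) (fun _ => i) ≫
    P.map (Pi.lift (f := Y ∘ fun _ : Fin 1 => i) fun _ => 𝟙 (Y i)).left.op

lemma lift_π_const (i : ι) :
    Pi.π (Y ∘ fun _ : Fin 1 => i) 0 ≫ Pi.lift (f := Y ∘ fun _ : Fin 1 => i) (fun _ => 𝟙 (Y i)) = 𝟙 _ :=
  Pi.hom_ext _ _ fun k => by
    obtain rfl : k = 0 := Subsingleton.elim (α := Fin 1) _ _
    exact (Category.assoc _ _ _).trans ((congrArg (_ ≫ ·) (Pi.lift_π _ _)).trans
      ((Category.comp_id _).trans (Category.id_comp _).symm))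

lemma coord_map (P : Cᵒᵖ ⥤ AddCommGrpCat.{u}) (i : ι) :
    coord Y P i ≫ P.map (Pi.π (Y ∘ fun _ : Fin 1 => i) 0).left.op =
      Pi.π (fun a : Fin 1 → ι => P.obj (op (∏ᶜ (Y ∘ a)).left)) (fun _ => i) := by
  refine (Category.assoc _ _ _).trans ((congrArg (_ ≫ ·) ?_).trans (Category.comp_id _))
  refine (P.map_comp _ _).symm.trans ((congrArg P.map ?_).trans (P.map_id _))
  refine Quiver.Hom.unop_inj ?_
  exact congrArg CommaMorphism.left (lift_π_const Y i)

lemma coord_ext {P : Cᵒᵖ ⥤ AddCommGrpCat.{u}} {x y : (CechEdge.cx P Y).X 0}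
    (h : ∀ i, coord Y P i x = coord Y P i y) : x = y := by
  refine (Concrete.productEquiv fun a : Fin 1 → ι => P.obj (op (∏ᶜ (Y ∘ a)).left)).injective
    (funext fun a => ?_)
  obtain ⟨i, rfl⟩ : ∃ i, a = fun _ => i :=
    ⟨a 0, funext fun k => congrArg a (Subsingleton.elim (α := Fin 1) k 0)⟩
  refine (Concrete.productEquiv_apply_apply _ x _).trans
    (Eq.trans ?_ (Concrete.productEquiv_apply_apply _ y _).symm)
  exact ((ConcreteCategory.congr_hom (coord_map Y P i) x).symm.trans (congrArg (P.map _) (h i))).trans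
    (ConcreteCategory.congr_hom (coord_map Y P i) y)

lemma exists_coord (P : Cᵒᵖ ⥤ AddCommGrpCat.{u}) (w : ∀ i, P.obj (op (Y i).left)) :
    ∃ x, ∀ i, coord Y P i x = w i := by
  refine ⟨(Concrete.productEquiv fun a : Fin 1 → ι => P.obj (op (∏ᶜ (Y ∘ a)).left)).symm
    fun a => P.map (Pi.π (Y ∘ a) 0).left.op (w (a 0)), fun i => ?_⟩
  refine (congrArg (P.map (Pi.lift (f := Y ∘ fun _ : Fin 1 => i) fun _ => 𝟙 (Y i)).left.op)
    (Concrete.productEquiv_symm_apply_π (fun a : Fin 1 → ι => P.obj (op (∏ᶜ (Y ∘ a)).left))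
      (fun a => P.map (Pi.π (Y ∘ a) 0).left.op (w (a 0))) (fun _ => i))).trans ?_
  refine (ConcreteCategory.congr_hom ((P.map_comp _ _).symm.trans
    ((congrArg P.map ?_).trans (P.map_id _))) (w i)).trans rfl
  refine Quiver.Hom.unop_inj ?_
  exact congrArg CommaMorphism.left (Pi.lift_π (f := Y ∘ fun _ : Fin 1 => i) (fun _ => 𝟙 (Y i)) 0)

/-- Restriction of a section, member by member. -/
lemma coord_toCech₀ (P : Cᵒᵖ ⥤ AddCommGrpCat.{u}) (s : P.obj (op U)) (i : ι) :
    coord Y P i (CechEdge.toCech₀ P Y s) = P.map (Y i).hom.op s := by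
  rw [coord, ← ConcreteCategory.comp_apply, CechEdge.toCech₀]
  refine (congrArg (fun k => k s) (?_ : _ = P.map (Y i).hom.op))
  refine (Pi.lift_π_assoc _ _ _).trans ?_
  exact (P.map_comp _ _).symm.trans (congrArg P.map (Quiver.Hom.unop_inj
    (Over.w (Pi.lift (f := Y ∘ fun _ : Fin 1 => i) fun _ => 𝟙 (Y i)))))

/-- Compatibility of a family on double fibre products. -/
def Compat (P : Cᵒᵖ ⥤ AddCommGrpCat.{u}) (w : ∀ i, P.obj (op (Y i).left)) : Prop :=
  ∀ b : Fin 2 → ι, P.map (Pi.π (Y ∘ b) 0).left.op (w (b 0)) =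
    P.map (Pi.π (Y ∘ b) 1).left.op (w (b 1))

lemma face_π (P : Cᵒᵖ ⥤ AddCommGrpCat.{u}) (j : Fin 2) (x : (CechEdge.cx P Y).X 0)
    (b : Fin 2 → ι) :
    Pi.π (fun a : Fin 2 → ι => P.obj (op (∏ᶜ (Y ∘ a)).left)) b (CechEdge.face P Y j x) =
      P.map (Pi.π (Y ∘ b) ((SimplexCategory.δ j).toOrderHom 0)).left.op
        (coord Y P (b ((SimplexCategory.δ j).toOrderHom 0)) x) := by
  let φ : Fin 1 → Fin 2 := (SimplexCategory.δ j).toOrderHom
  obtain ⟨i, hi⟩ : ∃ i, b ∘ φ = fun _ => i :=
    ⟨b (φ 0), funext fun k => congrArg (b ∘ φ) (Subsingleton.elim (α := Fin 1) k 0)⟩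
  have e : CechEdge.face P Y j ≫ Pi.π (fun a : Fin 2 → ι => P.obj (op (∏ᶜ (Y ∘ a)).left)) b =
      Pi.π (fun a : Fin 1 → ι => P.obj (op (∏ᶜ (Y ∘ a)).left)) (b ∘ φ) ≫
        P.map (Pi.lift (f := Y ∘ b ∘ φ) fun k => Pi.π (Y ∘ b) (φ k)).left.op :=
    Pi.lift_π _ _
  refine (ConcreteCategory.congr_hom e x).trans ?_
  change _ = P.map (Pi.π (Y ∘ b) (φ 0)).left.op (coord Y P ((b ∘ φ) 0) x)
  have key : ∀ (a : Fin 1 → ι) (m : ∏ᶜ (Y ∘ b) ⟶ ∏ᶜ (Y ∘ a)),
      P.map m.left.op (Pi.π (fun a : Fin 1 → ι => P.obj (op (∏ᶜ (Y ∘ a)).left)) a x) =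
        P.map (m ≫ Pi.π (Y ∘ a) 0).left.op (coord Y P (a 0) x) := fun a m => by
    obtain ⟨i, rfl⟩ : ∃ i, a = fun _ => i :=
      ⟨a 0, funext fun k => congrArg a (Subsingleton.elim (α := Fin 1) k 0)⟩
    rw [← coord_map Y P i, Over.comp_left, op_comp, P.map_comp]
    rfl
  refine (key (b ∘ φ) _).trans ?_
  rw [Pi.lift_π]

lemma d_eq_zero_iff (P : Cᵒᵖ ⥤ AddCommGrpCat.{u}) (x : (CechEdge.cx P Y).X 0) :
    (CechEdge.cx P Y).d 0 1 x = 0 ↔ Compat Y P (fun i => coord Y P i x) := by
  have hd : (CechEdge.cx P Y).d 0 1 x = CechEdge.face P Y 0 x - CechEdge.face P Y 1 x := by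
    have e : (CechEdge.cx P Y).d 0 1 = CechEdge.face P Y 0 - CechEdge.face P Y 1 := by
      rw [CechEdge.cx_d_zero_one, Fin.sum_univ_two]
      simp [sub_eq_add_neg]
    rw [e]
    rfl
  rw [hd, sub_eq_zero]
  have e0 := fun b => face_π Y P 0 x b
  have e1 := fun b => face_π Y P 1 x b
  constructor
  · intro h b
    exact ((e1 b).symm.trans ((congrArg (Pi.π (fun a : Fin 2 → ι => P.obj (op (∏ᶜ (Y ∘ a)).left)) b)
      h).symm.trans (e0 b)))
  · intro h
    exact pi_ext (fun a : Fin 2 → ι => P.obj (op (∏ᶜ (Y ∘ a)).left)) _ _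
      fun b => (e0 b).trans ((h b).symm.trans (e1 b).symm)

end Zero

end Groth.SiteCohomology
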