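import Groth.Agent.SiteCohomology.SmoothLiftClosed
import Groth.Agent.AlgStBasic.SmoothDescent
import Groth.Prelude.Def_BigSite
import Mathlib.AlgebraicGeometry.Morphisms.ClosedImmersion
import Mathlib.AlgebraicGeometry.Morphisms.Smooth
import Mathlib.AlgebraicGeometry.Morphisms.Etale

/-!
# Base change along a closed immersion is almost cocontinuous between big étale or smooth sites
-/

universe u

open CategoryTheory Limits AlgebraicGeometry Opposite

set_option maxHeartbeats 1000000

namespace Groth.SiteCohomology.ClosedImmCocont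

variable {W : MorphismProperty Scheme.{u}}

/-- Local lifts of `W`-algebras along surjections. -/
def HasLifts (W : MorphismProperty Scheme.{u}) : Prop :=
  ∀ {P B C : CommRingCat.{u}} (φ : P ⟶ B) (ψ : B ⟶ C), Function.Surjective φ.hom → W (Spec.map ψ) →
    ∀ q : Spec C, ∃ (Q C' : CommRingCat.{u}) (j : P ⟶ Q) (π : Q ⟶ C') (l : C ⟶ C'),
      IsOpenImmersion (Spec.map l) ∧ q ∈ Set.range (Spec.map l).base ∧ φ ≫ ψ ≫ l = j ≫ π ∧
        Function.Surjective π.hom ∧ RingHom.ker π.hom ≤ (RingHom.ker φ.hom).map j.hom ∧ W (Spec.map j)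

/-- A map into an affine scheme comes from its map on global sections. -/
lemma eq_toSpecΓ_map {T : Scheme.{u}} {R : CommRingCat.{u}} (w : T ⟶ Spec R) :
    w = T.toSpecΓ ≫ Spec.map ((Scheme.ΓSpecIso R).inv ≫ w.appTop) := by
  rw [Spec.map_comp, ← Scheme.toSpecΓ_naturality_assoc, ← SpecMap_ΓSpecIso_hom, ← Spec.map_comp,
    Iso.inv_hom_id, Spec.map_id, Category.comp_id]

/-- The transpose of a composite with `Spec`. -/
lemma transpose_comp {T : Scheme.{u}} {P Q : CommRingCat.{u}} (w : T ⟶ Spec Q) (j : P ⟶ Q) :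
    (Scheme.ΓSpecIso P).inv ≫ (w ≫ Spec.map j).appTop = j ≫ (Scheme.ΓSpecIso Q).inv ≫ w.appTop := by
  rw [Scheme.Hom.comp_appTop, ← Category.assoc, ← Category.assoc,
    ← Scheme.ΓSpecIso_inv_naturality]

theorem isAlmostCocontinuous [W.IsMultiplicative] [W.IsStableUnderBaseChange]
    (hlift : HasLifts W) (hopen : ∀ {A B : Scheme.{u}} (i : A ⟶ B) [IsOpenImmersion i], W i)
    (hring : ∀ {A B : Scheme.{u}} (p : A ⟶ B), W p → ∀ (U : B.Opens) (_ : IsAffineOpen U)
      (V : A.Opens) (_ : IsAffineOpen V) (e : V ≤ p ⁻¹ᵁ U), W (Spec.map (p.appLE U V e)))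
    {X Y : Scheme.{u}} (f : X ⟶ Y) [IsClosedImmersion f] :
    BigSite.IsAlmostCocontinuous (Over.pullback f) (QuotSh.J (Scheme.precoverage W) Y)
      (QuotSh.J (Scheme.precoverage W) X) := by
  intro U R hR
  let F := Over.pullback f
  let L : GrothendieckTopology (Over X) := QuotSh.J (Scheme.precoverage W) X
  let R' : Sieve U :=
    { arrows := fun V g => (⊥ : Sieve (F.obj V)) ∈ L (F.obj V) ∨ R (F.map g)
      downward_closed := fun {V V' g} hg k => by
        rcases hg with hg | hg
        · left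
          have := L.pullback_stable (F.map k) hg
          exact L.superset_covering (fun Z t ht => ht) this
        · exact Or.inr (by rw [Functor.map_comp]; exact R.downward_closed hg _) }
  refine ⟨R', ?_, fun V g hg => hg⟩
  let pr : (F.obj U).left ⟶ U.left := pullback.fst U.hom f
  have : IsClosedImmersion pr := inferInstanceAs (IsClosedImmersion (pullback.fst U.hom f))
  have hR' : Sieve.overEquiv _ R ∈ Scheme.grothendieckTopology W (F.obj U).left := hR
  obtain ⟨𝒰, h𝒰⟩ := Scheme.mem_grothendieckTopology_iff.1 hR'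
  have key : ∀ v : U.left, ∃ (A : Over Y) (g : A ⟶ U), R' g ∧ W g.left ∧ v ∈ Set.range g.left.base := by
    intro v
    by_cases hv : v ∈ Set.range pr.base
    · obtain ⟨z, rfl⟩ := hv
      obtain ⟨a, x, rfl⟩ := 𝒰.exists_eq z
      let p := 𝒰.f a
      obtain ⟨O, hO, hvO, -⟩ :=
        exists_isAffineOpen_mem_and_subset (U := (⊤ : U.left.Opens)) (x := pr (p x)) trivial
      have hO' : IsAffineOpen (pr ⁻¹ᵁ O) := hO.preimage pr
      obtain ⟨U', hU', hxU', hle⟩ :=
        exists_isAffineOpen_mem_and_subset (U := p ⁻¹ᵁ (pr ⁻¹ᵁ O)) (x := x) hvO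
      let φ := pr.app O
      let ψ := p.appLE (pr ⁻¹ᵁ O) U' hle
      obtain ⟨q, hq⟩ : x ∈ Set.range hU'.fromSpec.base := by rw [hU'.range_fromSpec]; exact hxU'
      obtain ⟨Q, C', j, π, l, hl, ⟨q', hq'⟩, hcomm, hπ, hker, hj⟩ :=
        hlift φ ψ (Scheme.Hom.app_surjective pr O hO) (hring p (𝒰.map_prop a) _ hO' _ hU' hle) q
      let gW : Spec Q ⟶ U.left := Spec.map j ≫ hO.fromSpec
      let g : Over.mk (gW ≫ U.hom) ⟶ U := Over.homMk gW rfl
      have hψ : Spec.map ψ ≫ hO'.fromSpec = hU'.fromSpec ≫ p :=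
        IsAffineOpen.SpecMap_appLE_fromSpec p hO' hU' hle
      have hφ : Spec.map φ ≫ hO.fromSpec = hO'.fromSpec ≫ pr := by
        have h1 := IsAffineOpen.SpecMap_appLE_fromSpec pr hO hO' (le_refl _)
        rwa [← Scheme.Hom.app_eq_appLE] at h1
      refine ⟨_, g, Or.inr ?_, W.comp_mem _ _ hj (hopen _), Spec.map π q', ?_⟩
      · let T : Scheme.{u} := (F.obj (Over.mk (gW ≫ U.hom))).left
        let w : T ⟶ Spec Q := pullback.fst (gW ≫ U.hom) f
        let m : T ⟶ (F.obj U).left := (F.map g).left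
        have hm : m ≫ pr = w ≫ gW := pullback.lift_fst _ _ _
        have hrange : Set.range m.base ⊆ Set.range hO'.fromSpec.base := by
          rw [hO'.range_fromSpec]
          rintro _ ⟨t, rfl⟩
          show pr (m t) ∈ (O : Set U.left)
          rw [← Scheme.Hom.comp_apply, hm, ← hO.range_fromSpec]
          exact ⟨(w ≫ Spec.map j) t, rfl⟩
        let m' := IsOpenImmersion.lift hO'.fromSpec m hrange
        have hm' : m' ≫ hO'.fromSpec = m := IsOpenImmersion.lift_fac _ _ _
        have hfac : m' ≫ Spec.map φ = w ≫ Spec.map j := by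
          rw [← cancel_mono hO.fromSpec, Category.assoc, hφ, reassoc_of% hm', hm, Category.assoc]
        let ρ : Q ⟶ Γ(T, ⊤) := (Scheme.ΓSpecIso Q).inv ≫ w.appTop
        have hfac' : φ ≫ (Scheme.ΓSpecIso _).inv ≫ m'.appTop = j ≫ ρ := by
          rw [← transpose_comp m' φ, ← transpose_comp w j, hfac]
        have hρ : RingHom.ker π.hom ≤ RingHom.ker ρ.hom := by
          refine hker.trans (Ideal.map_le_iff_le_comap.2 fun y hy => ?_)
          have h1 := ConcreteCategory.congr_hom hfac' y
          change ρ.hom (j.hom y) = 0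
          refine h1.symm.trans ?_
          show ((Scheme.ΓSpecIso _).inv ≫ m'.appTop).hom (φ.hom y) = 0
          rw [show φ.hom y = 0 from hy, map_zero]
        let ρ' : C' ⟶ Γ(T, ⊤) := CommRingCat.ofHom (π.hom.liftOfSurjective hπ ⟨ρ.hom, hρ⟩)
        have hρ' : π ≫ ρ' = ρ :=
          CommRingCat.hom_ext (RingHom.liftOfSurjective_comp _ hπ ⟨ρ.hom, hρ⟩)
        let k : T ⟶ 𝒰.X a := T.toSpecΓ ≫ Spec.map ρ' ≫ Spec.map l ≫ hU'.fromSpec
        have hk : k ≫ p = m := by
          rw [← cancel_mono pr, hm]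
          show ((T.toSpecΓ ≫ Spec.map ρ' ≫ Spec.map l ≫ hU'.fromSpec) ≫ p) ≫ pr = _
          simp only [Category.assoc]
          rw [← reassoc_of% hψ, ← hφ, ← Spec.map_comp_assoc, ← Spec.map_comp_assoc,
            ← Spec.map_comp_assoc]
          have h2 : φ ≫ ψ ≫ l ≫ ρ' = j ≫ ρ := by
            rw [reassoc_of% hcomm, hρ']
          rw [h2, Spec.map_comp, Category.assoc, ← Category.assoc T.toSpecΓ, ← eq_toSpecΓ_map]
        have ha : R (Over.homMk (U := Over.mk (p ≫ (F.obj U).hom)) p rfl) :=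
          (Sieve.overEquiv_iff R p).1 (h𝒰 _ _ (Presieve.ofArrows.mk a))
        have e : F.map g = Over.homMk (V := Over.mk (p ≫ (F.obj U).hom)) k (by
            show k ≫ p ≫ (F.obj U).hom = _
            rw [reassoc_of% hk]
            exact Over.w (F.map g)) ≫ Over.homMk (U := Over.mk (p ≫ (F.obj U).hom)) p rfl :=
          Over.OverMorphism.ext hk.symm
        rw [e]
        exact R.downward_closed ha _
      · show (Spec.map π ≫ Spec.map j ≫ hO.fromSpec) q' = _
        rw [← Spec.map_comp_assoc, ← hcomm, Spec.map_comp, Spec.map_comp, Category.assoc, Category.assoc,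
          hφ, reassoc_of% hψ]
        show pr (p (hU'.fromSpec (Spec.map l q'))) = _
        rw [hq', hq]
    · let O : U.left.Opens := ⟨(Set.range pr.base)ᶜ, pr.isClosedEmbedding.isClosed_range.isOpen_compl⟩
      refine ⟨_, Over.homMk (U := Over.mk (O.ι ≫ U.hom)) O.ι rfl, Or.inl ?_, hopen O.ι,
        ⟨⟨v, hv⟩, rfl⟩⟩
      have : IsEmpty (F.obj (Over.mk (O.ι ≫ U.hom))).left := ⟨fun t => by
        let m : (F.obj (Over.mk (O.ι ≫ U.hom))).left ⟶ (F.obj U).left :=
          (F.map (Over.homMk (U := Over.mk (O.ι ≫ U.hom)) O.ι rfl)).left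
        refine ((pullback.fst (O.ι ≫ U.hom) f).base t).2 ⟨m t, ?_⟩
        rw [← Scheme.Hom.comp_apply]
        exact congrArg (fun h : (F.obj (Over.mk (O.ι ≫ U.hom))).left ⟶ U.left => h t)
          (pullback.lift_fst _ _ _)⟩
      show Sieve.overEquiv _ ⊥ ∈ Scheme.grothendieckTopology W _
      exact GrothendieckTopology.superset_covering _ bot_le
        (Scheme.bot_mem_grothendieckTopology _)
  choose A g hg hW hv using key
  show Sieve.overEquiv _ R' ∈ Scheme.grothendieckTopology W U.left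
  let 𝒱 : Scheme.Cover (Scheme.precoverage W) U.left :=
    { I₀ := U.left
      X := fun v => (A v).left
      f := fun v => (g v).left
      mem₀ := by
        rw [Scheme.presieve₀_mem_precoverage_iff]
        exact ⟨fun x => ⟨x, hv x⟩, hW⟩ }
  refine Scheme.mem_grothendieckTopology_iff.2 ⟨𝒱, ?_⟩
  rintro Z _ ⟨v⟩
  refine (Sieve.overEquiv_iff _ _).2 ?_
  have e : Over.homMk (U := Over.mk ((g v).left ≫ U.hom)) (g v).left rfl =
      Over.homMk (U := Over.mk ((g v).left ≫ U.hom)) (V := A v) (𝟙 _) (by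
        show 𝟙 _ ≫ (A v).hom = (g v).left ≫ U.hom
        rw [Category.id_comp, Over.w]) ≫ g v :=
    Over.OverMorphism.ext (Category.id_comp _).symm
  show R' (Over.homMk (U := Over.mk ((g v).left ≫ U.hom)) (g v).left rfl)
  rw [e]
  exact R'.downward_closed (hg v) _

theorem hasLifts_etale : HasLifts @Etale := by
  intro P B C φ ψ hφ hψ q
  rw [HasRingHomProperty.Spec_iff (P := @Etale)] at hψ
  algebraize [φ.hom, ψ.hom, ψ.hom.comp φ.hom]
  obtain ⟨Q, _, _, π, hQ, hπ, hker⟩ :=
    Groth.AlgStBasic.SmoothDescent.exists_etale_lift (P := P) (B := B) (C := C) hφ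
  refine ⟨CommRingCat.of Q, C, CommRingCat.ofHom (algebraMap P Q), CommRingCat.ofHom π.toRingHom, 𝟙 C,
    inferInstance, ⟨q, by simp⟩, ?_, hπ, hker.le, ?_⟩
  · ext y
    exact (π.commutes y).symm
  · rw [HasRingHomProperty.Spec_iff (P := @Etale)]
    exact RingHom.etale_algebraMap.2 hQ

theorem hasLifts_smooth : HasLifts @Smooth := by
  intro P B C φ ψ hφ hψ q
  rw [HasRingHomProperty.Spec_iff (P := @Smooth)] at hψ
  algebraize [φ.hom, ψ.hom]
  obtain ⟨s, hs, hstd⟩ := Algebra.Smooth.exists_span_eq_top_isStandardSmooth B C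
  obtain ⟨x, hx, hxq⟩ : ∃ x ∈ s, x ∉ q.asIdeal := by
    by_contra! h
    exact q.isPrime.ne_top (top_le_iff.1 (hs ▸ Ideal.span_le.2 h))
  letI : Algebra P (Localization.Away x) :=
    ((algebraMap B (Localization.Away x)).comp (algebraMap P B)).toAlgebra
  have : IsScalarTower P B (Localization.Away x) := IsScalarTower.of_algebraMap_eq fun _ => rfl
  have := hstd x hx
  obtain ⟨Q, _, _, π, hQ, hπ, hker⟩ :=
    SmoothLiftClosed.exists_standardSmooth_lift (P := P) (B := B) (C := Localization.Away x) hφ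
  refine ⟨CommRingCat.of Q, CommRingCat.of (Localization.Away x), CommRingCat.ofHom (algebraMap P Q),
    CommRingCat.ofHom π.toRingHom, CommRingCat.ofHom (algebraMap C (Localization.Away x)),
    inferInstance, ?_, ?_, hπ, hker.le, ?_⟩
  · show q ∈ Set.range (PrimeSpectrum.comap (algebraMap C (Localization.Away x)))
    rw [PrimeSpectrum.localization_away_comap_range (Localization.Away x) x]
    exact hxq
  · ext y
    exact (π.commutes y).symm
  · rw [HasRingHomProperty.Spec_iff (P := @Smooth)]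
    exact RingHom.smooth_algebraMap.2 inferInstance

end Groth.SiteCohomology.ClosedImmCocont

namespace Groth.SiteCohomology.ClosedImmCocont

/-- Base change along a closed immersion is almost cocontinuous for the big etale and smooth sites. -/
theorem isAlmostCocontinuous_etale_smooth {X Y : Scheme.{u}} (f : X ⟶ Y) [IsClosedImmersion f]
    (K : Precoverage Scheme.{u}) (hK : K = Scheme.etalePrecoverage ∨ K = Scheme.precoverage @Smooth) :
    BigSite.IsAlmostCocontinuous (Over.pullback f) (QuotSh.J K Y) (QuotSh.J K X) := by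
  rcases hK with rfl | rfl
  · exact isAlmostCocontinuous (W := @Etale) hasLifts_etale (fun i _ => inferInstance)
      (fun p hp U hU V hV e => (HasRingHomProperty.Spec_iff (P := @Etale)).2
        (HasRingHomProperty.appLE @Etale p hp ⟨U, hU⟩ ⟨V, hV⟩ e)) f
  · have : MorphismProperty.ContainsIdentities @Smooth := ⟨fun X => inferInstanceAs (Smooth (𝟙 X))⟩
    have : MorphismProperty.IsMultiplicative @Smooth := {}
    exact isAlmostCocontinuous (W := @Smooth) hasLifts_smooth (fun i _ => inferInstance)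
      (fun p hp U hU V hV e => (HasRingHomProperty.Spec_iff (P := @Smooth)).2
        (HasRingHomProperty.appLE @Smooth p hp ⟨U, hU⟩ ⟨V, hV⟩ e)) f

end Groth.SiteCohomology.ClosedImmCocont
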