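import Groth.Prelude.Def_BigSite
import Mathlib.CategoryTheory.Sites.LocallySurjective
import Mathlib.CategoryTheory.Sites.LocallyBijective
import Mathlib.CategoryTheory.Sites.Limits
import Mathlib.CategoryTheory.Limits.FunctorCategory.Basic
import Mathlib.CategoryTheory.Limits.Types.Colimits
import Mathlib.CategoryTheory.IsConnected
import Mathlib.Algebra.Homology.ShortComplex.ExactFunctor
import Mathlib.CategoryTheory.Sites.EpiMono
import Mathlib.CategoryTheory.Sites.Abelian
import Mathlib.Algebra.Category.Grp.Abelian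
import Mathlib.Algebra.Category.Grp.FilteredColimits

/-!
# Almost cocontinuous functors between sites with large categories: exactness of restriction
-/

universe u

open CategoryTheory Limits Opposite

namespace Groth.SiteCohomology.AlmostCocontExact

/-- A sheaf has exactly one section over an object covered by the empty sieve. -/
lemma nonempty_unique_of_bot_mem {D : Type (u + 1)} [Category.{u} D] {K : GrothendieckTopology D}
    (F : Sheaf K (Type (u + 1))) (V : D) (h : (⊥ : Sieve V) ∈ K V) :
    Nonempty (Unique (F.obj.obj (op V))) := by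
  have hF := (isSheaf_iff_isSheaf_of_type K F.obj).1 F.property (⊥ : Sieve V) h
  let x : Presieve.FamilyOfElements F.obj (⊥ : Sieve V).arrows := fun W g hg => False.elim hg
  obtain ⟨t, -, ht⟩ := hF x (fun {W₁ W₂ Z} g₁ g₂ f₁ f₂ h₁ => False.elim h₁)
  exact ⟨⟨⟨t⟩, fun s => ht s (fun W g hg => False.elim hg)⟩⟩

variable {C D : Type (u + 1)} [Category.{u} C] [Category.{u} D]
  {J : GrothendieckTopology C} {K : GrothendieckTopology D} {u : C ⥤ D}

lemma isLocallyInjective_whisker (hu : BigSite.IsAlmostCocontinuous u J K) (G : Dᵒᵖ ⥤ Type (u + 1))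
    (hG : ∀ V : D, (⊥ : Sieve V) ∈ K V → Nonempty (Unique (G.obj (op V)))) :
    Presheaf.IsLocallyInjective J (Functor.whiskerLeft u.op (toSheafify K G)) := by
  refine ⟨fun {U} s t h => ?_⟩
  obtain ⟨R', hR', hR⟩ := hu U.unop _
    (Presheaf.equalizerSieve_mem K (toSheafify K G) (X := op (u.obj U.unop)) s t h)
  refine J.superset_covering (fun V g hg => ?_) hR'
  rcases hR g hg with hV | hV
  · obtain ⟨_⟩ := hG _ hV
    exact Subsingleton.elim (α := G.obj (op (u.obj V))) _ _
  · exact hV

lemma isLocallySurjective_whisker (hu : BigSite.IsAlmostCocontinuous u J K) (G : Dᵒᵖ ⥤ Type (u + 1))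
    (hG : ∀ V : D, (⊥ : Sieve V) ∈ K V → Nonempty (Unique (G.obj (op V)))) :
    Presheaf.IsLocallySurjective J (Functor.whiskerLeft u.op (toSheafify K G)) := by
  refine ⟨fun {U} s => ?_⟩
  obtain ⟨R', hR', hR⟩ := hu U _ (Presheaf.imageSieve_mem K (toSheafify K G) s)
  refine J.superset_covering (fun V g hg => ?_) hR'
  rcases hR g hg with hV | hV
  · obtain ⟨i⟩ := hG _ hV
    obtain ⟨i'⟩ := nonempty_unique_of_bot_mem ((presheafToSheaf K (Type (u + 1))).obj G) (u.obj V) hV
    exact ⟨i.default, @Subsingleton.elim _ (@Unique.instSubsingleton _ i') _ _⟩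
  · exact hV

/-- The adjunct of the restriction of the unit is an isomorphism. -/
lemma isIso_comparison [u.IsContinuous J K] (hu : BigSite.IsAlmostCocontinuous u J K)
    (G : Dᵒᵖ ⥤ Type (u + 1)) (hG : ∀ V : D, (⊥ : Sieve V) ∈ K V → Nonempty (Unique (G.obj (op V)))) :
    IsIso (((sheafificationAdjunction J (Type (u + 1))).homEquiv (u.op ⋙ G)
      ((u.sheafPushforwardContinuous (Type (u + 1)) J K).obj ((presheafToSheaf K (Type (u + 1))).obj G))).symm
        (Functor.whiskerLeft u.op (toSheafify K G))) := by
  have hW : J.W (Functor.whiskerLeft u.op (toSheafify K G)) := by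
    have := isLocallyInjective_whisker hu G hG
    have := isLocallySurjective_whisker hu G hG
    exact J.W_of_isLocallyBijective _
  rw [GrothendieckTopology.W_iff] at hW
  let f : u.op ⋙ G ⟶ (sheafToPresheaf J (Type (u + 1))).obj
      ((u.sheafPushforwardContinuous (Type (u + 1)) J K).obj ((presheafToSheaf K (Type (u + 1))).obj G)) :=
    Functor.whiskerLeft u.op (toSheafify K G)
  change IsIso (((sheafificationAdjunction J (Type (u + 1))).homEquiv _ _).symm f)
  rw [Adjunction.homEquiv_counit]
  exact @IsIso.comp_isIso _ _ _ _ _ _ _ hW inferInstance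

/-- A connected colimit of one-point sets is a point. -/
lemma nonempty_unique_colimit {I : Type} [SmallCategory I] [IsConnected I] (Φ : I ⥤ Type (u + 1))
    (h : ∀ i, Nonempty (Unique (Φ.obj i))) {c : Cocone Φ} (hc : IsColimit c) :
    Nonempty (Unique c.pt) := by
  let hu := fun i => (h i).some
  let f : I → c.pt := fun i => c.ι.app i (hu i).default
  have hf : ∀ i j, f i = f j := fun i j => constant_of_preserves_morphisms f (fun a b g => by
    refine Eq.trans ?_ (congrArg (c.ι.app b) ((hu b).uniq (Φ.map g (hu a).default)))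
    exact (congrArg (fun z => z (hu a).default) (c.w g)).symm) i j
  obtain ⟨i₀⟩ := (IsConnected.is_nonempty : Nonempty I)
  refine ⟨⟨⟨f i₀⟩, fun x => ?_⟩⟩
  obtain ⟨j, y, rfl⟩ := Types.jointly_surjective Φ hc x
  rw [(hu j).uniq y]
  exact hf j i₀

/-- Restriction along a continuous almost cocontinuous functor preserves connected colimits. -/
lemma preservesColimitsOfShape [u.IsContinuous J K] (hu : BigSite.IsAlmostCocontinuous u J K)
    (I : Type) [SmallCategory I] [IsConnected I] :
    PreservesColimitsOfShape I (u.sheafPushforwardContinuous (Type (u + 1)) J K) where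
  preservesColimit {Φ} := by
    let Ψ := Φ ⋙ sheafToPresheaf K (Type (u + 1))
    let E := colimit.cocone Ψ
    have hE : IsColimit E := colimit.isColimit Ψ
    refine preservesColimit_of_preserves_colimit_cocone (Sheaf.isColimitSheafifyCocone E hE) ?_
    let E' : Cocone ((Φ ⋙ u.sheafPushforwardContinuous (Type (u + 1)) J K) ⋙ sheafToPresheaf J (Type (u + 1))) :=
      ((Functor.whiskeringLeft Cᵒᵖ Dᵒᵖ (Type (u + 1))).obj u.op).mapCocone E
    have hE' : IsColimit E' :=
      isColimitOfPreserves ((Functor.whiskeringLeft Cᵒᵖ Dᵒᵖ (Type (u + 1))).obj u.op) hE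
    have := isIso_comparison (J := J) hu E.pt (fun V hV => nonempty_unique_colimit
      (Ψ ⋙ (evaluation Dᵒᵖ (Type (u + 1))).obj (op V))
      (fun i => nonempty_unique_of_bot_mem (Φ.obj i) V hV)
      (isColimitOfPreserves ((evaluation Dᵒᵖ (Type (u + 1))).obj (op V)) hE))
    refine (Sheaf.isColimitSheafifyCocone E' hE').ofIsoColimit
      (Cocone.ext (@asIso _ _ _ _ _ this) (fun i => ?_))
    apply (sheafToPresheaf J (Type (u + 1))).map_injective
    refine ((sheafToPresheaf J (Type (u + 1))).map_comp _ _).trans ?_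
    refine (congrArg (fun z => z ≫ _) (Sheaf.sheafifyCocone_ι_app_val E' i)).trans ?_
    refine (Category.assoc _ _ _).trans ?_
    refine (congrArg (fun z => E'.ι.app i ≫ z)
      (((sheafificationAdjunction J (Type (u + 1))).homEquiv (u.op ⋙ E.pt)
        ((u.sheafPushforwardContinuous (Type (u + 1)) J K).obj ((presheafToSheaf K (Type (u + 1))).obj E.pt))).apply_symm_apply
        (Functor.whiskerLeft u.op (toSheafify K E.pt)))).trans ?_
    exact congrArg (Functor.whiskerLeft u.op) (Sheaf.sheafifyCocone_ι_app_val E i).symm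

section Ab

/-- Restriction along an almost cocontinuous functor preserves local surjectivity of sheaf maps. -/
lemma isLocallySurjective_map [u.IsContinuous J K] (hu : BigSite.IsAlmostCocontinuous u J K)
    {F G : Sheaf K AddCommGrpCat.{u + 1}} (φ : F ⟶ G) [Sheaf.IsLocallySurjective φ] :
    Sheaf.IsLocallySurjective ((u.sheafPushforwardContinuous AddCommGrpCat.{u + 1} J K).map φ) := by
  refine ⟨fun {U} s => ?_⟩
  obtain ⟨R', hR', hR⟩ := hu U _ (Presheaf.imageSieve_mem K φ.hom s)
  refine J.superset_covering (fun V g hg => ?_) hR'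
  rcases hR g hg with hV | hV
  · refine ⟨0, (((isSheaf_iff_isSheaf_of_type _ _).1 ((Presheaf.isSheaf_iff_isSheaf_forget K G.obj
      (forget AddCommGrpCat.{u + 1})).1 G.property)) ⊥ hV).isSeparatedFor.ext
        (fun _ _ hf => hf.elim)⟩
  · exact hV

/-- Restriction along an almost cocontinuous functor is exact on abelian sheaves. -/
theorem preservesFiniteColimits_ab [u.IsContinuous J K] (hu : BigSite.IsAlmostCocontinuous u J K)
    [PreservesFiniteLimits (u.sheafPushforwardContinuous AddCommGrpCat.{u + 1} J K)]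
    [(u.sheafPushforwardContinuous AddCommGrpCat.{u + 1} J K).Additive] :
    PreservesFiniteColimits (u.sheafPushforwardContinuous AddCommGrpCat.{u + 1} J K) := by
  let P := u.sheafPushforwardContinuous AddCommGrpCat.{u + 1} J K
  have h' : ∀ S : ShortComplex (Sheaf K AddCommGrpCat.{u + 1}), S.Exact ∧ Mono S.f →
      (S.map P).Exact ∧ Mono (P.map S.f) :=
    ((P.preservesFiniteLimits_tfae).out 3 1).1 (show PreservesFiniteLimits P by infer_instance)
  refine ((P.preservesFiniteColimits_tfae).out 0 3).1 fun S hS => ?_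
  obtain ⟨he, hm⟩ := h' S ⟨hS.exact, hS.mono_f⟩
  refine ⟨he, ?_⟩
  have := (Sheaf.isLocallySurjective_iff_epi' _ S.g).2 hS.epi_g
  have := isLocallySurjective_map hu S.g
  exact (Sheaf.isLocallySurjective_iff_epi' _ _).1 this

end Ab

end Groth.SiteCohomology.AlmostCocontExact
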