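import Groth.Agent.SiteCohomology.ShriekExact
import Groth.Prelude.Def_BigSite
import Mathlib.AlgebraicGeometry.Morphisms.Etale
import Mathlib.Algebra.Category.Grp.AB
import Mathlib.Algebra.Category.Grp.Abelian

/-!
# Exactness of `f_big!` and of `π_S⁻¹` on abelian sheaves of the big sites
-/

universe v u

open CategoryTheory Limits Opposite AlgebraicGeometry

set_option maxHeartbeats 1000000
set_option synthInstance.maxHeartbeats 400000

namespace Groth.SiteCohomology

/-- The criterion holds for `Over.map f`. -/
theorem locallyFiltered_overMap {C : Type u} [Category.{v} C] {T S : C} (f : T ⟶ S)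
    (d : (Over S)ᵒᵖ) : LocallyFiltered (CostructuredArrow (Over.map f).op d) := by
  refine locallyFiltered_costructuredArrow_op (Over.map f) (fun {d a b c} x y p q h => ?_)
    (fun {d a b} y p q h => ?_) d
  · have h' : (show d.left ⟶ a.left from x.left) ≫ p.left =
        (show d.left ⟶ b.left from y.left) ≫ q.left :=
      congrArg CommaMorphism.left h
    have hx : x.left ≫ a.hom ≫ f = d.hom := Over.w x
    refine ⟨Over.mk (show d.left ⟶ T from x.left ≫ a.hom),
      Over.homMk (U := d) (V := (Over.map f).obj (Over.mk (show d.left ⟶ T from x.left ≫ a.hom)))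
        (𝟙 d.left) ?_,
      Over.homMk x.left rfl, Over.homMk y.left ?_, ?_, ?_⟩
    · exact (Category.id_comp _).trans ((Category.assoc _ _ _).trans hx)
    · change (show d.left ⟶ b.left from y.left) ≫ b.hom = (show d.left ⟶ a.left from x.left) ≫ a.hom
      rw [← Over.w q, ← Over.w p]
      exact (Category.assoc _ _ _).symm.trans ((congrArg (· ≫ c.hom) h'.symm).trans
        (Category.assoc _ _ _))
    · exact Over.OverMorphism.ext (Category.id_comp _)
    · exact Over.OverMorphism.ext (Category.id_comp _)
  · have hy : y.left ≫ b.hom ≫ f = d.hom := Over.w y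
    refine ⟨Over.mk (show d.left ⟶ T from y.left ≫ b.hom),
      Over.homMk (U := d) (V := (Over.map f).obj (Over.mk (show d.left ⟶ T from y.left ≫ b.hom)))
        (𝟙 d.left) ?_,
      Over.homMk y.left rfl, ?_, ?_⟩
    · exact (Category.id_comp _).trans ((Category.assoc _ _ _).trans hy)
    · exact Over.OverMorphism.ext (Category.id_comp _)
    · have h2 := congrArg CommaMorphism.left h
      exact Over.OverMorphism.ext h2

/-- `f_big!` on abelian sheaves is left exact, for every topology. -/
theorem preservesFiniteLimits_shriekAb (K : Precoverage Scheme.{u}) {X Y : Scheme.{u}} (f : X ⟶ Y) :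
    PreservesFiniteLimits (BigSite.shriekAb K f) :=
  preservesFiniteLimits_sheafPullback_of_lan_mono _ _ _ _ fun φ hφ =>
    haveI := hφ
    mono_lan_map_of_locallyFiltered _ (locallyFiltered_overMap f) φ

/-- `π_S⁻¹` on abelian sheaves is left exact. -/
theorem preservesFiniteLimits_piEtPull (K : Precoverage Scheme.{u}) (S : Scheme.{u})
    [BigSite.AEtCont K S] : PreservesFiniteLimits (BigSite.piEtPull K S) :=
  haveI : PreservesFiniteLimits (EtFppf.a S) :=
    inferInstanceAs (PreservesFiniteLimits (Scheme.Etale.forget S))
  preservesFiniteLimits_sheafPullback_of_lan_mono _ _ _ _ fun φ hφ =>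
    haveI := hφ
    mono_lan_map_of_locallyFiltered _ (locallyFiltered_of_preserves (EtFppf.a S)) φ

variable {S : Scheme.{u}} (K : Precoverage Scheme.{u})

theorem injective_pullBig {T : Scheme.{u}} (f : T ⟶ S) (I : BigSite.Ab K S) [Injective I] :
    Injective ((BigSite.pullBig K f AddCommGrpCat.{u + 1}).obj I) :=
  haveI := preservesFiniteLimits_shriekAb K f
  injective_map_of_adjunction (BigSite.shriekAbAdj K f) I

theorem injective_resEt [BigSite.AEtCont K S] (I : BigSite.Ab K S) [Injective I] :
    Injective ((BigSite.resEt K S).obj I) :=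
  haveI := preservesFiniteLimits_piEtPull K S
  injective_map_of_adjunction (BigSite.piEtAdj K S) I

theorem isKInjective_pullBig {T : Scheme.{u}} (f : T ⟶ S)
    (I : CochainComplex (BigSite.Ab K S) ℤ) (hI : I.IsKInjective) :
    CochainComplex.IsKInjective
      (((BigSite.pullBig K f AddCommGrpCat.{u + 1}).mapHomologicalComplex
        (ComplexShape.up ℤ)).obj I) :=
  haveI := preservesFiniteLimits_shriekAb K f
  isKInjective_map_of_adjunction (BigSite.shriekAbAdj K f) I hI

theorem isKInjective_resEt [BigSite.AEtCont K S] (I : CochainComplex (BigSite.Ab K S) ℤ)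
    (hI : I.IsKInjective) :
    CochainComplex.IsKInjective
      (((BigSite.resEt K S).mapHomologicalComplex (ComplexShape.up ℤ)).obj I) :=
  haveI := preservesFiniteLimits_piEtPull K S
  isKInjective_map_of_adjunction (BigSite.piEtAdj K S) I hI

end Groth.SiteCohomology
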