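import Groth.Agent.SiteCohomology.DerivedByComplex
import Mathlib.AlgebraicTopology.AlternatingFaceMapComplex
import Mathlib.CategoryTheory.Preadditive.Injective.Basic
import Mathlib.CategoryTheory.Abelian.Refinements
import Mathlib.CategoryTheory.Abelian.FunctorCategory

/-!
# Derived limits over the simplex category
-/

universe v u

open CategoryTheory Limits Simplicial AlgebraicTopology

set_option maxHeartbeats 1000000
set_option synthInstance.maxHeartbeats 400000
set_option backward.isDefEq.respectTransparency false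
set_option linter.unusedSectionVars false

namespace Groth.SiteCohomology.CosimplicialLim

variable {B : Type u} [Category.{v} B] [Abelian B]

/-- The edge from `0` to `i`. -/
def edge {n : ℕ} (i : Fin (n + 1)) : ⦋1⦌ ⟶ ⦋n⦌ :=
  SimplexCategory.Hom.mk ⟨fun j => if j = 0 then 0 else i, by
    intro a b h
    fin_cases a <;> fin_cases b <;> simp_all⟩

lemma δ_one_edge {n : ℕ} (i : Fin (n + 1)) :
    SimplexCategory.δ 1 ≫ edge i = SimplexCategory.const ⦋0⦌ ⦋n⦌ 0 := by
  ext j : 3
  fin_cases j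
  rfl

lemma δ_zero_edge {n : ℕ} (i : Fin (n + 1)) :
    SimplexCategory.δ 0 ≫ edge i = SimplexCategory.const ⦋0⦌ ⦋n⦌ i := by
  ext j : 3
  fin_cases j
  rfl

/-- The prepended simplex. -/
def cons₀ {n m : ℕ} (f : ⦋n⦌ ⟶ ⦋m⦌) : ⦋n + 1⦌ ⟶ ⦋m⦌ :=
  SimplexCategory.Hom.mk ⟨Fin.cases 0 (fun j => f.toOrderHom j), by
    intro a b h
    cases a using Fin.cases with
    | zero => exact Fin.zero_le _
    | succ a =>
      cases b using Fin.cases with
      | zero => exact absurd h (not_le.2 (Fin.succ_pos a))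
      | succ b => exact f.toOrderHom.monotone (Fin.succ_le_succ_iff.1 h)⟩

lemma δ_zero_cons₀ {n m : ℕ} (f : ⦋n⦌ ⟶ ⦋m⦌) : SimplexCategory.δ 0 ≫ cons₀ f = f := by
  ext j : 3
  exact congrArg (cons₀ f).toOrderHom (Fin.succAbove_zero_apply j) |>.trans rfl

lemma δ_succ_cons₀ {n m : ℕ} (i : Fin (n + 2)) (f : ⦋n + 1⦌ ⟶ ⦋m⦌) :
    SimplexCategory.δ i.succ ≫ cons₀ f = cons₀ (SimplexCategory.δ i ≫ f) := by
  ext j : 3
  cases j using Fin.cases with
  | zero => exact (congrArg (cons₀ f).toOrderHom (Fin.succ_succAbove_zero i)).trans rfl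
  | succ j => exact (congrArg (cons₀ f).toOrderHom (Fin.succ_succAbove_succ i j)).trans rfl

lemma d_eq (G : CosimplicialObject B) (n : ℕ) :
    ((alternatingCofaceMapComplex B).obj G).d n (n + 1) = AlternatingCofaceMapComplex.objD G n :=
  CochainComplex.of_d (fun m => G.obj ⦋m⦌) (AlternatingCofaceMapComplex.objD G) n

variable [∀ J : Type, HasProductsOfShape J B]

/-- Index of the product at `[n]`. -/
abbrev Idx (n : SimplexCategory) : Type := Σ k : ℕ, n ⟶ ⦋k⦌

/-- The product of cofree cosimplicial objects on the terms of `F`. -/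
noncomputable def cofree (F : CosimplicialObject B) : CosimplicialObject B where
  obj n := ∏ᶜ fun p : Idx n => F.obj ⦋p.1⦌
  map α := Pi.lift fun p => Pi.π _ (⟨p.1, α ≫ p.2⟩ : Idx _)
  map_id n := Pi.hom_ext _ _ fun p => by
    obtain ⟨k, f⟩ := p
    rw [Pi.lift_π, Category.id_comp, Category.id_comp]
  map_comp α β := Pi.hom_ext _ _ fun p => by
    obtain ⟨k, f⟩ := p
    rw [Pi.lift_π, Category.assoc, Category.assoc, Pi.lift_π, Pi.lift_π]

/-- The unit. -/
noncomputable def unit (F : CosimplicialObject B) : F ⟶ cofree F where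
  app n := Pi.lift fun p => F.map p.2
  naturality m n α := Pi.hom_ext _ _ fun p => by
    show (F.map α ≫ Pi.lift _) ≫ _ = ((Pi.lift _) ≫ Pi.lift _) ≫ _
    rw [Category.assoc, Category.assoc, Pi.lift_π, Pi.lift_π, Pi.lift_π, ← F.map_comp]

instance (F : CosimplicialObject B) (n : SimplexCategory) : Mono ((unit F).app n) := by
  refine ⟨fun g h e => ?_⟩
  induction n using SimplexCategory.rec with
  | _ k =>
    have := congrArg (fun t => t ≫ Pi.π _ (⟨k, 𝟙 _⟩ : Idx ⦋k⦌)) e
    simp only [unit, Category.assoc, Pi.lift_π] at this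
    rw [F.map_id] at this
    simpa using this

/-- The contracting homotopy of a cofree object. -/
noncomputable def htpy (F : CosimplicialObject B) (n : ℕ) :
    (cofree F).obj ⦋n + 1⦌ ⟶ (cofree F).obj ⦋n⦌ :=
  Pi.lift fun p => Pi.π _ (⟨p.1, cons₀ p.2⟩ : Idx _)

lemma htpy_π (F : CosimplicialObject B) (n : ℕ) (p : Idx ⦋n⦌) :
    htpy F n ≫ Pi.π (fun q : Idx ⦋n⦌ => F.obj ⦋q.1⦌) p =
      Pi.π (fun q : Idx ⦋n + 1⦌ => F.obj ⦋q.1⦌) (⟨p.1, cons₀ p.2⟩ : Idx _) :=
  Pi.lift_π _ _

lemma π_eq (F : CosimplicialObject B) {n k : ℕ} {g g' : ⦋n⦌ ⟶ ⦋k⦌} (h : g = g') :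
    Pi.π (fun q : Idx ⦋n⦌ => F.obj ⦋q.1⦌) (⟨k, g⟩ : Idx _) =
      Pi.π (fun q : Idx ⦋n⦌ => F.obj ⦋q.1⦌) (⟨k, g'⟩ : Idx _) := by
  subst h
  rfl

lemma objD_π (F : CosimplicialObject B) (n : ℕ) (p : Idx ⦋n + 1⦌) :
    AlternatingCofaceMapComplex.objD (cofree F) n ≫ Pi.π _ p =
      ∑ i : Fin (n + 2), (-1 : ℤ) ^ (i : ℕ) •
        Pi.π (fun q : Idx ⦋n⦌ => F.obj ⦋q.1⦌) (⟨p.1, SimplexCategory.δ i ≫ p.2⟩ : Idx _) := by
  rw [AlternatingCofaceMapComplex.objD, Preadditive.sum_comp]
  refine Finset.sum_congr rfl fun i _ => ?_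
  rw [Preadditive.zsmul_comp]
  refine congrArg (fun t => (-1 : ℤ) ^ (i : ℕ) • t) ?_
  exact Pi.lift_π _ p

lemma htpy_spec (F : CosimplicialObject B) (n : ℕ) :
    htpy F n ≫ AlternatingCofaceMapComplex.objD (cofree F) n +
      AlternatingCofaceMapComplex.objD (cofree F) (n + 1) ≫ htpy F (n + 1) = 𝟙 _ := by
  refine Pi.hom_ext _ _ fun p => ?_
  obtain ⟨k, f⟩ := p
  have h1 := htpy_π F (n + 1) (⟨k, f⟩ : Idx ⦋n + 1⦌)
  rw [Preadditive.add_comp, Category.assoc, Category.assoc, Category.id_comp, h1, objD_π, objD_π,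
    Fin.sum_univ_succ (n := n + 2), Preadditive.comp_sum]
  dsimp only
  simp only [Fin.val_succ, Fin.val_zero, pow_zero, one_smul, pow_succ, mul_neg_one, neg_smul,
    Preadditive.comp_zsmul, htpy_π, Finset.sum_neg_distrib]
  rw [δ_zero_cons₀]
  have h5 : ∀ a b c : ((cofree F).obj ⦋n + 1⦌ ⟶ F.obj ⦋k⦌), a = b → a + (c + -b) = c := by
    rintro a b c rfl
    rw [← add_assoc, add_comm a c, add_assoc, add_neg_cancel, add_zero]
  refine h5 _ _ _ (Finset.sum_congr rfl fun i _ => ?_)
  refine congrArg (fun t : (cofree F).obj ⦋n + 1⦌ ⟶ F.obj ⦋k⦌ => (-1 : ℤ) ^ (i : ℕ) • t) ?_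
  exact π_eq F (δ_succ_cons₀ i f).symm

/-- An injective cosimplicial object has no cohomology in positive degrees. -/
theorem isZero_homology_of_injective (I : CosimplicialObject B) [Injective I] (k : ℕ) :
    IsZero (((alternatingCofaceMapComplex B).obj I).homology (k + 1)) := by
  rw [← HomologicalComplex.exactAt_iff_isZero_homology,
    HomologicalComplex.exactAt_iff' _ k (k + 1) (k + 2) (CochainComplex.prev_nat_succ k)
      (CochainComplex.next ℕ (k + 1)), ShortComplex.exact_iff_exact_up_to_refinements]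
  intro A x hx
  have : Mono (unit I) := NatTrans.mono_of_mono_app _
  let r := Injective.factorThru (𝟙 I) (unit I)
  have hr : (unit I).app ⦋k + 1⦌ ≫ r.app ⦋k + 1⦌ = 𝟙 _ :=
    congrArg (fun t => NatTrans.app t ⦋k + 1⦌) (Injective.comp_factorThru (𝟙 I) (unit I))
  let T := alternatingCofaceMapComplex B
  have hd : ∀ (G : CosimplicialObject B) (n : ℕ),
      (T.obj G).d n (n + 1) = AlternatingCofaceMapComplex.objD G n :=
    fun G n => d_eq G n
  refine ⟨A, 𝟙 A, inferInstance, (x ≫ (unit I).app ⦋k + 1⦌) ≫ htpy I k ≫ r.app ⦋k⦌, ?_⟩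
  show 𝟙 A ≫ x = ((x ≫ (unit I).app ⦋k + 1⦌) ≫ htpy I k ≫ r.app ⦋k⦌) ≫ (T.obj I).d k (k + 1)
  have hx' : x ≫ (unit I).app ⦋k + 1⦌ ≫ AlternatingCofaceMapComplex.objD (cofree I) (k + 1) = 0 := by
    have h : (unit I).app ⦋k + 1⦌ ≫ (T.obj (cofree I)).d (k + 1) (k + 1 + 1) =
        (T.obj I).d (k + 1) (k + 1 + 1) ≫ (unit I).app ⦋k + 1 + 1⦌ :=
      (T.map (unit I)).comm _ _
    rw [hd] at h
    rw [h, ← Category.assoc]
    exact (congrArg (· ≫ _) hx).trans zero_comp
  have hc : r.app ⦋k⦌ ≫ (T.obj I).d k (k + 1) = (T.obj (cofree I)).d k (k + 1) ≫ r.app ⦋k + 1⦌ :=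
    (T.map r).comm _ _
  rw [Category.id_comp, Category.assoc, Category.assoc, Category.assoc, hc, hd]
  have hs := congrArg (fun t => x ≫ (unit I).app ⦋k + 1⦌ ≫ t) (htpy_spec I k)
  simp only [Preadditive.comp_add, Category.comp_id] at hs
  rw [reassoc_of% hx', zero_comp, add_zero] at hs
  have hs' := congrArg (· ≫ r.app ⦋k + 1⦌) hs
  simp only [Category.assoc] at hs'
  refine Eq.trans ?_ hs'.symm
  exact (Category.comp_id x).symm.trans (congrArg (x ≫ ·) hr.symm)

variable [HasLimitsOfShape SimplexCategory B]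

lemma ι_cocycle (G : CosimplicialObject B) :
    limit.π G ⦋0⦌ ≫ ((alternatingCofaceMapComplex B).obj G).d 0 1 = 0 := by
  rw [d_eq, AlternatingCofaceMapComplex.objD, Fin.sum_univ_two,
    Preadditive.comp_add, Preadditive.comp_zsmul, Preadditive.comp_zsmul, CosimplicialObject.δ,
    CosimplicialObject.δ, limit.w, limit.w]
  simp

lemma exists_lift (G : CosimplicialObject B) {A : B} (x : A ⟶ G.obj ⦋0⦌)
    (hx : x ≫ ((alternatingCofaceMapComplex B).obj G).d 0 1 = 0) :
    ∃ l : A ⟶ limit G, l ≫ limit.π G ⦋0⦌ = x := by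
  have h01 : x ≫ G.map (SimplexCategory.δ 0) = x ≫ G.map (SimplexCategory.δ 1) := by
    rw [d_eq, AlternatingCofaceMapComplex.objD, Fin.sum_univ_two,
      Preadditive.comp_add, Preadditive.comp_zsmul, Preadditive.comp_zsmul] at hx
    simpa [add_neg_eq_zero, CosimplicialObject.δ] using hx
  have hi : ∀ (n : ℕ) (i : Fin (n + 1)),
      x ≫ G.map (SimplexCategory.const ⦋0⦌ ⦋n⦌ i) = x ≫ G.map (SimplexCategory.const ⦋0⦌ ⦋n⦌ 0) := by
    intro n i
    rw [← δ_zero_edge i, ← δ_one_edge i, G.map_comp, G.map_comp, reassoc_of% h01]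
  let c : Cone G :=
    { pt := A
      π :=
        { app := fun n => x ≫ G.map (SimplexCategory.const ⦋0⦌ n 0)
          naturality := fun m n α => by
            refine (Category.id_comp _).trans ?_
            rw [Category.assoc, ← G.map_comp, SimplexCategory.const_comp]
            exact (hi n.len _).symm } }
  refine ⟨limit.lift G c, (limit.lift_π c _).trans ?_⟩
  show x ≫ G.map (SimplexCategory.const ⦋0⦌ ⦋0⦌ 0) = x
  rw [SimplexCategory.hom_zero_zero (SimplexCategory.const ⦋0⦌ ⦋0⦌ 0), G.map_id, Category.comp_id]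

instance mono_π_zero (G : CosimplicialObject B) : Mono (limit.π G ⦋0⦌) := by
  refine ⟨fun g h e => limit.hom_ext fun n => ?_⟩
  rw [← limit.w G (SimplexCategory.const ⦋0⦌ n 0), reassoc_of% e]

lemma isIso_liftπ (G : CosimplicialObject B) :
    IsIso (((alternatingCofaceMapComplex B).obj G).liftCycles (limit.π G ⦋0⦌) 1
      (CochainComplex.next ℕ 0) (ι_cocycle G) ≫ ((alternatingCofaceMapComplex B).obj G).homologyπ 0) := by
  let K := (alternatingCofaceMapComplex B).obj G
  let l := K.liftCycles (limit.π G ⦋0⦌) 1 (CochainComplex.next ℕ 0) (ι_cocycle G)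
  have : IsIso (K.homologyπ 0) :=
    K.isIso_homologyπ 0 0 ((ComplexShape.up ℕ).prev_eq_self 0 (by simp)) (K.shape 0 0 (by simp))
  obtain ⟨j, hj⟩ := exists_lift G (K.iCycles 0) (K.iCycles_d 0 1)
  have hl : l ≫ K.iCycles 0 = limit.π G ⦋0⦌ := K.liftCycles_i _ _ _ _
  have : IsIso l :=
    ⟨j, (cancel_mono (limit.π G ⦋0⦌)).1 (by
        rw [Category.assoc, hj, Category.id_comp]; exact hl),
      (cancel_mono (K.iCycles 0)).1 (by
        rw [Category.assoc, hl, Category.id_comp]; exact hj)⟩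
  exact inferInstanceAs (IsIso (l ≫ K.homologyπ 0))

/-- `lim` is the zeroth cohomology of the alternating coface complex. -/
noncomputable def limIso : (lim : CosimplicialObject B ⥤ B) ≅
    alternatingCofaceMapComplex B ⋙ HomologicalComplex.homologyFunctor B (ComplexShape.up ℕ) 0 :=
  NatIso.ofComponents (fun G => by
    have := isIso_liftπ G
    refine asIso (((alternatingCofaceMapComplex B).obj G).liftCycles (limit.π G ⦋0⦌) 1
      (CochainComplex.next ℕ 0) (ι_cocycle G) ≫ ((alternatingCofaceMapComplex B).obj G).homologyπ 0)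
      |> fun e => e) (fun {G H} φ => by
      have h : ((alternatingCofaceMapComplex B).obj G).liftCycles (limit.π G ⦋0⦌) 1
          (CochainComplex.next ℕ 0) (ι_cocycle G) ≫
            HomologicalComplex.cyclesMap ((alternatingCofaceMapComplex B).map φ) 0 =
          limMap φ ≫ ((alternatingCofaceMapComplex B).obj H).liftCycles (limit.π H ⦋0⦌) 1
            (CochainComplex.next ℕ 0) (ι_cocycle H) := by
        rw [← cancel_mono (((alternatingCofaceMapComplex B).obj H).iCycles 0), Category.assoc,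
          HomologicalComplex.cyclesMap_i, HomologicalComplex.liftCycles_i_assoc, Category.assoc,
          HomologicalComplex.liftCycles_i, limMap_π]
        rfl
      show limMap φ ≫ _ ≫ _ = (_ ≫ _) ≫ HomologicalComplex.homologyMap _ 0
      rw [Category.assoc, HomologicalComplex.homologyπ_naturality, ← Category.assoc, ← Category.assoc,
        ← h])

/-- Right derived limits over the simplex category. -/
theorem nonempty_rightDerived_lim_iso [EnoughInjectives (SimplexCategory ⥤ B)]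
    [(lim : (SimplexCategory ⥤ B) ⥤ B).Additive] (F : SimplexCategory ⥤ B) (n : ℕ) :
    Nonempty (((lim : (SimplexCategory ⥤ B) ⥤ B).rightDerived n).obj F ≅
      ((alternatingCofaceMapComplex B).obj F).homology n) := by
  have := HasExt.standard (SimplexCategory ⥤ B)
  let E := fun k : SimplexCategory => (evaluation SimplexCategory B).obj k
  let T : (SimplexCategory ⥤ B) ⥤ CochainComplex B ℕ := alternatingCofaceMapComplex B
  have : PreservesFiniteLimits (lim : (SimplexCategory ⥤ B) ⥤ B) :=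
    constLimAdj.rightAdjoint_preservesLimits.{0, 0}.preservesFiniteLimits
  have : T.PreservesZeroMorphisms := ⟨fun X Y => by ext n; rfl⟩
  refine DerivedByComplex.nonempty_rightDerived_iso lim T limIso
    (fun S hS => HomologicalComplex.shortExact_of_degreewise_shortExact _ fun i =>
      hS.map_of_exact (E ⦋i⦌)) (fun I hI k => ?_) F n
  exact @isZero_homology_of_injective _ _ _ _ I hI k

end Groth.SiteCohomology.CosimplicialLim
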