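import Mathlib.Topology.Maps.Proper.Basic
import Mathlib.Topology.Compactness.LocallyCompact
import Mathlib.Topology.Separation.Basic

/-!
# qc coverings of locally compact Hausdorff spaces
-/

universe u

open Set Topology Filter

namespace Groth.SiteCohomology

/-- Composites of qc coverings. -/
theorem qc_covering_comp {B : Type u} [TopologicalSpace B]
    {ι : Type u} {X : ι → Type u} [∀ i, TopologicalSpace (X i)]
    (f : ∀ i, X i → B)
    (hcov : ∀ x : B, ∃ (t : Finset ι) (E : ∀ i, Set (X i)),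
      (∀ i ∈ t, IsCompact (E i)) ∧ (⋃ i ∈ t, f i '' E i) ∈ 𝓝 x)
    {κ : ι → Type u} {Y : ∀ i, κ i → Type u} [∀ i j, TopologicalSpace (Y i j)]
    (g : ∀ i j, Y i j → X i)
    (hcov' : ∀ (i : ι) (x : X i), ∃ (t : Finset (κ i)) (E : ∀ j, Set (Y i j)),
      (∀ j ∈ t, IsCompact (E j)) ∧ (⋃ j ∈ t, g i j '' E j) ∈ 𝓝 x) :
    ∀ x : B, ∃ (t : Finset (Σ i, κ i)) (E : ∀ p : (Σ i, κ i), Set (Y p.1 p.2)),
      (∀ p ∈ t, IsCompact (E p)) ∧ (⋃ p ∈ t, f p.1 '' (g p.1 p.2 '' E p)) ∈ 𝓝 x := by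
  classical
  have key : ∀ (i : ι) (K : Set (X i)), IsCompact K → ∃ (s : Finset (κ i))
      (E : ∀ j, Set (Y i j)), (∀ j, IsCompact (E j)) ∧ K ⊆ ⋃ j ∈ s, g i j '' E j := by
    intro i K hK
    refine hK.induction_on ⟨∅, fun _ => ∅, fun _ => isCompact_empty, empty_subset _⟩
      (fun s t hst ⟨a, E, hE, h⟩ => ⟨a, E, hE, hst.trans h⟩)
      (fun s t ⟨a, E, hE, h⟩ ⟨b, E', hE', h'⟩ => ⟨a ∪ b, fun j => E j ∪ E' j,
        fun j => (hE j).union (hE' j), union_subset ?_ ?_⟩) fun x _ => ?_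
    · exact h.trans (iUnion₂_subset fun j hj => (image_mono subset_union_left).trans
        (subset_iUnion₂_of_subset j (Finset.mem_union_left _ hj) Subset.rfl))
    · exact h'.trans (iUnion₂_subset fun j hj => (image_mono subset_union_right).trans
        (subset_iUnion₂_of_subset j (Finset.mem_union_right _ hj) Subset.rfl))
    · obtain ⟨t, E, hE, hn⟩ := hcov' i x
      refine ⟨_, mem_nhdsWithin_of_mem_nhds hn, t, fun j => if j ∈ t then E j else ∅,
        fun j => ?_, iUnion₂_subset fun j hj => ?_⟩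
      · by_cases hj : j ∈ t
        · simpa [hj] using hE j hj
        · simp [hj]
      · exact subset_iUnion₂_of_subset j hj (by simp [hj])
  intro x
  obtain ⟨t, E, hE, hn⟩ := hcov x
  have : ∀ i, ∃ (s : Finset (κ i)) (E' : ∀ j, Set (Y i j)), (∀ j, IsCompact (E' j)) ∧
      (i ∈ t → E i ⊆ ⋃ j ∈ s, g i j '' E' j) := fun i => by
    by_cases hi : i ∈ t
    · obtain ⟨s, E', h1, h2⟩ := key i (E i) (hE i hi)
      exact ⟨s, E', h1, fun _ => h2⟩
    · exact ⟨∅, fun _ => ∅, fun _ => isCompact_empty, fun h => absurd h hi⟩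
  choose s E' h1 h2 using this
  refine ⟨t.sigma s, fun p => E' p.1 p.2, fun p _ => h1 _ _, Filter.mem_of_superset hn ?_⟩
  refine iUnion₂_subset fun i hi => (image_mono (h2 i hi)).trans ?_
  rw [image_iUnion₂]
  exact iUnion₂_subset fun j hj =>
    subset_iUnion₂_of_subset (⟨i, j⟩ : Σ i, κ i) (Finset.mem_sigma.2 ⟨hi, hj⟩) Subset.rfl

/-- Base change of qc coverings. -/
theorem qc_covering_pullback {B : Type u} [TopologicalSpace B] [T2Space B]
    {ι : Type u} {X : ι → Type u} [∀ i, TopologicalSpace (X i)]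
    (f : ∀ i, X i → B) (hf : ∀ i, Continuous (f i))
    (hcov : ∀ x : B, ∃ (t : Finset ι) (E : ∀ i, Set (X i)),
      (∀ i ∈ t, IsCompact (E i)) ∧ (⋃ i ∈ t, f i '' E i) ∈ 𝓝 x)
    {B' : Type u} [TopologicalSpace B'] [LocallyCompactSpace B'] (g : B' → B) (hg : Continuous g) :
    ∀ x' : B', ∃ (t : Finset ι) (E : ∀ i, Set {p : B' × X i // g p.1 = f i p.2}),
      (∀ i ∈ t, IsCompact (E i)) ∧
        (⋃ i ∈ t, (fun p : {p : B' × X i // g p.1 = f i p.2} => p.1.1) '' E i) ∈ 𝓝 x' := by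
  intro x'
  obtain ⟨t, E, hE, hn⟩ := hcov (g x')
  obtain ⟨K, hKn, hKsub, hK⟩ := LocallyCompactSpace.local_compact_nhds x' _ (hg.continuousAt hn)
  refine ⟨t, fun i => Subtype.val ⁻¹' (K ×ˢ E i), fun i hi => ?_, Filter.mem_of_superset hKn ?_⟩
  · have hcl : IsClosed {p : B' × X i | g p.1 = f i p.2} :=
      isClosed_eq (hg.comp continuous_fst) ((hf i).comp continuous_snd)
    exact hcl.isClosedEmbedding_subtypeVal.isCompact_preimage (hK.prod (hE i hi))
  · intro y hy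
    obtain ⟨i, hi, e, he, hye⟩ := mem_iUnion₂.1 (hKsub hy)
    exact mem_iUnion₂.2 ⟨i, hi, ⟨⟨(y, e), hye.symm⟩, ⟨hy, he⟩, rfl⟩⟩

/-- A proper surjection is a qc covering. -/
theorem qc_covering_of_proper {X Y : Type u} [TopologicalSpace X]
    [WeaklyLocallyCompactSpace X] [TopologicalSpace Y]
    (f : X → Y) (hf : IsProperMap f) (y : Y) (hsurj : Function.Surjective f) :
    ∃ E : Set X, IsCompact E ∧ f '' E ∈ 𝓝 y := by
  obtain ⟨E, hE, hsub⟩ := exists_compact_superset (hf.isCompact_preimage isCompact_singleton (K := {y}))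
  refine ⟨E, hE, ?_⟩
  have hc : IsClosed (f '' (interior E)ᶜ) := hf.isClosedMap _ isOpen_interior.isClosed_compl
  refine Filter.mem_of_superset (hc.isOpen_compl.mem_nhds ?_) fun z hz => ?_
  · rintro ⟨x, hx, hxy⟩
    exact hx (hsub hxy)
  · obtain ⟨x, rfl⟩ := hsurj z
    refine ⟨x, interior_subset ?_, rfl⟩
    by_contra hx
    exact hz ⟨x, hx, rfl⟩

end Groth.SiteCohomology
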