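import Mathlib.CategoryTheory.Sites.ConstantSheaf
import Mathlib.CategoryTheory.Sites.LocallyBijective
import Mathlib.CategoryTheory.Sites.Whiskering
import Mathlib.CategoryTheory.Sites.PreservesSheafification
import Mathlib.CategoryTheory.Sites.LeftExact
import Mathlib.Algebra.Category.ModuleCat.Basic
import Mathlib.Algebra.Category.ModuleCat.Limits
import Mathlib.Algebra.Category.ModuleCat.Colimits
import Mathlib.Algebra.Category.ModuleCat.FilteredColimits
import Mathlib.Algebra.Category.ModuleCat.Sheaf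
import Mathlib.LinearAlgebra.TensorProduct.RightExactness
import Mathlib.LinearAlgebra.TensorProduct.Pi
import Mathlib.Algebra.Module.FinitePresentation
import Mathlib.RingTheory.Flat.Tensor

/-!
# Sections of constant sheaves of modules and tensor products
-/

universe u

open CategoryTheory Opposite TensorProduct
open scoped Classical

set_option synthInstance.maxHeartbeats 400000
set_option maxHeartbeats 1000000
set_option linter.unusedSectionVars false

namespace Groth.SiteCohomology.ConstTensor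

variable {C : Type u} [SmallCategory C] (J : GrothendieckTopology C) {Λ : Type u} [CommRing Λ] (U : C)

section

variable (A : Type u) [AddCommGroup A] [Module Λ A]

/-- The constant sheaf. -/
noncomputable abbrev cs : Sheaf J (ModuleCat.{u} Λ) :=
  (constantSheaf J (ModuleCat.{u} Λ)).obj (ModuleCat.of Λ A)

/-- Its sections. -/
noncomputable abbrev sec : ModuleCat.{u} Λ := (cs J (Λ := Λ) A).obj.obj (op U)

/-- The unit. -/
noncomputable abbrev η : (Functor.const Cᵒᵖ).obj (ModuleCat.of Λ A) ⟶ (cs J (Λ := Λ) A).obj :=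
  toSheafify J _

variable {A}

lemma map_η {V W : C} (g : W ⟶ V) (a : A) :
    (cs J (Λ := Λ) A).obj.map g.op ((η J A).app (op V) a) = (η J A).app (op W) a :=
  (ConcreteCategory.congr_hom ((η J (Λ := Λ) A).naturality g.op) a).symm

lemma isSheaf_forget : Presieve.IsSheaf J ((cs J (Λ := Λ) A).obj ⋙ forget (ModuleCat.{u} Λ)) :=
  (isSheaf_iff_isSheaf_of_type _ _).1 ((Presheaf.isSheaf_iff_isSheaf_forget J _
    (forget (ModuleCat.{u} Λ))).1 (cs J (Λ := Λ) A).property)

lemma ext_of_cover {V : C} (T : Sieve V) (hT : T ∈ J V) (x y : (cs J (Λ := Λ) A).obj.obj (op V))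
    (h : ∀ ⦃W : C⦄ (g : W ⟶ V), T g → (cs J A).obj.map g.op x = (cs J A).obj.map g.op y) : x = y :=
  ((isSheaf_forget J) T hT).isSeparatedFor.ext h

lemma exists_local (x : (cs J (Λ := Λ) A).obj.obj (op U)) :
    ∃ T ∈ J U, ∀ ⦃W : C⦄ (g : W ⟶ U), T g → ∃ a : A, (η J A).app (op W) a = (cs J A).obj.map g.op x :=
  ⟨_, Presheaf.imageSieve_mem J (toSheafify J ((Functor.const Cᵒᵖ).obj (ModuleCat.of Λ A))) (U := op U) x, fun _ _ ⟨a, ha⟩ => ⟨a, ha⟩⟩

/-- Equal constants are locally equal. -/
lemma local_eq {V : C} {a b : A} (h : (η J (Λ := Λ) A).app (op V) a = (η J A).app (op V) b) :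
    (if a = b then (⊤ : Sieve V) else ⊥) ∈ J V := by
  refine J.superset_covering ?_ (Presheaf.equalizerSieve_mem J (toSheafify J ((Functor.const Cᵒᵖ).obj (ModuleCat.of Λ A))) (X := op V) a b h)
  intro W g hg
  rw [if_pos (show a = b from hg)]
  trivial

end

variable {A B D : Type u} [AddCommGroup A] [Module Λ A] [AddCommGroup B] [Module Λ B]
  [AddCommGroup D] [Module Λ D]

/-- Induced map on sections. -/
noncomputable def secMap (f : A →ₗ[Λ] B) : sec (Λ := Λ) J U A →ₗ[Λ] sec (Λ := Λ) J U B :=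
  (((constantSheaf J (ModuleCat.{u} Λ)).map (ModuleCat.ofHom f)).hom.app (op U)).hom

lemma secMap_natural (f : A →ₗ[Λ] B) {W : C} (g : W ⟶ U) (x : sec (Λ := Λ) J U A) :
    (cs J B).obj.map g.op (secMap J U f x) = secMap J W f ((cs J A).obj.map g.op x) :=
  (ConcreteCategory.congr_hom
    (((constantSheaf J (ModuleCat.{u} Λ)).map (ModuleCat.ofHom f)).hom.naturality g.op) x).symm

lemma secMap_η (f : A →ₗ[Λ] B) (W : C) (a : A) :
    secMap J W f ((η J A).app (op W) a) = (η (Λ := Λ) J B).app (op W) (f a) :=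
  (ConcreteCategory.congr_hom (congrArg (fun t => t.app (op W))
    (toSheafify_naturality J ((Functor.const Cᵒᵖ).map (ModuleCat.ofHom f)))) a).symm

lemma secMap_id : secMap J U (LinearMap.id : A →ₗ[Λ] A) = LinearMap.id := by
  have : ModuleCat.ofHom (LinearMap.id : A →ₗ[Λ] A) = 𝟙 _ := rfl
  rw [secMap, this]
  erw [CategoryTheory.Functor.map_id]
  rfl

lemma secMap_comp (g : B →ₗ[Λ] D) (f : A →ₗ[Λ] B) :
    secMap J U (g ∘ₗ f) = secMap J U g ∘ₗ secMap J U f := by
  have : ModuleCat.ofHom (g ∘ₗ f) = ModuleCat.ofHom f ≫ ModuleCat.ofHom g := rfl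
  rw [secMap, this, Functor.map_comp]
  rfl

lemma secMap_add (f g : A →ₗ[Λ] B) : secMap J U (f + g) = secMap J U f + secMap J U g := by
  refine LinearMap.ext fun x => ?_
  obtain ⟨T, hT, h⟩ := exists_local J U x
  refine ext_of_cover J T hT _ _ fun W k hk => ?_
  obtain ⟨a, ha⟩ := h k hk
  rw [LinearMap.add_apply, map_add, secMap_natural, secMap_natural, secMap_natural, ← ha, secMap_η,
    secMap_η, secMap_η, LinearMap.add_apply, map_add]

lemma secMap_smul (c : Λ) (f : A →ₗ[Λ] B) : secMap J U (c • f) = c • secMap J U f := by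
  refine LinearMap.ext fun x => ?_
  obtain ⟨T, hT, h⟩ := exists_local J U x
  refine ext_of_cover J T hT _ _ fun W k hk => ?_
  obtain ⟨a, ha⟩ := h k hk
  rw [LinearMap.smul_apply, map_smul, secMap_natural, secMap_natural, ← ha, secMap_η, secMap_η,
    LinearMap.smul_apply, map_smul]

lemma secMap_sum {ι : Type*} (s : Finset ι) (f : ι → (A →ₗ[Λ] B)) :
    secMap J U (∑ i ∈ s, f i) = ∑ i ∈ s, secMap J U (f i) :=
  map_sum (LinearMap.mk ⟨secMap J U, secMap_add J U⟩ (secMap_smul J U) :
    (A →ₗ[Λ] B) →ₗ[Λ] (sec (Λ := Λ) J U A →ₗ[Λ] sec (Λ := Λ) J U B)) f s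

/-- A section locally in the range of `f` is in the range of the map on sections. -/
lemma exists_lift (f : A →ₗ[Λ] B) (y : sec (Λ := Λ) J U B) (T : Sieve U) (hT : T ∈ J U)
    (h : ∀ ⦃W : C⦄ (g : W ⟶ U), T g → ∃ a : A, (η (Λ := Λ) J B).app (op W) (f a) = (cs J B).obj.map g.op y) :
    ∃ x : sec (Λ := Λ) J U A, secMap J U f x = y := by
  choose a ha using h
  let s : B → A := Function.invFun f
  have hs : ∀ a : A, f (s (f a)) = f a := fun a => Function.invFun_eq ⟨a, rfl⟩
  let x : Presieve.FamilyOfElements ((cs J A).obj ⋙ forget (ModuleCat.{u} Λ)) T.arrows :=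
    fun W g hg => (η J A).app (op W) (s (f (a g hg)))
  have hx : x.Compatible := by
    intro W₁ W₂ W g₁ g₂ f₁ f₂ h₁ h₂ e
    refine (map_η J g₁ _).trans (Eq.trans ?_ (map_η J g₂ _).symm)
    have h3 : (η (Λ := Λ) J B).app (op W) (f (a f₁ h₁)) = (η (Λ := Λ) J B).app (op W) (f (a f₂ h₂)) := by
      rw [← map_η J g₁, ← map_η J g₂, ha, ha, ← ConcreteCategory.comp_apply,
        ← ConcreteCategory.comp_apply, ← Functor.map_comp, ← Functor.map_comp, ← op_comp, ← op_comp, e]
    refine ext_of_cover J _ (local_eq J h3) _ _ fun V k hk => ?_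
    by_cases hab : f (a f₁ h₁) = f (a f₂ h₂)
    · rw [hab]
    · rw [if_neg hab] at hk
      exact hk.elim
  obtain ⟨t, ht, -⟩ := (isSheaf_forget J) T hT x hx
  refine ⟨t, ext_of_cover J T hT _ _ fun W g hg => ?_⟩
  rw [secMap_natural, show (cs J A).obj.map g.op t = (η J A).app (op W) (s (f (a g hg))) from ht g hg,
    secMap_η, hs, ha]

lemma secMap_surjective (f : A →ₗ[Λ] B) (hf : Function.Surjective f) :
    Function.Surjective (secMap J U f) := fun y => by
  obtain ⟨T, hT, h⟩ := exists_local J U y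
  refine exists_lift J U f y T hT fun W g hg => ?_
  obtain ⟨b, hb⟩ := h g hg
  obtain ⟨a, rfl⟩ := hf b
  exact ⟨a, hb⟩

lemma secMap_exact (f : A →ₗ[Λ] B) (g : B →ₗ[Λ] D) (h : Function.Exact f g) :
    Function.Exact (secMap J U f) (secMap J U g) := by
  intro y
  constructor
  · intro hy
    obtain ⟨T, hT, hl⟩ := exists_local J U y
    refine exists_lift J U f y
      { arrows := fun W k => ∃ a : A, (η (Λ := Λ) J B).app (op W) (f a) = (cs J B).obj.map k.op y
        downward_closed := fun {W W'} k ⟨a, ha⟩ l => ⟨a, by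
          rw [op_comp, Functor.map_comp, ConcreteCategory.comp_apply, ← ha, map_η]⟩ } ?_
      fun W k hk => hk
    refine J.transitive hT _ fun W k hk => ?_
    obtain ⟨b, hb⟩ := hl k hk
    have h0 : (η (Λ := Λ) J D).app (op W) (g b) = (η (Λ := Λ) J D).app (op W) 0 := by
      rw [← secMap_η, hb, ← secMap_natural, hy, map_zero, map_zero]
    refine J.superset_covering ?_ (local_eq J h0)
    intro V l hl'
    by_cases hgb : g b = 0
    · obtain ⟨a, rfl⟩ := (h b).1 hgb
      refine ⟨a, ?_⟩
      rw [op_comp, Functor.map_comp, ConcreteCategory.comp_apply, ← hb, map_η]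
    · rw [if_neg hgb] at hl'
      exact hl'.elim
  · rintro ⟨x, rfl⟩
    obtain ⟨T, hT, hl⟩ := exists_local J U x
    refine ext_of_cover J T hT _ _ fun W k hk => ?_
    obtain ⟨a, ha⟩ := hl k hk
    rw [secMap_natural, secMap_natural, ← ha, secMap_η, secMap_η, h.apply_apply_eq_zero, map_zero,
      map_zero]

lemma secMap_injective (f : A →ₗ[Λ] B) (hf : Function.Injective f) :
    Function.Injective (secMap J U f) := by
  refine (injective_iff_map_eq_zero _).2 fun x hx => ?_
  have h : Function.Exact (0 : A →ₗ[Λ] A) f := fun a =>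
    ⟨fun ha => ⟨0, ((map_eq_zero_iff f hf).1 ha).symm⟩, fun ⟨_, hb⟩ => by rw [← hb]; exact map_zero f⟩
  obtain ⟨y, hy⟩ := (secMap_exact J U _ f h x).1 hx
  have h0 : secMap J U (0 : A →ₗ[Λ] A) = 0 := by
    rw [← zero_smul Λ (0 : A →ₗ[Λ] A), secMap_smul, zero_smul]
  rw [← hy, h0]
  rfl

variable (M : Type u) [AddCommGroup M] [Module Λ M]

/-- The comparison map. -/
noncomputable def comparison (Q : Type u) [AddCommGroup Q] [Module Λ Q] :
    (sec (Λ := Λ) J U M) ⊗[Λ] Q →ₗ[Λ] sec (Λ := Λ) J U (M ⊗[Λ] Q) :=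
  TensorProduct.lift (LinearMap.mk₂ Λ (fun s q => secMap J U ((TensorProduct.mk Λ M Q).flip q) s)
    (fun s s' q => map_add _ _ _) (fun c s q => map_smul _ _ _)
    (fun s q q' => by rw [map_add, secMap_add, LinearMap.add_apply])
    (fun c s q => by rw [map_smul, secMap_smul, LinearMap.smul_apply]))

@[simp] lemma comparison_tmul {Q : Type u} [AddCommGroup Q] [Module Λ Q] (s : sec (Λ := Λ) J U M) (q : Q) :
    comparison J U M Q (s ⊗ₜ q) = secMap J U ((TensorProduct.mk Λ M Q).flip q) s := rfl

lemma comparison_natural {P Q : Type u} [AddCommGroup P] [Module Λ P] [AddCommGroup Q] [Module Λ Q]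
    (φ : P →ₗ[Λ] Q) (t : (sec (Λ := Λ) J U M) ⊗[Λ] P) :
    secMap J U (φ.lTensor M) (comparison J U M P t) = comparison J U M Q (φ.lTensor _ t) := by
  have : secMap J U (φ.lTensor M) ∘ₗ comparison J U M P = comparison J U M Q ∘ₗ φ.lTensor _ := by
    refine TensorProduct.ext' fun s p => ?_
    simp only [LinearMap.coe_comp, Function.comp_apply, comparison_tmul, LinearMap.lTensor_tmul]
    rw [← LinearMap.comp_apply, ← secMap_comp]
    congr 2
  exact LinearMap.congr_fun this t

lemma comparison_bijective_free (m : ℕ) : Function.Bijective (comparison (Λ := Λ) J U M (Fin m → Λ)) := by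
  classical
  let pr : Fin m → (M ⊗[Λ] (Fin m → Λ) →ₗ[Λ] M) := fun i =>
    (LinearMap.proj i : (Fin m → M) →ₗ[Λ] M) ∘ₗ (TensorProduct.piScalarRight Λ Λ M (Fin m)).toLinearMap
  let S : sec (Λ := Λ) J U (M ⊗[Λ] (Fin m → Λ)) →ₗ[Λ] (sec (Λ := Λ) J U M) ⊗[Λ] (Fin m → Λ) :=
    ∑ i, (TensorProduct.mk Λ _ _).flip (Pi.single i 1) ∘ₗ secMap J U (pr i)
  have h1 : ∀ w, comparison J U M _ (S w) = w := fun w => by
    have hid : ∑ i, (TensorProduct.mk Λ M (Fin m → Λ)).flip (Pi.single i 1) ∘ₗ pr i = LinearMap.id := by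
      refine TensorProduct.ext' fun a q => ?_
      simp only [LinearMap.coe_sum, Finset.sum_apply, LinearMap.coe_comp, Function.comp_apply,
        LinearMap.id_apply, LinearMap.flip_apply, TensorProduct.mk_apply, pr]
      simp only [LinearEquiv.coe_coe, TensorProduct.piScalarRight_apply,
        TensorProduct.piScalarRightHom_tmul, LinearMap.proj_apply]
      simp only [TensorProduct.smul_tmul, ← TensorProduct.tmul_sum]
      congr 1
      ext j
      simp [Finset.sum_apply, Pi.single_apply]
    simp only [S, LinearMap.coe_sum, Finset.sum_apply, map_sum, LinearMap.coe_comp, Function.comp_apply,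
      LinearMap.flip_apply, TensorProduct.mk_apply, comparison_tmul]
    simp only [← LinearMap.comp_apply, ← secMap_comp, ← LinearMap.sum_apply, ← secMap_sum, hid,
      secMap_id, LinearMap.id_apply]
  refine ⟨Function.LeftInverse.injective (g := S) fun t => ?_, fun w => ⟨S w, h1 w⟩⟩
  have : S ∘ₗ comparison J U M (Fin m → Λ) = LinearMap.id := by
    refine TensorProduct.ext' fun s q => ?_
    have hp : ∀ i, pr i ∘ₗ (TensorProduct.mk Λ M (Fin m → Λ)).flip q = q i • LinearMap.id := by
      intro i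
      ext a
      simp [pr]
    simp only [S, LinearMap.coe_comp, Function.comp_apply, comparison_tmul, LinearMap.coe_sum,
      Finset.sum_apply, LinearMap.flip_apply, TensorProduct.mk_apply, LinearMap.id_apply]
    simp only [← LinearMap.comp_apply, ← secMap_comp, hp, secMap_smul, secMap_id, LinearMap.smul_apply,
      LinearMap.id_apply, TensorProduct.smul_tmul, ← TensorProduct.tmul_sum]
    congr 1
    ext j
    simp [Finset.sum_apply, Pi.single_apply]
  exact LinearMap.congr_fun this t

theorem comparison_bijective (Q : Type u) [AddCommGroup Q] [Module Λ Q] [Module.FinitePresentation Λ Q] :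
    Function.Bijective (comparison (Λ := Λ) J U M Q) := by
  obtain ⟨m, K, e, hK⟩ := Module.FinitePresentation.exists_fin Λ Q
  let π : (Fin m → Λ) →ₗ[Λ] Q := e.symm.toLinearMap ∘ₗ K.mkQ
  have hπ : Function.Surjective π := e.symm.surjective.comp K.mkQ_surjective
  obtain ⟨k, R, hR⟩ : ∃ (k : ℕ) (R : (Fin k → Λ) →ₗ[Λ] (Fin m → Λ)), LinearMap.range R = LinearMap.ker π := by
    have : (LinearMap.ker π).FG := by
      simp only [π, LinearMap.ker_comp, LinearEquiv.ker, Submodule.comap_bot, Submodule.ker_mkQ]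
      exact hK
    obtain ⟨k, v, hv⟩ := Submodule.fg_iff_exists_fin_generating_family.1 this
    exact ⟨k, Fintype.linearCombination Λ v, (Fintype.range_linearCombination (R := Λ) (v := v)).trans hv⟩
  have hexact : Function.Exact R π := LinearMap.exact_iff.2 hR.symm
  constructor
  · refine (injective_iff_map_eq_zero _).2 fun t ht => ?_
    obtain ⟨t', rfl⟩ := LinearMap.lTensor_surjective (sec (Λ := Λ) J U M) hπ t
    rw [← comparison_natural] at ht
    obtain ⟨w, hw⟩ := (secMap_exact J U _ _ (lTensor_exact M hexact hπ) _).1 ht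
    obtain ⟨t'', rfl⟩ := (comparison_bijective_free J U M k).2 w
    rw [comparison_natural] at hw
    rw [← (comparison_bijective_free J U M m).1 hw]
    exact (lTensor_exact (sec (Λ := Λ) J U M) hexact hπ).apply_apply_eq_zero t''
  · intro z
    obtain ⟨w, rfl⟩ := secMap_surjective J U _ (LinearMap.lTensor_surjective M hπ) z
    obtain ⟨t, rfl⟩ := (comparison_bijective_free J U M m).2 w
    exact ⟨π.lTensor _ t, (comparison_natural J U M π t).symm⟩

theorem flat_sec (hΛ : ∀ I : Ideal Λ, I.FG → Module.FinitePresentation Λ I) [Module.Flat Λ M] :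
    Module.Flat Λ (sec (Λ := Λ) J U M) := by
  rw [Module.Flat.iff_lift_lsmul_comp_subtype_injective]
  intro I hI
  have := hΛ I hI
  let μ : M ⊗[Λ] I →ₗ[Λ] M :=
    TensorProduct.lift ((LinearMap.lsmul Λ M).comp I.subtype) ∘ₗ (TensorProduct.comm Λ M I).toLinearMap
  have hμ : Function.Injective μ :=
    (Module.Flat.iff_lift_lsmul_comp_subtype_injective.1 ‹_› hI).comp (TensorProduct.comm Λ M I).injective
  have : TensorProduct.lift ((LinearMap.lsmul Λ (sec (Λ := Λ) J U M)).comp I.subtype) =
      secMap J U μ ∘ₗ comparison J U M I ∘ₗ (TensorProduct.comm Λ I _).toLinearMap := by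
    refine TensorProduct.ext' fun i s => ?_
    simp only [TensorProduct.lift.tmul, LinearMap.coe_comp, Function.comp_apply, LinearEquiv.coe_coe,
      TensorProduct.comm_tmul, comparison_tmul]
    rw [← LinearMap.comp_apply (secMap J U μ), ← secMap_comp]
    have e : μ ∘ₗ (TensorProduct.mk Λ M I).flip i = (i : Λ) • LinearMap.id := by
      ext a
      simp [μ]
    rw [e, secMap_smul, secMap_id]
    rfl
  rw [this]
  exact (secMap_injective J U μ hμ).comp
    ((comparison_bijective J U M I).1.comp (TensorProduct.comm Λ I _).injective)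

end Groth.SiteCohomology.ConstTensor
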