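import Groth.Agent.SitesTopoi.AcyclicHom
import Groth.Agent.DerivedCoh.KInj.Resolution

/-!
# Complexes of acyclic objects and finite cohomological dimension

If `Ext^q(P, -)` vanishes for `q > d`, then arbitrary complexes of `P`-acyclic objects compute morphisms
out of `P` in the derived category.
-/

universe w v u

open CategoryTheory CategoryTheory.Limits HomologicalComplex CochainComplex

set_option maxHeartbeats 1000000

namespace Groth.SiteCohomology.AcyclicHomCd

open CategoryTheory.Abelian Groth.SiteCohomology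

variable {A : Type u} [Category.{v} A] [Abelian A] [HasExt.{v} A] (P : A)

omit [HasExt.{v} A] in
/-- The cycles of an exact complex at one spot give a short exact sequence. -/
lemma exists_cyclesSES (C : CochainComplex A ℤ) (hC : C.Acyclic) (k : ℤ) :
    ∃ (p : C.X k ⟶ kernel (C.d (k + 1) (k + 1 + 1))) (w : kernel.ι (C.d k (k + 1)) ≫ p = 0),
      p ≫ kernel.ι _ = C.d k (k + 1) ∧ (ShortComplex.mk _ p w).ShortExact := by
  have hex : (ShortComplex.mk (C.d k (k + 1)) (C.d (k + 1) (k + 1 + 1)) (C.d_comp_d _ _ _)).Exact :=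
    (C.exactAt_iff' k (k + 1) (k + 1 + 1) (by simp) (by simp)).1 (hC _)
  have : Epi (kernel.lift (C.d (k + 1) (k + 1 + 1)) (C.d k (k + 1)) (C.d_comp_d _ _ _)) :=
    hex.epi_kernelLift
  let S : ShortComplex A := ShortComplex.mk (kernel.ι (C.d k (k + 1)))
    (kernel.lift (C.d (k + 1) (k + 1 + 1)) (C.d k (k + 1)) (C.d_comp_d _ _ _))
    (by rw [← cancel_mono (kernel.ι _), Category.assoc, kernel.lift_ι, zero_comp, kernel.condition])
  refine ⟨_, S.zero, kernel.lift_ι _ _ _, ?_⟩
  refine ShortComplex.ShortExact.mk' ?_ (inferInstanceAs (Mono (kernel.ι _))) this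
  refine ShortComplex.exact_of_f_is_kernel _ (KernelFork.IsLimit.ofι' _ _ fun {W} z hz => ?_)
  refine ⟨kernel.lift _ z ?_, kernel.lift_ι _ _ _⟩
  have h1 := congrArg (fun t => t ≫ kernel.ι (C.d (k + 1) (k + 1 + 1))) hz
  simpa [S] using h1

variable (d : ℕ) (hd : ∀ (F : A) (q : ℕ), d ≤ q → Subsingleton (Ext P F (q + 1)))
include hd

/-- In an exact complex of acyclic objects the cycles are acyclic. -/
lemma subsingleton_ext_cycles' (C : CochainComplex A ℤ) (hC : C.Acyclic)
    (h : ∀ (n : ℤ) (q : ℕ), Subsingleton (Ext P (C.X n) (q + 1))) :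
    ∀ (m q : ℕ), d ≤ q + m → ∀ n : ℤ, Subsingleton (Ext P (kernel (C.d n (n + 1))) (q + 1))
  | 0, q, hq, _ => hd _ q hq
  | m + 1, q, hq, n => by
    obtain ⟨k, rfl⟩ : ∃ k, n = k + 1 := ⟨n - 1, by omega⟩
    obtain ⟨p, w, -, hS⟩ := exists_cyclesSES C hC k
    have : Subsingleton (Ext P (ShortComplex.mk _ p w).X₂ (q + 1)) := h k q
    have : Subsingleton (Ext P (ShortComplex.mk _ p w).X₁ (q + 1 + 1)) :=
      subsingleton_ext_cycles' C hC h m (q + 1) (by omega) k
    exact subsingleton_ext_right hS P (q + 1)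

/-- Cocycles of an exact complex of acyclic objects lift. -/
lemma exists_lift' (C : CochainComplex A ℤ) (hC : C.Acyclic)
    (h : ∀ (n : ℤ) (q : ℕ), Subsingleton (Ext P (C.X n) (q + 1))) (i j k : ℤ) (hij : i + 1 = j)
    (hjk : j + 1 = k) (c : P ⟶ C.X j) (hc : c ≫ C.d j k = 0) : ∃ e : P ⟶ C.X i, e ≫ C.d i j = c := by
  subst hij hjk
  obtain ⟨p, w, hp, hS⟩ := exists_cyclesSES C hC i
  have : Subsingleton (Ext P (ShortComplex.mk _ p w).X₁ 1) :=
    subsingleton_ext_cycles' P d hd C hC h d 0 (by omega) i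
  obtain ⟨e, he⟩ := exists_lift_of_subsingleton_ext_one hS P (kernel.lift _ c hc)
  refine ⟨e, ?_⟩
  have h1 := congrArg (fun t => t ≫ kernel.ι _) he
  simp only [kernel.lift_ι, Category.assoc, hp] at h1
  exact h1

variable [IsGrothendieckAbelian.{v} A] [HasDerivedCategory.{w} A]

/-- Morphisms in the derived category from `P` into a complex of acyclic objects come from morphisms
of complexes when `P` has finite cohomological dimension. -/
theorem Q_map_surjective_of_acyclic (L : CochainComplex A ℤ)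
    (h : ∀ (n : ℤ) (q : ℕ), Subsingleton (Ext P (L.X n) (q + 1))) :
    Function.Surjective (DerivedCategory.Q.map :
      ((HomologicalComplex.single A (ComplexShape.up ℤ) 0).obj P ⟶ L) → _) := by
  intro φ
  obtain ⟨J, i, -, hi, hK, hJ⟩ := Groth.DerivedCoh.KInjRes.exists_resolution L
  obtain ⟨v, hv⟩ := Groth.DerivedCoh.KInjRes.Q_map_surjective _ J (φ ≫ DerivedCategory.Q.map i)
  let Cn := mappingCone i
  have hC : Cn.Acyclic := (Groth.FlatCxBase.quasiIso_iff_cone_acyclic i).1 hi
  have hCext : ∀ (n : ℤ) (q : ℕ), Subsingleton (Ext P (Cn.X n) (q + 1)) := fun n q => by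
    refine subsingleton_of_forall_eq 0 fun e => ?_
    rw [← Ext.comp_mk₀_id e, ← mappingCone.id_X i n (n + 1) rfl, Ext.mk₀_add, Ext.comp_add,
      ← Ext.mk₀_comp_mk₀, ← Ext.mk₀_comp_mk₀, ← Ext.comp_assoc_of_third_deg_zero,
      ← Ext.comp_assoc_of_third_deg_zero]
    have := h (n + 1) q
    have := Ext.subsingleton_of_injective P (J.X n) q
    rw [Subsingleton.elim (e.comp (Ext.mk₀ ((mappingCone.fst i).1.v n (n + 1) rfl)) (add_zero _)) 0,
      Subsingleton.elim (e.comp (Ext.mk₀ ((mappingCone.snd i).v n n (add_zero n))) (add_zero _)) 0,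
      Ext.zero_comp, Ext.zero_comp, add_zero]
  let s := (singleObjXSelf (ComplexShape.up ℤ) 0 P).inv
  let t := (singleObjXSelf (ComplexShape.up ℤ) 0 P).hom
  let v₀ : P ⟶ J.X 0 := s ≫ v.f 0
  have hd0 : ∀ k, ((HomologicalComplex.single A (ComplexShape.up ℤ) 0).obj P).d 0 k = 0 :=
    fun k => HomologicalComplex.single_obj_d _ _ _ _ _
  have hv0 : v₀ ≫ J.d 0 1 = 0 := by simp [v₀, v.comm]
  obtain ⟨e, he⟩ := exists_lift' P d hd Cn hC hCext (-1) 0 1 (by simp) (by simp)
    (v₀ ≫ (mappingCone.inr i).f 0) (by rw [Category.assoc, (mappingCone.inr i).comm, ← Category.assoc, hv0, zero_comp])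
  let l : P ⟶ L.X 0 := e ≫ (mappingCone.fst i).1.v (-1) 0 (by simp)
  let j : P ⟶ J.X (-1) := e ≫ (mappingCone.snd i).v (-1) (-1) (by simp)
  have hl : l ≫ L.d 0 1 = 0 := by
    have h1 : e ≫ Cn.d (-1) 0 ≫ (mappingCone.fst i).1.v 0 1 (by simp) = 0 := by
      rw [reassoc_of% he, mappingCone.inr_f_fst_v, comp_zero]
    rw [mappingCone.d_fst_v i (-1) 0 1 (by simp) (by simp), Preadditive.comp_neg,
      neg_eq_zero] at h1
    simpa [l] using h1
  have hlj : l ≫ i.f 0 + j ≫ J.d (-1) 0 = v₀ := by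
    have h1 : e ≫ Cn.d (-1) 0 ≫ (mappingCone.snd i).v 0 0 (by simp) = v₀ := by
      rw [reassoc_of% he, mappingCone.inr_f_snd_v, Category.comp_id]
    rw [mappingCone.d_snd_v i (-1) 0 (by simp), Preadditive.comp_add] at h1
    simpa [l, j] using h1
  let w : (HomologicalComplex.single A (ComplexShape.up ℤ) 0).obj P ⟶ L :=
    HomologicalComplex.mkHomFromSingle l (fun k hk => by
      obtain rfl : k = 1 := by simpa using hk.symm
      exact hl)
  refine ⟨w, ?_⟩
  have : IsIso (DerivedCategory.Q.map i) := (DerivedCategory.isIso_Q_map_iff_quasiIso _ i).2 hi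
  rw [← cancel_mono (DerivedCategory.Q.map i), ← hv, ← Functor.map_comp,
    Groth.DerivedCoh.KInjRes.Q_map_eq_iff]
  let H : ∀ p q, (ComplexShape.up ℤ).Rel q p →
      (((HomologicalComplex.single A (ComplexShape.up ℤ) 0).obj P).X p ⟶ J.X q) :=
    fun p q hpq => (HomComplex.Cochain.single (t ≫ j) (-1)).v p q (by simp at hpq; omega)
  refine ⟨(Homotopy.ofEq ?_).trans (((Homotopy.refl v).add (Homotopy.nullHomotopy' fun p q hpq => -H p q hpq)).trans
    (Homotopy.ofEq (add_zero v)))⟩
  refine HomologicalComplex.from_single_hom_ext ?_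
  rw [HomologicalComplex.add_f_apply, Homotopy.nullHomotopicMap'_f (c := ComplexShape.up ℤ) (k₂ := -1)
    (k₁ := 0) (k₀ := 1) (by simp) (by simp), hd0, zero_comp, zero_add]
  have hH : H 0 (-1) (by simp) = t ≫ j := HomComplex.Cochain.single_v _ _ _
  rw [hH, HomologicalComplex.comp_f, HomologicalComplex.mkHomFromSingle_f]
  have hvt : v.f 0 = t ≫ v₀ := by simp [v₀, t, s]
  rw [hvt, ← hlj]
  simp [t, Preadditive.comp_add]

end Groth.SiteCohomology.AcyclicHomCd
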