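import Groth.Prelude.Def_BigSite
import Groth.Agent.DescentBase.PushShInt
import Groth.Agent.DescentBase.ShStalk
import Groth.Agent.DescentBase.ClosedImmSh
import Groth.Agent.EtaleBase.Stalks
import Groth.Agent.SiteCohomology.FullyFaithfulShriek
import Mathlib.CategoryTheory.Sites.Subsheaf

/-!
# Big étale sheaves of sets determined by geometric points

`IsCart G`: two sections of `G` with the same value at a geometric point agree on an étale
neighbourhood of it, and the values at geometric points of the base come from étale neighbourhoods.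
These are the inverse images of sheaves on the small étale site.
-/

set_option autoImplicit false
set_option backward.isDefEq.respectTransparency.types false

universe u

open CategoryTheory CategoryTheory.Limits AlgebraicGeometry Opposite

namespace Groth.SiteCohomology.BigCartSet

open Groth.DescentBase (shStalk shGerm shGerm_eq_iff acPoint acPoint_apply)

/-- The topology of the big étale site. -/
abbrev J (S : Scheme.{u}) : GrothendieckTopology (Over S) := QuotSh.J Scheme.etalePrecoverage S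

/-- Sheaves of sets on the big étale site. -/
abbrev Bg (S : Scheme.{u}) : Type (u + 2) := Sheaf (J S) (Type (u + 1))

/-- Restriction to the small étale site. -/
noncomputable abbrev res (S : Scheme.{u}) : Bg S ⥤ EtDesc.Sh S :=
  (EtFppf.a S).sheafPushforwardContinuous (Type (u + 1)) S.smallEtaleTopology (J S)

/-- Inverse image from the small étale site. -/
noncomputable abbrev piPull (S : Scheme.{u}) : EtDesc.Sh S ⥤ Bg S :=
  (EtFppf.a S).sheafPullback (Type (u + 1)) S.smallEtaleTopology (J S)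

/-- The adjunction. -/
noncomputable abbrev piAdj (S : Scheme.{u}) : piPull S ⊣ res S :=
  (EtFppf.a S).sheafAdjunctionContinuous (Type (u + 1)) S.smallEtaleTopology (J S)

variable {S : Scheme.{u}}

/-- An étale morphism to an object of the big site. -/
noncomputable abbrev etHom (C : Over S) {W : Scheme.{u}} (e : W ⟶ C.left) :
    Over.mk (e ≫ C.hom) ⟶ C := Over.homMk e

lemma mem_J_iff (C : Over S) (R : Sieve C) :
    R ∈ J S C ↔ ∀ x : C.left, ∃ (V : Over S) (g : V ⟶ C),
      R g ∧ Etale g.left ∧ x ∈ Set.range g.left.base := by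
  rw [GrothendieckTopology.mem_over_iff]
  show _ ∈ Scheme.grothendieckTopology @Etale C.left ↔ _
  rw [Scheme.mem_grothendieckTopology_iff]
  constructor
  · rintro ⟨𝒰, hle⟩ x
    obtain ⟨i, y, hy⟩ := 𝒰.exists_eq x
    have hi : Etale (𝒰.f i) := 𝒰.map_prop i
    exact ⟨_, etHom C (𝒰.f i), (Sieve.overEquiv_iff R (𝒰.f i)).1 (hle _ _ (Presieve.ofArrows.mk i)),
      hi, y, hy⟩
  · intro h
    choose V g hR hg y hy using h
    refine ⟨(AlgebraicGeometry.Scheme.Cover.mkOfCovers (C.left) (fun x => (V x).left)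
      (fun x => (g x).left) (fun x => ⟨x, y x, hy x⟩) fun x => hg x), ?_⟩
    rintro _ _ ⟨x⟩
    rw [Sieve.overEquiv_iff]
    let k : Over.mk ((g x).left ≫ C.hom) ⟶ V x := Over.homMk (𝟙 _)
      ((Category.id_comp _).trans (Over.w (g x)).symm)
    have : etHom C (g x).left = k ≫ g x := Over.OverMorphism.ext (Category.id_comp _).symm
    show R.arrows (etHom C (g x).left)
    rw [this]
    exact R.downward_closed (hR x) k

lemma map_comp_apply' (G : Bg S) {C D E : Over S} (a : C ⟶ D) (b : D ⟶ E) (s : G.obj.obj (op E)) :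
    G.obj.map (a ≫ b).op s = G.obj.map a.op (G.obj.map b.op s) := by
  rw [op_comp, Functor.map_comp_apply]

lemma map_id_apply' (G : Bg S) (C : Over S) (s : G.obj.obj (op C)) : G.obj.map (𝟙 C).op s = s := by
  rw [op_id, CategoryTheory.Functor.map_id]
  rfl

lemma map_eq_of_eq (G : Bg S) {C D : Over S} {a b : C ⟶ D} (h : a = b) (s : G.obj.obj (op D)) :
    G.obj.map a.op s = G.obj.map b.op s := by subst h; rfl

/-- Sections agreeing étale locally are equal. -/
lemma eq_of_locally (G : Bg S) {C : Over S} (s t : G.obj.obj (op C))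
    (h : ∀ x : C.left, ∃ (V : Over S) (g : V ⟶ C),
      Etale g.left ∧ x ∈ Set.range g.left.base ∧ G.obj.map g.op s = G.obj.map g.op t) : s = t := by
  let R : Sieve C :=
    { arrows := fun V g => G.obj.map g.op s = G.obj.map g.op t
      downward_closed := fun {V W g} hg k => by
        rw [map_comp_apply', map_comp_apply', hg] }
  refine (((isSheaf_iff_isSheaf_of_type _ _).1 G.2).isSeparated _ ((mem_J_iff C R).2 fun x => ?_)).ext
    fun V g hg => hg
  obtain ⟨V, g, hg, hx, h0⟩ := h x
  exact ⟨V, g, h0, hg, hx⟩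

section points

variable {Ω : Type u} [Field Ω]

/-- A geometric point of an object, as an object of the big site. -/
noncomputable abbrev ptObj (C : Over S) (ξ : Spec (CommRingCat.of Ω) ⟶ C.left) : Over S :=
  Over.mk (ξ ≫ C.hom)

/-- The inclusion of a geometric point. -/
noncomputable abbrev ptHom (C : Over S) (ξ : Spec (CommRingCat.of Ω) ⟶ C.left) :
    ptObj C ξ ⟶ C := Over.homMk ξ

lemma val_eq {C : Over S} (G : Bg S) {ξ : Spec (CommRingCat.of Ω) ⟶ S} (l : Over.mk ξ ⟶ C)
    {s t : G.obj.obj (op C)} (h : G.obj.map l.op s = G.obj.map l.op t) :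
    G.obj.map (ptHom C l.left).op s = G.obj.map (ptHom C l.left).op t := by
  let j : ptObj C l.left ⟶ Over.mk ξ := Over.homMk (𝟙 _) ((Category.id_comp _).trans (Over.w l).symm)
  have e : ptHom C l.left = j ≫ l := Over.OverMorphism.ext (Category.id_comp _).symm
  rw [e, map_comp_apply', map_comp_apply', h]

variable [IsSepClosed Ω]

/-- Lifting a geometric point along an étale map of the big site. -/
lemma exists_lift {ξ : Spec (CommRingCat.of Ω) ⟶ S} {C V : Over S} (l : Over.mk ξ ⟶ C) (g : V ⟶ C)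
    [Etale g.left] (v : V.left)
    (hv : g.left.base v = (show Spec (CommRingCat.of Ω) ⟶ C.left from l.left).base default) :
    ∃ m : Over.mk ξ ⟶ V, m ≫ g = l := by
  obtain ⟨m, hm, -⟩ := Scheme.exists_fac_of_etale_of_isSepClosed g.left
    (show Spec (CommRingCat.of Ω) ⟶ C.left from l.left) v hv
  refine ⟨Over.homMk m ?_, Over.OverMorphism.ext hm⟩
  rw [← Over.w g]
  exact (Category.assoc _ _ _).symm.trans ((congrArg (· ≫ C.hom) hm).trans (Over.w l))

end points

/-- Sections of `G` are controlled by their values at geometric points. -/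
structure IsCart (G : Bg S) : Prop where
  sep : ∀ (C : Over S) {Ω : Type u} [Field Ω] [IsSepClosed Ω]
    (ξ : Spec (CommRingCat.of Ω) ⟶ C.left) (s t : G.obj.obj (op C)),
    G.obj.map (ptHom C ξ).op s = G.obj.map (ptHom C ξ).op t → ∃ (V : Over S) (g : V ⟶ C),
      Etale g.left ∧ ξ.base default ∈ Set.range g.left.base ∧ G.obj.map g.op s = G.obj.map g.op t
  lift : ∀ {Ω : Type u} [Field Ω] [IsAlgClosed Ω] (ξ : Spec (CommRingCat.of Ω) ⟶ S)
    (x : G.obj.obj (op (Over.mk ξ))),
    ∃ (U : S.Etale) (l : Over.mk ξ ⟶ (EtFppf.a S).obj U)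
      (t : G.obj.obj (op ((EtFppf.a S).obj U))), G.obj.map l.op t = x

variable {G : Bg S}

lemma IsCart.ext (hG : IsCart G) {C : Over S} (s t : G.obj.obj (op C))
    (h : ∀ x : C.left, G.obj.map (ptHom C (acPoint x)).op s = G.obj.map (ptHom C (acPoint x)).op t) :
    s = t := by
  refine eq_of_locally G s t fun x => ?_
  obtain ⟨V, g, hg, hx, h0⟩ := hG.sep C (acPoint x) s t (h x)
  exact ⟨V, g, hg, acPoint_apply x _ ▸ hx, h0⟩

section small

/-- A fibre product in the small étale site. -/
noncomputable def prodObj (U W : S.Etale) : S.Etale :=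
  haveI : Etale U.hom := U.prop
  haveI : Etale W.hom := W.prop
  Scheme.Etale.mk (pullback.fst U.hom W.hom ≫ U.hom)

/-- First projection. -/
noncomputable def prodFst (U W : S.Etale) : prodObj U W ⟶ U :=
  MorphismProperty.Over.homMk (pullback.fst U.hom W.hom) rfl

/-- Second projection. -/
noncomputable def prodSnd (U W : S.Etale) : prodObj U W ⟶ W :=
  MorphismProperty.Over.homMk (pullback.snd U.hom W.hom) pullback.condition.symm

lemma exists_prod_lift {C : Over S} {U W : S.Etale} (a : C ⟶ (EtFppf.a S).obj U)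
    (b : C ⟶ (EtFppf.a S).obj W) :
    ∃ c : C ⟶ (EtFppf.a S).obj (prodObj U W),
      c ≫ (EtFppf.a S).map (prodFst U W) = a ∧ c ≫ (EtFppf.a S).map (prodSnd U W) = b :=
  ⟨Over.homMk (pullback.lift a.left b.left ((Over.w a).trans (Over.w b).symm))
    ((pullback.lift_fst_assoc _ _ _ _).trans (Over.w a)),
    Over.OverMorphism.ext (pullback.lift_fst _ _ _), Over.OverMorphism.ext (pullback.lift_snd _ _ _)⟩

variable {Ω : Type u} [Field Ω] [IsSepClosed Ω] {ξ : Spec (CommRingCat.of Ω) ⟶ S}

/-- An étale scheme over an étale `S`-scheme. -/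
noncomputable def etaleObj (U : S.Etale) {W : Scheme.{u}} (e : W ⟶ U.left) [Etale e] : S.Etale :=
  haveI : Etale U.hom := U.prop
  Scheme.Etale.mk (e ≫ U.hom)

/-- The morphism from `etaleObj U e`. -/
noncomputable def etaleObjHom (U : S.Etale) {W : Scheme.{u}} (e : W ⟶ U.left) [Etale e] :
    etaleObj U e ⟶ U :=
  MorphismProperty.Over.homMk e rfl

lemma val_eq_of_germ_eq (G : Bg S) (U : S.Etale) (l : Over.mk ξ ⟶ (EtFppf.a S).obj U)
    (t t' : G.obj.obj (op ((EtFppf.a S).obj U)))
    (h : shGerm ξ ((res S).obj G) U l t = shGerm ξ ((res S).obj G) U l t') :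
    G.obj.map l.op t = G.obj.map l.op t' := by
  obtain ⟨V, g, w, hw, hz⟩ := (shGerm_eq_iff ξ ((res S).obj G) U l t t').1 h
  subst hw
  show G.obj.map ((show Over.mk ξ ⟶ (EtFppf.a S).obj V from w) ≫ (EtFppf.a S).map g).op t =
    G.obj.map ((show Over.mk ξ ⟶ (EtFppf.a S).obj V from w) ≫ (EtFppf.a S).map g).op t'
  rw [map_comp_apply', map_comp_apply']
  exact congrArg (G.obj.map _) hz

lemma IsCart.germ_eq_of_val_eq (hG : IsCart G) (U : S.Etale) (l : Over.mk ξ ⟶ (EtFppf.a S).obj U)
    (t t' : G.obj.obj (op ((EtFppf.a S).obj U))) (h : G.obj.map l.op t = G.obj.map l.op t') :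
    shGerm ξ ((res S).obj G) U l t = shGerm ξ ((res S).obj G) U l t' := by
  obtain ⟨V, g, hg, ⟨v, hv⟩, h0⟩ := hG.sep ((EtFppf.a S).obj U) l.left t t' (val_eq G l h)
  obtain ⟨m, hm⟩ := exists_lift l g v hv
  have : Etale (show V.left ⟶ U.left from g.left) := hg
  let V' := etaleObj U (show V.left ⟶ U.left from g.left)
  let k : (EtFppf.a S).obj V' ⟶ V := Over.homMk (𝟙 _) ((Category.id_comp _).trans (Over.w g).symm)
  let k' : V ⟶ (EtFppf.a S).obj V' := Over.homMk (𝟙 _) ((Category.id_comp _).trans (Over.w g))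
  have hk : (EtFppf.a S).map (etaleObjHom U (show V.left ⟶ U.left from g.left)) = k ≫ g :=
    Over.OverMorphism.ext (Category.id_comp _).symm
  refine (shGerm_eq_iff ξ ((res S).obj G) U l t t').2 ⟨V', etaleObjHom U _, m ≫ k', ?_, ?_⟩
  · show (m ≫ k') ≫ (EtFppf.a S).map (etaleObjHom U _) = l
    rw [hk, ← hm]
    apply Over.OverMorphism.ext
    simp [k, k']
    erw [Category.id_comp, Category.id_comp]
  · show G.obj.map ((EtFppf.a S).map (etaleObjHom U _)).op t =
      G.obj.map ((EtFppf.a S).map (etaleObjHom U _)).op t'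
    rw [hk, map_comp_apply', map_comp_apply', h0]

/-- Germs at two neighbourhoods agree iff the values at the point do. -/
lemma IsCart.germ_eq_iff (hG : IsCart G) {U U' : S.Etale} (l : Over.mk ξ ⟶ (EtFppf.a S).obj U)
    (l' : Over.mk ξ ⟶ (EtFppf.a S).obj U') (t : G.obj.obj (op ((EtFppf.a S).obj U)))
    (t' : G.obj.obj (op ((EtFppf.a S).obj U'))) :
    shGerm ξ ((res S).obj G) U l t = shGerm ξ ((res S).obj G) U' l' t' ↔
      G.obj.map l.op t = G.obj.map l'.op t' := by
  let Φ := Scheme.pointSmallEtale ξ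
  let F := (res S).obj G
  obtain ⟨c, hc₁, hc₂⟩ := exists_prod_lift l l'
  have key₁ : shGerm ξ F (prodObj U U') c (G.obj.map ((EtFppf.a S).map (prodFst U U')).op t) =
      shGerm ξ F U l t :=
    (Φ.toPresheafFiber_w_apply (prodFst U U') c F.obj t).trans
      (congrArg (fun z => shGerm ξ F U z t) hc₁)
  have key₂ : shGerm ξ F (prodObj U U') c (G.obj.map ((EtFppf.a S).map (prodSnd U U')).op t') =
      shGerm ξ F U' l' t' :=
    (Φ.toPresheafFiber_w_apply (prodSnd U U') c F.obj t').trans
      (congrArg (fun z => shGerm ξ F U' z t') hc₂)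
  have e₁ : G.obj.map c.op (G.obj.map ((EtFppf.a S).map (prodFst U U')).op t) = G.obj.map l.op t :=
    (map_comp_apply' G _ _ t).symm.trans (map_eq_of_eq G hc₁ t)
  have e₂ : G.obj.map c.op (G.obj.map ((EtFppf.a S).map (prodSnd U U')).op t') = G.obj.map l'.op t' :=
    (map_comp_apply' G _ _ t').symm.trans (map_eq_of_eq G hc₂ t')
  rw [← key₁, ← key₂, ← e₁, ← e₂]
  exact ⟨val_eq_of_germ_eq G _ c _ _, hG.germ_eq_of_val_eq _ c _ _⟩

end small

section skyscraper

variable {Ω : Type u} [Field Ω] [IsSepClosed Ω] (ξ : Spec (CommRingCat.of Ω) ⟶ S) (M : Type (u + 1))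

/-- The skyscraper presheaf at a geometric point. -/
noncomputable def skyPre : (Over S)ᵒᵖ ⥤ Type (u + 1) where
  obj C := (Over.mk ξ ⟶ C.unop) → M
  map g := ↾fun φ l => φ (l ≫ g.unop)
  map_id C := by ext φ l; exact congrArg φ (Category.comp_id l)
  map_comp g h := by ext φ l; exact congrArg φ (Category.assoc _ _ _).symm

lemma isSheaf_skyPre : Presieve.IsSheaf (J S) (skyPre ξ M) := by
  intro C R hR x hx
  have H : ∀ l : Over.mk ξ ⟶ C, ∃ (V : Over S) (g : V ⟶ C) (_ : R g) (m : Over.mk ξ ⟶ V), m ≫ g = l := by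
    intro l
    obtain ⟨V, g, hg, het, v, hv⟩ := (mem_J_iff C R).1 hR
      ((show Spec (CommRingCat.of Ω) ⟶ C.left from l.left).base default)
    obtain ⟨m, hm⟩ := exists_lift l g v hv
    exact ⟨V, g, hg, m, hm⟩
  choose V g hg m hm using H
  refine ⟨fun l => x (g l) (hg l) (m l), fun W k hk => ?_, fun t ht => ?_⟩
  · funext l
    have h1 := congrFun (hx (m (l ≫ k)) l (hg (l ≫ k)) hk (hm (l ≫ k))) (𝟙 _)
    change x (g (l ≫ k)) (hg (l ≫ k)) (𝟙 _ ≫ m (l ≫ k)) = x k hk (𝟙 _ ≫ l) at h1
    rw [Category.id_comp, Category.id_comp] at h1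
    exact h1
  · funext l
    have := congrFun (ht (g l) (hg l)) (m l)
    refine Eq.trans ?_ this
    show t l = t (m l ≫ g l)
    rw [hm]

/-- The skyscraper sheaf. -/
noncomputable def sky : Bg S :=
  ⟨skyPre ξ M, (isSheaf_iff_isSheaf_of_type _ _).2 (isSheaf_skyPre ξ M)⟩

variable (F : EtDesc.Sh S)

/-- Germs, as a map to the skyscraper sheaf. -/
noncomputable def toSky : F ⟶ (res S).obj (sky ξ ((shStalk ξ).obj F)) :=
  ⟨{ app := fun U => ↾fun t l => shGerm ξ F U.unop l t
     naturality := fun U W g => by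
       ext t
       funext l
       exact (Scheme.pointSmallEtale ξ).toPresheafFiber_w_apply g.unop l F.obj t }⟩

lemma germ_eq_of_map (U : S.Etale) (l : Over.mk ξ ⟶ (EtFppf.a S).obj U) (t t' : F.obj.obj (op U))
    (h : ((piPull S).obj F).obj.map l.op (((piAdj S).unit.app F).hom.app (op U) t) =
      ((piPull S).obj F).obj.map l.op (((piAdj S).unit.app F).hom.app (op U) t')) :
    shGerm ξ F U l t = shGerm ξ F U l t' := by
  let ψ := ((piAdj S).homEquiv F (sky ξ ((shStalk ξ).obj F))).symm (toSky ξ F)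
  have h1 : ∀ z, shGerm ξ F U l z =
      ψ.hom.app (op (Over.mk ξ)) (((piPull S).obj F).obj.map l.op (((piAdj S).unit.app F).hom.app (op U) z))
        (𝟙 (Over.mk ξ)) := fun z => by
    have e : (toSky ξ F).hom.app (op U) z =
        ψ.hom.app (op ((EtFppf.a S).obj U)) (((piAdj S).unit.app F).hom.app (op U) z) := by
      conv_lhs => rw [← Equiv.apply_symm_apply ((piAdj S).homEquiv F _) (toSky ξ F)]
      rw [Adjunction.homEquiv_unit]
      rfl
    rw [NatTrans.naturality_apply, ← e]
    show shGerm ξ F U l z = shGerm ξ F U (𝟙 _ ≫ l) z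
    rw [Category.id_comp]
  rw [h1, h1, h]

end skyscraper

section generation

variable (F : EtDesc.Sh S)

/-- The sections coming from the small étale site. -/
noncomputable def fromSmall : Subfunctor ((piPull S).obj F).obj where
  obj C := {s | ∃ (U : S.Etale) (v : C.unop ⟶ (EtFppf.a S).obj U) (t : F.obj.obj (op U)),
    ((piPull S).obj F).obj.map v.op (((piAdj S).unit.app F).hom.app (op U) t) = s}
  map {C D} g := by
    rintro _ ⟨U, v, t, rfl⟩
    exact ⟨U, g.unop ≫ v, t, map_comp_apply' _ g.unop v _⟩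

theorem locally_fromSmall (C : Over S) (s : ((piPull S).obj F).obj.obj (op C)) (x : C.left) :
    ∃ (V : Over S) (g : V ⟶ C), Etale g.left ∧ x ∈ Set.range g.left.base ∧
      ((piPull S).obj F).obj.map g.op s ∈ (fromSmall F).obj (op V) := by
  let P := (piPull S).obj F
  let H₀ := (fromSmall F).sheafify (J S)
  let H : Bg S := ⟨H₀.toFunctor, (isSheaf_iff_isSheaf_of_type _ _).2
    ((fromSmall F).sheafify_isSheaf ((isSheaf_iff_isSheaf_of_type _ _).1 P.2))⟩
  let ι : H ⟶ P := ⟨H₀.ι⟩
  let u : F ⟶ (res S).obj H :=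
    ⟨{ app := fun U => ↾fun t => ⟨((piAdj S).unit.app F).hom.app U t,
         (fromSmall F).le_sheafify (J S) _ ⟨U.unop, 𝟙 _, t, map_id_apply' _ _ _⟩⟩
       naturality := fun U W g => ConcreteCategory.hom_ext _ _ fun t =>
         Subtype.ext (NatTrans.naturality_apply ((piAdj S).unit.app F).hom g t) }⟩
  let ψ := ((piAdj S).homEquiv F H).symm u
  have hψ : ψ ≫ ι = 𝟙 P := by
    apply ((piAdj S).homEquiv F P).injective
    rw [Adjunction.homEquiv_naturality_right, Equiv.apply_symm_apply, Adjunction.homEquiv_id]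
    rfl
  have hs : s ∈ H₀.obj (op C) := by
    have := ConcreteCategory.congr_hom (congrArg (fun k : P ⟶ P => k.hom.app (op C)) hψ) s
    exact (show _ = s from this) ▸ (ψ.hom.app (op C) s).2
  obtain ⟨V, g, hR, hg, hx⟩ := (mem_J_iff C _).1 hs x
  exact ⟨V, g, hg, hx, hR⟩

/-- Inverse images from the small site are determined by geometric points. -/
theorem isCart_piPull : IsCart ((piPull S).obj F) where
  sep C Ω _ _ ξ s t hst := by
    let P := (piPull S).obj F
    obtain ⟨V₁, g₁, hg₁, ⟨y₁, hy₁⟩, U₁, v₁, a₁, ha₁⟩ := locally_fromSmall F C s (ξ.base default)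
    obtain ⟨V₂, g₂, hg₂, ⟨y₂, hy₂⟩, U₂, v₂, a₂, ha₂⟩ := locally_fromSmall F C t (ξ.base default)
    have := hg₁
    have := hg₂
    obtain ⟨m₁, hm₁⟩ := exists_lift (ptHom C ξ) g₁ y₁ hy₁
    obtain ⟨m₂, hm₂⟩ := exists_lift (ptHom C ξ) g₂ y₂ hy₂
    obtain ⟨c, hc₁, hc₂⟩ := exists_prod_lift (m₁ ≫ v₁) (m₂ ≫ v₂)
    let p := prodFst U₁ U₂
    let q := prodSnd U₁ U₂
    have hval : P.obj.map c.op (((piAdj S).unit.app F).hom.app _ (F.obj.map p.op a₁)) =
        P.obj.map c.op (((piAdj S).unit.app F).hom.app _ (F.obj.map q.op a₂)) := by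
      refine (congrArg (P.obj.map c.op)
        (NatTrans.naturality_apply ((piAdj S).unit.app F).hom p.op a₁)).trans (Eq.trans ?_
        (congrArg (P.obj.map c.op) (NatTrans.naturality_apply ((piAdj S).unit.app F).hom q.op a₂)).symm)
      show P.obj.map c.op (P.obj.map ((EtFppf.a S).map p).op _) =
        P.obj.map c.op (P.obj.map ((EtFppf.a S).map q).op _)
      rw [← map_comp_apply', ← map_comp_apply', hc₁, hc₂, map_comp_apply', map_comp_apply']
      refine (congrArg (P.obj.map m₁.op) ha₁).trans (Eq.trans ?_ (congrArg (P.obj.map m₂.op) ha₂).symm)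
      exact ((map_comp_apply' P m₁ g₁ s).symm.trans ((map_eq_of_eq P hm₁ s).trans hst)).trans
        ((map_eq_of_eq P hm₂ t).symm.trans (map_comp_apply' P m₂ g₂ t))
    obtain ⟨W, j, w, hw, hz⟩ :=
      (shGerm_eq_iff _ F _ c _ _).1 (germ_eq_of_map _ F _ c _ _ hval)
    have : Etale j.left := inferInstance
    let A := pullback g₁.left g₂.left
    let jl : W.left ⟶ pullback U₁.hom U₂.hom := j.left
    have : Etale jl := inferInstanceAs (Etale j.left)
    let b : A ⟶ pullback U₁.hom U₂.hom := pullback.lift (pullback.fst _ _ ≫ v₁.left)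
      (pullback.snd _ _ ≫ v₂.left) (by
        show (pullback.fst g₁.left g₂.left ≫ v₁.left) ≫ U₁.hom = (pullback.snd _ _ ≫ v₂.left) ≫ U₂.hom
        have e₁ : (v₁.left : V₁.left ⟶ U₁.left) ≫ U₁.hom = V₁.hom := Over.w v₁
        have e₂ : (v₂.left : V₂.left ⟶ U₂.left) ≫ U₂.hom = V₂.hom := Over.w v₂
        rw [Category.assoc, Category.assoc, e₁, e₂, ← Over.w g₁, ← Over.w g₂, pullback.condition_assoc])
    let B := pullback b jl
    let e : B ⟶ C.left := pullback.fst b jl ≫ pullback.fst g₁.left g₂.left ≫ g₁.left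
    let k₁ : Over.mk (e ≫ C.hom) ⟶ V₁ := Over.homMk (pullback.fst b jl ≫ pullback.fst g₁.left g₂.left)
      (by
        show (_ ≫ _) ≫ V₁.hom = e ≫ C.hom
        rw [← Over.w g₁]
        simp only [e, Category.assoc])
    let k₂ : Over.mk (e ≫ C.hom) ⟶ V₂ := Over.homMk (pullback.fst b jl ≫ pullback.snd g₁.left g₂.left)
      (by
        show (_ ≫ _) ≫ V₂.hom = e ≫ C.hom
        rw [← Over.w g₂]
        simp only [e, Category.assoc, pullback.condition_assoc])
    have hk₁ : k₁ ≫ g₁ = etHom C e := Over.OverMorphism.ext (Category.assoc _ _ _)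
    have hk₂ : k₂ ≫ g₂ = etHom C e := Over.OverMorphism.ext (by
      show (_ ≫ _) ≫ g₂.left = e
      simp only [e, Category.assoc, pullback.condition])
    let r : Over.mk (e ≫ C.hom) ⟶ (EtFppf.a S).obj W := Over.homMk (pullback.snd b jl) (by
      have hj : jl ≫ pullback.fst U₁.hom U₂.hom ≫ U₁.hom = W.hom := Over.w j.hom
      show pullback.snd b jl ≫ W.hom = e ≫ C.hom
      rw [← hj, ← pullback.condition_assoc]
      have e₁ : (v₁.left : V₁.left ⟶ U₁.left) ≫ U₁.hom = V₁.hom := Over.w v₁
      simp only [b, e, pullback.lift_fst_assoc, Category.assoc]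
      exact congrArg (pullback.fst _ jl ≫ pullback.fst g₁.left g₂.left ≫ ·) (e₁.trans (Over.w g₁).symm))
    have hr₁ : r ≫ (EtFppf.a S).map j ≫ (EtFppf.a S).map p = k₁ ≫ v₁ := Over.OverMorphism.ext (by
      show pullback.snd b jl ≫ jl ≫ pullback.fst U₁.hom U₂.hom = (_ ≫ _) ≫ v₁.left
      rw [← pullback.condition_assoc]
      simp only [b, pullback.lift_fst, Category.assoc]
      rfl)
    have hr₂ : r ≫ (EtFppf.a S).map j ≫ (EtFppf.a S).map q = k₂ ≫ v₂ := Over.OverMorphism.ext (by
      show pullback.snd b jl ≫ jl ≫ pullback.snd U₁.hom U₂.hom = (_ ≫ _) ≫ v₂.left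
      rw [← pullback.condition_assoc]
      simp only [b, pullback.lift_snd, Category.assoc]
      rfl)
    have main : P.obj.map (etHom C e).op s = P.obj.map (etHom C e).op t := by
      refine (map_eq_of_eq P hk₁.symm s).trans (Eq.trans ?_ (map_eq_of_eq P hk₂ t))
      rw [map_comp_apply', map_comp_apply', ← ha₁, ← ha₂, ← map_comp_apply', ← map_comp_apply',
        ← hr₁, ← hr₂]
      simp only [map_comp_apply']
      refine congrArg (P.obj.map r.op) ?_
      have n := fun {U' : S.Etale} (k : W ⟶ U') (z : F.obj.obj (op U')) =>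
        NatTrans.naturality_apply ((piAdj S).unit.app F).hom k.op z
      have n₁ := n (j ≫ p) a₁
      have n₂ := n (j ≫ q) a₂
      rw [op_comp, Functor.map_comp_apply] at n₁ n₂
      have hz' := congrArg (((piAdj S).unit.app F).hom.app (op W)) hz
      replace hz' := (n₁.symm.trans hz').trans n₂
      rw [← map_comp_apply', ← map_comp_apply', ← Functor.map_comp, ← Functor.map_comp]
      exact hz'
    let a₀ : Spec (CommRingCat.of Ω) ⟶ A := pullback.lift m₁.left m₂.left
      ((congrArg (fun k => k.left) hm₁).trans (congrArg (fun k => k.left) hm₂).symm)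
    have hb₀ : a₀ ≫ b = (show Spec (CommRingCat.of Ω) ⟶ W.left from w.left) ≫ jl := by
      refine Eq.trans ?_ (congrArg (fun k => k.left) hw).symm
      apply pullback.hom_ext
      · refine Eq.trans ?_ (congrArg (fun k => k.left) hc₁).symm
        show (a₀ ≫ b) ≫ pullback.fst U₁.hom U₂.hom = m₁.left ≫ v₁.left
        simp only [a₀, b, Category.assoc, pullback.lift_fst, pullback.lift_fst_assoc]
        rfl
      · refine Eq.trans ?_ (congrArg (fun k => k.left) hc₂).symm
        show (a₀ ≫ b) ≫ pullback.snd U₁.hom U₂.hom = m₂.left ≫ v₂.left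
        simp only [a₀, b, Category.assoc, pullback.lift_snd, pullback.lift_snd_assoc]
        rfl
    refine ⟨_, etHom C e, ?_, ⟨(pullback.lift a₀ _ hb₀).base default, ?_⟩, main⟩
    · show Etale e
      infer_instance
    · have he : pullback.lift a₀ (show Spec (CommRingCat.of Ω) ⟶ W.left from w.left) hb₀ ≫ e = ξ := by
        simp only [e, pullback.lift_fst_assoc, a₀]
        exact congrArg (fun k => k.left) hm₁
      exact congrArg (fun k : Spec (CommRingCat.of Ω) ⟶ C.left => k.base default) he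
  lift {Ω} _ _ ξ x := by
    obtain ⟨V, g, hg, ⟨y, hy⟩, U, v, t, ht⟩ :=
      locally_fromSmall F (Over.mk ξ) x (default : Spec (CommRingCat.of Ω))
    have := hg
    obtain ⟨m, hm⟩ := exists_lift (𝟙 (Over.mk ξ)) g y hy
    refine ⟨U, m ≫ v, ((piAdj S).unit.app F).hom.app (op U) t, ?_⟩
    rw [map_comp_apply']
    exact (congrArg _ ht).trans (((map_comp_apply' _ m g x).symm.trans (map_eq_of_eq _ hm x)).trans
      (map_id_apply' _ _ x))

end generation

lemma isIso_unit (F : EtDesc.Sh S) : IsIso ((piAdj S).unit.app F) := by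
  haveI : (EtFppf.a S).Full := inferInstanceAs (Scheme.Etale.forget S).Full
  haveI : (EtFppf.a S).Faithful := inferInstanceAs (Scheme.Etale.forget S).Faithful
  exact Groth.SiteCohomology.isIso_sheafAdjunctionContinuous_unit_app _ _ _ _ F

/-- A morphism between sheaves determined by geometric points is an isomorphism if its restriction
to the small étale site is one. -/
theorem isIso_of_isIso_res {G H : Bg S} (hG : IsCart G) (hH : IsCart H) (φ : G ⟶ H)
    [IsIso ((res S).map φ)] : IsIso φ := by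
  have hb : ∀ U : S.Etale, Function.Bijective (φ.hom.app (op ((EtFppf.a S).obj U))) := fun U =>
    (isIso_iff_bijective _).1
      (inferInstanceAs (IsIso (((sheafToPresheaf _ _).map ((res S).map φ)).app (op U))))
  have nat : ∀ {C D : Over S} (g : C ⟶ D) (s : G.obj.obj (op D)),
      φ.hom.app (op C) (G.obj.map g.op s) = H.obj.map g.op (φ.hom.app (op D) s) :=
    fun g s => NatTrans.naturality_apply φ.hom g.op s
  have injpt : ∀ {Ω : Type u} [Field Ω] [IsAlgClosed Ω] (ξ : Spec (CommRingCat.of Ω) ⟶ S),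
      Function.Injective (φ.hom.app (op (Over.mk ξ))) := by
    intro Ω _ _ ξ x y hxy
    obtain ⟨U, l, t, rfl⟩ := hG.lift ξ x
    obtain ⟨U', l', t', rfl⟩ := hG.lift ξ y
    rw [← hG.germ_eq_iff]
    rw [nat, nat, ← hH.germ_eq_iff] at hxy
    have hmap : ∀ (W : S.Etale) (w : Over.mk ξ ⟶ (EtFppf.a S).obj W)
        (z : G.obj.obj (op ((EtFppf.a S).obj W))),
        (shStalk ξ).map ((res S).map φ) (shGerm ξ ((res S).obj G) W w z) =
          shGerm ξ ((res S).obj H) W w (φ.hom.app _ z) := fun W w z =>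
      Groth.DescentBase.shGerm_map ξ ((res S).map φ) W w z
    exact ((isIso_iff_bijective ((shStalk ξ).map ((res S).map φ))).1 inferInstance).1
      ((hmap U l t).trans (hxy.trans (hmap U' l' t').symm))
  have surjpt : ∀ {Ω : Type u} [Field Ω] [IsAlgClosed Ω] (ξ : Spec (CommRingCat.of Ω) ⟶ S)
      (x : H.obj.obj (op (Over.mk ξ))), ∃ (U : S.Etale) (l : Over.mk ξ ⟶ (EtFppf.a S).obj U)
        (t : G.obj.obj (op ((EtFppf.a S).obj U))), H.obj.map l.op (φ.hom.app _ t) = x := by
    intro Ω _ _ ξ x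
    obtain ⟨U, l, t, rfl⟩ := hH.lift ξ x
    obtain ⟨t₀, rfl⟩ := (hb U).2 t
    exact ⟨U, l, t₀, rfl⟩
  have inj : ∀ C : Over S, Function.Injective (φ.hom.app (op C)) := by
    intro C s t hst
    refine hG.ext s t fun x => injpt _ ?_
    show φ.hom.app _ _ = φ.hom.app _ _
    rw [nat, nat, hst]
  have hmono : Mono φ := by
    refine (Functor.mono_map_iff_mono (sheafToPresheaf _ _) φ).1 ?_
    have : ∀ c, Mono (((sheafToPresheaf (J S) (Type (u + 1))).map φ).app c) :=
      fun c => (mono_iff_injective _).2 (inj c.unop)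
    exact NatTrans.mono_of_mono_app _
  have hsurj : Sheaf.IsLocallySurjective φ := ⟨fun {C} s => by
    rw [mem_J_iff]
    intro x
    let ξ := acPoint x
    obtain ⟨U, l, t₀, ht⟩ := surjpt (ξ ≫ C.hom) (H.obj.map (ptHom C ξ).op s)
    have : Etale U.hom := U.prop
    let D : Over S := Over.mk (pullback.fst C.hom U.hom ≫ C.hom)
    let p : D ⟶ C := Over.homMk (pullback.fst _ _)
    let q : D ⟶ (EtFppf.a S).obj U := Over.homMk (pullback.snd _ _) pullback.condition.symm
    let ξ' : Spec (CommRingCat.of (AlgebraicClosure (C.left.residueField x))) ⟶ D.left :=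
      pullback.lift ξ l.left (Over.w l).symm
    let k : ptObj D ξ' ⟶ ptObj C ξ := Over.homMk (𝟙 _)
      ((Category.id_comp _).trans (pullback.lift_fst_assoc _ _ _ _).symm)
    have hp : ptHom D ξ' ≫ p = k ≫ ptHom C ξ :=
      Over.OverMorphism.ext ((pullback.lift_fst _ _ _).trans (Category.id_comp _).symm)
    have hq : ptHom D ξ' ≫ q = k ≫ l :=
      Over.OverMorphism.ext ((pullback.lift_snd _ _ _).trans (Category.id_comp _).symm)
    have hd : H.obj.map (ptHom D ξ').op (H.obj.map p.op s) =
        H.obj.map (ptHom D ξ').op (H.obj.map q.op (φ.hom.app _ t₀)) := by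
      rw [← map_comp_apply', ← map_comp_apply', hp, hq, map_comp_apply', map_comp_apply', ht]
    obtain ⟨V, g, hg, ⟨y, hy⟩, hz⟩ := hH.sep D ξ' _ _ hd
    refine ⟨V, g ≫ p, ⟨G.obj.map (g ≫ q).op t₀, ?_⟩, ?_, y, ?_⟩
    · show φ.hom.app (op V) (G.obj.map (g ≫ q).op t₀) = H.obj.map (g ≫ p).op s
      rw [nat, map_comp_apply', map_comp_apply', hz]
    · have : Etale g.left := hg
      show Etale (g.left ≫ pullback.fst C.hom U.hom)
      infer_instance
    · show (g.left ≫ pullback.fst C.hom U.hom).base y = x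
      rw [Scheme.Hom.comp_apply, hy, ← Scheme.Hom.comp_apply, pullback.lift_fst]
      exact acPoint_apply x _⟩
  have : Epi φ := inferInstance
  exact isIso_of_mono_of_epi φ

/-- A sheaf determined by geometric points is the inverse image of its restriction. -/
theorem isIso_counit (hG : IsCart G) : IsIso ((piAdj S).counit.app G) := by
  have : IsIso ((piAdj S).unit.app ((res S).obj G)) := isIso_unit _
  have : IsIso ((res S).map ((piAdj S).counit.app G)) := by
    have h := (piAdj S).right_triangle_components G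
    exact IsIso.of_isIso_fac_left h
  exact isIso_of_isIso_res (isCart_piPull _) hG _

end Groth.SiteCohomology.BigCartSet
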