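import Groth.Agent.SiteCohomology.Skyscraper
import Groth.Agent.SiteCohomology.ExtBasic
import Mathlib.Algebra.Category.Grp.ForgetCorepresentable

/-!
# `H¹` of constant sheaves is left exact
-/

universe u

open CategoryTheory Limits Opposite Abelian

set_option synthInstance.maxHeartbeats 400000

namespace Groth.SiteCohomology

lemma mk₀_comp_g_comp_extClass {A : Type*} [Category A] [Abelian A] [HasExt A]
    {S : ShortComplex A} (hS : S.ShortExact) {X : A} (ψ : X ⟶ S.X₂) :
    (Ext.mk₀ (ψ ≫ S.g)).comp hS.extClass (zero_add 1) = 0 := by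
  rw [← Ext.mk₀_comp_mk₀, Ext.comp_assoc_of_second_deg_zero, hS.comp_extClass, Ext.comp_zero]

variable {C : Type u} [SmallCategory C] (J : GrothendieckTopology C)

/-- Morphisms out of the constant sheaf `ℤ` lift along constant surjections. -/
theorem exists_lift_constantSheaf_int {B D : AddCommGrpCat.{u}} (g : B ⟶ D)
    (hg : Function.Surjective g)
    (φ : (constantSheaf J AddCommGrpCat.{u}).obj (AddCommGrpCat.of (ULift.{u} ℤ)) ⟶
      (constantSheaf J AddCommGrpCat.{u}).obj D) :
    ∃ ψ, ψ ≫ (constantSheaf J AddCommGrpCat.{u}).map g = φ := by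
  obtain ⟨σ, hσ⟩ := exists_set_section_constantSheaf (J := J) g hg
  let K := (constantSheaf J AddCommGrpCat.{u})
  let e := (sheafificationAdjunction J AddCommGrpCat.{u}).homEquiv
    ((Functor.const Cᵒᵖ).obj (AddCommGrpCat.of (ULift.{u} ℤ))) (K.obj D)
  let e' := (sheafificationAdjunction J AddCommGrpCat.{u}).homEquiv
    ((Functor.const Cᵒᵖ).obj (AddCommGrpCat.of (ULift.{u} ℤ))) (K.obj B)
  let s : ∀ V : Cᵒᵖ, (K.obj B).obj.obj V := fun V =>
    σ.hom.app V (((e φ).app V) (ULift.up 1))
  let t : (Functor.const Cᵒᵖ).obj (AddCommGrpCat.of (ULift.{u} ℤ)) ⟶ (K.obj B).obj :=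
    { app := fun V => AddCommGrpCat.ofHom (uliftZMultiplesHom _ (s V))
      naturality := fun V W m => by
        refine AddCommGrpCat.hom_ext (AddMonoidHom.ext fun n => ?_)
        obtain ⟨n⟩ := n
        change n • s W = (K.obj B).obj.map m (n • s V)
        rw [map_zsmul]
        congr 1
        refine (congrArg (σ.hom.app W) ?_).trans (NatTrans.naturality_apply σ.hom m _)
        exact congrArg (fun k => k (ULift.up (1 : ℤ))) ((e φ).naturality m) }
  refine ⟨e'.symm t, e.injective ?_⟩
  refine (Adjunction.homEquiv_naturality_right _ _ _).trans ?_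
  refine (congrArg (· ≫ _) (Equiv.apply_symm_apply e' t)).trans ?_
  ext V n
  obtain ⟨n⟩ := n
  change (K.map g).hom.app V (n • s V) = _
  have h1 : (K.map g).hom.app V (s V) = (e φ).app V (ULift.up 1) :=
    congrArg (fun k => k.hom.app V ((e φ).app V (ULift.up (1 : ℤ)))) hσ
  rw [map_zsmul, h1, ← map_zsmul]
  congr 1
  exact ULift.ext _ _ (by simp)

/-- An injective map of groups induces an injection on `H¹` of constant sheaves. -/
theorem injective_H1_map_constantSheaf {A B : Type u} [AddCommGroup A] [AddCommGroup B]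
    (f : A →+ B) (hf : Function.Injective f) :
    Function.Injective
      (Sheaf.H.map ((constantSheaf J AddCommGrpCat.{u}).map (AddCommGrpCat.ofHom f)) 1) := by
  let f' := AddCommGrpCat.ofHom f
  haveI : Mono f' := (AddCommGrpCat.mono_iff_injective _).2 hf
  let S₀ : ShortComplex AddCommGrpCat.{u} := ShortComplex.mk f' (cokernel.π f') (cokernel.condition _)
  have hS₀ : S₀.ShortExact := ShortComplex.ShortExact.mk'
    (S₀.exact_of_g_is_cokernel (cokernelIsCokernel _)) inferInstance inferInstance
  haveI : PreservesFiniteLimits (constantSheaf J AddCommGrpCat.{u}) :=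
    inferInstanceAs (PreservesFiniteLimits (Functor.const Cᵒᵖ ⋙ presheafToSheaf J AddCommGrpCat.{u}))
  haveI : PreservesFiniteColimits (constantSheaf J AddCommGrpCat.{u}) :=
    inferInstanceAs (PreservesFiniteColimits
      (Functor.const Cᵒᵖ ⋙ presheafToSheaf J AddCommGrpCat.{u}))
  haveI : (constantSheaf J AddCommGrpCat.{u}).Additive :=
    Functor.additive_of_preserves_binary_products _
  have hS := hS₀.map_of_exact (constantSheaf J AddCommGrpCat.{u})
  refine (injective_iff_map_eq_zero _).2 fun e he => ?_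
  obtain ⟨x, hx⟩ := Ext.covariant_sequence_exact₁ _ hS e he (zero_add 1)
  obtain ⟨φ, rfl⟩ := (Ext.mk₀_bijective _ _).2 x
  obtain ⟨ψ, hψ⟩ := exists_lift_constantSheaf_int J (cokernel.π f')
    ((AddCommGrpCat.epi_iff_surjective _).1 inferInstance) φ
  have hψ' : ψ ≫ (S₀.map (constantSheaf J AddCommGrpCat.{u})).g = φ := hψ
  rw [← hx, ← hψ']
  exact mk₀_comp_g_comp_extClass hS ψ

end Groth.SiteCohomology
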