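import Groth.Agent.SiteCohomology.Flasque
import Groth.Agent.SiteCohomology.ClosedPush
import Mathlib.CategoryTheory.Sites.ConstantSheaf
import Mathlib.CategoryTheory.Subobject.Limits
import Mathlib.CategoryTheory.Abelian.Images
import Mathlib.GroupTheory.Archimedean

/-!
# Constant sheaves on irreducible spaces
-/

universe v w u

open CategoryTheory Limits Opposite TopologicalSpace

set_option maxHeartbeats 1000000

namespace Groth.SiteCohomology

lemma imageSubobject_le_of_comp_cokernel {C : Type w} [Category.{v} C] [Abelian C] {X Y Z : C}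
    (f : X ⟶ Z) (g : Y ⟶ Z) (h : f ≫ cokernel.π g = 0) :
    imageSubobject f ≤ imageSubobject g := by
  refine imageSubobject_le f (kernel.lift (cokernel.π g) f h ≫ (Abelian.imageIsoImage g).hom ≫
    (imageSubobjectIso g).inv) ?_
  rw [Category.assoc, Category.assoc, imageSubobject_arrow']
  have : (Abelian.imageIsoImage g).hom ≫ image.ι g = Abelian.image.ι g :=
    Abelian.imageIsoImage_hom_comp_image_ι g
  rw [this]
  exact kernel.lift_ι _ _ _

variable {X : TopCat.{u}} (A : Type u) [AddCommGroup A]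

/-- The unit from constants to sections of the constant sheaf. -/
noncomputable def constSec (U : Opens X) : A →+ (CohTop.const X A).obj.obj (op U) :=
  ((toSheafify (Opens.grothendieckTopology X)
    ((Functor.const (Opens X)ᵒᵖ).obj (AddCommGrpCat.of A))).app (op U)).hom

lemma map_constSec {U V : Opens X} (i : V ⟶ U) (a : A) :
    (CohTop.const X A).obj.map i.op (constSec A U a) = constSec A V a :=
  (congrArg (fun k => k a) ((toSheafify (Opens.grothendieckTopology X)
    ((Functor.const (Opens X)ᵒᵖ).obj (AddCommGrpCat.of A))).naturality i.op)).symm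

lemma constSec_injective {U : Opens X} (hU : U ≠ ⊥) : Function.Injective (constSec A U) := by
  intro a b h
  obtain ⟨x, hx⟩ : ∃ x, x ∈ U := by
    by_contra hn
    exact hU (le_bot_iff.1 fun x hx => hn ⟨x, hx⟩)
  obtain ⟨V, i, hi, -⟩ := Presheaf.equalizerSieve_mem (Opens.grothendieckTopology X)
    (toSheafify (Opens.grothendieckTopology X)
      ((Functor.const (Opens X)ᵒᵖ).obj (AddCommGrpCat.of A))) (X := op U) a b h x hx
  exact hi

variable [IrreducibleSpace X]

omit A in
lemma inf_ne_bot_of_irreducible {U V : Opens X} (hU : U ≠ ⊥) (hV : V ≠ ⊥) : U ⊓ V ≠ ⊥ := by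
  have ne : ∀ {W : Opens X}, W ≠ ⊥ → (W : Set X).Nonempty := fun {W} hW => by
    rw [Set.nonempty_iff_ne_empty]
    exact fun e => hW (Opens.ext e)
  obtain ⟨x, hx⟩ := nonempty_preirreducible_inter U.2 V.2 (ne hU) (ne hV)
  intro e
  exact absurd (e.le hx) (fun h => h)

lemma constSec_surjective {U : Opens X} (hU : U ≠ ⊥) : Function.Surjective (constSec A U) := by
  intro s
  let η := toSheafify (Opens.grothendieckTopology X)
    ((Functor.const (Opens X)ᵒᵖ).obj (AddCommGrpCat.of A))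
  have hloc : ∀ x : U, ∃ (V : Opens X) (i : V ⟶ U) (a : A), x.1 ∈ V ∧
      constSec A V a = (CohTop.const X A).obj.map i.op s := fun x => by
    obtain ⟨V, i, ⟨a, ha⟩, hxV⟩ :=
      Presheaf.imageSieve_mem (Opens.grothendieckTopology X) η (U := op U) s x.1 x.2
    exact ⟨V, i, a, hxV, ha⟩
  choose V i a hxV ha using hloc
  obtain ⟨x₀, hx₀⟩ : ∃ x, x ∈ U := by
    by_contra hn
    exact hU (le_bot_iff.1 fun x hx => hn ⟨x, hx⟩)
  have hne : ∀ x, V x ≠ ⊥ := fun x e => absurd (e.le (hxV x)) (fun h => h)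
  refine ⟨a ⟨x₀, hx₀⟩, ?_⟩
  refine TopCat.Sheaf.eq_of_locally_eq' (C := AddCommGrpCat.{u}) (CohTop.const X A) V U i
    (fun x hx => Opens.mem_iSup.2 ⟨⟨x, hx⟩, hxV _⟩) _ _ fun x => ?_
  have e : a ⟨x₀, hx₀⟩ = a x := by
    refine constSec_injective A (inf_ne_bot_of_irreducible (hne ⟨x₀, hx₀⟩) (hne x)) ?_
    rw [← map_constSec A (homOfLE inf_le_left : V ⟨x₀, hx₀⟩ ⊓ V x ⟶ _), ha,
      ← map_constSec A (homOfLE inf_le_right : V ⟨x₀, hx₀⟩ ⊓ V x ⟶ _), ha]
    refine (ConcreteCategory.congr_hom ((CohTop.const X A).obj.map_comp _ _) s).symm.trans ?_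
    refine Eq.trans ?_ (ConcreteCategory.congr_hom ((CohTop.const X A).obj.map_comp _ _) s)
    exact congrArg (fun k => (CohTop.const X A).obj.map k s)
      (Quiver.Hom.unop_inj (Subsingleton.elim _ _))
  rw [e]
  exact (map_constSec A (i x) (a x)).trans (ha x)

/-- Constant sheaves on irreducible spaces are flasque. -/
theorem isFlasque_const : TopCat.Sheaf.IsFlasque (CohTop.const X A) := by
  rw [isFlasque_iff_surjective]
  intro U V i s
  by_cases hV : V = ⊥
  · haveI := subsingleton_sections_of_le_bot (CohTop.const X A) V hV.le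
    exact ⟨0, Subsingleton.elim _ _⟩
  · obtain ⟨a, rfl⟩ := constSec_surjective A hV s
    exact ⟨constSec A U a, map_constSec A i a⟩

/-- Subsheaves of the constant sheaf `ℤ` on an irreducible space are `dℤ` on some nonempty open. -/
theorem exists_subsheaf_const_eq (H : CohTop.Ab X) (ι : H ⟶ CohTop.const X (ULift.{u} ℤ)) :
    ∃ (U : Opens X) (d : ℤ), U ≠ ⊥ ∧
      imageSubobject ((CohTop.restrFunctor U).map ι) =
        imageSubobject ((CohTop.restrFunctor U).map (d • 𝟙 (CohTop.const X (ULift.{u} ℤ)))) := by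
  let c : ∀ U : Opens X, ℤ →+ (CohTop.const X (ULift.{u} ℤ)).obj.obj (op U) := fun U =>
    (constSec (ULift.{u} ℤ) U).comp AddEquiv.ulift.symm.toAddMonoidHom
  have hc : ∀ {U V : Opens X} (i : V ⟶ U) (a : ℤ),
      (CohTop.const X (ULift.{u} ℤ)).obj.map i.op (c U a) = c V a :=
    fun i a => map_constSec _ i _
  let D : {U : Opens X // U ≠ ⊥} → AddSubgroup ℤ := fun U =>
    (ι.hom.app (op U.1)).hom.range.comap (c U.1)
  have hD : ∀ (U V : {U : Opens X // U ≠ ⊥}), V.1 ≤ U.1 → D U ≤ D V := by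
    rintro U V h a ⟨s, hs⟩
    refine ⟨H.obj.map (homOfLE h).op s, ?_⟩
    refine (congrArg (fun k => k s) (ι.hom.naturality (homOfLE h).op)).trans ?_
    exact (congrArg ((CohTop.const X (ULift.{u} ℤ)).obj.map (homOfLE h).op) hs).trans (hc _ a)
  have hdir : Directed (· ≤ ·) D := fun U V =>
    ⟨⟨U.1 ⊓ V.1, inf_ne_bot_of_irreducible U.2 V.2⟩, hD U _ inf_le_left, hD V _ inf_le_right⟩
  haveI : Nonempty {U : Opens X // U ≠ ⊥} := ⟨⟨⊤, fun e => absurd
    (e.le (Opens.mem_top (Classical.arbitrary X))) (fun h => h)⟩⟩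
  obtain ⟨d, hd⟩ := Int.subgroup_cyclic (⨆ U, D U)
  obtain ⟨U, hU⟩ := (AddSubgroup.mem_iSup_of_directed hdir).1
    (hd.ge (AddSubgroup.subset_closure (Set.mem_singleton d)))
  refine ⟨U.1, d, U.2, ?_⟩
  have hsmul : ∀ (W : Opens X) (b : ℤ),
      ((d • 𝟙 (CohTop.const X (ULift.{u} ℤ))).hom.app (op W)) (c W b) = c W (d * b) := by
    intro W b
    have : ((sheafToPresheaf _ AddCommGrpCat.{u}) ⋙ (evaluation _ _).obj (op W)).map
        (d • 𝟙 (CohTop.const X (ULift.{u} ℤ))) = d • 𝟙 _ := by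
      rw [Functor.map_zsmul, CategoryTheory.Functor.map_id]
    refine (congrArg (fun k => k (c W b)) this).trans ?_
    change d • (c W b) = _
    rw [← map_zsmul, smul_eq_mul]
  have key : ∀ (W : Opens X), W ≤ U.1 → ∀ t : (CohTop.const X (ULift.{u} ℤ)).obj.obj (op W),
      (t ∈ (ι.hom.app (op W)).hom.range) ↔
        t ∈ ((d • 𝟙 (CohTop.const X (ULift.{u} ℤ))).hom.app (op W)).hom.range := by
    intro W hW t
    by_cases hW' : W = ⊥
    · haveI := subsingleton_sections_of_le_bot (CohTop.const X (ULift.{u} ℤ)) W hW'.le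
      exact ⟨fun _ => ⟨0, Subsingleton.elim _ _⟩, fun _ => ⟨0, Subsingleton.elim _ _⟩⟩
    obtain ⟨⟨a⟩, rfl⟩ := constSec_surjective (ULift.{u} ℤ) hW' t
    change c W a ∈ _ ↔ c W a ∈ _
    constructor
    · intro ht
      have ha' : a ∈ D ⟨W, hW'⟩ := ht
      have ha : a ∈ ⨆ V, D V := AddSubgroup.mem_iSup_of_mem ⟨W, hW'⟩ ha'
      rw [hd] at ha
      obtain ⟨b, rfl⟩ := AddSubgroup.mem_closure_singleton.1 ha
      exact ⟨c W b, (hsmul W b).trans (by rw [smul_eq_mul, mul_comm])⟩
    · rintro ⟨t', ht'⟩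
      obtain ⟨⟨b⟩, rfl⟩ := constSec_surjective (ULift.{u} ℤ) hW' t'
      have hab : c W a = c W (d * b) := ht'.symm.trans (hsmul W b)
      rw [hab]
      have hdW : d ∈ D ⟨W, hW'⟩ := hD U _ hW hU
      have := AddSubgroup.zsmul_mem _ hdW b
      rw [smul_eq_mul, mul_comm] at this
      exact this
  have himg : ∀ W : Opens (TopCat.of U.1), ((U.1.isOpenEmbedding).isOpenMap.functor.obj W) ≤ U.1 := by
    rintro W x ⟨y, -, rfl⟩
    exact y.2
  have main : ∀ {H₁ H₂ : CohTop.Ab X} (f : H₁ ⟶ CohTop.const X (ULift.{u} ℤ))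
      (g : H₂ ⟶ CohTop.const X (ULift.{u} ℤ)),
      (∀ W : Opens X, W ≤ U.1 → ∀ s, f.hom.app (op W) s ∈ (g.hom.app (op W)).hom.range) →
      imageSubobject ((CohTop.restrFunctor U.1).map f) ≤
        imageSubobject ((CohTop.restrFunctor U.1).map g) := by
    intro H₁ H₂ f g h
    refine imageSubobject_le_of_comp_cokernel _ _ (Sheaf.hom_ext (NatTrans.ext (funext fun W => ?_)))
    refine AddCommGrpCat.hom_ext (AddMonoidHom.ext fun s => ?_)
    obtain ⟨t, ht⟩ := h _ (himg W.unop) s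
    refine (congrArg ((cokernel.π ((CohTop.restrFunctor U.1).map g)).hom.app W) ht.symm).trans ?_
    exact congrArg (fun k : (CohTop.restrFunctor U.1).obj H₂ ⟶ _ => k.hom.app W t)
      (cokernel.condition ((CohTop.restrFunctor U.1).map g))
  exact le_antisymm (main _ _ fun W hW s => (key W hW _).1 ⟨s, rfl⟩)
    (main _ _ fun W hW s => (key W hW _).2 ⟨s, rfl⟩)

end Groth.SiteCohomology
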