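import Groth.Agent.SiteCohomology.Free
import Groth.Agent.SiteCohomology.HK
import Mathlib.CategoryTheory.Limits.FormalCoproducts.Basic

/-!
# Coproducts of representable presheaves attached to formal coproducts
-/

universe u v' u'

open CategoryTheory Limits Opposite

set_option synthInstance.maxHeartbeats 400000
set_option maxHeartbeats 1000000

namespace Groth.SiteCohomology

variable {C : Type u} [SmallCategory C] {D : Type u'} [Category.{v'} D] (Φ : D ⥤ C)

/-- The presheaf `∐ i, h_{Φ (A i)}`. -/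
def coprodPresheaf : FormalCoproduct.{u} D ⥤ (Cᵒᵖ ⥤ Type u) where
  obj A :=
    { obj := fun c => Σ i : A.I, unop c ⟶ Φ.obj (A.obj i)
      map := fun g => TypeCat.ofHom fun x => ⟨x.1, g.unop ≫ x.2⟩
      map_id := fun c => by
        refine ConcreteCategory.hom_ext _ _ fun x => ?_
        exact Sigma.ext rfl (heq_of_eq (by simp))
      map_comp := fun g h => by
        refine ConcreteCategory.hom_ext _ _ fun x => ?_
        exact Sigma.ext rfl (heq_of_eq (by simp)) }
  map f :=
    { app := fun c => TypeCat.ofHom fun x => ⟨f.f x.1, x.2 ≫ Φ.map (f.φ x.1)⟩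
      naturality := fun c c' g => by
        refine ConcreteCategory.hom_ext _ _ fun x => ?_
        exact Sigma.ext rfl (heq_of_eq (by simp)) }
  map_id A := by
    refine NatTrans.ext (funext fun c => ConcreteCategory.hom_ext _ _ fun x => ?_)
    exact Sigma.ext rfl (heq_of_eq (by simp))
  map_comp f g := by
    refine NatTrans.ext (funext fun c => ConcreteCategory.hom_ext _ _ fun x => ?_)
    exact Sigma.ext rfl (heq_of_eq (by simp))

/-- The coproduct inclusion. -/
def coprodι (A : FormalCoproduct.{u} D) (i : A.I) :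
    yoneda.obj (Φ.obj (A.obj i)) ⟶ (coprodPresheaf Φ).obj A where
  app _ := TypeCat.ofHom fun h => ⟨i, h⟩

lemma coprodι_map {A B : FormalCoproduct.{u} D} (f : A ⟶ B) (i : A.I) :
    coprodι Φ A i ≫ (coprodPresheaf Φ).map f =
      yoneda.map (Φ.map (f.φ i)) ≫ coprodι Φ B (f.f i) := by
  ext c h
  rfl

variable (J : GrothendieckTopology C) (F : Sheaf J AddCommGrpCat.{u})

/-- The free sheaf functor on formal coproducts. -/
noncomputable abbrev freeCoprod : FormalCoproduct.{u} D ⥤ Sheaf J AddCommGrpCat.{u} :=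
  coprodPresheaf Φ ⋙ freeSh J

lemma evalGen_freeSh_map {U : C} {P : Cᵒᵖ ⥤ Type u} (m : yoneda.obj U ⟶ P)
    (φ : (freeSh J).obj P ⟶ F) :
    CohFree.evalGen J U F ((freeSh J).map m ≫ φ) =
      ((freeShAdj J).homEquiv P F φ).app (op U) (m.app (op U) (𝟙 U)) := by
  have h : (freeShAdj J).homEquiv (yoneda.obj U) F ((freeSh J).map m ≫ φ) =
      m ≫ (freeShAdj J).homEquiv P F φ := Adjunction.homEquiv_naturality_left _ _ _
  refine Eq.trans ?_ (congrArg (fun z => z.app (op U) (𝟙 U)) h)
  simp [freeShAdj, CohFree.evalGen, CohFree.gen, Adjunction.comp]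
  rfl

/-- Evaluation on the summands of a morphism out of the free sheaf on a coproduct. -/
noncomputable def evCoprod (A : FormalCoproduct.{u} D) (i : A.I) :
    ((freeCoprod Φ J).obj A ⟶ F) →+ F.obj.obj (op (Φ.obj (A.obj i))) :=
  (CohFree.evalGen J _ F).comp (Preadditive.leftComp F ((freeSh J).map (coprodι Φ A i)))

lemma evCoprod_apply (A : FormalCoproduct.{u} D) (i : A.I)
    (φ : (freeCoprod Φ J).obj A ⟶ F) :
    evCoprod Φ J F A i φ = ((freeShAdj J).homEquiv _ F φ).app (op (Φ.obj (A.obj i))) ⟨i, 𝟙 _⟩ :=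
  evalGen_freeSh_map J F (coprodι Φ A i) φ

lemma bijective_evCoprod (A : FormalCoproduct.{u} D) :
    Function.Bijective fun φ (i : A.I) => evCoprod Φ J F A i φ := by
  constructor
  · intro φ ψ h
    apply ((freeShAdj J).homEquiv _ F).injective
    ext c ⟨i, g⟩
    have h1 := congrFun h i
    simp only [evCoprod_apply] at h1
    have key : ∀ χ : (coprodPresheaf Φ).obj A ⟶ F.obj ⋙ forget AddCommGrpCat.{u},
        χ.app c ⟨i, g⟩ = F.obj.map g.op (χ.app (op (Φ.obj (A.obj i))) ⟨i, 𝟙 _⟩) := fun χ => by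
      refine Eq.trans ?_ (congrArg (fun k => k ⟨i, 𝟙 _⟩) (χ.naturality g.op))
      change χ.app c ⟨i, g⟩ = χ.app c ⟨i, g ≫ 𝟙 _⟩
      rw [Category.comp_id]
    exact ((key _).trans (congrArg _ h1)).trans (key _).symm
  · intro x
    let χ : (coprodPresheaf Φ).obj A ⟶ F.obj ⋙ forget AddCommGrpCat.{u} :=
      { app := fun c => TypeCat.ofHom fun p => F.obj.map p.2.op (x p.1)
        naturality := fun c c' g => by
          ext p
          exact congrArg (fun k => k (x p.1)) (F.obj.map_comp p.2.op g) }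
    refine ⟨((freeShAdj J).homEquiv _ F).symm χ, funext fun i => ?_⟩
    refine (evCoprod_apply Φ J F A i _).trans ?_
    rw [Equiv.apply_symm_apply]
    exact congrArg (fun k => k (x i)) (F.obj.map_id _)

lemma evCoprod_map {A B : FormalCoproduct.{u} D} (f : A ⟶ B) (i : A.I)
    (φ : (freeCoprod Φ J).obj B ⟶ F) :
    evCoprod Φ J F A i ((freeCoprod Φ J).map f ≫ φ) =
      F.obj.map (Φ.map (f.φ i)).op (evCoprod Φ J F B (f.f i) φ) := by
  change CohFree.evalGen J _ F ((freeSh J).map (coprodι Φ A i) ≫ (freeSh J).map ((coprodPresheaf Φ).map f) ≫ φ) = _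
  rw [← Category.assoc, ← Functor.map_comp, coprodι_map, Functor.map_comp, Category.assoc]
  exact CohFree.evalGen_freeSheafMap_comp J _ F _

/-- Morphisms out of free sheaves on coproducts are families of sections. -/
noncomputable def homCoprodToEval :
    (freeCoprod Φ J).op ⋙ preadditiveYoneda.obj F ⟶
      (FormalCoproduct.evalOp.{u} D AddCommGrpCat.{u}).obj (Φ.op ⋙ F.obj) where
  app A := Pi.lift fun i => AddCommGrpCat.ofHom (evCoprod Φ J F A.unop i)
  naturality A B f := by
    refine Pi.hom_ext _ _ fun i => ?_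
    have e1 : ∀ {P Q : AddCommGrpCat.{u}} {ι : Type u} {Z : ι → AddCommGrpCat.{u}}
        (a : P ⟶ Q) (g : ∀ i, Q ⟶ Z i) (i : ι), (a ≫ Pi.lift g) ≫ Pi.π Z i = a ≫ g i :=
      fun a g i => by simp
    refine (e1 _ _ i).trans (Eq.trans ?_ (e1
      (Pi.lift fun j => AddCommGrpCat.ofHom (evCoprod Φ J F A.unop j))
      (fun k => Pi.π (fun j => (Φ.op ⋙ F.obj).obj (op (A.unop.obj j))) (f.unop.f k) ≫
        (Φ.op ⋙ F.obj).map (f.unop.φ k).op) i).symm)
    refine Eq.trans ?_ ((congrArg (· ≫ F.obj.map (Φ.map (f.unop.φ i)).op)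
      (Pi.lift_π (fun j => AddCommGrpCat.ofHom (evCoprod Φ J F A.unop j)) (f.unop.f i))).symm.trans
      (Category.assoc _ _ _))
    ext φ
    exact evCoprod_map Φ J F f.unop i φ

instance isIso_homCoprodToEval : IsIso (homCoprodToEval Φ J F) := by
  have : ∀ A, IsIso ((homCoprodToEval Φ J F).app A) := fun A => by
    rw [ConcreteCategory.isIso_iff_bijective]
    let e := (Concrete.productEquiv fun i : A.unop.I => F.obj.obj (op (Φ.obj (A.unop.obj i))))
    have he : e ∘ ((homCoprodToEval Φ J F).app A) = fun φ i => evCoprod Φ J F A.unop i φ := by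
      funext φ i
      refine (Concrete.productEquiv_apply_apply _ _ _).trans ?_
      exact congrArg (fun k => k φ) (Pi.lift_π (fun i => AddCommGrpCat.ofHom (evCoprod Φ J F A.unop i)) i)
    have h2 := bijective_evCoprod Φ J F A.unop
    rw [← he] at h2
    exact (Function.Bijective.of_comp_iff' e.bijective _).1 h2
  exact NatIso.isIso_of_isIso_app _

end Groth.SiteCohomology

namespace Groth.SiteCohomology

variable {C : Type u} [SmallCategory C] {D : Type u'} [Category.{v'} D] (Φ : D ⥤ C)
  (J : GrothendieckTopology C) (F : Sheaf J AddCommGrpCat.{u})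

/-- The free sheaf on a coproduct is the coproduct of the free sheaves. -/
theorem nonempty_isColimit_freeCoprod (A : FormalCoproduct.{u} D) :
    Nonempty (IsColimit (Cofan.mk ((freeCoprod Φ J).obj A)
      fun i : A.I => (freeSh J).map (coprodι Φ A i))) := by
  have h : ∀ (G : Sheaf J AddCommGrpCat.{u})
      (f : ∀ i : A.I, (freeSh J).obj (yoneda.obj (Φ.obj (A.obj i))) ⟶ G),
      ∃ φ : (freeCoprod Φ J).obj A ⟶ G, ∀ i, (freeSh J).map (coprodι Φ A i) ≫ φ = f i :=
    fun G f => by
    obtain ⟨φ, hφ⟩ := (bijective_evCoprod Φ J G A).2 fun i => CohFree.evalGen J _ G (f i)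
    exact ⟨φ, fun i => (CohFree.homEquivSect J _ G).injective (congrFun hφ i)⟩
  choose d hd using h
  refine ⟨Cofan.IsColimit.mk _ (fun s => d s.pt fun i => s.inj i) (fun s i => hd _ _ i)
    fun s m hm => ?_⟩
  refine (bijective_evCoprod Φ J s.pt A).1 (funext fun i => ?_)
  exact congrArg (CohFree.evalGen J _ s.pt) ((hm i).trans (hd s.pt (fun i => s.inj i) i).symm)

/-- `Ext` out of the free sheaf on a coproduct vanishes if it does on all summands. -/
theorem subsingleton_ext_freeCoprod (A : FormalCoproduct.{u} D) (n : ℕ)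
    [h : ∀ i : A.I, Subsingleton (CohSite.HU F n (Φ.obj (A.obj i)))] :
    Subsingleton (Abelian.Ext ((freeCoprod Φ J).obj A) F n) := by
  obtain ⟨hc⟩ := nonempty_isColimit_freeCoprod Φ J A
  have : ∀ i, Subsingleton (Abelian.Ext ((freeSh J).obj (yoneda.obj (Φ.obj (A.obj i)))) F n) := h
  exact subsingleton_ext_coproduct hc F n this

end Groth.SiteCohomology
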