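import Groth.Agent.SiteCohomology.ExtBasic
import Groth.Agent.SiteCohomology.AcyclicResolution
import Mathlib.Algebra.Homology.ShortComplex.HomologicalComplex
import Mathlib.CategoryTheory.Preadditive.Yoneda.Basic

/-!
# `Hom(X, -)` of a complex with acyclic cohomology objects
-/

universe w v u

open CategoryTheory Limits

set_option maxHeartbeats 1000000
set_option linter.unusedSectionVars false

namespace Groth.SiteCohomology

open Abelian

variable {C : Type u} [Category.{v} C] [Abelian C] [HasExt.{w} C] (K : CochainComplex C ℕ)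

/-- Boundaries in degree `n + 1`. -/
noncomputable abbrev bdry (n : ℕ) : C := kernel (K.homologyπ (n + 1))

/-- `0 → B → Z → H → 0`. -/
noncomputable abbrev bzhSeq (n : ℕ) : ShortComplex C :=
  ShortComplex.mk (kernel.ι (K.homologyπ (n + 1))) (K.homologyπ (n + 1)) (kernel.condition _)

lemma bzhSeq_shortExact (n : ℕ) : (bzhSeq K n).ShortExact :=
  ShortComplex.ShortExact.mk' (ShortComplex.exact_of_f_is_kernel _ (kernelIsKernel _))
    inferInstance inferInstance

/-- `0 → Z → K → B → 0`. -/
noncomputable abbrev zkbSeq (n : ℕ) : ShortComplex C :=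
  ShortComplex.mk (K.iCycles n)
    (kernel.lift (K.homologyπ (n + 1)) (K.toCycles n (n + 1)) (K.toCycles_comp_homologyπ n (n + 1)))
    (by
      rw [← cancel_mono (kernel.ι (K.homologyπ (n + 1))), ← cancel_mono (K.iCycles (n + 1))]
      simp)

lemma zkbSeq_shortExact (n : ℕ) : (zkbSeq K n).ShortExact := by
  refine ShortComplex.ShortExact.mk' ?_ inferInstance ?_
  · refine ShortComplex.exact_of_f_is_kernel _ ?_
    refine KernelFork.IsLimit.ofι' _ _ fun {W} g hg => ?_
    have h : g ≫ K.d n (n + 1) = 0 := by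
      have := congrArg (· ≫ kernel.ι _ ≫ K.iCycles (n + 1)) hg
      simpa using this
    exact ⟨K.liftCycles g (n + 1) (CochainComplex.next ℕ n) h, K.liftCycles_i _ _ _ _⟩
  · have hex : (ShortComplex.mk (K.toCycles n (n + 1)) (K.homologyπ (n + 1))
        (K.toCycles_comp_homologyπ n (n + 1))).Exact :=
      ShortComplex.exact_of_g_is_cokernel _ (K.homologyIsCokernel n (n + 1) (CochainComplex.prev_nat_succ n))
    exact hex.epi_kernelLift

variable (X : C) (hK : ∀ n q : ℕ, Subsingleton (Ext X (K.X n) (q + 1)))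
  (hH : ∀ n q : ℕ, Subsingleton (Ext X (K.homology n) (q + 1)))

include hK hH

lemma subsingleton_ext_cycles_hom : ∀ n q : ℕ, Subsingleton (Ext X (K.cycles n) (q + 1))
  | 0, q => by
    haveI : IsIso (K.homologyπ 0) :=
      K.isIso_homologyπ 0 0 ((ComplexShape.up ℕ).prev_eq_self 0 (by simp)) (K.shape 0 0 (by simp))
    exact @Equiv.subsingleton _ _
      ((Abelian.extFunctorObj X (q + 1)).mapIso (asIso (K.homologyπ 0))).addCommGroupIsoToAddEquiv.toEquiv
      (hH 0 q)
  | n + 1, q => by
    haveI : Subsingleton (Ext X (zkbSeq K n).X₁ (q + 2)) := subsingleton_ext_cycles_hom n (q + 1)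
    haveI : Subsingleton (Ext X (zkbSeq K n).X₂ (q + 1)) := hK n q
    haveI : Subsingleton (Ext X (bzhSeq K n).X₁ (q + 1)) :=
      subsingleton_ext_right (zkbSeq_shortExact K n) X (q + 1)
    haveI : Subsingleton (Ext X (bzhSeq K n).X₃ (q + 1)) := hH (n + 1) q
    exact subsingleton_ext_middle (bzhSeq_shortExact K n) X (q + 1)

lemma subsingleton_ext_bdry (n q : ℕ) : Subsingleton (Ext X (bdry K n) (q + 1)) :=
  haveI : Subsingleton (Ext X (zkbSeq K n).X₁ (q + 2)) := subsingleton_ext_cycles_hom K X hK hH n (q + 1)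
  haveI : Subsingleton (Ext X (zkbSeq K n).X₂ (q + 1)) := hK n q
  subsingleton_ext_right (zkbSeq_shortExact K n) X (q + 1)

/-- `H^p(Hom(X, K)) = Hom(X, H^p K)`. -/
theorem nonempty_homology_hom_equiv (p : ℕ) :
    Nonempty ((((preadditiveCoyoneda.obj (Opposite.op X)).mapHomologicalComplex
      (ComplexShape.up ℕ)).obj K).homology p ≃+ (X ⟶ K.homology p)) := by
  let L := ((preadditiveCoyoneda.obj (Opposite.op X)).mapHomologicalComplex (ComplexShape.up ℕ)).obj K
  let ψ : AddMonoidHom.ker (L.d p (p + 1)).hom →+ (X ⟶ K.homology p) :=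
    AddMonoidHom.mk' (fun z => K.liftCycles z.1 (p + 1) (CochainComplex.next ℕ p) z.2 ≫ K.homologyπ p)
      fun a b => by
        rw [← Preadditive.add_comp]
        congr 1
        rw [← cancel_mono (K.iCycles p)]
        simp
        rfl
  refine ⟨AcyclicRes.homologyEquiv L p ψ (fun h => ?_) fun z => ?_⟩
  · have hs : ∃ g : X ⟶ K.cycles p, g ≫ K.homologyπ p = h := by
      cases p with
      | zero =>
        haveI : IsIso (K.homologyπ 0) :=
          K.isIso_homologyπ 0 0 ((ComplexShape.up ℕ).prev_eq_self 0 (by simp)) (K.shape 0 0 (by simp))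
        exact ⟨h ≫ inv (K.homologyπ 0), by simp⟩
      | succ n =>
        haveI : Subsingleton (Ext X (bzhSeq K n).X₁ 1) := subsingleton_ext_bdry K X hK hH n 0
        exact exists_lift_of_subsingleton_ext_one (bzhSeq_shortExact K n) X h
    obtain ⟨g, rfl⟩ := hs
    refine ⟨⟨g ≫ K.iCycles p, ?_⟩, ?_⟩
    · change (g ≫ K.iCycles p) ≫ K.d p (p + 1) = 0
      simp
    · change K.liftCycles (g ≫ K.iCycles p) _ _ _ ≫ _ = _
      congr 1
      rw [← cancel_mono (K.iCycles p)]
      simp
  · change K.liftCycles z.1 (p + 1) (CochainComplex.next ℕ p) z.2 ≫ K.homologyπ p = 0 ↔ _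
    cases p with
    | zero =>
      haveI : IsIso (K.homologyπ 0) :=
        K.isIso_homologyπ 0 0 ((ComplexShape.up ℕ).prev_eq_self 0 (by simp)) (K.shape 0 0 (by simp))
      constructor
      · intro h
        have h2 : K.liftCycles z.1 1 (CochainComplex.next ℕ 0) z.2 = 0 :=
          (cancel_mono (K.homologyπ 0)).1 (h.trans zero_comp.symm)
        exact (K.liftCycles_i z.1 1 _ z.2).symm.trans
          ((congrArg (· ≫ K.iCycles 0) h2).trans zero_comp)
      · intro h
        have h2 : z.1 = 0 := h
        rw [← cancel_mono (inv (K.homologyπ 0)), zero_comp, Category.assoc, IsIso.hom_inv_id,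
          Category.comp_id, ← cancel_mono (K.iCycles 0), zero_comp]
        exact (K.liftCycles_i _ _ _ _).trans h2
    | succ n =>
      constructor
      · intro h
        let b : X ⟶ bdry K n := kernel.lift _ _ h
        haveI : Subsingleton (Ext X (zkbSeq K n).X₁ 1) := subsingleton_ext_cycles_hom K X hK hH n 0
        obtain ⟨c, hc⟩ := exists_lift_of_subsingleton_ext_one (zkbSeq_shortExact K n) X b
        refine ⟨c, ?_⟩
        change c ≫ K.d n (n + 1) = z.1
        have := congrArg (· ≫ kernel.ι _ ≫ K.iCycles (n + 1)) hc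
        simpa [b] using this
      · rintro ⟨c, hc⟩
        have hc' : c ≫ K.d n (n + 1) = z.1 := hc
        have e : K.liftCycles z.1 (n + 2) (CochainComplex.next ℕ (n + 1)) z.2 =
            c ≫ K.toCycles n (n + 1) := by
          rw [← cancel_mono (K.iCycles (n + 1))]
          simp [hc']
        exact (congrArg (· ≫ K.homologyπ (n + 1)) e).trans (by simp)

end Groth.SiteCohomology
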