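import Groth.Agent.SiteCohomology.AcyclicResolution
import Mathlib.CategoryTheory.Abelian.RightDerived
import Mathlib.CategoryTheory.Abelian.Injective.Resolution
import Mathlib.Algebra.Homology.HomologicalComplexAbelian
import Mathlib.Algebra.Homology.HomologySequence

/-!
# Derived functors computed by a functorial complex

If `T` sends short exact sequences to short exact sequences of complexes, kills positive cohomology
of injectives and `L` is its kernel in degree zero, then `R^n L = H^n ∘ T`.
-/

universe w v v' u u'

open CategoryTheory Limits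

set_option maxHeartbeats 1000000
set_option synthInstance.maxHeartbeats 400000
set_option backward.isDefEq.respectTransparency false

namespace Groth.SiteCohomology.DerivedByComplex

variable {A : Type u} [Category.{v} A] [Abelian A] {B : Type u'} [Category.{v'} B] [Abelian B]
  (L : A ⥤ B) [L.Additive] (T : A ⥤ CochainComplex B ℕ) [T.PreservesZeroMorphisms]

/-- The short complex computing `H^{n+1}` of `L` applied to a sequence. -/
noncomputable def sc (K : ℕ → A) (d : ∀ n, K n ⟶ K (n + 1)) (hd : ∀ n, d n ≫ d (n + 1) = 0) (n : ℕ) :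
    ShortComplex B :=
  ShortComplex.mk (L.map (d n)) (L.map (d (n + 1))) (by rw [← L.map_comp, hd]; exact L.map_zero _ _)

variable [PreservesFiniteLimits L] [HasExt.{w} A]
  (e : L ≅ T ⋙ HomologicalComplex.homologyFunctor B (ComplexShape.up ℕ) 0)
  (hT : ∀ S : ShortComplex A, S.ShortExact → (S.map T).ShortExact)

include e hT

lemma nonempty_iso_sc : ∀ (n : ℕ) {F : A} (K : ℕ → A) (d : ∀ n, K n ⟶ K (n + 1)) (ι : F ⟶ K 0)
    (h : AcyclicRes.IsResolution K d ι),
    (∀ i k : ℕ, i + k ≤ n → IsZero ((T.obj (K i)).homology (k + 1))) →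
      Nonempty ((T.obj F).homology (n + 1) ≅ (sc L K d h.zero n).homology)
  | 0, F, K, d, ι, h, hK => by
      have := h.mono
      have hS := hT _ (AcyclicRes.shortExact_cokernel K ι)
      let Q := cokernel ι
      let q : Q ⟶ K 1 := cokernel.desc ι (d 0) h.zero₀
      have ht := h.tail
      -- `L Q` is the kernel of `L (d 1)`
      let S₂ : ShortComplex A := ShortComplex.mk q (d 1) ht.zero₀
      have hpl : PreservesFiniteLimits L := inferInstance
      have h' : ∀ S : ShortComplex A, S.Exact ∧ Mono S.f → (S.map L).Exact ∧ Mono (L.map S.f) :=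
        ((L.preservesFiniteLimits_tfae).out 3 1).1 hpl
      obtain ⟨hex, hmono⟩ := h' S₂ ⟨ht.exact₀, ht.mono⟩
      have : Mono (S₂.map L).f := hmono
      let hi : IsLimit (KernelFork.ofι (S₂.map L).f (S₂.map L).zero) := hex.fIsKernel
      have hlift : hi.lift (KernelFork.ofι (sc L K d h.zero 0).f (sc L K d h.zero 0).zero) =
          L.map (cokernel.π ι) := by
        refine (cancel_mono (L.map q)).1 ((Fork.IsLimit.lift_ι hi).trans ?_)
        exact ((congrArg L.map (cokernel.π_desc ι (d 0) h.zero₀)).symm.trans (L.map_comp _ _))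
      let lh : (sc L K d h.zero 0).LeftHomologyData :=
        { K := L.obj Q
          H := cokernel (L.map (cokernel.π ι))
          i := L.map q
          π := cokernel.π _
          wi := (S₂.map L).zero
          hi := hi
          wπ := by rw [hlift]; exact cokernel.condition _
          hπ := CokernelCofork.IsColimit.ofπ _ _
            (fun k hk => cokernel.desc _ k (by rw [← hlift]; exact hk))
            (fun k hk => cokernel.π_desc _ _ _)
            (fun k hk m hm => (cancel_epi (cokernel.π (L.map (cokernel.π ι)))).1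
              (hm.trans (cokernel.π_desc _ _ _).symm)) }
      have hz : IsZero ((T.obj (K 0)).homology 1) := hK 0 0 le_rfl
      have hepi : Epi (hS.δ 0 1 rfl) :=
        (hS.homology_exact₁ 0 1 rfl).epi_f (hz.eq_of_tgt _ _)
      let c : cokernel (HomologicalComplex.homologyMap (T.map (cokernel.π ι)) 0) ≅
          (T.obj F).homology 1 :=
        IsColimit.coconePointUniqueUpToIso (cokernelIsCokernel _)
          (hS.homology_exact₃ 0 1 rfl).gIsCokernel
      exact ⟨c.symm ≪≫ (cokernel.mapIso (L.map (cokernel.π ι))
        (HomologicalComplex.homologyMap (T.map (cokernel.π ι)) 0) (e.app _) (e.app _)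
        (e.hom.naturality (cokernel.π ι))).symm ≪≫ lh.homologyIso.symm⟩
  | n + 1, F, K, d, ι, h, hK => by
      have := h.mono
      have hS := hT _ (AcyclicRes.shortExact_cokernel K ι)
      obtain ⟨a⟩ := nonempty_iso_sc n (fun i => K (i + 1)) (fun i => d (i + 1)) _ h.tail
        (fun i k hik => hK (i + 1) k (by omega))
      exact ⟨(hS.δIso (n + 1) (n + 1 + 1) rfl (hK 0 n (by omega)) (hK 0 (n + 1) (by omega))).symm ≪≫ a⟩

/-- The right derived functors of `L` are the cohomology of `T`. -/
theorem nonempty_rightDerived_iso [HasInjectiveResolutions A]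
    (hacyc : ∀ I : A, Injective I → ∀ k : ℕ, IsZero ((T.obj I).homology (k + 1))) (F : A) (n : ℕ) :
    Nonempty ((L.rightDerived n).obj F ≅ (T.obj F).homology n) := by
  cases n with
  | zero => exact ⟨L.rightDerivedZeroIsoSelf.app F ≪≫ e.app F⟩
  | succ n =>
    let R : InjectiveResolution F := injectiveResolution F
    have h : AcyclicRes.IsResolution R.cocomplex.X (fun i => R.cocomplex.d i (i + 1)) (R.ι.f 0) :=
      { mono := inferInstanceAs (Mono (R.ι.f 0))
        zero₀ := R.ι_f_zero_comp_complex_d
        exact₀ := R.exact₀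
        zero := fun i => R.cocomplex.d_comp_d _ _ _
        exact := fun i => R.exact_succ i }
    obtain ⟨a⟩ := nonempty_iso_sc L T e hT n _ _ _ h (fun i k _ => hacyc _ (R.injective i) k)
    exact ⟨R.isoRightDerivedObj L (n + 1) ≪≫
      ((L.mapHomologicalComplex _).obj R.cocomplex).homologyIsoSc' n (n + 1) (n + 1 + 1)
        (CochainComplex.prev_nat_succ n) (CochainComplex.next ℕ (n + 1)) ≪≫ a.symm⟩

end Groth.SiteCohomology.DerivedByComplex
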