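import Mathlib.Topology.Sheaves.Sheaf
import Mathlib.Topology.Sheaves.SheafCondition.UniqueGluing
import Mathlib.Algebra.Category.Grp.Basic
import Mathlib.Algebra.Category.Grp.Limits
import Mathlib.Order.Zorn

/-!
# Flasque sheaves of groups: surjectivity on sections
-/

universe u

open CategoryTheory Limits Opposite TopologicalSpace

namespace Groth.SiteCohomology

variable {X : TopCat.{u}}

/-- Restriction of sections of a presheaf of groups. -/
noncomputable abbrev gres (P : TopCat.Presheaf GrpCat.{u} X) {U V : Opens X} (h : V ≤ U) :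
    P.obj (op U) →* P.obj (op V) :=
  (P.map (homOfLE h).op).hom

lemma gres_gres (P : TopCat.Presheaf GrpCat.{u} X) {U V W : Opens X} (h : V ≤ U) (h' : W ≤ V)
    (s : P.obj (op U)) : gres P h' (gres P h s) = gres P (h'.trans h) s :=
  (congrArg (fun k => k s) (P.map_comp (homOfLE h).op (homOfLE h').op)).symm

lemma gres_self (P : TopCat.Presheaf GrpCat.{u} X) {U : Opens X} (h : U ≤ U) (s : P.obj (op U)) :
    gres P h s = s :=
  congrArg (fun k => k s) (P.map_id (op U))

variable {F G H : TopCat.Presheaf GrpCat.{u} X} (α : F ⟶ G) (β : G ⟶ H)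

lemma app_gres (γ : F ⟶ G) {U V : Opens X} (h : V ≤ U) (s : F.obj (op U)) :
    (γ.app (op V)).hom (gres F h s) = gres G h ((γ.app (op U)).hom s) :=
  congrArg (fun k => k s) (γ.naturality (homOfLE h).op)

theorem surjective_sections_of_flasque_groups (hG : G.IsSheaf) (hH : H.IsSheaf)
    (hex : ∀ (U : Opens X) (g : G.obj (op U)),
      (β.app (op U)).hom g = 1 ↔ g ∈ Set.range (α.app (op U)).hom)
    (hβ : ∀ (U : Opens X) (s : H.obj (op U)) (x : X), x ∈ U →
      ∃ (V : Opens X) (hV : V ≤ U), x ∈ V ∧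
        ∃ g : G.obj (op V), (β.app (op V)).hom g = gres H hV s)
    (hfl : ∀ (U V : Opens X) (hUV : V ≤ U), Function.Surjective (gres F hUV))
    (U : Opens X) : Function.Surjective (β.app (op U)).hom := by
  intro s
  let E := Σ' (V : Opens X) (h : V ≤ U), {g : G.obj (op V) // (β.app (op V)).hom g = gres H h s}
  let r : E → E → Prop := fun a b => ∃ h : a.1 ≤ b.1, gres G h b.2.2.1 = a.2.2.1
  have htrans : ∀ {a b c : E}, r a b → r b c → r a c := by
    rintro a b c ⟨h, e⟩ ⟨h', e'⟩
    exact ⟨h.trans h', by rw [← gres_gres G h' h, e', e]⟩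
  have hchain : ∀ c : Set E, IsChain r c → ∃ ub : E, ∀ a ∈ c, r a ub := by
    intro c hc
    let V : c → Opens X := fun a => a.1.1
    have hcompat : TopCat.Presheaf.IsCompatible G V (fun a => a.1.2.2.1) := by
      intro a b
      by_cases hab : a.1 = b.1
      · obtain rfl : a = b := Subtype.ext hab
        rfl
      · rcases hc a.2 b.2 hab with ⟨h, e⟩ | ⟨h, e⟩
        · change gres G (inf_le_left : V a ⊓ V b ≤ V a) a.1.2.2.1 =
            gres G (inf_le_right : V a ⊓ V b ≤ V b) b.1.2.2.1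
          rw [← e, gres_gres]
        · change gres G (inf_le_left : V a ⊓ V b ≤ V a) a.1.2.2.1 =
            gres G (inf_le_right : V a ⊓ V b ≤ V b) b.1.2.2.1
          rw [← e, gres_gres]
    obtain ⟨g, hg, -⟩ := TopCat.Sheaf.existsUnique_gluing (C := GrpCat.{u}) ⟨G, hG⟩ V _ hcompat
    have hle : iSup V ≤ U := iSup_le fun a => a.1.2.1
    have hg' : ∀ a : c, gres G (le_iSup V a) g = a.1.2.2.1 := fun a => hg a
    refine ⟨⟨iSup V, hle, g, ?_⟩, fun a ha => ⟨le_iSup V ⟨a, ha⟩, hg' ⟨a, ha⟩⟩⟩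
    refine TopCat.Sheaf.eq_of_locally_eq (C := GrpCat.{u}) ⟨H, hH⟩ V _ _ fun a => ?_
    change gres H (le_iSup V a) _ = gres H (le_iSup V a) _
    rw [← app_gres β, hg', a.1.2.2.2, gres_gres]
  obtain ⟨⟨V, hVU, g, hg⟩, hmax⟩ := exists_maximal_of_chains_bounded hchain
    (fun h₁ h₂ => htrans h₁ h₂)
  have hUV : U ≤ V := by
    intro x hx
    obtain ⟨W, hWU, hxW, g₁, hg₁⟩ := hβ U s x hx
    have h₁ : (β.app (op (V ⊓ W))).hom
        ((gres G inf_le_left g)⁻¹ * gres G inf_le_right g₁) = 1 := by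
      rw [map_mul, map_inv, app_gres β, app_gres β, hg, hg₁, gres_gres, gres_gres]
      exact inv_mul_cancel _
    obtain ⟨f, hf⟩ := (hex _ _).1 h₁
    obtain ⟨f', hf'⟩ := hfl W (V ⊓ W) inf_le_right f
    let g₂ := g₁ * ((α.app (op W)).hom f')⁻¹
    have hg₂ : (β.app (op W)).hom g₂ = gres H hWU s := by
      have : (β.app (op W)).hom ((α.app (op W)).hom f') = 1 := (hex _ _).2 ⟨f', rfl⟩
      rw [map_mul, map_inv, this, inv_one, mul_one, hg₁]
    let Z : ULift.{u} Bool → Opens X := fun b => bif b.down then V else W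
    let sf : ∀ b, G.obj (op (Z b))
      | ⟨true⟩ => g
      | ⟨false⟩ => g₂
    have hov : gres G inf_le_left g = gres G (inf_le_right : V ⊓ W ≤ W) g₂ := by
      rw [map_mul, map_inv, ← app_gres α, hf', hf, mul_inv_rev, inv_inv, mul_inv_cancel_left]
    have hcompat : TopCat.Presheaf.IsCompatible G Z sf := by
      rintro ⟨a⟩ ⟨b⟩
      cases a <;> cases b
      · rfl
      · change gres G (inf_le_left : W ⊓ V ≤ W) g₂ = gres G (inf_le_right : W ⊓ V ≤ V) g
        have := congrArg (gres G (inf_comm W V).le) hov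
        rw [gres_gres, gres_gres] at this
        exact this.symm
      · exact hov
      · rfl
    obtain ⟨g₃, hg₃, -⟩ := TopCat.Sheaf.existsUnique_gluing (C := GrpCat.{u}) ⟨G, hG⟩ Z sf hcompat
    have hle : iSup Z ≤ U := iSup_le fun b => by
      obtain ⟨b⟩ := b
      cases b
      · exact hWU
      · exact hVU
    have hg₃' : ∀ b, gres G (le_iSup Z b) g₃ = sf b := fun b => hg₃ b
    have hs₃ : (β.app (op (iSup Z))).hom g₃ = gres H hle s := by
      refine TopCat.Sheaf.eq_of_locally_eq (C := GrpCat.{u}) ⟨H, hH⟩ Z _ _ fun b => ?_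
      change gres H (le_iSup Z b) _ = gres H (le_iSup Z b) _
      rw [← app_gres β, hg₃', gres_gres]
      obtain ⟨b⟩ := b
      cases b
      · exact hg₂
      · exact hg
    obtain ⟨h, -⟩ := hmax ⟨iSup Z, hle, g₃, hs₃⟩ ⟨le_iSup Z ⟨true⟩, hg₃' ⟨true⟩⟩
    exact h (le_iSup Z ⟨false⟩ hxW)
  refine ⟨gres G hUV g, ?_⟩
  rw [app_gres β, hg, gres_gres, gres_self]

end Groth.SiteCohomology
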