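import Groth.Agent.SiteCohomology.Flasque
import Mathlib.CategoryTheory.Sites.Limits
import Mathlib.Algebra.Category.Grp.Limits
import Mathlib.CategoryTheory.Limits.Types.Limits

/-!
# Limits of towers of flasque sheaves
-/

universe u

open CategoryTheory Limits Opposite TopologicalSpace

namespace Groth.SiteCohomology

variable {X : TopCat.{u}} (M : ℕᵒᵖ ⥤ CohTop.Ab X)

/-- The transition morphisms of a tower. -/
noncomputable abbrev towerMap (n : ℕ) : M.obj (op (n + 1)) ⟶ M.obj (op n) :=
  M.map (homOfLE (Nat.le_succ n)).op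

lemma map_eq_towerMap_sections (U : Opens X) (t : ∀ n, (M.obj (op n)).obj.obj (op U))
    (ht : ∀ n, (towerMap M n).hom.app (op U) (t (n + 1)) = t n) {m n : ℕ} (h : n ≤ m) :
    (M.map (homOfLE h).op).hom.app (op U) (t m) = t n := by
  induction m, h using Nat.le_induction with
  | base =>
    rw [show (homOfLE (le_refl n)).op = 𝟙 (op n) from rfl, M.map_id]
    rfl
  | succ m h ih =>
    rw [show (homOfLE (h.trans (Nat.le_succ m))).op =
      (homOfLE (Nat.le_succ m)).op ≫ (homOfLE h).op from rfl, M.map_comp]
    exact (congrArg ((M.map (homOfLE h).op).hom.app (op U)) (ht m)).trans ih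

/-- The limit of a tower of flasque sheaves with epimorphic transitions and flasque kernels is
flasque. -/
theorem isFlasque_limit_tower (h₁ : ∀ n : ℕ, TopCat.Sheaf.IsFlasque (M.obj (op n)))
    (h₂ : ∀ n : ℕ, Epi (towerMap M n))
    (h₃ : ∀ n : ℕ, TopCat.Sheaf.IsFlasque (kernel (towerMap M n) : CohTop.Ab X)) :
    TopCat.Sheaf.IsFlasque (limit M : CohTop.Ab X) := by
  rw [isFlasque_iff_surjective]
  intro U V i s
  let ev : ∀ W : Opens X, CohTop.Ab X ⥤ Type u := fun W =>
    (sheafSections _ AddCommGrpCat.{u}).obj (op W) ⋙ forget AddCommGrpCat.{u}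
  have hev : ∀ W, PreservesLimit M (ev W) := fun W =>
    inferInstanceAs (PreservesLimit M ((sheafToPresheaf _ AddCommGrpCat.{u} ⋙
      (evaluation _ _).obj (op W)) ⋙ forget AddCommGrpCat.{u}))
  let π : ∀ n, (limit M : CohTop.Ab X) ⟶ M.obj (op n) := fun n => limit.π M (op n)
  have step : ∀ n (a : (M.obj (op n)).obj.obj (op U)),
      (M.obj (op n)).obj.map i.op a = (π n).hom.app (op V) s →
      ∃ b, (towerMap M n).hom.app (op U) b = a ∧
        (M.obj (op (n + 1))).obj.map i.op b = (π (n + 1)).hom.app (op V) s := by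
    intro n a ha
    let S : ShortComplex (CohTop.Ab X) :=
      ShortComplex.mk (kernel.ι (towerMap M n)) (towerMap M n) (kernel.condition _)
    have hS : S.ShortExact := ShortComplex.ShortExact.mk'
      (S.exact_of_f_is_kernel (kernelIsKernel _)) inferInstance (h₂ n)
    haveI : TopCat.Sheaf.IsFlasque S.X₁ := h₃ n
    obtain ⟨b, hb⟩ := surjective_sections_of_flasque hS U a
    change (towerMap M n).hom.app (op U) b = a at hb
    let d := (π (n + 1)).hom.app (op V) s - (M.obj (op (n + 1))).obj.map i.op b
    have hd : (towerMap M n).hom.app (op V) d = 0 := by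
      have e₁ : (towerMap M n).hom.app (op V) ((π (n + 1)).hom.app (op V) s) =
          (π n).hom.app (op V) s :=
        congrArg (fun k : (limit M : CohTop.Ab X) ⟶ M.obj (op n) => k.hom.app (op V) s)
          (limit.w M (homOfLE (Nat.le_succ n)).op)
      have e₂ : (towerMap M n).hom.app (op V) ((M.obj (op (n + 1))).obj.map i.op b) =
          (π n).hom.app (op V) s := by
        rw [← ha, ← hb]
        exact congrArg (fun k => k b) ((towerMap M n).hom.naturality i.op)
      rw [map_sub, e₁, e₂, sub_self]
    obtain ⟨e, he⟩ := TopCat.Sheaf.sections_exact_of_left_exact (X := X) hS.exact hS.mono_f d hd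
    obtain ⟨e', he'⟩ := (isFlasque_iff_surjective (S.X₁)).1 (h₃ n) i e
    refine ⟨b + S.f.hom.app (op U) e', ?_, ?_⟩
    · rw [map_add]
      have : (towerMap M n).hom.app (op U) (S.f.hom.app (op U) e') = 0 :=
        congrArg (fun k : S.X₁ ⟶ S.X₃ => k.hom.app (op U) e') S.zero
      rw [this, add_zero, hb]
    · rw [map_add]
      have : (M.obj (op (n + 1))).obj.map i.op (S.f.hom.app (op U) e') = d := by
        rw [← he, ← he']
        exact (congrArg (fun k => k e') (S.f.hom.naturality i.op)).symm
      rw [this]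
      exact add_sub_cancel _ _
  choose next hn₁ hn₂ using step
  obtain ⟨t₀, ht₀⟩ := (isFlasque_iff_surjective _).1 (h₁ 0) i ((π 0).hom.app (op V) s)
  let T : ∀ n, {a : (M.obj (op n)).obj.obj (op U) //
      (M.obj (op n)).obj.map i.op a = (π n).hom.app (op V) s} := fun n =>
    Nat.rec ⟨t₀, ht₀⟩ (fun n a => ⟨next n a.1 a.2, hn₂ n a.1 a.2⟩) n
  have hT : ∀ n, (towerMap M n).hom.app (op U) (T (n + 1)).1 = (T n).1 :=
    fun n => hn₁ n (T n).1 (T n).2
  haveI := hev U
  haveI := hev V
  let hU := isLimitOfPreserves (ev U) (limit.isLimit M)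
  let hV := isLimitOfPreserves (ev V) (limit.isLimit M)
  let sec : (M ⋙ ev U).sections := ⟨fun n => (T n.unop).1, fun {m n} f => by
    rw [show f = (homOfLE f.unop.le).op from Quiver.Hom.unop_inj (Subsingleton.elim _ _)]
    exact map_eq_towerMap_sections M U (fun n => (T n).1) hT f.unop.le⟩
  refine ⟨(Types.isLimitEquivSections hU).symm sec, ?_⟩
  refine (Types.isLimitEquivSections hV).injective (Subtype.ext (funext fun n => ?_))
  rw [Types.isLimitEquivSections_apply, Types.isLimitEquivSections_apply]
  refine (congrArg (fun k => k ((Types.isLimitEquivSections hU).symm sec))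
    ((limit.π M n).hom.naturality i.op)).trans ?_
  refine Eq.trans ?_ (T n.unop).2
  exact congrArg ((M.obj n).obj.map i.op) (Types.isLimitEquivSections_symm_apply hU sec n)

end Groth.SiteCohomology
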