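import Groth.Agent.SiteCohomology.FlasqueTower
import Groth.Agent.SiteCohomology.ClosedPush

/-!
# The limit of a short exact sequence of flasque towers
-/

universe u

open CategoryTheory Limits Opposite TopologicalSpace

namespace Groth.SiteCohomology

variable {X : TopCat.{u}}

/-- Surjectivity on sections of the limit of an epimorphism of towers with flasque kernel tower. -/
theorem epi_limMap_of_flasque_towers (S : ShortComplex (ℕᵒᵖ ⥤ CohTop.Ab X)) (hS : S.ShortExact)
    (h₁ : ∀ n : ℕ, TopCat.Sheaf.IsFlasque (S.X₁.obj (op n)))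
    (h₂ : ∀ n : ℕ, Epi (S.X₁.map (homOfLE (Nat.le_succ n)).op))
    (h₃ : ∀ n : ℕ,
      TopCat.Sheaf.IsFlasque (kernel (S.X₁.map (homOfLE (Nat.le_succ n)).op) : CohTop.Ab X)) :
    Epi (limMap S.g) := by
  have hSn : ∀ n, (S.map ((evaluation ℕᵒᵖ (CohTop.Ab X)).obj (op n))).ShortExact :=
    fun n => hS.map_of_exact _
  refine (Sheaf.isLocallySurjective_iff_epi' AddCommGrpCat.{u} _).1 ⟨fun {U} y => ?_⟩
  refine (Opens.grothendieckTopology X).superset_covering (fun W i _ => ?_)
    ((Opens.grothendieckTopology X).top_mem U)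
  let y' : (limit S.X₃ : CohTop.Ab X).obj.obj (op W) := (limit S.X₃ : CohTop.Ab X).obj.map i.op y
  let z : ∀ n : ℕ, (S.X₃.obj (op n)).obj.obj (op W) := fun n => (limit.π S.X₃ (op n)).hom.app _ y'
  have step : ∀ n (a : (S.X₂.obj (op n)).obj.obj (op W)),
      (S.g.app (op n)).hom.app (op W) a = z n →
      ∃ b, (towerMap S.X₂ n).hom.app (op W) b = a ∧
        (S.g.app (op (n + 1))).hom.app (op W) b = z (n + 1) := by
    intro n a ha
    haveI : TopCat.Sheaf.IsFlasque (S.map ((evaluation ℕᵒᵖ (CohTop.Ab X)).obj (op (n + 1)))).X₁ :=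
      h₁ (n + 1)
    obtain ⟨b₀, hb⟩ := surjective_sections_of_flasque (hSn (n + 1)) W (z (n + 1))
    let b : (S.X₂.obj (op (n + 1))).obj.obj (op W) := b₀
    change (S.g.app (op (n + 1))).hom.app (op W) b = z (n + 1) at hb
    let d := a - (towerMap S.X₂ n).hom.app (op W) b
    have hd : (S.g.app (op n)).hom.app (op W) d = 0 := by
      have e₁ : (S.g.app (op n)).hom.app (op W) ((towerMap S.X₂ n).hom.app (op W) b) = z n := by
        refine (congrArg (fun k : S.X₂.obj (op (n + 1)) ⟶ S.X₃.obj (op n) => k.hom.app (op W) b)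
          (S.g.naturality (homOfLE (Nat.le_succ n)).op)).trans ?_
        refine (congrArg ((S.X₃.map (homOfLE (Nat.le_succ n)).op).hom.app (op W)) hb).trans ?_
        exact congrArg (fun k : (limit S.X₃ : CohTop.Ab X) ⟶ S.X₃.obj (op n) => k.hom.app (op W) y')
          (limit.w S.X₃ (homOfLE (Nat.le_succ n)).op)
      rw [map_sub, ha, e₁, sub_self]
    obtain ⟨c, hc⟩ := TopCat.Sheaf.sections_exact_of_left_exact (X := X) (hSn n).exact
      (hSn n).mono_f d hd
    change (S.f.app (op n)).hom.app (op W) c = d at hc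
    let T : ShortComplex (CohTop.Ab X) :=
      ShortComplex.mk (kernel.ι (towerMap S.X₁ n)) (towerMap S.X₁ n) (kernel.condition _)
    have hT : T.ShortExact := ShortComplex.ShortExact.mk'
      (T.exact_of_f_is_kernel (kernelIsKernel _)) inferInstance (h₂ n)
    haveI : TopCat.Sheaf.IsFlasque T.X₁ := h₃ n
    obtain ⟨c', hc'⟩ := surjective_sections_of_flasque hT W c
    change (towerMap S.X₁ n).hom.app (op W) c' = c at hc'
    refine ⟨b + (S.f.app (op (n + 1))).hom.app (op W) c', ?_, ?_⟩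
    · have e : (towerMap S.X₂ n).hom.app (op W) ((S.f.app (op (n + 1))).hom.app (op W) c') = d := by
        refine (congrArg (fun k : S.X₁.obj (op (n + 1)) ⟶ S.X₂.obj (op n) => k.hom.app (op W) c')
          (S.f.naturality (homOfLE (Nat.le_succ n)).op)).symm.trans ?_
        exact (congrArg ((S.f.app (op n)).hom.app (op W)) hc').trans hc
      rw [map_add, e]
      exact add_sub_cancel _ _
    · have e : (S.g.app (op (n + 1))).hom.app (op W)
          ((S.f.app (op (n + 1))).hom.app (op W) c') = 0 :=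
        congrArg (fun k : S.X₁ ⟶ S.X₃ => (k.app (op (n + 1))).hom.app (op W) c') S.zero
      rw [map_add, e, add_zero, hb]
  choose next hn₁ hn₂ using step
  haveI : TopCat.Sheaf.IsFlasque (S.map ((evaluation ℕᵒᵖ (CohTop.Ab X)).obj (op 0))).X₁ := h₁ 0
  obtain ⟨t₀, ht₀⟩ := surjective_sections_of_flasque (hSn 0) W (z 0)
  let T : ∀ n, {a : (S.X₂.obj (op n)).obj.obj (op W) //
      (S.g.app (op n)).hom.app (op W) a = z n} := fun n =>
    Nat.rec ⟨t₀, ht₀⟩ (fun n a => ⟨next n a.1 a.2, hn₂ n a.1 a.2⟩) n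
  have hT : ∀ n, (towerMap S.X₂ n).hom.app (op W) (T (n + 1)).1 = (T n).1 :=
    fun n => hn₁ n (T n).1 (T n).2
  let ev : CohTop.Ab X ⥤ Type u :=
    (sheafSections _ AddCommGrpCat.{u}).obj (op W) ⋙ forget AddCommGrpCat.{u}
  have hev : ∀ M : ℕᵒᵖ ⥤ CohTop.Ab X, PreservesLimit M ev := fun M =>
    inferInstanceAs (PreservesLimit M ((sheafToPresheaf _ AddCommGrpCat.{u} ⋙
      (evaluation _ _).obj (op W)) ⋙ forget AddCommGrpCat.{u}))
  haveI := hev S.X₂
  haveI := hev S.X₃
  let h2 := isLimitOfPreserves ev (limit.isLimit S.X₂)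
  let h3 := isLimitOfPreserves ev (limit.isLimit S.X₃)
  let sec : (S.X₂ ⋙ ev).sections := ⟨fun n => (T n.unop).1, fun {m n} f => by
    rw [show f = (homOfLE f.unop.le).op from Quiver.Hom.unop_inj (Subsingleton.elim _ _)]
    exact map_eq_towerMap_sections S.X₂ W (fun n => (T n).1) hT f.unop.le⟩
  refine ⟨(Types.isLimitEquivSections h2).symm sec, ?_⟩
  refine (Types.isLimitEquivSections h3).injective (Subtype.ext (funext fun n => ?_))
  rw [Types.isLimitEquivSections_apply, Types.isLimitEquivSections_apply]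
  refine (congrArg (fun k : (limit S.X₂ : CohTop.Ab X) ⟶ S.X₃.obj n =>
    k.hom.app (op W) ((Types.isLimitEquivSections h2).symm sec)) (limMap_π S.g n)).trans ?_
  refine Eq.trans ?_ (T n.unop).2
  exact congrArg ((S.g.app n).hom.app (op W)) (Types.isLimitEquivSections_symm_apply h2 sec n)

end Groth.SiteCohomology
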