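import Mathlib.CategoryTheory.Abelian.GrothendieckAxioms.Basic
import Mathlib.CategoryTheory.ConnectedComponents
import Mathlib.CategoryTheory.Functor.KanExtension.Adjunction
import Mathlib.CategoryTheory.Limits.Preserves.Filtered
import Mathlib.CategoryTheory.Abelian.GrothendieckCategory.Basic

/-!
# Left Kan extensions preserving monomorphisms

If every connected component of every costructured arrow category of `L` is filtered, then left Kan
extension along `L` with values in an AB4/AB5 category preserves monomorphisms.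
-/

universe w v v' v'' u u' u''

open CategoryTheory Limits Opposite

namespace Groth.SiteCohomology

/-- Spans can be completed to squares and parallel arrows can be coequalised. -/
structure LocallyFiltered (I : Type u) [Category.{v} I] : Prop where
  span : ∀ {a b c : I} (_ : c ⟶ a) (_ : c ⟶ b), ∃ d, Nonempty (a ⟶ d) ∧ Nonempty (b ⟶ d)
  coeq : ∀ {a b : I} (f g : a ⟶ b), ∃ (d : I) (h : b ⟶ d), f ≫ h = g ≫ h

namespace LocallyFiltered

variable {I : Type u} [Category.{v} I] (hI : LocallyFiltered I)

include hI in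
lemma exists_target_of_zigzag {a b : I} (h : Zigzag a b) :
    ∃ d, Nonempty (a ⟶ d) ∧ Nonempty (b ⟶ d) := by
  induction h with
  | refl => exact ⟨a, ⟨𝟙 a⟩, ⟨𝟙 a⟩⟩
  | tail _ hbc ih =>
    obtain ⟨d, ⟨f⟩, ⟨g⟩⟩ := ih
    rcases hbc with ⟨⟨k⟩⟩ | ⟨⟨k⟩⟩
    · obtain ⟨e, ⟨p⟩, ⟨q⟩⟩ := hI.span g k
      exact ⟨e, ⟨f ≫ p⟩, ⟨q⟩⟩
    · exact ⟨d, ⟨f⟩, ⟨k ≫ g⟩⟩

include hI in
lemma isFiltered_component (c : ConnectedComponents I) : IsFiltered c.Component := by
  have hmem : ∀ {x : c.Component} {d : I} (_ : x.obj ⟶ d), c.objectProperty d := fun {x d} f =>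
    (Quotient.sound' (Zigzag.of_inv f)).trans x.property
  refine { cocone_objs := fun x y => ?_, cocone_maps := fun x y f g => ?_, nonempty := inferInstance }
  · obtain ⟨d, ⟨f⟩, ⟨g⟩⟩ :=
      hI.exists_target_of_zigzag (Quotient.exact' (x.property.trans y.property.symm))
    exact ⟨⟨d, hmem f⟩, ObjectProperty.homMk f, ObjectProperty.homMk g, trivial⟩
  · obtain ⟨d, h, e⟩ := hI.coeq f.hom g.hom
    exact ⟨⟨d, hmem h⟩, ObjectProperty.homMk h, ObjectProperty.hom_ext _ e⟩

end LocallyFiltered

variable {A : Type u'} [Category.{v'} A] [Abelian A]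

/-- Monomorphisms are preserved by colimits indexed by a category with filtered components. -/
theorem mono_colimMap_of_locallyFiltered {I : Type u} [SmallCategory I]
    [IsGrothendieckAbelian.{u} A] (hI : LocallyFiltered I) {F G : I ⥤ A} (φ : F ⟶ G) [Mono φ] :
    Mono (colimMap φ) := by
  haveI := fun c => hI.isFiltered_component c
  let cF : ∀ (H : I ⥤ A) (i : I),
      H.obj i ⟶ ∐ fun c : ConnectedComponents I => colimit (c.ι ⋙ H) := fun H i =>
    colimit.ι ((ConnectedComponents.mk i).ι ⋙ H) ⟨i, rfl⟩ ≫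
      Sigma.ι (fun c : ConnectedComponents I => colimit (c.ι ⋙ H)) (ConnectedComponents.mk i)
  have key : ∀ (H : I ⥤ A) (c : ConnectedComponents I) (i : I) (hi : ConnectedComponents.mk i = c),
      colimit.ι (c.ι ⋙ H) ⟨i, hi⟩ ≫ Sigma.ι (fun c => colimit (c.ι ⋙ H)) c = cF H i := by
    intro H c i hi
    subst hi
    rfl
  have hnat : ∀ (H : I ⥤ A) {i j : I} (f : i ⟶ j), H.map f ≫ cF H j = cF H i := by
    intro H i j f
    have hij : ConnectedComponents.mk i = ConnectedComponents.mk j :=
      Quotient.sound' (Zigzag.of_hom f)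
    rw [← key H _ i hij]
    have := colimit.w ((ConnectedComponents.mk j).ι ⋙ H)
      (ObjectProperty.homMk f : (⟨i, hij⟩ : (ConnectedComponents.mk j).Component) ⟶ ⟨j, rfl⟩)
    exact (Category.assoc _ _ _).symm.trans (congrArg (· ≫ _) this)
  let r : ∀ H : I ⥤ A, colimit H ⟶ ∐ fun c : ConnectedComponents I => colimit (c.ι ⋙ H) :=
    fun H => colimit.desc H (Cocone.mk (∐ fun c : ConnectedComponents I => colimit (c.ι ⋙ H))
      { app := cF H
        naturality := fun i j f => (hnat H f).trans (Category.comp_id _).symm })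
  let q : (∐ fun c : ConnectedComponents I => colimit (c.ι ⋙ F)) ⟶ colimit F :=
    Sigma.desc fun c => colimit.pre F c.ι
  have hrq : r F ≫ q = 𝟙 _ := by
    refine colimit.hom_ext fun i => ?_
    simp only [r, q, cF, colimit.ι_desc_assoc, Category.assoc, Sigma.ι_desc, Category.comp_id]
    exact colimit.ι_pre F _ _
  haveI : Mono (r F) := mono_of_mono_fac hrq
  let ψ : ∀ c : ConnectedComponents I, colimit (c.ι ⋙ F) ⟶ colimit (c.ι ⋙ G) := fun c =>
    colimMap (Functor.whiskerLeft c.ι φ)
  haveI hmapp : ∀ i, Mono (φ.app i) := fun i =>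
    inferInstanceAs (Mono (((evaluation I A).obj i).map φ))
  haveI : ∀ c, Mono (ψ c) := fun c => by
    haveI : ∀ x, Mono ((Functor.whiskerLeft c.ι φ).app x) := fun x => hmapp x.obj
    haveI : Mono (Functor.whiskerLeft c.ι φ) := NatTrans.mono_of_mono_app _
    exact (inferInstanceAs (Mono ((colim : (c.Component ⥤ A) ⥤ A).map (Functor.whiskerLeft c.ι φ))))
  haveI : Mono (Limits.Sigma.map ψ) := by
    let κ : (Discrete.functor fun c : ConnectedComponents I => colimit (c.ι ⋙ F)) ⟶
      (Discrete.functor fun c : ConnectedComponents I => colimit (c.ι ⋙ G)) :=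
        Discrete.natTrans fun c => ψ c.as
    haveI : ∀ c, Mono (κ.app c) := fun c => inferInstanceAs (Mono (ψ c.as))
    haveI : Mono κ := NatTrans.mono_of_mono_app _
    exact inferInstanceAs (Mono (colim.map κ))
  have e : colimMap φ ≫ r G = r F ≫ Limits.Sigma.map ψ := by
    refine colimit.hom_ext fun i => ?_
    simp only [r, ι_colimMap_assoc, colimit.ι_desc, colimit.ι_desc_assoc, cF, Category.assoc,
      Limits.Sigma.ι_map]
    exact (congrArg (· ≫ _) (ι_colimMap (Functor.whiskerLeft (ConnectedComponents.mk i).ι φ)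
      ⟨i, rfl⟩).symm).trans (Category.assoc _ _ _) |> fun h => (Category.assoc _ _ _).symm.trans h
  haveI : Mono (colimMap φ ≫ r G) := by rw [e]; infer_instance
  exact mono_of_mono (colimMap φ) (r G)

/-- Same, for an index category of mixed universes. -/
theorem mono_colimMap_of_locallyFiltered' {I : Type w} [Category.{v} I]
    [IsGrothendieckAbelian.{max v w} A] [HasColimitsOfShape I A] (hI : LocallyFiltered I)
    {F G : I ⥤ A} (φ : F ⟶ G) [Mono φ] :
    Mono (colimMap φ) := by
  let e : AsSmall.{max v w} I ≌ I := (AsSmall.equiv (C := I)).symm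
  have hJ : LocallyFiltered (AsSmall.{max v w} I) :=
    { span := fun f g => by
        obtain ⟨d, ⟨p⟩, ⟨q⟩⟩ := hI.span (e.functor.map f) (e.functor.map g)
        exact ⟨AsSmall.up.obj d, ⟨⟨p⟩⟩, ⟨⟨q⟩⟩⟩
      coeq := fun f g => by
        obtain ⟨d, h, he⟩ := hI.coeq (e.functor.map f) (e.functor.map g)
        exact ⟨AsSmall.up.obj d, ⟨h⟩, e.functor.map_injective (by
          rw [e.functor.map_comp, e.functor.map_comp]; exact he)⟩ }
  haveI : ∀ x, Mono ((Functor.whiskerLeft e.functor φ).app x) := fun x =>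
    inferInstanceAs (Mono (((evaluation I A).obj (e.functor.obj x)).map φ))
  haveI : Mono (Functor.whiskerLeft e.functor φ) := NatTrans.mono_of_mono_app _
  haveI := mono_colimMap_of_locallyFiltered hJ (Functor.whiskerLeft e.functor φ)
  have h : colimMap φ = inv (colimit.pre F e.functor) ≫
      colimMap (Functor.whiskerLeft e.functor φ) ≫ colimit.pre G e.functor := by
    rw [IsIso.eq_inv_comp]
    exact colimit.hom_ext fun j => by simp
  rw [h]
  infer_instance

/-- Left Kan extension preserves monomorphisms when the costructured arrow categories have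
filtered components. -/
theorem mono_lan_map_of_locallyFiltered {C : Type u} [Category.{v} C] {D : Type u''}
    [Category.{v''} D] [IsGrothendieckAbelian.{max u v v''} A] (L : C ⥤ D)
    [∀ F : C ⥤ A, L.HasPointwiseLeftKanExtension F]
    [∀ d, HasColimitsOfShape (CostructuredArrow L d) A]
    (hL : ∀ d : D, LocallyFiltered (CostructuredArrow L d))
    {F G : C ⥤ A} (φ : F ⟶ G) [Mono φ] : Mono (L.lan.map φ) := by
  haveI : ∀ d, Mono ((L.lan.map φ).app d) := by
    intro d
    let ψ : CostructuredArrow.proj L d ⋙ F ⟶ CostructuredArrow.proj L d ⋙ G :=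
      Functor.whiskerLeft _ φ
    haveI : ∀ x, Mono (ψ.app x) := fun x =>
      inferInstanceAs (Mono (((evaluation C A).obj x.left).map φ))
    haveI : Mono ψ := NatTrans.mono_of_mono_app _
    haveI := mono_colimMap_of_locallyFiltered' (hL d) ψ
    let αF : (L.lan.obj F).obj d ≅ colimit (CostructuredArrow.proj L d ⋙ F) :=
      L.leftKanExtensionObjIsoColimit F d
    let αG : (L.lan.obj G).obj d ≅ colimit (CostructuredArrow.proj L d ⋙ G) :=
      L.leftKanExtensionObjIsoColimit G d
    have e : (L.lan.map φ).app d = αF.hom ≫ colimMap ψ ≫ αG.inv := by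
      refine (Iso.inv_comp_eq αF).1 ?_
      refine colimit.hom_ext fun f => ?_
      have hF : colimit.ι _ f ≫ αF.inv = (L.lanUnit.app F).app f.left ≫ (L.lan.obj F).map f.hom :=
        L.ι_leftKanExtensionObjIsoColimit_inv F d f
      have hG : colimit.ι _ f ≫ αG.inv = (L.lanUnit.app G).app f.left ≫ (L.lan.obj G).map f.hom :=
        L.ι_leftKanExtensionObjIsoColimit_inv G d f
      rw [reassoc_of% hF, ι_colimMap_assoc, hG]
      have h : φ.app f.left ≫ (L.lanUnit.app G).app f.left =
          (L.lanUnit.app F).app f.left ≫ (L.lan.map φ).app (L.obj f.left) :=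
        congrArg (fun k => k.app f.left) (L.lanUnit.naturality φ)
      refine (Category.assoc _ _ _).trans ?_
      exact ((congrArg (_ ≫ ·) ((L.lan.map φ).naturality f.hom)).trans
        ((Category.assoc _ _ _).symm.trans ((congrArg (· ≫ _) h.symm).trans
          (Category.assoc _ _ _))))
    rw [e]
    infer_instance
  exact NatTrans.mono_of_mono_app _

end Groth.SiteCohomology
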