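import Groth.Prelude.Def_CohSite
import Groth.Agent.SiteCohomology.ClosedPush
import Mathlib.CategoryTheory.Sites.EpiMono
import Mathlib.CategoryTheory.Sites.Pullback

/-!
# Exactness of direct images of abelian sheaves from that on sheaves of sets
-/

universe u

open CategoryTheory Limits Opposite

set_option synthInstance.maxHeartbeats 400000

namespace Groth.SiteCohomology

variable {C D : Type u} [SmallCategory C] [SmallCategory D]
  (J : GrothendieckTopology C) (K : GrothendieckTopology D) (F : D ⥤ C) [F.IsContinuous K J]

theorem preservesEpimorphisms_pushforward_ab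
    [(F.sheafPushforwardContinuous (Type u) K J).PreservesEpimorphisms] :
    (F.sheafPushforwardContinuous AddCommGrpCat.{u} K J).PreservesEpimorphisms := by
  refine ⟨fun {A B} φ _ => ?_⟩
  haveI hA : Sheaf.IsLocallySurjective φ :=
    (Sheaf.isLocallySurjective_iff_epi' AddCommGrpCat.{u} φ).2 ‹_›
  let ψ := (sheafCompose J (forget AddCommGrpCat.{u})).map φ
  haveI hψ : Sheaf.IsLocallySurjective ψ := ⟨fun {U} s => hA.imageSieve_mem (U := U) s⟩
  haveI : Epi ψ := (Sheaf.isLocallySurjective_iff_epi' (Type u) ψ).1 hψ
  have hp : Sheaf.IsLocallySurjective ((F.sheafPushforwardContinuous (Type u) K J).map ψ) :=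
    (Sheaf.isLocallySurjective_iff_epi' (Type u) _).2 inferInstance
  exact (Sheaf.isLocallySurjective_iff_epi' AddCommGrpCat.{u} _).1
    ⟨fun {U} s => hp.imageSieve_mem (U := U) s⟩

theorem preservesFiniteColimits_pushforward_ab
    [(F.sheafPushforwardContinuous (Type u) K J).PreservesEpimorphisms] :
    PreservesFiniteColimits (F.sheafPushforwardContinuous AddCommGrpCat.{u} K J) := by
  haveI := preservesEpimorphisms_pushforward_ab J K F
  let adj := F.sheafAdjunctionContinuous AddCommGrpCat.{u} K J
  haveI : PreservesFiniteLimits (F.sheafPushforwardContinuous AddCommGrpCat.{u} K J) :=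
    adj.rightAdjoint_preservesLimits.{0, 0}.preservesFiniteLimits
  haveI : (F.sheafPushforwardContinuous AddCommGrpCat.{u} K J).Additive :=
    Functor.additive_of_preserves_binary_products _
  exact preservesFiniteColimits_of_preservesEpi _

end Groth.SiteCohomology
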