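import Groth.Agent.SiteCohomology.RestrictCohomology
import Groth.Agent.SiteCohomology.PushTotallyAcyclic
import Groth.Agent.SiteCohomology.ExtBasic

/-!
# Exact adjoint pairs and `Ext` vanishing; restriction of totally acyclic sheaves
-/

universe w w' v v' u u'

open CategoryTheory Limits Opposite Abelian

set_option maxHeartbeats 1000000
set_option synthInstance.maxHeartbeats 400000

namespace Groth.SiteCohomology

section General

variable {A : Type u} [Category.{v} A] [Abelian A] [HasExt.{w} A]
  {B : Type u'} [Category.{v'} B] [Abelian B] [HasExt.{w'} B] [EnoughInjectives B]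
  {L : A ⥤ B} {R : B ⥤ A} (adj : L ⊣ R) [R.Additive] [PreservesFiniteLimits R]
  [PreservesFiniteColimits R]

include adj in
/-- Vanishing of `Ext(L X, F)` gives vanishing of `Ext(X, R F)` for an exact adjoint pair. -/
theorem subsingleton_ext_right_adjoint (hinj : ∀ I : B, Injective I → Injective (R.obj I)) (X : A) :
    ∀ (p : ℕ) (F : B), Subsingleton (Ext (L.obj X) F (p + 1)) →
      Subsingleton (Ext X (R.obj F) (p + 1)) := by
  intro p
  induction p with
  | zero =>
    intro F hF
    have hS := (injSES_shortExact F).map_of_exact R
    haveI : Injective ((injSES F).map R).X₂ :=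
      hinj _ (inferInstanceAs (Injective (Injective.under F)))
    haveI := Ext.subsingleton_of_injective X ((injSES F).map R).X₂ 0
    haveI : Subsingleton (Ext (L.obj X) (injSES F).X₁ 1) := hF
    refine subsingleton_ext_one_left hS X fun f => ?_
    obtain ⟨g, hg⟩ := exists_lift_of_subsingleton_ext_one (injSES_shortExact F) (L.obj X)
      ((adj.homEquiv X _).symm f)
    refine ⟨adj.homEquiv X _ g, ?_⟩
    exact (adj.homEquiv_naturality_right _ _).symm.trans
      ((congrArg (adj.homEquiv X _) hg).trans ((adj.homEquiv X _).apply_symm_apply f))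
  | succ q ih =>
    intro F hF
    have hS := (injSES_shortExact F).map_of_exact R
    haveI : Injective ((injSES F).map R).X₂ :=
      hinj _ (inferInstanceAs (Injective (Injective.under F)))
    haveI := Ext.subsingleton_of_injective X ((injSES F).map R).X₂ (q + 1)
    haveI : Injective (injSES F).X₂ := inferInstanceAs (Injective (Injective.under F))
    haveI := Ext.subsingleton_of_injective (L.obj X) (injSES F).X₂ q
    haveI : Subsingleton (Ext (L.obj X) (injSES F).X₁ (q + 1 + 1)) := hF
    haveI : Subsingleton (Ext X ((injSES F).map R).X₃ (q + 1)) :=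
      ih (injSES F).X₃ (subsingleton_ext_right (injSES_shortExact F) (L.obj X) (q + 1))
    exact subsingleton_ext_left hS X (q + 1)

end General

section Site

variable {C D : Type u} [SmallCategory C] [SmallCategory D]
  (J : GrothendieckTopology C) (K : GrothendieckTopology D) (F : C ⥤ D) [F.IsContinuous J K]
  [F.IsCocontinuous J K]

/-- Restriction along a continuous cocontinuous functor with exact `F_!` preserves total acyclicity. -/
theorem isTotallyAcyclic_restrict (hF : ∀ d, LocallyFiltered (CostructuredArrow F.op d))
    (G : Sheaf K AddCommGrpCat.{u}) (hG : CohCx.IsTotallyAcyclic G) :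
    CohCx.IsTotallyAcyclic ((CohSite.push K J F).obj G) := by
  haveI : PreservesFiniteLimits (CohSite.push K J F) :=
    (F.sheafAdjunctionContinuous AddCommGrpCat.{u} J K).rightAdjoint_preservesLimits.{0, 0}.preservesFiniteLimits
  haveI : PreservesFiniteColimits (CohSite.push K J F) :=
    preservesFiniteColimits_sheafPushforward J K F AddCommGrpCat.{u}
  intro T p
  have e : (F.sheafPullback (Type u) J K ⋙ freeT K) ≅
      freeT J ⋙ F.sheafPullback AddCommGrpCat.{u} J K :=
    Adjunction.leftAdjointUniq ((pullFreeAdj K J F).ofNatIsoRight (forgetPushIso K J F))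
      ((freeTAdj J).comp (F.sheafAdjunctionContinuous AddCommGrpCat.{u} J K))
  haveI : Subsingleton (Ext ((freeT K).obj ((F.sheafPullback (Type u) J K).obj T)) G (p + 1)) :=
    hG _ p
  have h : Subsingleton
      (Ext ((F.sheafPullback AddCommGrpCat.{u} J K).obj ((freeT J).obj T)) G (p + 1)) :=
    @Equiv.subsingleton _ _ (extIsoLeft (e.app T) G (p + 1)).toEquiv (hG ((F.sheafPullback (Type u) J K).obj T) p)
  exact subsingleton_ext_right_adjoint (F.sheafAdjunctionContinuous AddCommGrpCat.{u} J K)
    (fun I hI => @injective_restrict _ _ _ _ J K F _ hF I hI) ((freeT J).obj T) p G h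

end Site

end Groth.SiteCohomology
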