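import Groth.Prelude.Def_CohSite
import Groth.Agent.SiteCohomology.ClosedPush
import Mathlib.CategoryTheory.Sites.Point.Skyscraper
import Mathlib.CategoryTheory.Sites.ConstantSheaf
import Mathlib.CategoryTheory.Sites.PreservesSheafification
import Mathlib.CategoryTheory.Sites.EpiMono
import Mathlib.Algebra.Category.Grp.Limits

/-!
# Skyscraper sheaves and constant sheaves: exactness
-/

universe u

open CategoryTheory Limits Opposite

set_option synthInstance.maxHeartbeats 400000

namespace Groth.SiteCohomology

variable {C : Type u} [SmallCategory C] {J : GrothendieckTopology C}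

lemma surjective_piMap {α : Type u} {M N : AddCommGrpCat.{u}} (f : M ⟶ N)
    (hf : Function.Surjective f) :
    Function.Surjective (Limits.Pi.map (f := fun _ : α => M) (g := fun _ : α => N) fun _ => f) := by
  intro y
  choose g hg using fun a => hf (Pi.π (fun _ : α => N) a y)
  let h := isLimitOfPreserves (forget AddCommGrpCat.{u})
    (limit.isLimit (Discrete.functor fun _ : α => M))
  let x : (∏ᶜ fun _ : α => M : AddCommGrpCat.{u}) :=
    (Types.isLimitEquivSections h).symm ⟨fun a => g a.as, fun {a b} k => by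
      obtain rfl : a = b := Discrete.ext (Discrete.eq_of_hom k)
      rw [Subsingleton.elim k (𝟙 a)]
      simp⟩
  refine ⟨x, ?_⟩
  have hx : ∀ a, Pi.π (fun _ : α => M) a x = g a := fun a =>
    Types.isLimitEquivSections_symm_apply h _ ⟨a⟩
  refine Concrete.limit_ext (Discrete.functor fun _ : α => N) _ _ ?_
  rintro ⟨a⟩
  refine (congrArg (fun k => k x) (Limits.Pi.map_π (f := fun _ : α => M) (g := fun _ : α => N)
    (fun _ => f) a)).trans ?_
  exact (congrArg f (hx a)).trans (hg a)

theorem preservesFiniteColimits_skyscraper (p : GrothendieckTopology.Point.{u} J) :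
    PreservesFiniteColimits (p.skyscraperSheafFunctor (A := AddCommGrpCat.{u})) := by
  haveI : PreservesFiniteLimits (p.skyscraperSheafFunctor (A := AddCommGrpCat.{u})) :=
    p.skyscraperSheafAdjunction.rightAdjoint_preservesLimits.{0, 0}.preservesFiniteLimits
  haveI : (p.skyscraperSheafFunctor (A := AddCommGrpCat.{u})).Additive :=
    Functor.additive_of_preserves_binary_products _
  haveI : (p.skyscraperSheafFunctor (A := AddCommGrpCat.{u})).PreservesEpimorphisms := by
    refine ⟨fun {M N} f _ => (Sheaf.isLocallySurjective_iff_epi' AddCommGrpCat.{u} _).1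
      ⟨fun {U} s => ?_⟩⟩
    refine J.superset_covering (fun W g _ => ?_) (J.top_mem U)
    exact surjective_piMap f ((AddCommGrpCat.epi_iff_surjective f).1 ‹_›) _
  exact preservesFiniteColimits_of_preservesEpi _

/-- A surjection of groups has a section on the constant sheaves of underlying sets. -/
theorem exists_set_section_constantSheaf {A B : AddCommGrpCat.{u}} (f : A ⟶ B)
    (hf : Function.Surjective f) :
    ∃ σ : (sheafCompose J (forget AddCommGrpCat.{u})).obj ((constantSheaf J AddCommGrpCat.{u}).obj B) ⟶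
        (sheafCompose J (forget AddCommGrpCat.{u})).obj ((constantSheaf J AddCommGrpCat.{u}).obj A),
      σ ≫ (sheafCompose J (forget AddCommGrpCat.{u})).map ((constantSheaf J AddCommGrpCat.{u}).map f)
        = 𝟙 _ := by
  let Φ := (forget AddCommGrpCat.{u})
  let e := presheafToSheafCompComposeAndSheafifyIso J Φ
  obtain ⟨s, hs⟩ := hf.hasRightInverse
  let s' : ((Functor.const Cᵒᵖ).obj B ⋙ Φ) ⟶ ((Functor.const Cᵒᵖ).obj A ⋙ Φ) :=
    { app := fun _ => ↾s }
  have h1 : s' ≫ Functor.whiskerRight ((Functor.const Cᵒᵖ).map f) Φ = 𝟙 _ := by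
    ext V x
    exact hs x
  let φ := (presheafToSheaf J (Type u)).map (Functor.whiskerRight ((Functor.const Cᵒᵖ).map f) Φ)
  let φ' := (presheafToSheaf J (Type u)).map s'
  have hφ : φ' ≫ φ = 𝟙 _ := ((presheafToSheaf J (Type u)).map_comp _ _).symm.trans
    ((congrArg _ h1).trans ((presheafToSheaf J (Type u)).map_id _))
  let i : (sheafCompose J Φ) ≅ Sheaf.composeAndSheafify J Φ :=
    (Functor.rightUnitor _).symm ≪≫ Functor.isoWhiskerLeft (sheafCompose J Φ)
      (asIso (sheafificationAdjunction J (Type u)).counit).symm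
  let j : presheafToSheaf J AddCommGrpCat.{u} ⋙ sheafCompose J Φ ≅
      (Functor.whiskeringRight _ _ _).obj Φ ⋙ presheafToSheaf J (Type u) :=
    Functor.isoWhiskerLeft _ i ≪≫ e
  let ψ := (sheafCompose J Φ).map ((constantSheaf J AddCommGrpCat.{u}).map f)
  let σ := j.hom.app ((Functor.const Cᵒᵖ).obj B) ≫ φ' ≫ j.inv.app ((Functor.const Cᵒᵖ).obj A)
  have hψ : σ ≫ ψ = 𝟙 _ := by
    have hn : j.inv.app ((Functor.const Cᵒᵖ).obj A) ≫ ψ =
        φ ≫ j.inv.app ((Functor.const Cᵒᵖ).obj B) :=
      (j.inv.naturality ((Functor.const Cᵒᵖ).map f)).symm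
    exact (Category.assoc _ _ _).trans ((congrArg (j.hom.app _ ≫ ·)
      ((Category.assoc _ _ _).trans ((congrArg (φ' ≫ ·) hn).trans
        ((Category.assoc _ _ _).symm.trans ((congrArg (· ≫ j.inv.app _) hφ).trans
          (Category.id_comp _)))))).trans (j.hom_inv_id_app _))
  exact ⟨σ, hψ⟩

/-- Surjections induce surjections on all sections of constant sheaves. -/
theorem surjective_constantSheaf_sections {A B : AddCommGrpCat.{u}} (f : A ⟶ B)
    (hf : Function.Surjective f) (U : C) :
    Function.Surjective (((constantSheaf J AddCommGrpCat.{u}).map f).hom.app (op U)) := by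
  obtain ⟨σ, hψ⟩ := exists_set_section_constantSheaf (J := J) f hf
  intro y
  exact ⟨σ.hom.app (op U) y, congrArg (fun k => k.hom.app (op U) y) hψ⟩

theorem shortExact_constantSheaf_sections (S : ShortComplex AddCommGrpCat.{u}) (hS : S.ShortExact)
    (U : C)
    [(constantSheaf J AddCommGrpCat.{u} ⋙
      (sheafSections J AddCommGrpCat.{u}).obj (op U)).PreservesZeroMorphisms] :
    (S.map (constantSheaf J AddCommGrpCat.{u} ⋙
      (sheafSections J AddCommGrpCat.{u}).obj (op U))).ShortExact := by
  let T := constantSheaf J AddCommGrpCat.{u} ⋙ (sheafSections J AddCommGrpCat.{u}).obj (op U)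
  haveI : PreservesFiniteLimits ((sheafSections J AddCommGrpCat.{u}).obj (op U)) :=
    inferInstanceAs (PreservesFiniteLimits
      (sheafToPresheaf J AddCommGrpCat.{u} ⋙ (evaluation _ _).obj (op U)))
  haveI : PreservesFiniteLimits (constantSheaf J AddCommGrpCat.{u}) :=
    inferInstanceAs (PreservesFiniteLimits (Functor.const Cᵒᵖ ⋙ presheafToSheaf J AddCommGrpCat.{u}))
  haveI : PreservesFiniteLimits T := comp_preservesFiniteLimits _ _
  haveI : T.Additive := Functor.additive_of_preserves_binary_products _
  obtain ⟨h₁, h₂⟩ := T.preservesFiniteLimits_iff_forall_exact_map_and_mono.1 inferInstance S hS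
  haveI := hS.epi_g
  exact ShortComplex.ShortExact.mk' h₁ h₂ ((AddCommGrpCat.epi_iff_surjective _).2
    (surjective_constantSheaf_sections S.g
      ((AddCommGrpCat.epi_iff_surjective _).1 inferInstance) U))

end Groth.SiteCohomology
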