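import Mathlib.RingTheory.Smooth.StandardSmooth
import Mathlib.RingTheory.Smooth.StandardSmoothCotangent
import Mathlib.RingTheory.RingHom.LocallyStandardSmooth

/-!
# Lifting standard smooth algebras along surjections
-/

set_option autoImplicit false

universe u

open TensorProduct MvPolynomial

namespace Groth.SiteCohomology.SmoothLiftClosed

/-- A standard smooth algebra over a quotient lifts to a standard smooth algebra. -/
theorem exists_standardSmooth_lift {P B C : Type u} [CommRing P] [CommRing B] [CommRing C] [Algebra P B]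
    [Algebra B C] [Algebra P C] [IsScalarTower P B C]
    (hπ : Function.Surjective (algebraMap P B)) [Algebra.IsStandardSmooth B C] :
    ∃ (Q : Type u) (_ : CommRing Q) (_ : Algebra P Q) (π : Q →ₐ[P] C),
      Algebra.IsStandardSmooth P Q ∧ Function.Surjective π ∧
        RingHom.ker π.toRingHom = (RingHom.ker (algebraMap P B)).map (algebraMap P Q) := by
  obtain ⟨ι, σ, _, _, ⟨M⟩⟩ := ‹Algebra.IsStandardSmooth B C›
  classical
  choose F hF using fun j => MvPolynomial.map_surjective (algebraMap P B) hπ (M.relation j)
  let Q₀ := MvPolynomial ι P ⧸ Ideal.span (Set.range F)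
  let N : Algebra.PreSubmersivePresentation P Q₀ ι σ :=
    { __ := Algebra.Presentation.naive (v := F)
      map := M.map
      map_inj := M.map_inj }
  let g := N.jacobian
  let Q := Localization.Away g
  let K := (Algebra.PreSubmersivePresentation.localizationAway Q g).comp N
  have hQ : Algebra.IsStandardSmooth P Q := by
    refine ⟨Unit ⊕ ι, Unit ⊕ σ, inferInstance, inferInstance, ⟨K, ?_⟩⟩
    simp only [K, Algebra.PreSubmersivePresentation.comp_jacobian_eq_jacobian_smul_jacobian,
      Algebra.PreSubmersivePresentation.localizationAway_jacobian, Algebra.smul_def]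
    exact (IsLocalization.Away.algebraMap_isUnit g).mul (IsLocalization.Away.algebraMap_isUnit g)
  let φ : MvPolynomial ι P →ₐ[P] C := aeval M.val
  have hφ : ∀ p, φ p = aeval M.val (MvPolynomial.map (algebraMap P B) p) := fun p =>
    (aeval_map_algebraMap B M.val p).symm
  let π₀ : Q₀ →ₐ[P] C := Ideal.Quotient.liftₐ _ φ (fun x hx => by
    induction hx using Submodule.span_induction with
    | mem x hx =>
      obtain ⟨j, rfl⟩ := hx
      rw [hφ, hF]
      exact M.aeval_val_relation j
    | zero => simp
    | add x y _ _ h₁ h₂ => simp [h₁, h₂]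
    | smul a x _ h => simp [h])
  have hg : IsUnit (π₀ g) := by
    cases nonempty_fintype σ
    have : π₀ g = M.jacobian := by
      simp only [g, Algebra.PreSubmersivePresentation.jacobian_eq_jacobiMatrix_det]
      have e : (M.toPreSubmersivePresentation.jacobiMatrix) =
          (MvPolynomial.map (algebraMap P B)).mapMatrix N.jacobiMatrix := by
        ext i j : 1
        simp [Algebra.PreSubmersivePresentation.jacobiMatrix_apply, N, ← hF, pderiv_map]
      rw [e, ← RingHom.map_det, Algebra.Generators.algebraMap_apply, Algebra.Generators.algebraMap_apply]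
      show π₀ (aeval N.val N.jacobiMatrix.det) = aeval M.val _
      rw [← hφ]
      exact DFunLike.congr_fun (algHom_ext (f := π₀.comp (aeval N.val)) (g := φ) fun i => by
        simp [N, π₀, φ, Algebra.Presentation.naive, Algebra.Generators.naive]
        exact aeval_X _ _) _
    rw [this]
    exact M.jacobian_isUnit
  have hu : ∀ y : Submonoid.powers g, IsUnit (π₀ y) := fun ⟨_, k, rfl⟩ => by
    simp only [map_pow]; exact hg.pow k
  let π : Q →ₐ[P] C := IsLocalization.liftAlgHom (M := Submonoid.powers g) hu
  have hπs : Function.Surjective π := by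
    intro c
    obtain ⟨p, hp⟩ := MvPolynomial.map_surjective (algebraMap P B) hπ (M.σ c)
    refine ⟨algebraMap Q₀ Q (Ideal.Quotient.mk _ p), ?_⟩
    rw [IsLocalization.coe_liftAlgHom, IsLocalization.lift_eq]
    show φ p = c
    rw [hφ, hp, M.aeval_val_σ]
  refine ⟨Q, inferInstance, inferInstance, π, hQ, hπs, ?_⟩
  let J := (RingHom.ker (algebraMap P B)).map (algebraMap P Q)
  refine le_antisymm (fun q hq => ?_) ?_
  swap
  · rw [Ideal.map_le_iff_le_comap]
    intro p hp
    have h0 : algebraMap P B p = 0 := hp
    show π (algebraMap P Q p) = 0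
    rw [AlgHom.commutes, IsScalarTower.algebraMap_apply P B C, h0, map_zero]
  let ψ : B →+* Q ⧸ J := (Ideal.Quotient.lift (RingHom.ker (algebraMap P B))
    ((Ideal.Quotient.mk J).comp (algebraMap P Q)) (fun p hp =>
      Ideal.Quotient.eq_zero_iff_mem.2 (Ideal.mem_map_of_mem _ hp))).comp
    (RingHom.quotientKerEquivOfSurjective hπ).symm.toRingHom
  have hψ : ∀ p, ψ (algebraMap P B p) = Ideal.Quotient.mk J (algebraMap P Q p) := fun p => by
    have : (RingHom.quotientKerEquivOfSurjective hπ).symm (algebraMap P B p) = Ideal.Quotient.mk _ p :=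
      (RingEquiv.symm_apply_eq _).2 rfl
    simp [ψ, this]
  let v : ι → Q ⧸ J := fun i =>
    Ideal.Quotient.mk J (algebraMap Q₀ Q (Ideal.Quotient.mk _ (X i)))
  let η : MvPolynomial ι B →+* Q ⧸ J := eval₂Hom ψ v
  have hη : ∀ p : MvPolynomial ι P, η (MvPolynomial.map (algebraMap P B) p) =
      Ideal.Quotient.mk J (algebraMap Q₀ Q (Ideal.Quotient.mk _ p)) := by
    intro p
    exact DFunLike.congr_fun (MvPolynomial.ringHom_ext (f := η.comp (MvPolynomial.map (algebraMap P B)))
      (g := (Ideal.Quotient.mk J).comp ((algebraMap Q₀ Q).comp (Ideal.Quotient.mk _)))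
      (fun r => by
        simp [η, hψ]
        rfl) (fun i => by simp [η, v])) p
  have hker : ∀ f, aeval M.val f = 0 → η f = 0 := by
    intro f hf
    have : f ∈ Ideal.span (Set.range M.relation) := by
      rw [M.span_range_relation_eq_ker, Algebra.Generators.ker_eq_ker_aeval_val]; exact hf
    clear hf
    induction this using Submodule.span_induction with
    | mem x hx =>
      obtain ⟨j, rfl⟩ := hx
      rw [← hF, hη, show Ideal.Quotient.mk (Ideal.span (Set.range F)) (F j) = 0 from
        Ideal.Quotient.eq_zero_iff_mem.2 (Ideal.subset_span ⟨j, rfl⟩)]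
      simp
    | zero => simp
    | add x y _ _ h₁ h₂ => simp [h₁, h₂]
    | smul a x _ h => simp [h]
  obtain ⟨⟨q₀, s⟩, hs⟩ := IsLocalization.surj (Submonoid.powers g) q
  obtain ⟨p, rfl⟩ := Ideal.Quotient.mk_surjective q₀
  have h1 : φ p = 0 := by
    have e := congrArg π hs
    simp only [map_mul, show π q = 0 from hq, zero_mul] at e
    rw [IsLocalization.coe_liftAlgHom, IsLocalization.lift_eq] at e
    exact e.symm
  have h2 := hker _ ((hφ p).symm.trans h1)
  rw [hη, ← hs, map_mul, Ideal.Quotient.eq_zero_iff_mem.symm] at *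
  exact (IsUnit.mul_left_eq_zero ((IsLocalization.map_units Q s).map (Ideal.Quotient.mk J))).1 h2

end Groth.SiteCohomology.SmoothLiftClosed
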