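import Mathlib.AlgebraicGeometry.Scheme
import Mathlib.AlgebraicGeometry.Properties
import Mathlib.Topology.NoetherianSpace
import Mathlib.Topology.Sober
import Mathlib.Topology.Sheaves.Stalks
import Mathlib.Algebra.Category.Grp.Limits
import Mathlib.Algebra.Category.Grp.FilteredColimits

/-!
# Sections supported in the closure of a point
-/

universe u

open CategoryTheory Limits Opposite TopologicalSpace AlgebraicGeometry

namespace Groth.SiteCohomology

variable {X : TopCat.{u}} [QuasiSober X] [T0Space X]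

/-- Characterisation of the germs of sections supported in `closure {x}`. -/
theorem exists_section_supported_in_closure_iff
    (hX : ∀ x : X, ∃ U : Opens X, x ∈ U ∧ NoetherianSpace U)
    (F : TopCat.Presheaf AddCommGrpCat.{u} X) (x : X) (s : F.stalk x) :
    (∃ (U : Opens X) (hx : x ∈ U) (t : F.obj (op U)),
        F.germ U x hx t = s ∧
          ∀ (u : X) (hu : u ∈ U), F.germ U u hu t ≠ 0 → u ∈ closure ({x} : Set X)) ↔
      ∀ (y : X) (h : y ⤳ x), y ≠ x → F.stalkSpecializes h s = 0 := by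
  constructor
  · rintro ⟨U, hx, t, rfl, ht⟩ y h hne
    have hy : y ∈ U := h.mem_open U.2 hx
    rw [show F.stalkSpecializes h (F.germ U x hx t) = F.germ U y hy t from
      ConcreteCategory.congr_hom (F.germ_stalkSpecializes hx h) t]
    by_contra hne'
    have hxy : x ⤳ y := specializes_iff_mem_closure.2 (ht y hy hne')
    exact hne (h.antisymm hxy).eq
  · intro hs
    obtain ⟨W, hxW, hW⟩ := hX x
    obtain ⟨U₀, hxU₀, t₀, rfl⟩ := F.exists_germ_eq s
    let U : Opens X := U₀ ⊓ W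
    let t : F.obj (op U) := F.map (homOfLE inf_le_left).op t₀
    have hxU : x ∈ U := ⟨hxU₀, hxW⟩
    have ht : F.germ U x hxU t = F.germ U₀ x hxU₀ t₀ :=
      TopCat.Presheaf.germ_res_apply F (homOfLE inf_le_left) x hxU t₀
    rw [← ht] at hs
    let Z : Set W := {w | ∃ h : (w : X) ∈ U₀, F.germ U w ⟨h, w.2⟩ t ≠ 0}
    obtain ⟨S, hSf, hSc, hSi, hSZ⟩ := NoetherianSpace.exists_finite_set_isClosed_irreducible
      (isClosed_closure (s := Z))
    let bad : Set W := ⋃ A ∈ {A ∈ S | (⟨x, hxW⟩ : W) ∉ A}, A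
    have hbad : IsClosed bad :=
      (hSf.subset fun A hA => hA.1).isClosed_biUnion fun A hA => hSc A hA.1
    let V : Opens X := ⟨Subtype.val '' badᶜ, W.2.isOpenMap_subtype_val _ hbad.isOpen_compl⟩ ⊓ U
    have hxV : x ∈ V := ⟨⟨⟨x, hxW⟩, fun h => by
      obtain ⟨A, hA, hxA⟩ := Set.mem_iUnion₂.1 h
      exact hA.2 hxA, rfl⟩, hxU⟩
    refine ⟨V, hxV, F.map (homOfLE inf_le_right).op t, ?_, fun u hu hne => ?_⟩
    · rw [TopCat.Presheaf.germ_res_apply F (homOfLE inf_le_right) x hxV t, ht]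
    rw [TopCat.Presheaf.germ_res_apply F (homOfLE inf_le_right) u hu t] at hne
    obtain ⟨⟨w, hw, rfl⟩, huU⟩ := hu
    have huZ : w ∈ closure Z := subset_closure ⟨huU.1, hne⟩
    rw [hSZ] at huZ
    obtain ⟨A, hAS, hwA⟩ := huZ
    have hxA : (⟨x, hxW⟩ : W) ∈ A := by
      by_contra hxA
      exact hw (Set.mem_biUnion (⟨hAS, hxA⟩ : A ∈ {A ∈ S | (⟨x, hxW⟩ : W) ∉ A}) hwA)
    haveI : QuasiSober W := W.2.isOpenEmbedding_subtypeVal.quasiSober
    obtain ⟨η, hη⟩ := QuasiSober.sober (hSi A hAS) (hSc A hAS)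
    have hηx : (η : X) ⤳ x := (hη.specializes hxA).map continuous_subtype_val
    have hηw : (η : X) ⤳ w := (hη.specializes hwA).map continuous_subtype_val
    by_cases hηeq : (η : X) = x
    · rw [hηeq] at hηw
      exact specializes_iff_mem_closure.1 hηw
    · exfalso
      have hηU : (η : X) ∈ U₀ := hηx.mem_open U₀.2 hxU₀
      have h0 : F.germ U (η : X) ⟨hηU, η.2⟩ t = 0 :=
        (ConcreteCategory.congr_hom (F.germ_stalkSpecializes hxU hηx) t).symm.trans
          (hs (η : X) hηx hηeq)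
      obtain ⟨V', iV', hηV', ht'⟩ : ∃ (V' : Opens X) (i : V' ⟶ U) (_ : (η : X) ∈ V'),
          F.map i.op t = 0 := by
        obtain ⟨V', hV', i₁, i₂, e⟩ := F.germ_eq (η : X) (U := U) (V := U) ⟨hηU, η.2⟩ ⟨hηU, η.2⟩
          t 0 (h0.trans (map_zero _).symm)
        exact ⟨V', i₁, hV', e.trans (map_zero _)⟩
      have hηZ : η ∈ closure Z := hSZ.symm ▸ ⟨A, hAS, hη.mem⟩
      obtain ⟨z, hzV', ⟨hzU, hz⟩⟩ :=
        mem_closure_iff.1 hηZ (Subtype.val ⁻¹' (V' : Set X)) (V'.2.preimage continuous_subtype_val)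
          hηV'
      refine hz ?_
      rw [← TopCat.Presheaf.germ_res_apply F iV' (z : X) hzV' t, ht', map_zero]

end Groth.SiteCohomology
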