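import Groth.Prelude.Def_CohSite
import Mathlib.CategoryTheory.Sites.EpiMono
import Mathlib.CategoryTheory.Sites.Abelian
import Mathlib.CategoryTheory.Preadditive.LeftExact
import Mathlib.Algebra.Category.Grp.Limits
import Mathlib.Algebra.Category.Grp.ForgetCorepresentable
import Mathlib.CategoryTheory.Limits.Yoneda
import Mathlib.Algebra.Homology.ShortComplex.ExactFunctor

/-!
# Exactness tested on weakly contractible objects
-/

universe w v u

open CategoryTheory Limits Opposite

set_option synthInstance.maxHeartbeats 400000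

namespace Groth.SiteCohomology

/-- Forgetting the group structure commutes with the sheaf condition on any site. -/
theorem hasSheafCompose_forget_addCommGrp {C : Type u} [Category.{v} C]
    (J : GrothendieckTopology C) : J.HasSheafCompose (forget AddCommGrpCat.{w}) := by
  haveI : ∀ (X : C) (R : J.Cover X) (P : Cᵒᵖ ⥤ AddCommGrpCat.{w}),
      PreservesLimit (R.index P).multicospan (forget AddCommGrpCat.{w}) := fun X R P =>
    preservesLimit_of_natIso _ AddCommGrpCat.coyonedaObjIsoForget
  infer_instance

theorem exact_iff_sections_weaklyContractible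
    {C : Type u} [Category.{v} C] (J : GrothendieckTopology C) [HasSheafify J AddCommGrpCat.{w}]
    [J.WEqualsLocallyBijective AddCommGrpCat.{w}]
    (B : C → Prop)
    (hB : ∀ U : C, B U → ∀ (P Q : Sheaf J (Type w)) (ψ : P ⟶ Q), Epi ψ →
      Function.Surjective (ψ.hom.app (op U)))
    (hcov : ∀ V : C, ∃ S : Sieve V, S ∈ J V ∧ ∀ ⦃W : C⦄ (f : W ⟶ V), S.arrows f →
      ∃ (U : C) (g : W ⟶ U) (h : U ⟶ V), B U ∧ g ≫ h = f)
    (S : ShortComplex (Sheaf J AddCommGrpCat.{w})) :
    S.Exact ↔ ∀ U : C, B U →
      (S.map (sheafToPresheaf J AddCommGrpCat.{w} ⋙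
        (evaluation Cᵒᵖ AddCommGrpCat.{w}).obj (op U))).Exact := by
  haveI := hasSheafCompose_forget_addCommGrp.{w} J
  let G := fun U : C => sheafToPresheaf J AddCommGrpCat.{w} ⋙
    (evaluation Cᵒᵖ AddCommGrpCat.{w}).obj (op U)
  constructor
  · intro hS U hU
    haveI : (G U).PreservesEpimorphisms := by
      refine ⟨fun {P Q} φ _ => (AddCommGrpCat.epi_iff_surjective _).2 ?_⟩
      haveI hφ : Sheaf.IsLocallySurjective φ :=
        (Sheaf.isLocallySurjective_iff_epi' AddCommGrpCat.{w} φ).2 ‹_›
      haveI := hasSheafCompose_forget_addCommGrp.{w} J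
      let ψ := (sheafCompose J (forget AddCommGrpCat.{w})).map φ
      haveI : Sheaf.IsLocallySurjective ψ := ⟨fun {U} s => hφ.imageSieve_mem (U := U) s⟩
      exact hB U hU _ _ ψ inferInstance
    haveI := (G U).preservesHomology_of_preservesEpis_and_kernels
    exact hS.map (G U)
  · intro h
    rw [S.exact_iff_epi_kernel_lift]
    refine (Sheaf.isLocallySurjective_iff_epi' AddCommGrpCat.{w} _).1 ⟨fun {V} z => ?_⟩
    obtain ⟨R, hR, hfac⟩ := hcov V
    refine J.superset_covering ?_ hR
    intro W f hf
    obtain ⟨U, a, b, hU, rfl⟩ := hfac f hf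
    let l := kernel.lift S.g S.f S.zero
    let k := kernel.ι S.g
    let y := k.hom.app (op U) ((kernel S.g).obj.map b.op z)
    have hy : S.g.hom.app (op U) y = 0 :=
      congrArg (fun t : kernel S.g ⟶ S.X₃ =>
        t.hom.app (op U) ((kernel S.g).obj.map b.op z)) (kernel.condition S.g)
    obtain ⟨x, hx⟩ := (ShortComplex.ab_exact_iff _).1 (h U hU) y hy
    have hk : Function.Injective (k.hom.app (op U)) :=
      (AddCommGrpCat.mono_iff_injective _).1 (inferInstanceAs (Mono ((G U).map k)))
    have hlx : l.hom.app (op U) x = (kernel S.g).obj.map b.op z := hk (by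
      refine Eq.trans ?_ hx
      exact congrArg (fun t : S.X₁ ⟶ S.X₂ => t.hom.app (op U) x) (kernel.lift_ι S.g S.f S.zero))
    refine ⟨S.X₁.obj.map a.op x, ?_⟩
    refine (congrArg (fun t => t x) (l.hom.naturality a.op)).trans ?_
    refine (congrArg ((kernel S.g).obj.map a.op) hlx).trans ?_
    exact (congrArg (fun t => t z) ((kernel S.g).obj.map_comp b.op a.op)).symm

end Groth.SiteCohomology
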